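import Mathlib
import Cfsg.Prelude.Def_Local
import Cfsg.Agent.Lib.Helper55.Cores
import Cfsg.Agent.Lib.Helper63.PLen
import Cfsg.Agent.Lib.Helper24.PLength

/-!
# p-length one: transport lemmas (for BG 10.6)

* `PL_comap` : chains pull back along homomorphisms;
* `plen_subgroup` : `p`-length at most `k` passes to subgroups;
* `plen_of_normal_sup` : `N` normal `p'`, `S` Sylow, `N S` normal gives `p`-length one;
* `plen_of_index` : `|G : O_{p',p}(G)|` prime to `p` gives `p`-length one;
* `plen_of_coprime` : `p ∤ |G|` gives `p`-length one;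
* `plen_of_normal_hall` : `K` normal, `p ∤ |G : K|`, `K` of `p`-length one gives `G` of `p`-length one.
-/

set_option autoImplicit false

namespace Cfsg.Agent.Helper20.BG106

open Cfsg Subgroup Cfsg.Agent.Helper63

theorem relIndex_comap_dvd {X Y : Type*} [Group X] [Group Y] (f : X →* Y) (A B : Subgroup Y)
    [A.Normal] : (A.comap f).relIndex (B.comap f) ∣ A.relIndex B := by
  rw [Subgroup.relIndex_comap]
  exact relIndex_dvd_of_le_right_normal (Subgroup.map_comap_le f B)

theorem PL_comap {X Y : Type*} [Group X] [Group Y] (f : X →* Y) {p : ℕ} [hp : Fact p.Prime]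
    {k : ℕ} {A B : Subgroup Y} (h : PL p k A B) : PL p k (A.comap f) (B.comap f) := by
  induction h with
  | base A B hAB hA hB hc =>
    have := hA
    exact PL.base _ _ (Subgroup.comap_mono hAB) inferInstance (hB.comap f)
      (Nat.Coprime.coprime_dvd_left (relIndex_comap_dvd f A B) hc)
  | step k A B C D h' hBC hCD hC hD hpow hc ih =>
    have hB : B.Normal := h'.normal_right
    have := hC
    refine PL.step k _ _ (C.comap f) _ ih (Subgroup.comap_mono hBC) (Subgroup.comap_mono hCD)
      (hC.comap f) (hD.comap f) ?_ ?_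
    · obtain ⟨m, hm⟩ := hpow
      have h3 := relIndex_comap_dvd f B C
      rw [hm] at h3
      obtain ⟨j, _, hj⟩ := (Nat.dvd_prime_pow hp.out).mp h3
      exact ⟨j, hj⟩
    · exact Nat.Coprime.coprime_dvd_left (relIndex_comap_dvd f C D) hc

/-- `p`-length at most `k` passes to the domain of an injective homomorphism. -/
theorem plen_of_injective {X Y : Type*} [Group X] [Group Y] [Finite Y] (f : X →* Y)
    (hf : Function.Injective f) {p : ℕ} [Fact p.Prime] {k : ℕ} (h : PLengthLE p k Y) :
    PLengthLE p k X := by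
  have h1 := PL_comap f (PL_of_PLengthLE p h)
  have h2 : (⊥ : Subgroup Y).comap f = ⊥ := by
    rw [MonoidHom.comap_bot]; exact (MonoidHom.ker_eq_bot_iff f).mpr hf
  rw [h2, Subgroup.comap_top] at h1
  exact PLengthLE_of_PL p h1

/-- `p`-length at most `k` passes to subgroups. -/
theorem plen_subgroup {G : Type*} [Group G] [Finite G] {H M : Subgroup G} (hHM : H ≤ M) {p : ℕ}
    [Fact p.Prime] {k : ℕ} (h : PLengthLE p k M) : PLengthLE p k H :=
  plen_of_injective (Subgroup.inclusion hHM) (Subgroup.inclusion_injective hHM) h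

theorem plen_of_coprime {X : Type*} [Group X] [Finite X] {p : ℕ} [Fact p.Prime]
    (h : (Nat.card X).Coprime p) : PLengthLE p 1 X := by
  have h0 : PL p 0 (⊥ : Subgroup X) ⊤ := by
    refine PL.base _ _ bot_le inferInstance inferInstance ?_
    rw [Subgroup.relIndex_bot_left, Subgroup.card_top]; exact h
  exact PLengthLE_of_PL p (h0.mono (Nat.zero_le 1))

/-- `N` normal of order prime to `p`, `S` a Sylow `p`-subgroup, `N S` normal: `p`-length one. -/
theorem plen_of_normal_sup {X : Type*} [Group X] [Finite X] {p : ℕ} [hp : Fact p.Prime]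
    (N : Subgroup X) [hN : N.Normal] (hNc : (Nat.card N).Coprime p) (S : Sylow p X)
    (hNS : (N ⊔ (S : Subgroup X)).Normal) : PLengthLE p 1 X := by
  have h0 : PL p 0 (⊥ : Subgroup X) N := by
    refine PL.base _ _ bot_le inferInstance hN ?_
    rw [Subgroup.relIndex_bot_left]; exact hNc
  have h1 : PL p 1 (⊥ : Subgroup X) ⊤ := by
    refine PL.step 0 ⊥ N (N ⊔ (S : Subgroup X)) ⊤ h0 le_sup_left le_top hNS inferInstance ?_ ?_
    · have h2 : N.relIndex (N ⊔ (S : Subgroup X)) = N.relIndex (S : Subgroup X) := by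
        rw [sup_comm]; exact Subgroup.relIndex_sup_right _ _
      rw [h2]
      obtain ⟨n, hn⟩ := IsPGroup.iff_card.mp S.isPGroup'
      have h3 : N.relIndex (S : Subgroup X) ∣ p ^ n := by
        rw [← hn]; exact Subgroup.relIndex_dvd_card N (S : Subgroup X)
      obtain ⟨j, _, hj⟩ := (Nat.dvd_prime_pow hp.out).mp h3
      exact ⟨j, hj⟩
    · rw [Subgroup.relIndex_top_right]
      have h4 : (N ⊔ (S : Subgroup X)).index ∣ (S : Subgroup X).index :=
        Subgroup.index_dvd_of_le le_sup_right
      exact Nat.Coprime.coprime_dvd_left h4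
        ((Nat.Prime.coprime_iff_not_dvd hp.out).mpr S.not_dvd_index).symm
  exact PLengthLE_of_PL p h1

/-- If `|G : O_{p',p}(G)|` is prime to `p` then `G` has `p`-length one. -/
theorem plen_of_index {X : Type*} [Group X] [Finite X] {p : ℕ} [hp : Fact p.Prime]
    (h : ((pPrimePCore p X).index).Coprime p) : PLengthLE p 1 X := by
  have h0 : PL p 0 (⊥ : Subgroup X) (pPrimeCore p X) := by
    refine PL.base _ _ bot_le inferInstance inferInstance ?_
    rw [Subgroup.relIndex_bot_left]; exact Helper55.pPrimeCore_coprime p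
  have hn : (pPrimePCore p X).Normal := by
    unfold pPrimePCore
    exact Subgroup.Normal.comap inferInstance _
  have h1 : PL p 1 (⊥ : Subgroup X) ⊤ := by
    refine PL.step 0 ⊥ (pPrimeCore p X) (pPrimePCore p X) ⊤ h0 ?_ le_top hn inferInstance ?_ ?_
    · exact le_comap_mk'_self _ _
    · have h2 : (pPrimeCore p X).relIndex (pPrimePCore p X) =
          Nat.card (pCore p (X ⧸ pPrimeCore p X)) := relIndex_comap_mk' _ _
      rw [h2]
      exact IsPGroup.iff_card.mp Helper55.isPGroup_pCore
    · rw [Subgroup.relIndex_top_right]; exact h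
  exact PLengthLE_of_PL p h1

end Cfsg.Agent.Helper20.BG106
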