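import Mathlib
import Cfsg.Agent.Lib.Helper52.CoprimeSylow

/-!
# Auxiliary lemmas for the "minimal structure" lemma MS (BG Theorem 3.6)
-/

set_option autoImplicit false

namespace Cfsg.Agent.Helper20.BG36

open scoped commutatorElement

variable {Γ : Type*} [Group Γ]

/-- conjugation-invariance passes from generators to the closure -/
theorem conj_mem_closure (S : Set Γ) (y : Γ)
    (h : ∀ g ∈ S, y * g * y⁻¹ ∈ Subgroup.closure S) :
    ∀ g ∈ Subgroup.closure S, y * g * y⁻¹ ∈ Subgroup.closure S := by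
  intro g hg
  induction hg using Subgroup.closure_induction with
  | mem g hg => exact h g hg
  | one => simp
  | mul a b _ _ iha ihb =>
    have : y * (a * b) * y⁻¹ = (y * a * y⁻¹) * (y * b * y⁻¹) := by group
    rw [this]; exact mul_mem iha ihb
  | inv a _ iha =>
    have : y * a⁻¹ * y⁻¹ = (y * a * y⁻¹)⁻¹ := by group
    rw [this]; exact inv_mem iha

/-- if `x` commutes with `c = x u x⁻¹ u⁻¹`, then `x^k u x^{-k} = c^k u`. -/
theorem conj_pow_eq (x u : Γ) (hc : x * (x * u * x⁻¹ * u⁻¹) = (x * u * x⁻¹ * u⁻¹) * x) (k : ℕ) :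
    x ^ k * u * (x ^ k)⁻¹ = (x * u * x⁻¹ * u⁻¹) ^ k * u := by
  induction k with
  | zero => simp
  | succ k ih =>
    have hck : x * (x * u * x⁻¹ * u⁻¹) ^ k = (x * u * x⁻¹ * u⁻¹) ^ k * x :=
      (Commute.pow_right (show Commute x (x * u * x⁻¹ * u⁻¹) from hc) k).eq
    calc x ^ (k + 1) * u * (x ^ (k + 1))⁻¹
        = x * (x ^ k * u * (x ^ k)⁻¹) * x⁻¹ := by rw [pow_succ']; group
      _ = x * ((x * u * x⁻¹ * u⁻¹) ^ k * u) * x⁻¹ := by rw [ih]
      _ = (x * (x * u * x⁻¹ * u⁻¹) ^ k) * (u * x⁻¹) := by group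
      _ = ((x * u * x⁻¹ * u⁻¹) ^ k * x) * (u * x⁻¹) := by rw [hck]
      _ = (x * u * x⁻¹ * u⁻¹) ^ k * (x * u * x⁻¹ * u⁻¹) * u := by group
      _ = (x * u * x⁻¹ * u⁻¹) ^ (k + 1) * u := by rw [pow_succ]

/-- class two: if `c = a b a⁻¹ b⁻¹` commutes with `a`, then `a^k b = c^k b a^k`. -/
theorem pow_mul_comm_class_two (a b : Γ)
    (hca : (a * b * a⁻¹ * b⁻¹) * a = a * (a * b * a⁻¹ * b⁻¹)) (k : ℕ) :
    a ^ k * b = (a * b * a⁻¹ * b⁻¹) ^ k * b * a ^ k := by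
  induction k with
  | zero => simp
  | succ k ih =>
    have hck : a * (a * b * a⁻¹ * b⁻¹) ^ k = (a * b * a⁻¹ * b⁻¹) ^ k * a :=
      (Commute.pow_right (show Commute a (a * b * a⁻¹ * b⁻¹) from hca.symm) k).eq
    calc a ^ (k + 1) * b = a * (a ^ k * b) := by rw [pow_succ']; group
      _ = a * ((a * b * a⁻¹ * b⁻¹) ^ k * b * a ^ k) := by rw [ih]
      _ = (a * (a * b * a⁻¹ * b⁻¹) ^ k) * (b * a ^ k) := by group
      _ = ((a * b * a⁻¹ * b⁻¹) ^ k * a) * (b * a ^ k) := by rw [hck]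
      _ = (a * b * a⁻¹ * b⁻¹) ^ k * ((a * b * a⁻¹ * b⁻¹) * b * a) * a ^ k := by group
      _ = (a * b * a⁻¹ * b⁻¹) ^ (k + 1) * b * a ^ (k + 1) := by
        rw [pow_succ, pow_succ]; group

/-- class two power formula: with `c = v u v⁻¹ u⁻¹` commuting with `u` and `v`,
`(u v)^k = u^k v^k c^(k choose 2)`. -/
theorem mul_pow_class_two (u v : Γ)
    (hcu : (v * u * v⁻¹ * u⁻¹) * u = u * (v * u * v⁻¹ * u⁻¹))
    (hcv : (v * u * v⁻¹ * u⁻¹) * v = v * (v * u * v⁻¹ * u⁻¹)) (k : ℕ) :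
    (u * v) ^ k = u ^ k * v ^ k * (v * u * v⁻¹ * u⁻¹) ^ (k.choose 2) := by
  set c := v * u * v⁻¹ * u⁻¹ with hc
  have hcuk : ∀ j : ℕ, c ^ j * u = u * c ^ j := fun j =>
    ((Commute.pow_left (show Commute c u from hcu) j)).eq
  have hcvk : ∀ j i : ℕ, c ^ j * v ^ i = v ^ i * c ^ j := fun j i =>
    ((Commute.pow_pow (show Commute c v from hcv) j i)).eq
  induction k with
  | zero => simp
  | succ k ih =>
    have h1 : v ^ k * u = c ^ k * u * v ^ k := pow_mul_comm_class_two v u hcv k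
    have hch : (k + 1).choose 2 = k.choose 2 + k := by
      rw [Nat.choose_succ_succ' k 1, Nat.choose_one_right, add_comm]
    calc (u * v) ^ (k + 1) = (u * v) ^ k * (u * v) := pow_succ _ _
      _ = u ^ k * v ^ k * c ^ (k.choose 2) * (u * v) := by rw [ih]
      _ = u ^ k * v ^ k * (c ^ (k.choose 2) * u) * v := by group
      _ = u ^ k * v ^ k * (u * c ^ (k.choose 2)) * v := by rw [hcuk]
      _ = u ^ k * (v ^ k * u) * (c ^ (k.choose 2) * v ^ 1) := by group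
      _ = u ^ k * (c ^ k * u * v ^ k) * (v ^ 1 * c ^ (k.choose 2)) := by rw [h1, hcvk]
      _ = u ^ k * (c ^ k * u) * v ^ (k + 1) * c ^ (k.choose 2) := by
        rw [pow_succ v k]; group
      _ = u ^ k * (u * c ^ k) * v ^ (k + 1) * c ^ (k.choose 2) := by rw [hcuk]
      _ = u ^ (k + 1) * (c ^ k * v ^ (k + 1)) * c ^ (k.choose 2) := by
        rw [pow_succ u k]; group
      _ = u ^ (k + 1) * (v ^ (k + 1) * c ^ k) * c ^ (k.choose 2) := by rw [hcvk]
      _ = u ^ (k + 1) * v ^ (k + 1) * (c ^ k * c ^ (k.choose 2)) := by group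
      _ = u ^ (k + 1) * v ^ (k + 1) * c ^ ((k + 1).choose 2) := by
        rw [← pow_add, hch, Nat.add_comm k (k.choose 2)]

end Cfsg.Agent.Helper20.BG36
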