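import Mathlib
import Cfsg.Agent.Lib.Helper52.CoprimeSylow
import Cfsg.Agent.Lib.Helper20.BG36MSa

/-!
# The "minimal structure" lemma MS for BG Theorem 3.6 (requested by helper48)
-/

set_option autoImplicit false

namespace Cfsg.Agent.Helper20.BG36

open Subgroup
open scoped commutatorElement

section

variable {Γ : Type*} [Group Γ] [Finite Γ]

/-- if `x` centralizes every commutator `x u x⁻¹ u⁻¹` (`u ∈ Q`) and has order prime to `|Q|`,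
then `x` centralizes `Q`. -/
theorem commute_of_commute_commutator (Q : Subgroup Γ) (x : Γ) (n : ℕ) (hxn : x ^ n = 1)
    (hcop : (Nat.card Q).Coprime n) (hxQ : ∀ u ∈ Q, x * u * x⁻¹ ∈ Q)
    (hc : ∀ u ∈ Q, x * (x * u * x⁻¹ * u⁻¹) = (x * u * x⁻¹ * u⁻¹) * x) :
    ∀ u ∈ Q, x * u = u * x := by
  intro u hu
  have h1 := conj_pow_eq x u (hc u hu) n
  rw [hxn, inv_one, mul_one, one_mul] at h1
  have h2 : (x * u * x⁻¹ * u⁻¹) ^ n = 1 := by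
    have := congrArg (· * u⁻¹) h1
    simpa using this.symm
  have hcQ : x * u * x⁻¹ * u⁻¹ ∈ Q := mul_mem (hxQ u hu) (inv_mem hu)
  have h3 : (x * u * x⁻¹ * u⁻¹) ^ Nat.card Q = 1 := by
    have h := pow_card_eq_one' (G := Q) (x := ⟨_, hcQ⟩)
    have h' := congrArg (Subtype.val : Q → Γ) h
    rwa [Subgroup.coe_pow, Subgroup.coe_one] at h'
  have h4 : orderOf (x * u * x⁻¹ * u⁻¹) = 1 :=
    Nat.eq_one_of_dvd_coprimes hcop (orderOf_dvd_of_pow_eq_one h3) (orderOf_dvd_of_pow_eq_one h2)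
  have h5 : x * u * x⁻¹ * u⁻¹ = 1 := orderOf_eq_one_iff.mp h4
  have : x * u = (x * u * x⁻¹ * u⁻¹) * (u * x) := by group
  rw [this, h5, one_mul]

/-- Step 1 of MS: `Q` is an `s`-group. -/
theorem MS_pgroup (Q X Y : Subgroup Γ) (hXY : X ≤ Y)
    (hYQ : ∀ y ∈ Y, ∀ u ∈ Q, y * u * y⁻¹ ∈ Q)
    (hcop : (Nat.card Q).Coprime (Nat.card Y))
    (hsol : Group.IsSolvable ↥Q)
    (hmin : ∀ Q₁ : Subgroup Γ, Q₁ ≤ Q → (∀ y ∈ Y, ∀ u ∈ Q₁, y * u * y⁻¹ ∈ Q₁) → Q₁ ≠ Q →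
      ∀ x ∈ X, ∀ u ∈ Q₁, x * u = u * x)
    (hne : ∃ x ∈ X, ∃ u ∈ Q, x * u ≠ u * x) :
    ∃ s : ℕ, s.Prime ∧ IsPGroup s Q := by
  by_contra hcon
  push Not at hcon
  have hYnorm : Y ≤ normalizer (Q : Set Γ) := by
    intro y hy
    rw [mem_normalizer_iff]
    intro n
    refine ⟨fun hn => hYQ y hy n hn, fun hn => ?_⟩
    have := hYQ y⁻¹ (inv_mem hy) _ hn
    simpa [mul_assoc] using this
  -- C = C_Q(X)
  set C : Subgroup Γ := Q ⊓ centralizer (X : Set Γ) with hC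
  have hCQ : C ≤ Q := inf_le_left
  have hdvd : Nat.card Q ∣ Nat.card C := by
    rw [← Nat.factorization_prime_le_iff_dvd Nat.card_pos.ne' Nat.card_pos.ne']
    intro s hs
    have : Fact s.Prime := ⟨hs⟩
    obtain ⟨Qs, hQsQ, hQscard, hQsY⟩ :=
      Cfsg.Agent.Helper52.exists_invariant_sylow Y Q hYnorm hcop.symm (Or.inr hsol) s
    have hQsne : Qs ≠ Q := by
      intro h
      apply hcon s hs
      rw [← h]
      exact IsPGroup.of_card hQscard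
    have hQsinv : ∀ y ∈ Y, ∀ u ∈ Qs, y * u * y⁻¹ ∈ Qs := fun y hy u hu =>
      (mem_normalizer_iff.mp (hQsY hy) u).mp hu
    have hQsC : Qs ≤ C := by
      intro u hu
      refine Subgroup.mem_inf.mpr ⟨hQsQ hu, ?_⟩
      rw [mem_centralizer_iff]
      intro x hx
      exact hmin Qs hQsQ hQsinv hQsne x hx u hu
    have h1 : s ^ (Nat.card Q).factorization s ∣ Nat.card C := by
      have := Subgroup.card_dvd_of_le hQsC
      rwa [hQscard] at this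
    exact (hs.pow_dvd_iff_le_factorization Nat.card_pos.ne').mp h1
  have hCeq : C = Q :=
    Subgroup.eq_of_le_of_card_ge hCQ (Nat.le_of_dvd Nat.card_pos hdvd)
  obtain ⟨x, hx, u, hu, hxu⟩ := hne
  apply hxu
  have hmem : u ∈ C := hCeq ▸ hu
  exact mem_centralizer_iff.mp (Subgroup.mem_inf.mp hmem).2 x hx

/-- the commutator subgroup `[X, Q]` as a closure -/
def commSub (X Q : Subgroup Γ) : Subgroup Γ :=
  Subgroup.closure {g | ∃ x ∈ X, ∃ u ∈ Q, g = x * u * x⁻¹ * u⁻¹}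

omit [Finite Γ] in
theorem commSub_le (Q X : Subgroup Γ) (hXQ : ∀ x ∈ X, ∀ u ∈ Q, x * u * x⁻¹ ∈ Q) :
    commSub X Q ≤ Q := by
  unfold commSub
  rw [Subgroup.closure_le]
  rintro g ⟨x, hx, u, hu, rfl⟩
  exact mul_mem (hXQ x hx u hu) (inv_mem hu)

/-- Step 2 of MS: `Q = [Q, X]`. -/
theorem MS_comm (Q X Y : Subgroup Γ) (hXY : X ≤ Y)
    (hXn : ∀ y ∈ Y, ∀ x ∈ X, y * x * y⁻¹ ∈ X) (hYQ : ∀ y ∈ Y, ∀ u ∈ Q, y * u * y⁻¹ ∈ Q)
    (hcop : (Nat.card Q).Coprime (Nat.card Y))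
    (hmin : ∀ Q₁ : Subgroup Γ, Q₁ ≤ Q → (∀ y ∈ Y, ∀ u ∈ Q₁, y * u * y⁻¹ ∈ Q₁) → Q₁ ≠ Q →
      ∀ x ∈ X, ∀ u ∈ Q₁, x * u = u * x)
    (hne : ∃ x ∈ X, ∃ u ∈ Q, x * u ≠ u * x) :
    Q ≤ commSub X Q := by
  have hXQ : ∀ x ∈ X, ∀ u ∈ Q, x * u * x⁻¹ ∈ Q := fun x hx => hYQ x (hXY hx)
  have hRQ : commSub X Q ≤ Q := commSub_le Q X hXQ
  by_contra hcon
  have hRne : commSub X Q ≠ Q := fun h => hcon (le_of_eq h.symm)
  have hRinv : ∀ y ∈ Y, ∀ u ∈ commSub X Q, y * u * y⁻¹ ∈ commSub X Q := by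
    intro y hy
    apply conj_mem_closure
    rintro g ⟨x, hx, u, hu, rfl⟩
    apply Subgroup.subset_closure
    refine ⟨y * x * y⁻¹, hXn y hy x hx, y * u * y⁻¹, hYQ y hy u hu, ?_⟩
    group
  have hcent := hmin _ hRQ hRinv hRne
  obtain ⟨x, hx, u, hu, hxu⟩ := hne
  apply hxu
  have hcopX : (Nat.card Q).Coprime (Nat.card X) :=
    Nat.Coprime.coprime_dvd_right (Subgroup.card_dvd_of_le hXY) hcop
  have hxn : x ^ Nat.card X = 1 := by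
    have h := pow_card_eq_one' (G := X) (x := ⟨x, hx⟩)
    have h' := congrArg (Subtype.val : X → Γ) h
    rwa [Subgroup.coe_pow, Subgroup.coe_one] at h'
  refine commute_of_commute_commutator Q x (Nat.card X) hxn hcopX (hXQ x hx) ?_ u hu
  intro v hv
  exact hcent x hx _ (Subgroup.subset_closure ⟨x, hx, v, hv, rfl⟩)

omit [Finite Γ] in
theorem commSub_le_commutator (Q X : Subgroup Γ) : commSub X Q ≤ ⁅X, Q⁆ := by
  unfold commSub
  rw [Subgroup.closure_le]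
  rintro g ⟨x, hx, u, hu, rfl⟩
  have : x * u * x⁻¹ * u⁻¹ = ⁅x, u⁆ := (commutatorElement_def x u).symm
  rw [SetLike.mem_coe, this]
  exact Subgroup.commutator_mem_commutator hx hu

omit [Finite Γ] in
/-- a subgroup `B` normalized by `Q` and centralized by `X` is centralized by `Q = [X,Q]`. -/
theorem central_of_centralized (Q X B : Subgroup Γ) (hQR : Q ≤ commSub X Q)
    (hBn : ∀ q ∈ Q, ∀ b ∈ B, q * b * q⁻¹ ∈ B) (hBX : ∀ x ∈ X, ∀ b ∈ B, x * b = b * x) :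
    ∀ b ∈ B, ∀ u ∈ Q, b * u = u * b := by
  have hBcX : ⁅B, X⁆ = ⊥ := by
    rw [Subgroup.commutator_eq_bot_iff_le_centralizer]
    intro b hb
    rw [mem_centralizer_iff]
    intro x hx
    exact hBX x hx b hb
  have hQB : ⁅Q, B⁆ ≤ B := by
    rw [Subgroup.commutator_le]
    intro q hq b hb
    rw [commutatorElement_def]
    exact mul_mem (hBn q hq b hb) (inv_mem hb)
  have h1 : ⁅⁅Q, B⁆, X⁆ = ⊥ := by
    rw [eq_bot_iff, ← hBcX]
    exact Subgroup.commutator_mono hQB le_rfl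
  have h2 : ⁅⁅B, X⁆, Q⁆ = ⊥ := by
    rw [hBcX, Subgroup.commutator_bot_left]
  have h3 : ⁅⁅X, Q⁆, B⁆ = ⊥ := Subgroup.commutator_commutator_eq_bot_of_rotate h1 h2
  have h4 : ⁅Q, B⁆ = ⊥ := by
    rw [eq_bot_iff, ← h3]
    exact Subgroup.commutator_mono (hQR.trans (commSub_le_commutator Q X)) le_rfl
  rw [Subgroup.commutator_eq_bot_iff_le_centralizer] at h4
  intro b hb u hu
  exact mem_centralizer_iff.mp (h4 hu) b hb

omit [Finite Γ] in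
theorem conj_mem_commutator_self (Q : Subgroup Γ) (y : Γ) (hy : ∀ u ∈ Q, y * u * y⁻¹ ∈ Q) :
    ∀ c ∈ ⁅Q, Q⁆, y * c * y⁻¹ ∈ ⁅Q, Q⁆ := by
  intro c hc
  have hmap : Q.map (MulAut.conj y).toMonoidHom ≤ Q := by
    rintro _ ⟨u, hu, rfl⟩
    simpa using hy u hu
  have h1 : (MulAut.conj y).toMonoidHom c ∈ (⁅Q, Q⁆).map (MulAut.conj y).toMonoidHom :=
    Subgroup.mem_map_of_mem _ hc
  rw [Subgroup.map_commutator] at h1
  have h2 := Subgroup.commutator_mono hmap hmap h1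
  simpa using h2

/-- Steps 3 and 4 of MS. -/
theorem MS_derived (Q X Y : Subgroup Γ)
    (hYQ : ∀ y ∈ Y, ∀ u ∈ Q, y * u * y⁻¹ ∈ Q)
    (hsol : Group.IsSolvable ↥Q)
    (hmin : ∀ Q₁ : Subgroup Γ, Q₁ ≤ Q → (∀ y ∈ Y, ∀ u ∈ Q₁, y * u * y⁻¹ ∈ Q₁) → Q₁ ≠ Q →
      ∀ x ∈ X, ∀ u ∈ Q₁, x * u = u * x)
    (hQ1 : Q ≠ ⊥) (hQR : Q ≤ commSub X Q) :
    (∀ c ∈ ⁅Q, Q⁆, ∀ u ∈ Q, c * u = u * c) ∧ (∀ c ∈ ⁅Q, Q⁆, ∀ x ∈ X, x * c = c * x) := by
  have hDQ : ⁅Q, Q⁆ ≤ Q := Subgroup.commutator_le_self Q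
  have hDne : ⁅Q, Q⁆ ≠ Q := by
    intro h
    haveI : Nontrivial Q := (Subgroup.nontrivial_iff_ne_bot Q).mpr hQ1
    have h1 := Group.IsSolvable.commutator_lt_top_of_nontrivial Q
    apply h1.ne
    rw [← Subgroup.map_subtype_commutator] at h
    have h2 : (_root_.commutator Q).map Q.subtype = (⊤ : Subgroup Q).map Q.subtype := by
      rw [h, ← MonoidHom.range_eq_map, Subgroup.range_subtype]
    exact Subgroup.map_injective Q.subtype_injective h2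
  have hDinv : ∀ y ∈ Y, ∀ u ∈ ⁅Q, Q⁆, y * u * y⁻¹ ∈ ⁅Q, Q⁆ := fun y hy =>
    conj_mem_commutator_self Q y (hYQ y hy)
  have hDX := hmin _ hDQ hDinv hDne
  have hDn : ∀ q ∈ Q, ∀ b ∈ ⁅Q, Q⁆, q * b * q⁻¹ ∈ ⁅Q, Q⁆ := fun q hq =>
    conj_mem_commutator_self Q q (fun u hu => mul_mem (mul_mem hq hu) (inv_mem hq))
  refine ⟨central_of_centralized Q X _ hQR hDn hDX, fun c hc x hx => hDX x hx c hc⟩

/-- the subgroup generated by `s`-th powers -/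
def powSub (s : ℕ) (Q : Subgroup Γ) : Subgroup Γ :=
  Subgroup.closure {g | ∃ u ∈ Q, g = u ^ s}

omit [Finite Γ] in
theorem conj_mem_powSub (s : ℕ) (Q : Subgroup Γ) (y : Γ) (hy : ∀ u ∈ Q, y * u * y⁻¹ ∈ Q) :
    ∀ c ∈ powSub s Q, y * c * y⁻¹ ∈ powSub s Q := by
  apply conj_mem_closure
  rintro g ⟨u, hu, rfl⟩
  apply Subgroup.subset_closure
  exact ⟨y * u * y⁻¹, hy u hu, (conj_pow).symm⟩

/-- the `s`-th powers of a nontrivial `s`-group generate a proper subgroup -/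
theorem powSub_ne (s : ℕ) (hs : s.Prime) (Q : Subgroup Γ) (hQs : IsPGroup s Q) (hQ1 : Q ≠ ⊥) :
    powSub s Q ≠ Q := by
  haveI : Fact s.Prime := ⟨hs⟩
  obtain ⟨m, hm⟩ := IsPGroup.iff_card.mp hQs
  have hm0 : m ≠ 0 := by
    intro h
    rw [h, pow_zero] at hm
    exact hQ1 (Subgroup.card_eq_one.mp hm)
  obtain ⟨n, rfl⟩ := Nat.exists_eq_succ_of_ne_zero hm0
  obtain ⟨N, hN⟩ := Sylow.exists_subgroup_card_pow_prime (G := Q) s
    (show s ^ n ∣ Nat.card Q by rw [hm]; exact pow_dvd_pow s (Nat.le_succ n))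
  have hidx : N.index = s := by
    have h1 := Subgroup.card_mul_index N
    rw [hN, hm, pow_succ] at h1
    exact Nat.eq_of_mul_eq_mul_left (pow_pos hs.pos n) h1
  haveI hNn : N.Normal := by
    apply Subgroup.normal_of_index_eq_minFac_card
    rw [hidx, hm, hs.pow_minFac (Nat.succ_ne_zero n)]
  have hpow : ∀ u : Q, u ^ s ∈ N := by
    intro u
    have h1 : (QuotientGroup.mk' N u) ^ Nat.card (Q ⧸ N) = 1 := pow_card_eq_one'
    rw [← Subgroup.index_eq_card, hidx, ← map_pow, QuotientGroup.mk'_apply,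
      QuotientGroup.eq_one_iff] at h1
    exact h1
  have hle : powSub s Q ≤ N.map Q.subtype := by
    unfold powSub
    rw [Subgroup.closure_le]
    rintro g ⟨u, hu, rfl⟩
    exact ⟨⟨u, hu⟩ ^ s, hpow ⟨u, hu⟩, by simp⟩
  intro h
  rw [h] at hle
  have h2 := Subgroup.card_le_of_le hle
  rw [Subgroup.card_map_of_injective Q.subtype_injective, hN, hm] at h2
  exact absurd h2 (not_le.mpr (Nat.pow_lt_pow_right hs.one_lt (Nat.lt_succ_self n)))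

/-- Step 5 of MS: exponent `s`. -/
theorem MS_exponent (Q X Y : Subgroup Γ) (hXY : X ≤ Y)
    (hYQ : ∀ y ∈ Y, ∀ u ∈ Q, y * u * y⁻¹ ∈ Q)
    (s : ℕ) (hs : s.Prime) (hs2 : s ≠ 2) (hQs : IsPGroup s Q) (hQ1 : Q ≠ ⊥)
    (hmin : ∀ Q₁ : Subgroup Γ, Q₁ ≤ Q → (∀ y ∈ Y, ∀ u ∈ Q₁, y * u * y⁻¹ ∈ Q₁) → Q₁ ≠ Q →
      ∀ x ∈ X, ∀ u ∈ Q₁, x * u = u * x)
    (hQR : Q ≤ commSub X Q)
    (hcen : ∀ c ∈ ⁅Q, Q⁆, ∀ u ∈ Q, c * u = u * c) :
    ∀ u ∈ Q, u ^ s = 1 := by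
  have hXQ : ∀ x ∈ X, ∀ u ∈ Q, x * u * x⁻¹ ∈ Q := fun x hx => hYQ x (hXY hx)
  have hAQ : powSub s Q ≤ Q := by
    unfold powSub
    rw [Subgroup.closure_le]
    rintro g ⟨u, hu, rfl⟩
    exact pow_mem hu s
  have hAX := hmin _ hAQ (fun y hy => conj_mem_powSub s Q y (hYQ y hy)) (powSub_ne s hs Q hQs hQ1)
  have hAn : ∀ q ∈ Q, ∀ b ∈ powSub s Q, q * b * q⁻¹ ∈ powSub s Q := fun q hq =>
    conj_mem_powSub s Q q (fun u hu => mul_mem (mul_mem hq hu) (inv_mem hq))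
  have hAcen := central_of_centralized Q X _ hQR hAn hAX
  have hpowA : ∀ u ∈ Q, u ^ s ∈ powSub s Q := fun u hu =>
    Subgroup.subset_closure ⟨u, hu, rfl⟩
  -- commutators have order dividing s
  have hcs : ∀ a ∈ Q, ∀ b ∈ Q, (a * b * a⁻¹ * b⁻¹) ^ s = 1 := by
    intro a ha b hb
    have hc : a * b * a⁻¹ * b⁻¹ ∈ ⁅Q, Q⁆ := by
      rw [← commutatorElement_def]; exact Subgroup.commutator_mem_commutator ha hb
    have h1 := pow_mul_comm_class_two a b (hcen _ hc a ha) s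
    have h2 : a ^ s * b = b * a ^ s := hAcen _ (hpowA a ha) b hb
    rw [h2] at h1
    have h3 : (a * b * a⁻¹ * b⁻¹) ^ s * (b * a ^ s) = 1 * (b * a ^ s) := by
      rw [one_mul, ← mul_assoc]; exact h1.symm
    exact mul_right_cancel h3
  -- the power map is multiplicative
  have hdvd : s ∣ s.choose 2 := by
    have h2s : 2 < s := lt_of_le_of_ne hs.two_le (Ne.symm hs2)
    exact hs.dvd_choose_self (by norm_num) h2s
  have hmul : ∀ u ∈ Q, ∀ v ∈ Q, (u * v) ^ s = u ^ s * v ^ s := by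
    intro u hu v hv
    have hc : v * u * v⁻¹ * u⁻¹ ∈ ⁅Q, Q⁆ := by
      rw [← commutatorElement_def]; exact Subgroup.commutator_mem_commutator hv hu
    have h1 := mul_pow_class_two u v (hcen _ hc u hu) (hcen _ hc v hv) s
    obtain ⟨k, hk⟩ := hdvd
    rw [hk, pow_mul, hcs v hv u hu, one_pow, mul_one] at h1
    exact h1
  -- the subgroup of elements of order dividing s
  let Ω : Subgroup Γ :=
    { carrier := {u | u ∈ Q ∧ u ^ s = 1}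
      mul_mem' := by
        rintro a b ⟨ha, ha'⟩ ⟨hb, hb'⟩
        exact ⟨mul_mem ha hb, by rw [hmul a ha b hb, ha', hb', one_mul]⟩
      one_mem' := ⟨one_mem _, one_pow _⟩
      inv_mem' := by
        rintro a ⟨ha, ha'⟩
        exact ⟨inv_mem ha, by rw [inv_pow, ha', inv_one]⟩ }
  have hRΩ : commSub X Q ≤ Ω := by
    unfold commSub
    rw [Subgroup.closure_le]
    rintro g ⟨x, hx, u, hu, rfl⟩
    refine ⟨mul_mem (hXQ x hx u hu) (inv_mem hu), ?_⟩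
    have h1 : (x * u * x⁻¹ * u⁻¹) ^ s = (x * u * x⁻¹) ^ s * (u⁻¹) ^ s :=
      hmul _ (hXQ x hx u hu) _ (inv_mem hu)
    have h2 : x * u ^ s = u ^ s * x := hAX x hx _ (hpowA u hu)
    rw [h1, conj_pow, h2, inv_pow]
    group
  intro u hu
  exact (hRΩ (hQR hu)).2

/-- conjugation by an element normalizing `Q`, as an endomorphism of `Q` -/
def cjHom (Q : Subgroup Γ) (x : Γ) (hx : ∀ u ∈ Q, x * u * x⁻¹ ∈ Q) : Q →* Q where
  toFun u := ⟨x * u * x⁻¹, hx u u.2⟩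
  map_one' := by apply Subtype.ext; simp
  map_mul' a b := by apply Subtype.ext; simp

/-- Step 6 of MS: `C_Q(X) ≤ Q'`. -/
theorem MS_centralizer (Q X : Subgroup Γ) (hXQ : ∀ x ∈ X, ∀ u ∈ Q, x * u * x⁻¹ ∈ Q)
    (hcop : (Nat.card Q).Coprime (Nat.card X)) (hQR : Q ≤ commSub X Q) :
    ∀ u ∈ Q, (∀ x ∈ X, x * u = u * x) → u ∈ ⁅Q, Q⁆ := by
  classical
  haveI : Fintype X := Fintype.ofFinite X
  -- the averaging homomorphism
  let t : Q →* Abelianization Q :=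
    ∏ x : X, (Abelianization.of.comp (cjHom Q x.1 (hXQ x.1 x.2)))
  have ht : ∀ q : Q, t q = ∏ x : X, Abelianization.of (cjHom Q x.1 (hXQ x.1 x.2) q) := by
    intro q
    simp only [t, MonoidHom.finset_prod_apply, MonoidHom.comp_apply]
  -- invariance of t under X
  have htinv : ∀ (x₀ : X) (q : Q), t (cjHom Q x₀.1 (hXQ x₀.1 x₀.2) q) = t q := by
    intro x₀ q
    rw [ht, ht]
    refine Fintype.prod_equiv (Equiv.mulRight x₀) _ _ ?_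
    intro x
    congr 1
    apply Subtype.ext
    simp [cjHom, mul_assoc]
  -- t kills Q
  have hker : Q ≤ (t.ker).map Q.subtype := by
    refine hQR.trans ?_
    unfold commSub
    rw [Subgroup.closure_le]
    rintro g ⟨x, hx, u, hu, rfl⟩
    refine ⟨cjHom Q x (hXQ x hx) ⟨u, hu⟩ * (⟨u, hu⟩ : Q)⁻¹, ?_, ?_⟩
    · rw [SetLike.mem_coe, MonoidHom.mem_ker, map_mul, map_inv, htinv ⟨x, hx⟩ ⟨u, hu⟩,
        mul_inv_cancel]
    · simp [cjHom]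
  intro u hu hcen
  obtain ⟨q, hq, hqu⟩ := hker hu
  have hqu' : q = ⟨u, hu⟩ := Subtype.ext hqu
  subst hqu'
  rw [SetLike.mem_coe, MonoidHom.mem_ker, ht] at hq
  have hfix : ∀ x : X, cjHom Q x.1 (hXQ x.1 x.2) ⟨u, hu⟩ = ⟨u, hu⟩ := by
    intro x
    apply Subtype.ext
    show x.1 * u * x.1⁻¹ = u
    rw [hcen x.1 x.2, mul_assoc, mul_inv_cancel, mul_one]
  simp only [hfix, Finset.prod_const, Finset.card_univ] at hq
  rw [← map_pow, ← Nat.card_eq_fintype_card] at hq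
  -- u^|X| ∈ commutator Q
  have h1 : (⟨u, hu⟩ : Q) ^ Nat.card X ∈ _root_.commutator Q := by
    have := (QuotientGroup.eq_one_iff ((⟨u, hu⟩ : Q) ^ Nat.card X)).mp hq
    exact this
  have h2 : (⟨u, hu⟩ : Q) ∈ _root_.commutator Q := by
    have h3 := (powCoprime hcop).left_inv (⟨u, hu⟩ : Q)
    rw [← h3]
    exact zpow_mem h1 _
  rw [← Subgroup.map_subtype_commutator]
  exact ⟨⟨u, hu⟩, h2, rfl⟩

end

/-- (MS) minimal structure: `Y` acts coprimely on `Q`, `X ⊴ Y`, `X` centralizes every proper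
`Y`-invariant subgroup of `Q` but not `Q`. -/
theorem MS {Γ : Type*} [Group Γ] [Finite Γ] (Q X Y : Subgroup Γ) (hXY : X ≤ Y)
    (hXn : ∀ y ∈ Y, ∀ x ∈ X, y * x * y⁻¹ ∈ X) (hYQ : ∀ y ∈ Y, ∀ u ∈ Q, y * u * y⁻¹ ∈ Q)
    (hcop : (Nat.card Q).Coprime (Nat.card Y)) (hodd : Odd (Nat.card Q))
    (hsol : Group.IsSolvable ↥Q)
    (hmin : ∀ Q₁ : Subgroup Γ, Q₁ ≤ Q → (∀ y ∈ Y, ∀ u ∈ Q₁, y * u * y⁻¹ ∈ Q₁) → Q₁ ≠ Q →
      ∀ x ∈ X, ∀ u ∈ Q₁, x * u = u * x)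
    (hne : ∃ x ∈ X, ∃ u ∈ Q, x * u ≠ u * x) :
    ∃ s : ℕ, s.Prime ∧ IsPGroup s Q ∧
      (Q ≤ Subgroup.closure {g | ∃ x ∈ X, ∃ u ∈ Q, g = x * u * x⁻¹ * u⁻¹}) ∧
      (∀ c ∈ ⁅Q, Q⁆, ∀ u ∈ Q, c * u = u * c) ∧
      (∀ c ∈ ⁅Q, Q⁆, ∀ x ∈ X, x * c = c * x) ∧
      (∀ u ∈ Q, u ^ s = 1) ∧
      (∀ u ∈ Q, (∀ x ∈ X, x * u = u * x) → u ∈ ⁅Q, Q⁆) := by
  obtain ⟨s, hs, hQs⟩ := MS_pgroup Q X Y hXY hYQ hcop hsol hmin hne
  have hQR : Q ≤ commSub X Q := MS_comm Q X Y hXY hXn hYQ hcop hmin hne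
  have hQ1 : Q ≠ ⊥ := by
    rintro rfl
    obtain ⟨x, -, u, hu, hxu⟩ := hne
    rw [Subgroup.mem_bot] at hu
    subst hu
    simp at hxu
  have hXQ : ∀ x ∈ X, ∀ u ∈ Q, x * u * x⁻¹ ∈ Q := fun x hx => hYQ x (hXY hx)
  have hcopX : (Nat.card Q).Coprime (Nat.card X) :=
    Nat.Coprime.coprime_dvd_right (Subgroup.card_dvd_of_le hXY) hcop
  have hs2 : s ≠ 2 := by
    rintro rfl
    obtain ⟨m, hm⟩ := IsPGroup.iff_card.mp hQs
    have hm0 : m ≠ 0 := by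
      intro h
      rw [h, pow_zero] at hm
      exact hQ1 (Subgroup.card_eq_one.mp hm)
    rw [hm] at hodd
    exact (Nat.not_even_iff_odd.mpr hodd) ((Nat.even_pow.mpr ⟨even_two, hm0⟩))
  obtain ⟨h3, h4⟩ := MS_derived Q X Y hYQ hsol hmin hQ1 hQR
  exact ⟨s, hs, hQs, hQR, h3, h4,
    MS_exponent Q X Y hXY hYQ s hs hs2 hQs hQ1 hmin hQR h3,
    MS_centralizer Q X hXQ hcopX hQR⟩

end Cfsg.Agent.Helper20.BG36
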