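import Mathlib
import Cfsg.Prelude.Def_OddOrder
import Cfsg.Prelude.Def_OddOrderLocal
import Cfsg.Agent.S0033
import Cfsg.Agent.Lib.Helper55.BGFit

/-!
# Helper lemmas for B-G section 13 (S1429): free action of a cyclic Sylow subgroup for a prime
outside `σ(M) ∪ κ(M)`, and nilpotency of a group admitting a fixed-point-free conjugation of prime order.
-/

set_option autoImplicit false

namespace Cfsg.Agent.Helper20.BG13

open Subgroup Cfsg

variable {G : Type*} [Group G]

/-- conjugation by an element of the normalizer, as an automorphism of the subgroup -/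
def cjEquiv (N : Subgroup G) (x : G) (hx : x ∈ normalizer (N : Set G)) : ↥N ≃* ↥N where
  toFun n := ⟨x * n * x⁻¹, (mem_normalizer_iff.mp hx n).mp n.2⟩
  invFun n := ⟨x⁻¹ * n * x, by
    have h := (mem_normalizer_iff.mp hx (x⁻¹ * n * x))
    rw [h]
    have : x * (x⁻¹ * (n : G) * x) * x⁻¹ = n := by group
    rw [this]; exact n.2⟩
  left_inv n := by
    apply Subtype.ext
    simp only
    group
  right_inv n := by
    apply Subtype.ext
    simp only
    group
  map_mul' a b := by
    apply Subtype.ext
    simp only [Subgroup.coe_mul]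
    group

theorem cjEquiv_apply (N : Subgroup G) (x : G) (hx : x ∈ normalizer (N : Set G)) (n : N) :
    ((cjEquiv N x hx n : N) : G) = x * n * x⁻¹ := rfl

theorem cjEquiv_pow (N : Subgroup G) (x : G) (hx : x ∈ normalizer (N : Set G)) (k : ℕ) (n : N) :
    (((cjEquiv N x hx) ^ k) n : G) = x ^ k * n * (x ^ k)⁻¹ := by
  induction k generalizing n with
  | zero => simp
  | succ k ih =>
    rw [pow_succ, MulAut.mul_apply, ih, cjEquiv_apply, pow_succ]
    group

/-- A subgroup normalized by an element `x` of prime order `p` acting without non-identity fixed points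
is nilpotent (Thompson, S0033). -/
theorem nilpotent_of_free [Finite G] (N : Subgroup G) (x : G) (hx : x ∈ normalizer (N : Set G))
    (p : ℕ) (hp : p.Prime) (hxp : x ^ p = 1)
    (hfree : ∀ y ∈ N, y ≠ 1 → x * y ≠ y * x) : Group.IsNilpotent ↥N := by
  by_cases hN : N = ⊥
  · subst hN
    infer_instance
  · have hne : ∃ y ∈ N, y ≠ (1 : G) := by
      by_contra h
      push_neg at h
      exact hN ((Subgroup.eq_bot_iff_forall N).mpr h)
    obtain ⟨y, hyN, hy1⟩ := hne
    set φ := cjEquiv N x hx with hφ
    have hfpf : MonoidHom.FixedPointFree ((φ : ↥N ≃* ↥N) : ↥N →* ↥N) := by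
      intro n hn
      by_contra hn1
      have h1 : (n : G) ≠ 1 := fun h => hn1 (Subtype.ext h)
      apply hfree n n.2 h1
      have h2 : ((φ n : N) : G) = n := congrArg Subtype.val hn
      rw [hφ, cjEquiv_apply] at h2
      calc x * (n : G) = (x * n * x⁻¹) * x := by group
        _ = n * x := by rw [h2]
    have hpow : φ ^ p = 1 := by
      apply MulEquiv.ext
      intro n
      apply Subtype.ext
      rw [hφ, cjEquiv_pow, hxp]
      simp
    have hne1 : φ ≠ 1 := by
      intro h
      apply hfree y hyN hy1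
      have h2 : ((φ ⟨y, hyN⟩ : N) : G) = y := by rw [h]; rfl
      rw [hφ, cjEquiv_apply] at h2
      calc x * y = (x * y * x⁻¹) * x := by group
        _ = y * x := by rw [h2]
    have hord : orderOf φ = p := by
      have hd : orderOf φ ∣ p := orderOf_dvd_of_pow_eq_one hpow
      rcases (Nat.dvd_prime hp).mp hd with h | h
      · exact absurd (orderOf_eq_one_iff.mp h) hne1
      · exact h
    exact Cfsg.Agent.S0033.result φ hfpf p hp hord

/-- If `p ∉ σ(M) ∪ κ(M)` divides `|M|` and a Sylow `p`-subgroup `S` of `M` is cyclic, then every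
non-identity element of `S` acts freely on `M_σ`. -/
theorem free_of_cyclic [Finite G] (M : Subgroup G) (p : ℕ) [Fact p.Prime]
    (hpM : p ∣ Nat.card M) (hσ : p ∉ Cfsg.sigma M) (hκ : p ∉ Cfsg.kappa M) (S : Sylow p M)
    (hS : IsCyclic (S : Subgroup M)) :
    ∀ x : M, x ∈ (S : Subgroup M) → x ≠ 1 → ∀ y ∈ Cfsg.sigmaCore M, y ≠ 1 → (x : G) * y ≠ y * x := by
  intro x hx hx1 y hy hy1 hxy
  apply hκ
  refine ⟨Fact.out, hpM, hσ, fun P => ?_⟩
  obtain ⟨g, rfl⟩ := MulAction.exists_smul_eq M S P
  constructor
  · haveI := hS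
    exact isCyclic_of_surjective (Sylow.equivSMul S g).toMonoidHom (Sylow.equivSMul S g).surjective
  · refine ⟨g * x * g⁻¹, ?_, ?_, (g : G) * y * (g : G)⁻¹, ?_, ?_, ?_⟩
    · rw [Sylow.coe_subgroup_smul]
      have := Subgroup.smul_mem_pointwise_smul x (MulAut.conj g) (S : Subgroup M) hx
      simpa [MulAut.smul_def, MulAut.conj_apply] using this
    · intro h
      apply hx1
      have : x = g⁻¹ * (g * x * g⁻¹) * g := by group
      rw [this, h]; group
    · have hn := Cfsg.Agent.Helper55.BGB.le_normalizer_sigmaCore M g.2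
      exact (mem_normalizer_iff.mp hn y).mp hy
    · intro h
      apply hy1
      have : y = (g : G)⁻¹ * ((g : G) * y * (g : G)⁻¹) * (g : G) := by group
      rw [this, h]; group
    · simp only [Subgroup.coe_mul, Subgroup.coe_inv]
      calc (g : G) * x * (g : G)⁻¹ * ((g : G) * y * (g : G)⁻¹)
          = (g : G) * ((x : G) * y) * (g : G)⁻¹ := by group
        _ = (g : G) * (y * (x : G)) * (g : G)⁻¹ := by rw [hxy]
        _ = (g : G) * y * (g : G)⁻¹ * ((g : G) * x * (g : G)⁻¹) := by group

end Cfsg.Agent.Helper20.BG13
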