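import Mathlib
import Cfsg.Prelude.Def_Local
import Cfsg.Agent.Lib.Helper55.Cores
import Cfsg.Agent.Lib.Helper63.PLen
import Cfsg.Agent.Lib.Helper24.PLength
import Cfsg.Agent.Lib.Helper20.BG106A

/-!
# p-length one lifts from a normal subgroup of index prime to p
-/

set_option autoImplicit false

namespace Cfsg.Agent.Helper20.BG106

open Cfsg Subgroup

/-- `K` normal in `X` with `p ∤ |X : K|` and `K` of `p`-length one: `X` has `p`-length one. -/
theorem plen_of_normal_hall {X : Type*} [Group X] [Finite X] {p : ℕ} [hp : Fact p.Prime]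
    (K : Subgroup X) [hK : K.Normal] (hidx : ¬ p ∣ K.index) (h : PLengthLE p 1 K) :
    PLengthLE p 1 X := by
  obtain ⟨S⟩ : Nonempty (Sylow p K) := inferInstance
  obtain ⟨hc, -, -, hall, -⟩ := Helper24.plength_one_structure p h S
  have hY'n : ((pPrimeCore p K).map K.subtype).Normal := inferInstance
  have hY'c : (Nat.card ((pPrimeCore p K).map K.subtype)).Coprime p := by
    rw [Subgroup.card_map_of_injective K.subtype_injective]; exact hc
  -- the Sylow subgroup
  have hScard : Nat.card ((S : Subgroup K).map K.subtype) = p ^ (Nat.card X).factorization p := by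
    rw [Subgroup.card_map_of_injective K.subtype_injective, Sylow.card_eq_multiplicity]
    congr 1
    rw [← Subgroup.card_mul_index K, Nat.factorization_mul Nat.card_pos.ne'
      Subgroup.index_ne_zero_of_finite, Finsupp.add_apply,
      Nat.factorization_eq_zero_of_not_dvd hidx, add_zero]
  set S' : Sylow p X := Sylow.ofCard _ hScard with hS'
  have hS'coe : (S' : Subgroup X) = (S : Subgroup K).map K.subtype := Sylow.coe_ofCard _ _
  have hsup : (pPrimeCore p K).map K.subtype ⊔ (S' : Subgroup X) =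
      (pPrimeCore p K ⊔ (S : Subgroup K)).map K.subtype := by
    rw [hS'coe, Subgroup.map_sup]
  have hnormal : ((pPrimeCore p K).map K.subtype ⊔ (S' : Subgroup X)).Normal := by
    refine ⟨fun n hn g => ?_⟩
    have hn' : n ∈ ((((pPrimeCore p K).map K.subtype ⊔ (S' : Subgroup X)) : Subgroup X) : Set X) :=
      hn
    rw [Subgroup.normal_mul] at hn'
    obtain ⟨y, hy, s, hs, rfl⟩ := Set.mem_mul.mp hn'
    have h1 : g * (y * s) * g⁻¹ = (g * y * g⁻¹) * (g * s * g⁻¹) := by group
    rw [h1]
    refine mul_mem (le_sup_left (a := (pPrimeCore p K).map K.subtype)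
      (hY'n.conj_mem y hy g)) ?_
    rw [SetLike.mem_coe, hS'coe] at hs
    obtain ⟨s0, hs0, rfl⟩ := hs
    have hk0 : g * (K.subtype s0) * g⁻¹ ∈ K := hK.conj_mem _ s0.2 g
    obtain ⟨j, hj⟩ := (S.isPGroup' ⟨s0, hs0⟩)
    have hj' : s0 ^ (p ^ j) = 1 := by
      have := congrArg (Subtype.val) hj
      simpa using this
    have hk0pow : (⟨g * (K.subtype s0) * g⁻¹, hk0⟩ : K) ^ (p ^ j) = 1 := by
      apply Subtype.ext
      rw [Subgroup.coe_pow, Subgroup.coe_one]
      show (g * (K.subtype s0) * g⁻¹) ^ (p ^ j) = 1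
      rw [conj_pow, ← map_pow, hj', map_one, mul_one, mul_inv_cancel]
    have hQ : IsPGroup p (Subgroup.zpowers (⟨g * (K.subtype s0) * g⁻¹, hk0⟩ : K)) := by
      obtain ⟨i, _, hi⟩ := (Nat.dvd_prime_pow hp.out).mp (orderOf_dvd_of_pow_eq_one hk0pow)
      exact IsPGroup.of_card (n := i) (by rw [Nat.card_zpowers, hi])
    have h2 := hall _ hQ (Subgroup.mem_zpowers _)
    rw [hsup]
    exact ⟨_, h2, rfl⟩
  exact plen_of_normal_sup _ hY'c S' hnormal

end Cfsg.Agent.Helper20.BG106
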