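import Mathlib
import Cfsg.Prelude.Def_OddOrderLocal

/-!
# BG 10.2(c)-type lemma: Sylow subgroups for primes of σ(M) lie in M'

Given the conclusion of BG 10.1 (fusion of σ(M)-subgroups of M is controlled by M, passed as a
hypothesis), the focal subgroup theorem and perfectness of G give `P ≤ M'` for every Sylow
`r`-subgroup `P` of `M`, `r ∈ σ(M)`.
-/

set_option autoImplicit false

namespace Cfsg.Agent.Helper20.BG106

open Cfsg
open scoped commutatorElement

theorem commutator_eq_top_of_simple {G : Type*} [Group G] (hs : IsSimpleGroup G)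
    (hna : ¬ IsMulCommutative G) : commutator G = ⊤ := by
  rcases (inferInstance : (commutator G).Normal).eq_bot_or_eq_top with h | h
  · exfalso
    apply hna
    refine ⟨⟨fun a b => ?_⟩⟩
    have h1 : ⁅a, b⁆ ∈ commutator G :=
      Subgroup.commutator_mem_commutator (Subgroup.mem_top a) (Subgroup.mem_top b)
    rw [h, Subgroup.mem_bot] at h1
    exact (commutatorElement_eq_one_iff_commute.mp h1).eq
  · exact h

/-- A Sylow `r`-subgroup of `M` whose `G`-normalizer lies in `M` has Sylow order in `G`. -/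
theorem sigma_sylow_card {G : Type*} [Group G] [Finite G] (M : Subgroup G) (r : ℕ)
    [hr : Fact r.Prime] (P0 : Sylow r M)
    (hN : Subgroup.normalizer (((P0 : Subgroup M).map M.subtype : Subgroup G) : Set G) ≤ M) :
    Nat.card ((P0 : Subgroup M).map M.subtype) = r ^ (Nat.card G).factorization r := by
  set n := (Nat.card M).factorization r with hn
  have hcard : Nat.card ((P0 : Subgroup M).map M.subtype) = r ^ n := by
    rw [Subgroup.card_map_of_injective M.subtype_injective, Sylow.card_eq_multiplicity]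
  rw [hcard]
  congr 1
  have hne : Nat.card G ≠ 0 := Nat.card_pos.ne'
  have h1 : r ^ n ∣ Nat.card G := by
    rw [← hcard]; exact Subgroup.card_subgroup_dvd_card _
  have h2 : ¬ r ^ (n + 1) ∣ Nat.card G := by
    intro hd
    have h3 := Sylow.prime_pow_dvd_card_normalizer hd hcard
    have h4 : r ^ (n + 1) ∣ Nat.card M := h3.trans (Subgroup.card_dvd_of_le hN)
    exact Nat.pow_succ_factorization_not_dvd Nat.card_pos.ne' hr.out h4
  have h5 : n ≤ (Nat.card G).factorization r :=
    (hr.out.pow_dvd_iff_le_factorization hne).mp h1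
  have h6 : ¬ n + 1 ≤ (Nat.card G).factorization r := fun h =>
    h2 ((hr.out.pow_dvd_iff_le_factorization hne).mpr h)
  omega

/-- BG 10.2(c), Sylow form: for `r ∈ σ(M)`, every Sylow `r`-subgroup of `M` lies in `M'`.
The hypothesis `h1` is the conclusion of BG 10.1 (S1404). -/
theorem sylow_le_commutator {G : Type*} [Group G] [Finite G] (hs : IsSimpleGroup G)
    (hna : ¬ IsMulCommutative G) (M : Subgroup G) (r : ℕ) [hr : Fact r.Prime]
    (hrσ : r ∈ Cfsg.sigma M)
    (h1 : ∀ X : Subgroup G, IsPGroup r X → X ≠ ⊥ → X ≤ M → ∀ g : G,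
      X.map (MulAut.conj g).toMonoidHom ≤ M →
        ∃ m ∈ M, ∃ c ∈ Subgroup.centralizer (X : Set G), g = m * c)
    (P : Sylow r M) : (P : Subgroup M) ≤ commutator M := by
  obtain ⟨-, -, P0, hN⟩ := hrσ
  -- the Sylow subgroup of G
  set PG : Sylow r G := Sylow.ofCard _ (sigma_sylow_card M r P0 hN) with hPG
  have hPGcoe : (PG : Subgroup G) = (P0 : Subgroup M).map M.subtype := Sylow.coe_ofCard _ _
  have hPGM : (PG : Subgroup G) ≤ M := by
    rw [hPGcoe]; exact Subgroup.map_subtype_le _
  have hfoc := Subgroup.commutator_inf_eq_focalSubgroup PG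
  rw [commutator_eq_top_of_simple hs hna, top_inf_eq] at hfoc
  -- focal subgroup inside ⁅M, M⁆
  have hle : (PG : Subgroup G).focalSubgroup ≤ ⁅M, M⁆ := by
    rw [Subgroup.focalSubgroup_def, Subgroup.closure_le]
    rintro g ⟨hgP, x, hxP, u, rfl⟩
    by_cases hx1 : x = 1
    · subst hx1
      simp
    -- X = ⟨x⟩
    have hXp : IsPGroup r (Subgroup.zpowers x) :=
      PG.isPGroup'.to_le (Subgroup.zpowers_le.mpr hxP)
    have hX1 : Subgroup.zpowers x ≠ ⊥ := by
      intro h; exact hx1 (Subgroup.zpowers_eq_bot.mp h)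
    have hXM : Subgroup.zpowers x ≤ M := Subgroup.zpowers_le.mpr (hPGM hxP)
    have hconj : u * x * u⁻¹ ∈ M := by
      have h2 : u * x⁻¹ * u⁻¹ ∈ (PG : Subgroup G) := by
        have h3 : u * x⁻¹ * u⁻¹ = x⁻¹ * ⁅x, u⁆ := by
          rw [commutatorElement_def]; group
        rw [h3]; exact mul_mem (inv_mem hxP) hgP
      have h4 : u * x * u⁻¹ = (u * x⁻¹ * u⁻¹)⁻¹ := by group
      rw [h4]; exact inv_mem (hPGM h2)
    have hmap : (Subgroup.zpowers x).map (MulAut.conj u).toMonoidHom ≤ M := by
      rw [MonoidHom.map_zpowers, Subgroup.zpowers_le]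
      simpa using hconj
    obtain ⟨m, hm, c, hc, rfl⟩ := h1 _ hXp hX1 hXM u hmap
    have hcx : c * x = x * c := by
      have := Subgroup.mem_centralizer_iff.mp hc x (Subgroup.mem_zpowers x)
      exact this.symm
    have h5 : ⁅x, m * c⁆ = ⁅x, m⁆ := by
      rw [commutatorElement_def, commutatorElement_def]
      have h6 : c * x⁻¹ * c⁻¹ = x⁻¹ := by
        have : c * x⁻¹ = x⁻¹ * c := by
          rw [eq_inv_mul_iff_mul_eq, ← mul_assoc, hcx.symm, mul_assoc, mul_inv_cancel, mul_one]
        rw [this, mul_assoc, mul_inv_cancel, mul_one]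
      calc x * (m * c) * x⁻¹ * (m * c)⁻¹ = x * m * (c * x⁻¹ * c⁻¹) * m⁻¹ := by group
        _ = x * m * x⁻¹ * m⁻¹ := by rw [h6]
    rw [SetLike.mem_coe, h5]
    exact Subgroup.commutator_mem_commutator (hPGM hxP) hm
  -- P0 ≤ commutator M
  have hP0 : (P0 : Subgroup M) ≤ commutator M := by
    rw [← Subgroup.map_le_map_iff_of_injective M.subtype_injective,
      Subgroup.map_subtype_commutator, ← hPGcoe]
    exact le_trans (le_of_eq hfoc) hle
  -- all Sylow subgroups are conjugate
  obtain ⟨g, rfl⟩ := MulAction.exists_smul_eq M P0 P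
  intro y hy
  rw [Sylow.coe_subgroup_smul, Subgroup.mem_pointwise_smul_iff_inv_smul_mem] at hy
  have h7 := hP0 hy
  have h8 : y = g * ((MulAut.conj g)⁻¹ • y) * g⁻¹ := by
    rw [MulAut.smul_def, MulAut.conj_inv_apply]; group
  rw [h8]
  exact (inferInstance : (commutator M).Normal).conj_mem _ h7 g

end Cfsg.Agent.Helper20.BG106
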