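import Mathlib
import Cfsg.Prelude.Def_OddOrderLocal
import Cfsg.Prelude.Def_Local
import Cfsg.Agent.Lib.Helper62.PiCore
import Cfsg.Agent.Lib.Helper20.BG106A
import Cfsg.Agent.Lib.Helper20.BG106B
import Cfsg.Agent.Lib.Helper20.BG106C
import Cfsg.Agent.S1459

/-!
# BG Theorem 10.6(a), case `p ∈ α(M)`

`main`: a maximal subgroup `M` of a minimal simple group of odd order has `p`-length one for
`p ∈ α(M)`, given (as hypotheses) the conclusions of BG 10.1 (S1404), 10.2 (S1405), 10.4 (S1407)
and 3.6 (S1444).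
-/

set_option autoImplicit false

namespace Cfsg.Agent.Helper20.BG106

open Cfsg

theorem le_of_coprime_index {X : Type*} [Group X] [Finite X] (N : Subgroup X) [N.Normal]
    (H : Subgroup X) (h : (Nat.card H).Coprime N.index) : H ≤ N := by
  intro x hx
  have h1 : orderOf (QuotientGroup.mk' N x) ∣ Nat.card H :=
    (orderOf_map_dvd _ x).trans
      (by
        have := orderOf_dvd_natCard (⟨x, hx⟩ : H)
        rwa [← Subgroup.orderOf_coe] at this)
  have h2 : orderOf (QuotientGroup.mk' N x) ∣ N.index := by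
    rw [Subgroup.index_eq_card]; exact orderOf_dvd_natCard _
  have h3 : orderOf (QuotientGroup.mk' N x) = 1 := Nat.eq_one_of_dvd_coprimes h h1 h2
  rw [orderOf_eq_one_iff, QuotientGroup.mk'_apply, QuotientGroup.eq_one_iff] at h3
  exact h3

theorem relIndex_map_subtype {G : Type*} [Group G] (M : Subgroup G) (K : Subgroup M) :
    (K.map M.subtype).relIndex M = K.index := by
  unfold Subgroup.relIndex Subgroup.subgroupOf
  rw [Subgroup.comap_map_eq_self_of_injective M.subtype_injective]

theorem dvd_card_of_not_pRankLE {X : Type*} [Group X] [Finite X] {p k : ℕ} (hp : p.Prime)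
    (h : ¬ PRankLE p k X) : p ∣ Nat.card X := by
  by_contra hnd
  apply h
  intro A _ hA
  have hbot : A = ⊥ := by
    rw [Subgroup.eq_bot_iff_forall]
    intro a ha
    have h1 : orderOf a ∣ p := orderOf_dvd_of_pow_eq_one (hA a ha)
    have h2 : orderOf a ∣ Nat.card X := orderOf_dvd_natCard a
    have h3 : orderOf a = 1 := by
      rcases (Nat.dvd_prime hp).mp h1 with h | h
      · exact h
      · exfalso; exact hnd (h ▸ h2)
    exact orderOf_eq_one_iff.mp h3
  rw [hbot, Subgroup.card_bot]
  exact Nat.one_le_pow _ _ hp.pos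

section main

variable {G : Type*} [Group G] [Finite G]

theorem main (hG : IsMinSimpleOddOrder G) (M : Subgroup G) (hM : IsCoatom M) (p : ℕ)
    [hp : Fact p.Prime] (hpα : p ∈ Cfsg.alpha M)
    (h1404 : ∀ (r : ℕ) [Fact r.Prime], r ∈ Cfsg.sigma M → ∀ X : Subgroup G, IsPGroup r X →
      X ≠ ⊥ → X ≤ M → ∀ g : G, X.map (MulAut.conj g).toMonoidHom ≤ M →
        ∃ m ∈ M, ∃ c ∈ Subgroup.centralizer (X : Set G), g = m * c)
    (h1405 : Cfsg.IsPiHallOf (Cfsg.alpha M) (Cfsg.alphaCore M) M ∧
      Cfsg.alphaCore M ≤ Cfsg.sigmaCore M)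
    (h1407 : Cfsg.alphaCore M ≠ ⊥ → ∀ (q : ℕ) [Fact q.Prime], q ∣ Nat.card M →
      q ∉ Cfsg.sigma M → ∀ P : Sylow q M, ∃ x : G,
        x ∈ ((Subgroup.center ↥(P : Subgroup M)).map (P : Subgroup M).subtype).map M.subtype ∧
        orderOf x = q ∧
        IsZGroup ↥(Cfsg.alphaCore M ⊓ Subgroup.centralizer ({x} : Set G)))
    (h1444 : ∀ (H R R₀ : Subgroup M) [H.Normal], (Nat.card H).Coprime H.index →
      Subgroup.IsComplement' H R → R₀ ≤ R → (Nat.card R₀).Prime →
      IsZGroup ↥(H ⊓ Subgroup.centralizer (R₀ : Set M)) → Cfsg.PLengthLE p 1 ↥⁅H, R⁆) :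
    Cfsg.PLengthLE p 1 M := by
  obtain ⟨hodd, hsimple, hna, hsolvall⟩ := hG
  haveI hsolv : Group.IsSolvable M := hsolvall M hM.1
  -- the subgroup K = O_α(M)
  set K : Subgroup M := Cfsg.piCore (Cfsg.alpha M) M with hK
  have hKmap : Cfsg.alphaCore M = K.map M.subtype := rfl
  have hcardK : Nat.card (Cfsg.alphaCore M) = Nat.card K := by
    rw [hKmap, Subgroup.card_map_of_injective M.subtype_injective]
  -- primes of K
  have hKα : ∀ r : ℕ, r.Prime → r ∣ Nat.card K → r ∈ Cfsg.alpha M :=
    Helper62.isPi_piCore (Cfsg.alpha M)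
  have hKσ : ∀ r : ℕ, r.Prime → r ∣ Nat.card K → r ∈ Cfsg.sigma M := by
    intro r hr hd
    have h1 : r ∣ Nat.card (Cfsg.sigmaCore M) := by
      rw [← hcardK] at hd
      exact hd.trans (Subgroup.card_dvd_of_le h1405.2)
    have h2 : Nat.card (Cfsg.sigmaCore M) = Nat.card (Cfsg.piCore (Cfsg.sigma M) M) := by
      unfold Cfsg.sigmaCore
      rw [Subgroup.card_map_of_injective M.subtype_injective]
    rw [h2] at h1
    exact Helper62.isPi_piCore (Cfsg.sigma M) r hr h1
  -- Hall property
  have hrelK : (Cfsg.alphaCore M).relIndex M = K.index := by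
    rw [hKmap]; exact relIndex_map_subtype M K
  have hHall : (Nat.card K).Coprime K.index := by
    by_contra hnc
    obtain ⟨r, hr, hd1, hd2⟩ := Nat.Prime.not_coprime_iff_dvd.mp hnc
    have := h1405.1.2.2 r hr (hKα r hr hd1)
    rw [hrelK] at this
    exact this hd2
  have hpidx : ¬ p ∣ K.index := by
    have := h1405.1.2.2 p hp.out hpα
    rwa [hrelK] at this
  have hpM : p ∣ Nat.card M := dvd_card_of_not_pRankLE hp.out hpα.2
  have hpK : p ∣ Nat.card K := by
    have h1 : p ∣ Nat.card K * K.index := by rw [Subgroup.card_mul_index]; exact hpM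
    rcases (Nat.Prime.dvd_mul hp.out).mp h1 with h | h
    · exact h
    · exact absurd h hpidx
  have hαne : Cfsg.alphaCore M ≠ ⊥ := by
    intro h
    rw [h, Subgroup.card_bot] at hcardK
    rw [← hcardK] at hpK
    exact hp.out.one_lt.ne' (Nat.dvd_one.mp hpK)
  -- Sylow subgroups for σ-primes lie in M'
  have hsyl : ∀ (r : ℕ) [Fact r.Prime], r ∈ Cfsg.sigma M → ¬ r ∣ (commutator M).index := by
    intro r hr hrσ hd
    have P : Sylow r M := Classical.arbitrary _
    have h1 := sylow_le_commutator hsimple hna M r hrσ (h1404 r hrσ) P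
    exact P.not_dvd_index (hd.trans (Subgroup.index_dvd_of_le h1))
  -- K ≤ M'
  have hKcomm : K ≤ commutator M := by
    apply le_of_coprime_index
    by_contra hnc
    obtain ⟨r, hr, hd1, hd2⟩ := Nat.Prime.not_coprime_iff_dvd.mp hnc
    haveI : Fact r.Prime := ⟨hr⟩
    exact hsyl r (hKσ r hr hd1) hd2
  -- a prime q outside σ(M)
  haveI hnt : Nontrivial M := by
    rw [← Finite.one_lt_card_iff_nontrivial]
    exact lt_of_lt_of_le hp.out.one_lt (Nat.le_of_dvd Nat.card_pos hpM)
  obtain ⟨q, hq, hqM, hqσ⟩ : ∃ q : ℕ, q.Prime ∧ q ∣ Nat.card M ∧ q ∉ Cfsg.sigma M := by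
    by_contra hall
    push Not at hall
    have h1 : (commutator M).index = 1 := by
      by_contra hne
      obtain ⟨r, hr, hd⟩ := Nat.exists_prime_and_dvd hne
      haveI : Fact r.Prime := ⟨hr⟩
      exact hsyl r (hall r hr (hd.trans (Subgroup.index_dvd_card _))) hd
    have h2 : commutator M = ⊤ := Subgroup.index_eq_one.mp h1
    exact (Group.IsSolvable.commutator_lt_top_of_nontrivial M).ne h2
  haveI : Fact q.Prime := ⟨hq⟩
  have hqK : ¬ q ∣ Nat.card K := fun hd => hqσ (hKσ q hq hd)
  -- complement E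
  obtain ⟨E, hE⟩ := Subgroup.exists_right_complement'_of_coprime hHall
  -- Sylow q-subgroup of M inside E
  obtain ⟨Q⟩ : Nonempty (Sylow q E) := inferInstance
  have hQcard : Nat.card ((Q : Subgroup E).map E.subtype) = q ^ (Nat.card M).factorization q := by
    rw [Subgroup.card_map_of_injective E.subtype_injective, Sylow.card_eq_multiplicity]
    congr 1
    rw [← hE.card_mul_card, Nat.factorization_mul Nat.card_pos.ne' Nat.card_pos.ne',
      Finsupp.add_apply, Nat.factorization_eq_zero_of_not_dvd hqK, zero_add]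
  set P : Sylow q M := Sylow.ofCard _ hQcard with hPdef
  have hPcoe : (P : Subgroup M) = (Q : Subgroup E).map E.subtype := Sylow.coe_ofCard _ _
  have hPE : (P : Subgroup M) ≤ E := by
    rw [hPcoe]; exact Subgroup.map_subtype_le _
  -- the element x from BG 10.4
  obtain ⟨x, hx, hxord, hxZ⟩ := h1407 hαne q hqM hqσ P
  obtain ⟨x', hx', rfl⟩ := hx
  obtain ⟨z, -, rfl⟩ := hx'
  have hzE : ((P : Subgroup M).subtype z) ∈ E := hPE z.2
  have hzord : orderOf ((P : Subgroup M).subtype z) = q :=
    (Subgroup.orderOf_coe ((P : Subgroup M).subtype z)).symm.trans hxord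
  set R₀ : Subgroup M := Subgroup.zpowers ((P : Subgroup M).subtype z) with hR₀
  have hR₀E : R₀ ≤ E := Subgroup.zpowers_le.mpr hzE
  have hR₀card : (Nat.card R₀).Prime := by
    rw [hR₀, Nat.card_zpowers, hzord]; exact hq
  -- Z-group transfer
  haveI := hxZ
  have hZ : IsZGroup ↥(K ⊓ Subgroup.centralizer (R₀ : Set M)) := by
    have hmem : ∀ g : ↥(K ⊓ Subgroup.centralizer (R₀ : Set M)),
        (M.subtype.comp (K ⊓ Subgroup.centralizer (R₀ : Set M)).subtype) g ∈
          Cfsg.alphaCore M ⊓ Subgroup.centralizer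
            ({M.subtype ((P : Subgroup M).subtype z)} : Set G) := by
      intro g
      refine Subgroup.mem_inf.mpr ⟨?_, ?_⟩
      · rw [hKmap]
        exact ⟨g.1, g.2.1, rfl⟩
      · rw [Subgroup.mem_centralizer_iff]
        intro y hy
        rw [Set.mem_singleton_iff] at hy
        subst hy
        have h1 := Subgroup.mem_centralizer_iff.mp g.2.2 _
          (Subgroup.mem_zpowers ((P : Subgroup M).subtype z))
        have h2 := congrArg M.subtype h1
        simpa using h2
    let φ : ↥(K ⊓ Subgroup.centralizer (R₀ : Set M)) →*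
        ↥(Cfsg.alphaCore M ⊓ Subgroup.centralizer
            ({M.subtype ((P : Subgroup M).subtype z)} : Set G)) :=
      MonoidHom.codRestrict (M.subtype.comp (K ⊓ Subgroup.centralizer (R₀ : Set M)).subtype)
        _ hmem
    have hφ : Function.Injective φ := by
      intro a b hab
      have h1 := congrArg Subtype.val hab
      have h2 : M.subtype a.1 = M.subtype b.1 := h1
      exact Subtype.ext (M.subtype_injective h2)
    exact IsZGroup.of_injective (f := φ) hφ
  -- apply BG 3.6 and S1459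
  have hpl := h1444 K E R₀ hHall hE hR₀E hR₀card hZ
  have hKE : K = ⁅K, E⁆ :=
    ((Cfsg.Agent.S1459.result (G := M)).1 K E inferInstance hHall hE hKcomm).1
  rw [← hKE] at hpl
  exact plen_of_normal_hall K hpidx hpl

end main

end Cfsg.Agent.Helper20.BG106
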