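import Mathlib
import Cfsg.Agent.Lib.Helper48.BG36EndCtx
import Cfsg.Agent.Lib.Helper20.BG36MS
import Cfsg.Agent.Lib.Helper27.BG36W
import Cfsg.Agent.Lib.Helper52.Coprime

/-!
# BG Theorem 3.6: the common tail (TAIL) of the endgame, via MS, W1, W2 and EX
-/

set_option autoImplicit false

namespace Cfsg.Agent.Helper20.BG36

open Subgroup Cfsg.Agent.Helper48.BG36

section Aux

variable {Γ : Type*} [Group Γ] [Finite Γ]

/-- in a group of odd order, a non-identity element killed by a prime `q` forces `q ≠ 2` -/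
theorem prime_ne_two_of_odd (hodd : Odd (Nat.card Γ)) {q : ℕ} (hq : q.Prime) (g : Γ) (hg1 : g ≠ 1)
    (hgq : g ^ q = 1) : q ≠ 2 := by
  rintro rfl
  have hd : orderOf g ∣ 2 := orderOf_dvd_of_pow_eq_one hgq
  have ho : orderOf g = 2 := by
    rcases (Nat.dvd_prime hq).mp hd with h | h
    · exact absurd (orderOf_eq_one_iff.mp h) hg1
    · exact h
  have h2 : 2 ∣ Nat.card Γ := ho ▸ orderOf_dvd_natCard g
  exact (Nat.not_even_iff_odd.mpr hodd) (even_iff_two_dvd.mpr h2)

/-- a cyclic subgroup of exponent dividing `s` has order dividing `s` -/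
theorem card_dvd_of_cyclic_of_exp (T : Subgroup Γ) (hT : IsCyclic T) {s : ℕ}
    (hexp : ∀ u ∈ T, u ^ s = 1) : Nat.card T ∣ s := by
  obtain ⟨g, hg⟩ := hT.exists_generator
  have h1 : orderOf g = Nat.card T := orderOf_eq_card_of_forall_mem_zpowers hg
  rw [← h1]
  apply orderOf_dvd_of_pow_eq_one
  apply Subtype.ext
  rw [Subgroup.coe_pow]
  exact hexp g g.2

/-- powers of commuting elements commute -/
theorem zpowers_comm {x u : Γ} (h : x * u = u * x) : ∀ x' ∈ zpowers x, x' * u = u * x' := by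
  rintro _ ⟨k, rfl⟩
  exact ((Commute.zpow_left (show Commute x u from h) k)).eq

end Aux

variable {Γ : Type*} [Group Γ] [Finite Γ] [Group.IsSolvable Γ]
  {p : ℕ} [Fact p.Prime] {W : Type*} [AddCommGroup W] [Module (ZMod p) W] [Finite W]

/-- (TAIL) via MS (Helper20.BG36), W1, W2 (Helper27.BG36) and EX (hypothesis `hEX`). -/
theorem TAIL (hodd : Odd (Nat.card Γ)) (φ : Γ →* Module.End (ZMod p) W) (a : Γ) {r : ℕ}
    (hr : r.Prime) (har : a ^ r = 1) (ha1 : a ≠ 1) (hpr : p ≠ r)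
    (hfix : ∃ v₀ : W, ∀ v : W, φ a v = v → ∃ c : ZMod p, v = c • v₀)
    (hEX : EXProp φ) : TailProp φ a r := by
  intro Q hQn hQp hQr hfaith hcyc x hxp hxa Y hxY hYx hQY hmin hne
  haveI := hQn
  have hpp : p.Prime := Fact.out
  obtain ⟨u0, hu0Q, hu0⟩ := hne
  have hu01 : u0 ≠ 1 := by
    rintro rfl
    exact hu0 (by simp)
  have hx1 : x ≠ 1 := by
    rintro rfl
    exact hu0 (by simp)
  have hp2 : p ≠ 2 := prime_ne_two_of_odd hodd hpp x hx1 hxp
  have hr2 : r ≠ 2 := prime_ne_two_of_odd hodd hr a ha1 har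
  -- the hypotheses of MS
  have hXn : ∀ y ∈ Y, ∀ x' ∈ zpowers x, y * x' * y⁻¹ ∈ zpowers x := by
    rintro y hy _ ⟨k, rfl⟩
    have h1 : y * x ^ k * y⁻¹ = (y * x * y⁻¹) ^ k := by rw [conj_zpow]
    rw [h1]
    exact zpow_mem (hYx y hy) k
  have hYQ : ∀ y ∈ Y, ∀ u ∈ Q, y * u * y⁻¹ ∈ Q := fun y _ u hu => hQn.conj_mem u hu y
  have hoddQ : Odd (Nat.card Q) := Odd.of_dvd_nat hodd (Subgroup.card_subgroup_dvd_card Q)
  have hmin' : ∀ Q₁ : Subgroup Γ, Q₁ ≤ Q → (∀ y ∈ Y, ∀ u ∈ Q₁, y * u * y⁻¹ ∈ Q₁) → Q₁ ≠ Q →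
      ∀ x' ∈ zpowers x, ∀ u ∈ Q₁, x' * u = u * x' := by
    intro Q₁ h1 h2 h3 x' hx' u hu
    exact zpowers_comm (hmin Q₁ h1 h2 h3 u hu) x' hx'
  obtain ⟨s, hs, hQs, hgen, hcen, hXcen, hexp, hCQ⟩ :=
    MS Q (zpowers x) Y ((zpowers_le).mpr hxY) hXn hYQ hQY hoddQ inferInstance hmin'
      ⟨x, mem_zpowers x, u0, hu0Q, hu0⟩
  -- s divides |Q|
  have hsQ : s ∣ Nat.card Q := by
    have h1 : orderOf u0 ∣ s := orderOf_dvd_of_pow_eq_one (hexp u0 hu0Q)
    have h2 : orderOf u0 = s := by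
      rcases (Nat.dvd_prime hs).mp h1 with h | h
      · exact absurd (orderOf_eq_one_iff.mp h) hu01
      · exact h
    have h3 : orderOf (⟨u0, hu0Q⟩ : Q) = s := by
      rw [← h2]; exact (Subgroup.orderOf_mk u0 hu0Q)
    rw [← h3]
    exact orderOf_dvd_natCard _
  have hps : p ≠ s := by
    rintro rfl
    have := Nat.Coprime.eq_one_of_dvd hQp.symm hsQ
    exact hs.one_lt.ne' this
  have hsr : s ≠ r := by
    rintro rfl
    have := Nat.Coprime.eq_one_of_dvd hQr.symm hsQ
    exact hs.one_lt.ne' this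
  have hs2 : s ≠ 2 := prime_ne_two_of_odd hodd hs u0 hu01 (hexp u0 hu0Q)
  -- a centralizes Q' via W2
  set B : Subgroup Γ := ⁅Q, Q⁆ with hB
  have hBle : B ≤ Q := Subgroup.commutator_le_left Q Q
  have hBs : IsPGroup s B := hQs.to_le hBle
  have hBc : ∀ u ∈ B, ∀ w ∈ B, u * w = w * u := fun u hu w hw => hcen u hu w (hBle hw)
  have hBn : B.Normal := by rw [hB]; infer_instance
  have haB : ∀ u ∈ B, a * u * a⁻¹ ∈ B := fun u hu => hBn.conj_mem u hu a
  set D : Subgroup Γ := Q ⊔ zpowers x with hD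
  have hDB : ∀ d ∈ D, ∀ u ∈ B, d * u = u * d := by
    have hle : D ≤ centralizer (B : Set Γ) := by
      rw [hD]
      apply sup_le
      · intro q hq
        rw [mem_centralizer_iff]
        intro u hu
        exact hcen u hu q hq
      · rw [zpowers_le, mem_centralizer_iff]
        intro u hu
        exact (hXcen u hu x (mem_zpowers x)).symm
    intro d hd u hu
    exact ((mem_centralizer_iff.mp (hle hd)) u hu).symm
  have hQD : Q ≤ ⁅D, D⁆ := by
    refine hgen.trans ?_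
    rw [closure_le]
    rintro g ⟨x', hx', u, hu, rfl⟩
    have h1 : x' ∈ D := (le_sup_right : zpowers x ≤ D) hx'
    have h2 : u ∈ D := (le_sup_left : Q ≤ D) hu
    have := commutator_mem_commutator h1 h2
    rwa [commutatorElement_def] at this
  have hBD : ∀ u ∈ B, a * u * a⁻¹ * u⁻¹ ∈ ⁅D, D⁆ := fun u hu =>
    hQD (hBle (B.mul_mem (haB u hu) (B.inv_mem hu)))
  have hW2 := Cfsg.Agent.Helper27.BG36.W2 φ hs hr hps hpr B D hBs hBc a har haB hDB hBD hfix
  have haB' : ∀ u ∈ B, a * u = u * a := by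
    intro u hu
    have h1 : a * u * a⁻¹ * u⁻¹ = 1 :=
      hfaith _ (hBle (B.mul_mem (haB u hu) (B.inv_mem hu))) (hW2 u hu)
    calc a * u = (a * u * a⁻¹ * u⁻¹) * (u * a) := by group
      _ = u * a := by rw [h1, one_mul]
  have hBcyc : IsCyclic B := hcyc s hs B hBle hBs haB'
  have hxQ : ∀ x' ∈ zpowers x, ∀ u ∈ Q, x' * u * x'⁻¹ ∈ Q := fun x' _ u hu => hQn.conj_mem u hu x'
  have haQ : ∀ u ∈ Q, a * u * a⁻¹ ∈ Q := fun u hu => hQn.conj_mem u hu a
  by_cases hB1 : B = ⊥
  · -- Q abelian: W1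
    refine ⟨⟨s, hs, hQs⟩, ?_⟩
    have hQc : ∀ u ∈ Q, ∀ w ∈ Q, u * w = w * u := by
      intro u hu w hw
      have h1 := commutator_mem_commutator hu hw
      rw [← hB, hB1, mem_bot] at h1
      exact (commutatorElement_eq_one_iff_commute.mp h1).eq
    have hle : Q ≤ centralizer ({a} : Set Γ) := by
      refine hgen.trans ?_
      rw [closure_le]
      rintro g ⟨x', hx', u, hu, rfl⟩
      have hx'a : x' * a = a * x' := zpowers_comm hxa x' hx'
      have hx'p : x' ^ p = 1 := by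
        obtain ⟨k, rfl⟩ := hx'
        rw [← zpow_natCast, ← zpow_mul, mul_comm, zpow_mul, zpow_natCast, hxp, one_zpow]
      have hW1 := Cfsg.Agent.Helper27.BG36.W1 φ hs hr hps hpr Q hQs hQc x' a hx'a hx'p
        ((Nat.coprime_primes hpp hr).mpr hpr) har (hxQ x' hx') haQ hfix u hu
      have hgQ : x' * u * x'⁻¹ * u⁻¹ ∈ Q := Q.mul_mem (hxQ x' hx' u hu) (Q.inv_mem hu)
      have h1 : a * (x' * u * x'⁻¹ * u⁻¹) * a⁻¹ * (x' * u * x'⁻¹ * u⁻¹)⁻¹ = 1 :=
        hfaith _ (Q.mul_mem (haQ _ hgQ) (Q.inv_mem hgQ)) hW1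
      show x' * u * x'⁻¹ * u⁻¹ ∈ centralizer ({a} : Set Γ)
      rw [mem_centralizer_iff]
      intro b hb
      rw [Set.mem_singleton_iff] at hb
      subst hb
      have h2 : b * (x' * u * x'⁻¹ * u⁻¹) = (x' * u * x'⁻¹ * u⁻¹) * b := by
        calc b * (x' * u * x'⁻¹ * u⁻¹)
            = (b * (x' * u * x'⁻¹ * u⁻¹) * b⁻¹ * (x' * u * x'⁻¹ * u⁻¹)⁻¹) *
                ((x' * u * x'⁻¹ * u⁻¹) * b) := by group
          _ = (x' * u * x'⁻¹ * u⁻¹) * b := by rw [h1, one_mul]
      exact h2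
    intro u hu
    have := mem_centralizer_iff.mp (hle hu) a (Set.mem_singleton a)
    exact this
  · -- Q' of order s: EX gives a contradiction
    exfalso
    obtain ⟨g, hg⟩ := hBcyc.exists_generator
    set z : Γ := (g : Γ) with hz
    have hzB : z ∈ B := g.2
    have hBz : B = zpowers z := by
      apply le_antisymm
      · intro b hb
        obtain ⟨k, hk⟩ := hg ⟨b, hb⟩
        refine ⟨k, ?_⟩
        have := congrArg Subtype.val hk
        simpa using this
      · rw [zpowers_le]; exact hzB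
    have hzQ : z ∈ Q := hBle hzB
    have hz1 : z ≠ 1 := by
      intro h
      apply hB1
      rw [hBz, h, zpowers_one_eq_bot]
    have hzs : z ^ s = 1 := hexp z hzQ
    have hzc : ∀ u ∈ Q, z * u = u * z := fun u hu => hcen z hzB u hu
    have hcomm : ∀ u ∈ Q, ∀ w ∈ Q, u * w * u⁻¹ * w⁻¹ ∈ zpowers z := by
      intro u hu w hw
      rw [← hBz, ← commutatorElement_def]
      exact commutator_mem_commutator hu hw
    have hnonab : ∃ u ∈ Q, ∃ w ∈ Q, u * w ≠ w * u := by
      by_contra hcon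
      push_neg at hcon
      apply hB1
      rw [hB, Subgroup.commutator_eq_bot_iff_le_centralizer]
      intro u hu
      rw [mem_centralizer_iff]
      intro w hw
      exact hcon w hw u hu
    -- the centre of Q lies in Q'
    have hcenter : ∀ u ∈ Q, (∀ w ∈ Q, u * w = w * u) → u ∈ zpowers z := by
      intro u hu huc
      set Z : Subgroup Γ := Q ⊓ centralizer (Q : Set Γ) with hZ
      have hZle : Z ≤ Q := inf_le_left
      have hZinv : ∀ y ∈ Y, ∀ c ∈ Z, y * c * y⁻¹ ∈ Z := by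
        intro y _ c hc
        have hc1 : c ∈ Q := (Subgroup.mem_inf.mp hc).1
        have hc2 : c ∈ centralizer (Q : Set Γ) := (Subgroup.mem_inf.mp hc).2
        refine Subgroup.mem_inf.mpr ⟨hQn.conj_mem c hc1 y, ?_⟩
        rw [mem_centralizer_iff]
        intro w hw
        have hw' : y⁻¹ * w * y ∈ Q := by
          have := hQn.conj_mem w hw y⁻¹
          simpa using this
        have h1 := mem_centralizer_iff.mp hc2 _ hw'
        calc w * (y * c * y⁻¹) = y * ((y⁻¹ * w * y) * c) * y⁻¹ := by group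
          _ = y * (c * (y⁻¹ * w * y)) * y⁻¹ := by rw [h1]
          _ = y * c * y⁻¹ * w := by group
      have hZne : Z ≠ Q := by
        intro h
        obtain ⟨u1, hu1, w1, hw1, hne1⟩ := hnonab
        apply hne1
        have : w1 ∈ Z := h ▸ hw1
        exact (mem_centralizer_iff.mp (Subgroup.mem_inf.mp this).2 u1 hu1)
      have huZ : u ∈ Z := by
        refine Subgroup.mem_inf.mpr ⟨hu, ?_⟩
        rw [mem_centralizer_iff]
        intro w hw
        exact (huc w hw).symm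
      have hxu : x * u = u * x := hmin Z hZle hZinv hZne u huZ
      have := hCQ u hu (fun x' hx' => zpowers_comm hxu x' hx')
      rwa [← hBz]
    -- fixed points of a on Q/Q'
    have hra : orderOf a = r := by
      have hd : orderOf a ∣ r := orderOf_dvd_of_pow_eq_one har
      rcases (Nat.dvd_prime hr).mp hd with h | h
      · exact absurd (orderOf_eq_one_iff.mp h) ha1
      · exact h
    set CA : Subgroup Γ := Q ⊓ centralizer ((zpowers a : Subgroup Γ) : Set Γ) with hCA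
    have hCAa : ∀ u ∈ CA, a * u = u * a := by
      intro u hu
      exact (mem_centralizer_iff.mp (Subgroup.mem_inf.mp hu).2 a (mem_zpowers a))
    have hCAcyc : IsCyclic CA := hcyc s hs CA inf_le_left (hQs.to_le inf_le_left) hCAa
    have hBCA : B ≤ CA := by
      intro b hb
      refine Subgroup.mem_inf.mpr ⟨hBle hb, ?_⟩
      rw [mem_centralizer_iff]
      intro α hα
      exact (zpowers_comm (haB' b hb) α hα)
    have hCAB : CA = B := by
      have h1 : Nat.card CA ∣ s :=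
        card_dvd_of_cyclic_of_exp CA hCAcyc (fun u hu => hexp u (Subgroup.mem_inf.mp hu).1)
      have h2 : Nat.card B ∣ Nat.card CA := Subgroup.card_dvd_of_le hBCA
      have h3 : Nat.card B ≠ 1 := by
        intro h
        exact hB1 (Subgroup.card_eq_one.mp h)
      have h4 : Nat.card B = s := by
        rcases (Nat.dvd_prime hs).mp (h2.trans h1) with h | h
        · exact absurd h h3
        · exact h
      have h5 : Nat.card CA = s := by
        rcases (Nat.dvd_prime hs).mp h1 with h | h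
        · exfalso
          rw [h] at h2
          exact h3 (Nat.dvd_one.mp h2)
        · exact h
      exact (Subgroup.eq_of_le_of_card_ge hBCA (by rw [h4, h5])).symm
    have hfpf : ∀ u ∈ Q, a * u * a⁻¹ * u⁻¹ ∈ zpowers z → u ∈ zpowers z := by
      intro u hu hau
      rw [← hBz] at hau ⊢
      have hAH : zpowers a ≤ normalizer (Q : Set Γ) := by
        rw [Subgroup.normalizer_eq_top]; exact le_top
      have hAN : zpowers a ≤ normalizer (B : Set Γ) := by
        rw [Subgroup.normalizer_eq_top]; exact le_top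
      have hcop : (Nat.card (zpowers a)).Coprime (Nat.card Q) := by
        rw [Nat.card_zpowers, hra]
        exact hQr.symm
      have hcm : ∀ α ∈ zpowers a, u * α * u⁻¹ * α⁻¹ ∈ B := by
        -- work in the quotient by B
        have hcomm1 : Commute ((a : Γ) : Γ ⧸ B) ((u : Γ) : Γ ⧸ B) := by
          have h1 : (((a * u * a⁻¹ * u⁻¹ : Γ)) : Γ ⧸ B) = 1 :=
            (QuotientGroup.eq_one_iff _).mpr hau
          have h2 : ((a : Γ) : Γ ⧸ B) * (u : Γ ⧸ B) * ((a : Γ) : Γ ⧸ B)⁻¹ * ((u : Γ) : Γ ⧸ B)⁻¹ = 1 := by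
            simpa using h1
          show ((a : Γ) : Γ ⧸ B) * (u : Γ ⧸ B) = (u : Γ ⧸ B) * ((a : Γ) : Γ ⧸ B)
          calc ((a : Γ) : Γ ⧸ B) * (u : Γ ⧸ B)
              = (((a : Γ) : Γ ⧸ B) * (u : Γ ⧸ B) * ((a : Γ) : Γ ⧸ B)⁻¹ * ((u : Γ) : Γ ⧸ B)⁻¹) *
                  ((u : Γ ⧸ B) * ((a : Γ) : Γ ⧸ B)) := by group
            _ = (u : Γ ⧸ B) * ((a : Γ) : Γ ⧸ B) := by rw [h2, one_mul]
        rintro _ ⟨k, rfl⟩
        have h3 : Commute (((a ^ k : Γ)) : Γ ⧸ B) ((u : Γ) : Γ ⧸ B) := by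
          have := hcomm1.zpow_left k
          simpa using this
        apply (QuotientGroup.eq_one_iff _).mp
        have h4 : ((u * a ^ k * u⁻¹ * (a ^ k)⁻¹ : Γ) : Γ ⧸ B)
            = (u : Γ ⧸ B) * ((a ^ k : Γ) : Γ ⧸ B) * (u : Γ ⧸ B)⁻¹ * ((a ^ k : Γ) : Γ ⧸ B)⁻¹ := by
          simp
        rw [h4, ← h3.eq]
        group
      obtain ⟨n, hn, c, hc, rfl⟩ :=
        Cfsg.Agent.Helper52.exists_mul_centralizer_of_comm_mem Q B (zpowers a) hBle hAH hAN hcop
          (Or.inr inferInstance) u hu hcm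
      have hcB : c ∈ B := by
        have : c ∈ CA := hc
        rwa [hCAB] at this
      exact B.mul_mem hn hcB
    have hφz : φ z ≠ 1 := fun h => hz1 (hfaith z hzQ h)
    have hxz : x * z = z * x := hXcen z hzB x (mem_zpowers x)
    have haz : a * z = z * a := haB' z hzB
    have hfin := hEX hs hr hps hpr hsr hp2 hs2 hr2 Q hQs z hzQ hzs hzc hcomm hcenter hnonab x a hxa
      hxp har (fun u hu => hQn.conj_mem u hu x) haQ hxz haz hfpf hφz hfix
    exact hu0 (hfin u0 hu0Q)

end Cfsg.Agent.Helper20.BG36
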