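import Mathlib
import Cfsg.Prelude.Def_TwoFusion

set_option autoImplicit false

namespace Cfsg.Agent.Helper20

variable {G : Type*} [Group G]

/-- conjugation of a power -/
lemma conj_pow' (a b : G) (n : ℕ) : a * b ^ n * a⁻¹ = (a * b * a⁻¹) ^ n := by
  rw [conj_pow]

lemma invol_inv {z : G} (hz : z * z = 1) : z⁻¹ = z := by
  exact inv_eq_of_mul_eq_one_left hz

lemma iso_sq {z : G} (hz : Cfsg.IsIsolatedInvolution z) : z * z = 1 := by
  have := hz.1
  have h2 : z ^ 2 = 1 := by rw [← this]; exact pow_orderOf_eq_one z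
  rwa [pow_two] at h2

lemma iso_ne_one {z : G} (hz : Cfsg.IsIsolatedInvolution z) : z ≠ 1 := by
  intro h
  have := hz.1
  rw [h, orderOf_one] at this
  omega

lemma iso_inv {z : G} (hz : Cfsg.IsIsolatedInvolution z) : z⁻¹ = z := invol_inv (iso_sq hz)

lemma iso_conj {z : G} (hz : Cfsg.IsIsolatedInvolution z) (g : G) :
    Cfsg.IsIsolatedInvolution (g * z * g⁻¹) := by
  refine ⟨?_, ?_⟩
  · have := orderOf_injective (MulAut.conj g).toMonoidHom (MulAut.conj g).injective z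
    simpa using this.trans hz.1
  · intro h hc
    have key := hz.2 (g⁻¹ * h * g) ?_
    · calc h * (g * z * g⁻¹) * h⁻¹ = g * ((g⁻¹ * h * g) * z * (g⁻¹ * h * g)⁻¹) * g⁻¹ := by group
        _ = g * z * g⁻¹ := by rw [key]
    · have hc' : (g * z * g⁻¹) * (h * (g * z * g⁻¹) * h⁻¹) = (h * (g * z * g⁻¹) * h⁻¹) * (g * z * g⁻¹) := hc
      show z * ((g⁻¹ * h * g) * z * (g⁻¹ * h * g)⁻¹) = ((g⁻¹ * h * g) * z * (g⁻¹ * h * g)⁻¹) * z
      have : g⁻¹ * ((g * z * g⁻¹) * (h * (g * z * g⁻¹) * h⁻¹)) * g = g⁻¹ * ((h * (g * z * g⁻¹) * h⁻¹) * (g * z * g⁻¹)) * g := by rw [hc']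
      calc z * ((g⁻¹ * h * g) * z * (g⁻¹ * h * g)⁻¹) = g⁻¹ * ((g * z * g⁻¹) * (h * (g * z * g⁻¹) * h⁻¹)) * g := by group
        _ = g⁻¹ * ((h * (g * z * g⁻¹) * h⁻¹) * (g * z * g⁻¹)) * g := this
        _ = _ := by group

section dihedral
variable {z t : G}

/-- for involutions `z, t`, `z` inverts `z * t` -/
lemma invol_conj_mul (hz : z * z = 1) (ht : t * t = 1) : z * (z * t) * z⁻¹ = (z * t)⁻¹ := by
  rw [invol_inv hz, mul_inv_rev, invol_inv hz, invol_inv ht]
  calc z * (z * t) * z = (z * z) * t * z := by group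
    _ = t * z := by rw [hz, one_mul]

lemma invol_conj_mul' (hz : z * z = 1) (ht : t * t = 1) : t * (z * t) * t⁻¹ = (z * t)⁻¹ := by
  rw [invol_inv ht, mul_inv_rev, invol_inv hz, invol_inv ht]
  calc t * (z * t) * t = t * z * (t * t) := by group
    _ = t * z := by rw [ht, mul_one]

lemma invol_conj_pow (hz : z * z = 1) (ht : t * t = 1) (n : ℕ) :
    z * (z * t) ^ n * z⁻¹ = ((z * t) ^ n)⁻¹ := by
  rw [conj_pow', invol_conj_mul hz ht, inv_pow]

lemma invol_conj_pow' (hz : z * z = 1) (ht : t * t = 1) (n : ℕ) :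
    t * (z * t) ^ n * t⁻¹ = ((z * t) ^ n)⁻¹ := by
  rw [conj_pow', invol_conj_mul' hz ht, inv_pow]

/-- `r^i z r^{-i} = r^{2i} z` -/
lemma rot_conj_z (hz : z * z = 1) (ht : t * t = 1) (n : ℕ) :
    (z * t) ^ n * z * ((z * t) ^ n)⁻¹ = (z * t) ^ (2 * n) * z := by
  have h := invol_conj_pow hz ht n
  rw [invol_inv hz] at h
  rw [← h, two_mul, pow_add]
  calc (z * t) ^ n * z * (z * (z * t) ^ n * z) = (z * t) ^ n * (z * z) * (z * t) ^ n * z := by group
    _ = _ := by rw [hz, mul_one]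

lemma rot_conj_t (hz : z * z = 1) (ht : t * t = 1) (n : ℕ) :
    (z * t) ^ n * t * ((z * t) ^ n)⁻¹ = (z * t) ^ (2 * n) * t := by
  have h := invol_conj_pow' hz ht n
  rw [invol_inv ht] at h
  rw [← h, two_mul, pow_add]
  calc (z * t) ^ n * t * (t * (z * t) ^ n * t) = (z * t) ^ n * (t * t) * (z * t) ^ n * t := by group
    _ = _ := by rw [ht, mul_one]

end dihedral


/-- the product of an isolated involution with a conjugate has odd order -/
lemma iso_odd [Finite G] {z : G} (hz : Cfsg.IsIsolatedInvolution z) (g : G) :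
    Odd (orderOf (z * (g * z * g⁻¹))) := by
  have hzz := iso_sq hz
  have htt : (g * z * g⁻¹) * (g * z * g⁻¹) = 1 := iso_sq (iso_conj hz g)
  generalize ht_def : g * z * g⁻¹ = t at htt ⊢
  by_contra hodd
  rw [Nat.not_odd_iff_even] at hodd
  obtain ⟨k, hk⟩ := hodd
  have hpos : 0 < orderOf (z * t) := orderOf_pos _
  have hk0 : 0 < k := by omega
  have hu2 : ((z * t) ^ k) * ((z * t) ^ k) = 1 := by rw [← pow_add, ← hk, pow_orderOf_eq_one]
  have hu1 : (z * t) ^ k ≠ 1 := by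
    intro h
    have := orderOf_le_of_pow_eq_one hk0 h
    omega
  have huz : z * (z * t) ^ k * z⁻¹ = (z * t) ^ k := by
    rw [invol_conj_pow hzz htt]; exact inv_eq_of_mul_eq_one_left hu2
  have hw : ∃ h : G, h * z * h⁻¹ = (z * t) ^ k * z := by
    rcases Nat.even_or_odd' k with ⟨j, hj | hj⟩
    · refine ⟨(z * t) ^ j, ?_⟩
      rw [rot_conj_z hzz htt, hj]
    · refine ⟨(z * t) ^ (j+1) * g, ?_⟩
      have : (z * t) ^ (j+1) * g * z * ((z * t) ^ (j+1) * g)⁻¹
          = (z * t) ^ (j+1) * t * ((z * t) ^ (j+1))⁻¹ := by rw [← ht_def]; group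
      rw [this, rot_conj_t hzz htt, hj]
      rw [show 2 * (j+1) = (2 * j + 1) + 1 by ring, pow_succ, mul_assoc]
      congr 1
      rw [mul_assoc, htt, mul_one]
  obtain ⟨h, hh⟩ := hw
  have key := hz.2 h ?_
  · rw [hh] at key
    exact hu1 (by simpa using key)
  · rw [hh]
    show z * ((z * t) ^ k * z) = (z * t) ^ k * z * z
    have : z * (z * t) ^ k = (z * t) ^ k * z := by
      calc z * (z * t) ^ k = (z * (z * t) ^ k * z⁻¹) * z := by group
        _ = _ := by rw [huz]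
    rw [← mul_assoc, this]

/-- for an isolated involution `z` and `g`, the canonical odd-order element inverted by `z`
conjugating `z` to `g z g⁻¹` -/
noncomputable def isoK (z g : G) : G := (z * (g * z * g⁻¹)) ^ (orderOf (z * (g * z * g⁻¹)) / 2)

lemma isoK_conj [Finite G] {z : G} (hz : Cfsg.IsIsolatedInvolution z) (g : G) :
    isoK z g * z * (isoK z g)⁻¹ = g * z * g⁻¹ := by
  have hzz := iso_sq hz
  have htt : (g * z * g⁻¹) * (g * z * g⁻¹) = 1 := iso_sq (iso_conj hz g)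
  obtain ⟨j, hj⟩ := iso_odd hz g
  unfold isoK
  generalize g * z * g⁻¹ = t at *
  rw [rot_conj_z hzz htt]
  have : 2 * (orderOf (z * t) / 2) + 1 = orderOf (z * t) := by omega
  have h1 : (z * t) ^ (2 * (orderOf (z * t) / 2)) * (z * t) = 1 := by
    rw [← pow_succ, this, pow_orderOf_eq_one]
  calc (z * t) ^ (2 * (orderOf (z * t) / 2)) * z
      = (z * t) ^ (2 * (orderOf (z * t) / 2)) * (z * t) * t := by
        rw [mul_assoc _ (z * t) t, mul_assoc z t t, htt, mul_one]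
    _ = t := by rw [h1, one_mul]

lemma isoK_inverted [Finite G] {z : G} (hz : Cfsg.IsIsolatedInvolution z) (g : G) :
    z * isoK z g * z⁻¹ = (isoK z g)⁻¹ := by
  have hzz := iso_sq hz
  have htt : (g * z * g⁻¹) * (g * z * g⁻¹) = 1 := iso_sq (iso_conj hz g)
  unfold isoK
  exact invol_conj_pow hzz htt _

lemma isoK_odd [Finite G] {z : G} (hz : Cfsg.IsIsolatedInvolution z) (g : G) :
    Odd (orderOf (isoK z g)) := by
  have h := iso_odd hz g
  unfold isoK
  have hd : orderOf ((z * (g * z * g⁻¹)) ^ (orderOf (z * (g * z * g⁻¹)) / 2)) ∣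
      orderOf (z * (g * z * g⁻¹)) := orderOf_pow_dvd _
  exact Odd.of_dvd_nat h hd

lemma isoK_mem_closure (z g : G) : isoK z g ∈ Subgroup.closure ({z, g * z * g⁻¹} : Set G) := by
  unfold isoK
  apply Subgroup.pow_mem
  apply Subgroup.mul_mem
  · exact Subgroup.subset_closure (by simp)
  · exact Subgroup.subset_closure (by simp)


lemma inverted_conj {z k : G} (h : z * k * z⁻¹ = k⁻¹) : k * z * k⁻¹ = k * k * z := by
  have h2 : z * k⁻¹ * z⁻¹ = k := by
    have := congrArg (·⁻¹) h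
    simp only [mul_inv_rev, inv_inv] at this
    rw [← mul_assoc] at this
    exact this
  calc k * z * k⁻¹ = k * (z * k⁻¹ * z⁻¹) * z := by group
    _ = k * k * z := by rw [h2]

lemma odd_sq_inj {a b : G} (ha : Odd (orderOf a)) (hb : Odd (orderOf b))
    (h : a * a = b * b) : a = b := by
  obtain ⟨e, he⟩ := ha.mul hb
  have ha' : a = (a * a) ^ (e + 1) := by
    rw [← pow_two, ← pow_mul, show 2 * (e+1) = (orderOf a * orderOf b) + 1 by omega, pow_succ,
      pow_mul, pow_orderOf_eq_one, one_pow, one_mul]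
  have hb' : b = (b * b) ^ (e + 1) := by
    rw [← pow_two, ← pow_mul, show 2 * (e+1) = (orderOf b * orderOf a) + 1 by rw [mul_comm (orderOf b)]; omega,
      pow_succ, pow_mul, pow_orderOf_eq_one, one_pow, one_mul]
  rw [ha', hb', h]

lemma iso_unique {z k k' : G} (hk : Odd (orderOf k)) (hk' : Odd (orderOf k'))
    (hi : z * k * z⁻¹ = k⁻¹) (hi' : z * k' * z⁻¹ = k'⁻¹)
    (h : k * z * k⁻¹ = k' * z * k'⁻¹) : k = k' := by
  rw [inverted_conj hi, inverted_conj hi'] at h
  exact odd_sq_inj hk hk' (mul_right_cancel h)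

/-- `g⁻¹ k ∈ C(z)` iff `k z k⁻¹ = g z g⁻¹` -/
lemma mem_centralizer_iff_conj_eq {z g k : G} :
    g⁻¹ * k ∈ Subgroup.centralizer ({z} : Set G) ↔ k * z * k⁻¹ = g * z * g⁻¹ := by
  rw [Subgroup.mem_centralizer_iff]
  constructor
  · intro h
    have := h z rfl
    calc k * z * k⁻¹ = g * (g⁻¹ * k * z) * k⁻¹ := by group
      _ = g * (z * (g⁻¹ * k)) * k⁻¹ := by rw [this]
      _ = _ := by group
  · intro h x hx
    rw [Set.mem_singleton_iff] at hx
    subst hx
    calc x * (g⁻¹ * k) = g⁻¹ * (g * x * g⁻¹) * k := by group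
      _ = g⁻¹ * (k * x * k⁻¹) * k := by rw [h]
      _ = _ := by group

end Cfsg.Agent.Helper20
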