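import Mathlib
import Cfsg.Prelude.Def_CaseTheorems
import Cfsg.Agent.Lib.Helper20.Isolated
import Cfsg.Agent.Lib.Helper55.Cores

set_option autoImplicit false
set_option linter.unusedSectionVars false
set_option linter.unusedVariables false
set_option linter.style.haveILetI false

namespace Cfsg.Agent.Helper20

universe u

/-- the conclusion of the `Z*`-theorem in the form of the statement `S0215`, as a hypothesis -/
def ZStarHyp : Prop :=
  ∀ (G : Type u) [Group G] [Finite G] (P : Sylow 2 G) (x : G), orderOf x = 2 → x ∈ P →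
    (∀ g : G, g * x * g⁻¹ ∈ P → g * x * g⁻¹ = x) →
    ∃ N : Subgroup G, N.Normal ∧ Odd (Nat.card N) ∧ ∀ g : G, (x * g * x⁻¹ * g⁻¹) ∈ N

/-- an isolated involution is the only one of its conjugates in a Sylow 2-subgroup containing it -/
theorem iso_unique_in_sylow {G : Type*} [Group G] [Finite G] {z : G}
    (hz : Cfsg.IsIsolatedInvolution z) (P : Sylow 2 G) (hzP : z ∈ P) (g : G)
    (hg : g * z * g⁻¹ ∈ P) : g * z * g⁻¹ = z := by
  have hodd := iso_odd hz g
  have hmem : z * (g * z * g⁻¹) ∈ (P : Subgroup G) := Subgroup.mul_mem _ hzP hg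
  obtain ⟨k, hk⟩ := (IsPGroup.iff_orderOf.mp P.isPGroup') ⟨_, hmem⟩
  rw [Subgroup.orderOf_mk] at hk
  rw [hk] at hodd
  have hk0 : k = 0 := by
    by_contra h
    have : Even (2 ^ k) := (Nat.even_pow' h).mpr even_two
    exact (Nat.not_odd_iff_even.mpr this) hodd
  rw [hk0, pow_zero, orderOf_eq_one_iff] at hk
  have h1 : g * z * g⁻¹ = z⁻¹ := (inv_eq_of_mul_eq_one_right hk).symm
  rw [h1, iso_inv hz]

/-- an isolated involution lies in some Sylow 2-subgroup -/
theorem iso_mem_sylow {G : Type*} [Group G] [Finite G] {z : G}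
    (hz : Cfsg.IsIsolatedInvolution z) : ∃ P : Sylow 2 G, z ∈ P := by
  haveI : Fact (Nat.Prime 2) := ⟨Nat.prime_two⟩
  have hp : IsPGroup 2 (Subgroup.zpowers z) := by
    apply IsPGroup.of_card (n := 1)
    rw [Nat.card_zpowers, hz.1, pow_one]
  obtain ⟨P, hP⟩ := hp.exists_le_sylow
  exact ⟨P, hP (Subgroup.mem_zpowers z)⟩

/-- the `Z*`-theorem for isolated involutions, from `ZStarHyp` -/
theorem zstar_of_isolated (h : ZStarHyp.{u}) {G : Type u} [Group G] [Finite G] (z : G)
    (hz : Cfsg.IsIsolatedInvolution z) (g : G) : z * g * z⁻¹ * g⁻¹ ∈ Cfsg.oddCore G := by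
  obtain ⟨P, hzP⟩ := iso_mem_sylow hz
  obtain ⟨N, hN, hodd, hcomm⟩ := h G P z hz.1 hzP (fun g hg => iso_unique_in_sylow hz P hzP g hg)
  have hcop : (Nat.card N).Coprime 2 := (Nat.coprime_two_right).mpr hodd
  exact Cfsg.Agent.Helper55.le_pPrimeCore hN hcop (hcomm g)

end Cfsg.Agent.Helper20
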