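import Mathlib
import Cfsg.Agent.Lib.Helper52.Coprime
import Cfsg.Agent.Lib.Helper1.ZCoprime
import Cfsg.Agent.Lib.Helper90.BG157B

/-!
# BG157-E2 (A) (helper49 sub-server for S1383): a `K`-invariant subgroup `L` of order `p ^ 2`
between `Z` and `P` gives `#K ∣ p - 1`
-/

set_option autoImplicit false

namespace Cfsg.Agent.Helper20.BG157

open Subgroup

variable {G : Type*} [Group G] [Finite G]

theorem card_dvd_pred_of_invariant {p : ℕ} [Fact p.Prime] (P K Z L : Subgroup G)
    (hcop : (Nat.card K).Coprime p) (hZ : Nat.card Z = p) (hZK : K ≤ centralizer (Z : Set G))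
    (hfix : ∀ k ∈ K, k ≠ 1 → P ⊓ centralizer ({k} : Set G) = Z)
    (hZL : Z ≤ L) (hLP : L ≤ P) (hL : Nat.card L = p ^ 2) (hKL : K ≤ normalizer (L : Set G)) :
    Nat.card K ∣ p - 1 := by
  have hp : p.Prime := Fact.out
  by_cases hK : K = ⊥
  · rw [hK, Subgroup.card_bot]
    exact one_dvd _
  obtain ⟨k₀, hk₀K, hk₀1⟩ := (Subgroup.ne_bot_iff_exists_ne_one).mp hK |> fun ⟨x, hx⟩ =>
    (⟨(x : G), x.2, fun h => hx (Subtype.ext h)⟩ : ∃ k : G, k ∈ K ∧ k ≠ 1)
  -- `L` is abelian and solvable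
  have hLp : IsPGroup p L := IsPGroup.of_card hL
  haveI hLcomm : IsMulCommutative L := IsPGroup.isMulCommutative_of_card_eq_prime_sq hL
  have hLsolv : Group.IsSolvable L := by
    haveI := hLp.isNilpotent
    infer_instance
  have hcopKL : (Nat.card K).Coprime (Nat.card L) := by
    rw [hL]
    exact Nat.Coprime.pow_right 2 hcop
  have hsup : L = ⁅L, K⁆ ⊔ (L ⊓ centralizer (K : Set G)) :=
    Cfsg.Agent.Helper52.eq_commutator_sup_centralizer L K hKL hcopKL (Or.inr hLsolv)
  have hbot : ⁅L, K⁆ ⊓ centralizer (K : Set G) = ⊥ :=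
    Cfsg.Agent.Helper1.ZCoprime.commutator_inf_centralizer_eq_bot K L hKL hcopKL
  have hZCK : Z ≤ centralizer (K : Set G) := (Subgroup.le_centralizer_iff).mp hZK
  have hCL : L ⊓ centralizer (K : Set G) = Z := by
    apply le_antisymm
    · rw [← hfix k₀ hk₀K hk₀1]
      refine le_inf (inf_le_left.trans hLP) (inf_le_right.trans ?_)
      apply Subgroup.centralizer_le
      rw [Set.singleton_subset_iff]
      exact hk₀K
    · exact le_inf hZL hZCK
  rw [hCL] at hsup
  set L1 := ⁅L, K⁆ with hL1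
  have hL1L : L1 ≤ L := by
    rw [hsup]
    exact le_sup_left
  have hL1Z : L1 ⊓ Z = ⊥ := by
    rw [eq_bot_iff, ← hbot]
    exact le_inf inf_le_left (inf_le_right.trans hZCK)
  have hZne : Z ≠ ⊥ := by
    intro h
    rw [h, Subgroup.card_bot] at hZ
    exact hp.one_lt.ne hZ
  have hL1ne : L1 ≠ ⊥ := by
    intro h
    rw [h, bot_sup_eq] at hsup
    rw [hsup, hZ] at hL
    have := hp.one_lt
    nlinarith
  have hL1neL : L1 ≠ L := by
    intro h
    apply hZne
    rw [eq_bot_iff, ← hL1Z, h]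
    exact le_inf hZL le_rfl
  have hL1card : Nat.card L1 = p := by
    have hdvd : Nat.card L1 ∣ p ^ 2 := hL ▸ Subgroup.card_dvd_of_le hL1L
    obtain ⟨m, hm2, hm⟩ := (Nat.dvd_prime_pow hp).mp hdvd
    interval_cases m
    · exfalso
      apply hL1ne
      rw [pow_zero] at hm
      exact (Subgroup.card_eq_one).mp hm
    · rw [hm, pow_one]
    · exfalso
      apply hL1neL
      exact Subgroup.eq_of_le_of_card_ge hL1L (by rw [hm, hL])
  have hKL1 : K ≤ normalizer (L1 : Set G) := normalizer_commutator_ge_right L K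
  apply Cfsg.Agent.Helper90.BG157.card_dvd_pred_of_faithful K L1 hL1card hKL1
  intro k hk hk1 hcon
  apply hL1ne
  rw [eq_bot_iff, ← hL1Z]
  refine le_inf le_rfl ?_
  rw [← hfix k hk hk1]
  exact le_inf (hL1L.trans hLP) hcon

end Cfsg.Agent.Helper20.BG157
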