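import Mathlib

/-!
# BG157-E2 (F) (helper49 sub-server for S1383): an element `k` of odd prime order `s ∣ p - 1`
normalizing the nonabelian group `P` of order `p ^ 3` and centralizing `Z = Z(P)` normalizes some
`L` of order `p ^ 2` with `Z ≤ L ≤ P`
-/

set_option autoImplicit false

namespace Cfsg.Agent.Helper20.BG157

open Subgroup

variable {G : Type*} [Group G] [Finite G]

theorem exists_invariant_of_prime {p s : ℕ} [Fact p.Prime] (hs : s.Prime) (hs2 : s ≠ 2) (hsp : s ∣ p - 1)
    (P Z : Subgroup G) (hPc : Nat.card P = p ^ 3) (hPna : ¬ IsMulCommutative P)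
    (hZ : Nat.card Z = p) (hZP : Z ≤ P) (hZc : P ≤ centralizer (Z : Set G))
    (k : G) (hk : orderOf k = s) (hkP : k ∈ normalizer (P : Set G)) (hkZ : k ∈ centralizer (Z : Set G)) :
    ∃ L : Subgroup G, Z ≤ L ∧ L ≤ P ∧ Nat.card L = p ^ 2 ∧ k ∈ normalizer (L : Set G) := by
  classical
  have hp : p.Prime := Fact.out
  haveI : Fact s.Prime := ⟨hs⟩
  have hZcP : Z ≤ centralizer (P : Set G) := (Subgroup.le_centralizer_iff).mp hZc
  -- Step 1: `Z ⊔ zpowers x` has order `p ^ 2` for `x ∈ P \ Z`
  have key : ∀ x ∈ P, x ∉ Z → Nat.card (Z ⊔ zpowers x : Subgroup G) = p ^ 2 := by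
    intro x hxP hxZ
    set Lx := Z ⊔ zpowers x with hLx
    have hxLx : x ∈ Lx := (le_sup_right : zpowers x ≤ Lx) (mem_zpowers x)
    have hzx : zpowers x ≤ P := by rw [zpowers_le]; exact hxP
    have hLxP : Lx ≤ P := sup_le hZP hzx
    have hcomm : Lx ≤ centralizer (Lx : Set G) := by
      apply sup_le
      · exact hZcP.trans (Subgroup.centralizer_le (fun y hy => hLxP hy))
      · rw [Subgroup.le_centralizer_iff]
        apply sup_le
        · exact hZcP.trans (Subgroup.centralizer_le (fun y hy => hzx hy))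
        · exact le_centralizer_iff_isMulCommutative.mpr inferInstance
    have hLxcomm : IsMulCommutative Lx := le_centralizer_iff_isMulCommutative.mp hcomm
    have hne : Lx ≠ P := by
      intro h
      exact hPna (h ▸ hLxcomm)
    have hdvd : Nat.card Lx ∣ p ^ 3 := hPc ▸ Subgroup.card_dvd_of_le hLxP
    obtain ⟨m, hm3, hm⟩ := (Nat.dvd_prime_pow hp).mp hdvd
    have hgt : p < Nat.card Lx := by
      by_contra hle
      rw [not_lt] at hle
      have h1 : Z = Lx := Subgroup.eq_of_le_of_card_ge le_sup_left (by rw [hZ]; exact hle)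
      exact hxZ (h1 ▸ hxLx)
    have hlt : Nat.card Lx < p ^ 3 := by
      by_contra hge
      rw [not_lt] at hge
      exact hne (Subgroup.eq_of_le_of_card_ge hLxP (by rw [hPc]; exact hge))
    rw [hm] at hgt hlt ⊢
    have h1 : 1 < m := by
      by_contra h
      rw [not_lt] at h
      have h2 : p ^ m ≤ p ^ 1 := Nat.pow_le_pow_right hp.pos h
      rw [pow_one] at h2
      omega
    have h2 : m < 3 := (Nat.pow_lt_pow_iff_right hp.one_lt).mp hlt
    have h3 : m = 2 := by omega
    rw [h3]
  -- Step 2: uniqueness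
  have huniq : ∀ L : Subgroup G, Z ≤ L → L ≤ P → Nat.card L = p ^ 2 → ∀ x ∈ L, x ∉ Z →
      Z ⊔ zpowers x = L := by
    intro L hZL hLP hL x hxL hxZ
    exact Subgroup.eq_of_le_of_card_ge (sup_le hZL (by rw [zpowers_le]; exact hxL))
      (by rw [key x (hLP hxL) hxZ, hL])
  -- Step 3: counting
  have := Fintype.ofFinite G
  have := Fintype.ofFinite (Subgroup G)
  have hcardF : ∀ H : Subgroup G, (Finset.univ.filter (fun x => x ∈ H)).card = Nat.card H := by
    intro H
    rw [Nat.card_eq_fintype_card, Fintype.card_subtype]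
  have hsdiff : ∀ H : Subgroup G, Z ≤ H →
      ((Finset.univ.filter (fun x => x ∈ H)) \ (Finset.univ.filter (fun x => x ∈ Z))).card =
        Nat.card H - p := by
    intro H hZH
    rw [Finset.card_sdiff_of_subset, hcardF, hcardF, hZ]
    intro x hx
    simp only [Finset.mem_filter, Finset.mem_univ, true_and] at hx ⊢
    exact hZH hx
  set X : Finset G := (Finset.univ.filter (fun x => x ∈ P)) \ (Finset.univ.filter (fun x => x ∈ Z))
    with hX
  have hXmem : ∀ x, x ∈ X ↔ x ∈ P ∧ x ∉ Z := by
    intro x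
    simp [hX]
  set t : Finset (Subgroup G) :=
    Finset.univ.filter (fun L => Z ≤ L ∧ L ≤ P ∧ Nat.card L = p ^ 2) with ht
  have htmem : ∀ L, L ∈ t ↔ Z ≤ L ∧ L ≤ P ∧ Nat.card L = p ^ 2 := by
    intro L
    simp [ht]
  have hmaps : ∀ x ∈ X, (Z ⊔ zpowers x : Subgroup G) ∈ t := by
    intro x hx
    obtain ⟨hxP, hxZ⟩ := (hXmem x).mp hx
    exact (htmem _).mpr ⟨le_sup_left, sup_le hZP (by rw [zpowers_le]; exact hxP), key x hxP hxZ⟩
  have hfiber : ∀ L ∈ t, (X.filter (fun x => (Z ⊔ zpowers x : Subgroup G) = L)).card = p ^ 2 - p := by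
    intro L hL
    obtain ⟨hZL, hLP, hLc⟩ := (htmem L).mp hL
    rw [← hLc, ← hsdiff L hZL]
    congr 1
    ext x
    simp only [Finset.mem_filter, Finset.mem_sdiff, Finset.mem_univ, true_and, hXmem]
    constructor
    · rintro ⟨⟨hxP, hxZ⟩, hxL⟩
      refine ⟨?_, hxZ⟩
      rw [← hxL]
      exact (le_sup_right : zpowers x ≤ Z ⊔ zpowers x) (mem_zpowers x)
    · rintro ⟨hxL, hxZ⟩
      exact ⟨⟨hLP hxL, hxZ⟩, huniq L hZL hLP hLc x hxL hxZ⟩
  have hXcard : X.card = p ^ 3 - p := by
    rw [hX, hsdiff P hZP, hPc]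
  have hsum : X.card = t.card * (p ^ 2 - p) := by
    rw [Finset.card_eq_sum_card_fiberwise hmaps, Finset.sum_congr rfl hfiber, Finset.sum_const,
      smul_eq_mul]
  have htcard : t.card = p + 1 := by
    have h2 := hp.two_le
    have hm : p ^ 2 = (p ^ 2 - p) + p := (Nat.sub_add_cancel (by nlinarith)).symm
    have hmpos : 0 < p ^ 2 - p := by
      have : p < p ^ 2 := by nlinarith
      omega
    have h3 : p ^ 3 - p = (p + 1) * (p ^ 2 - p) := by
      have h4 : p ^ 3 = (p + 1) * (p ^ 2 - p) + p := by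
        set m := p ^ 2 - p with hmdef
        have hm' : p * p = m + p := by rw [← pow_two]; exact hm
        calc p ^ 3 = p * (p * p) := by ring
          _ = p * (m + p) := by rw [hm']
          _ = p * m + p * p := by ring
          _ = p * m + (m + p) := by rw [hm']
          _ = (p + 1) * m + p := by ring
      omega
    rw [hXcard, h3] at hsum
    exact (Nat.eq_of_mul_eq_mul_right hmpos hsum).symm
  -- Step 4: the action of `zpowers k` on the set of such `L`
  let α := {L : Subgroup G // Z ≤ L ∧ L ≤ P ∧ Nat.card L = p ^ 2}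
  have hαcard : Nat.card α = p + 1 := by
    rw [Nat.card_eq_fintype_card, Fintype.card_subtype, ← htcard]
  have hcN : ∀ c ∈ zpowers k, c ∈ normalizer (P : Set G) := by
    intro c hc
    exact (zpowers_le.mpr hkP) hc
  have hcZ : ∀ c ∈ zpowers k, c ∈ centralizer (Z : Set G) := by
    intro c hc
    exact (zpowers_le.mpr hkZ) hc
  have hmapmem : ∀ (c : G) (L : Subgroup G) (x : G),
      x ∈ L.map (MulAut.conj c).toMonoidHom ↔ ∃ y ∈ L, c * y * c⁻¹ = x := by
    intro c L x
    rw [Subgroup.mem_map]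
    rfl
  have hprop : ∀ c ∈ zpowers k, ∀ L : α,
      Z ≤ (L.1.map (MulAut.conj c).toMonoidHom) ∧ (L.1.map (MulAut.conj c).toMonoidHom) ≤ P ∧
        Nat.card (L.1.map (MulAut.conj c).toMonoidHom) = p ^ 2 := by
    intro c hc L
    refine ⟨?_, ?_, ?_⟩
    · intro z hz
      rw [hmapmem]
      refine ⟨z, L.2.1 hz, ?_⟩
      have h1 := (mem_centralizer_iff.mp (hcZ c hc)) z hz
      rw [← h1, mul_inv_cancel_right]
    · intro x hx
      rw [hmapmem] at hx
      obtain ⟨y, hy, rfl⟩ := hx
      exact (mem_normalizer_iff.mp (hcN c hc) y).mp (L.2.2.1 hy)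
    · rw [Subgroup.card_map_of_injective (MulAut.conj c).injective]
      exact L.2.2.2
  letI act : MulAction (zpowers k) α :=
    { smul := fun c L => ⟨L.1.map (MulAut.conj (c : G)).toMonoidHom, hprop c c.2 L⟩
      one_smul := by
        intro L
        apply Subtype.ext
        show L.1.map (MulAut.conj ((1 : zpowers k) : G)).toMonoidHom = L.1
        ext x
        rw [hmapmem]
        simp
      mul_smul := by
        intro c d L
        apply Subtype.ext
        show L.1.map (MulAut.conj ((c * d : zpowers k) : G)).toMonoidHom =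
          (L.1.map (MulAut.conj (d : G)).toMonoidHom).map (MulAut.conj (c : G)).toMonoidHom
        ext x
        rw [hmapmem, hmapmem]
        constructor
        · rintro ⟨y, hy, rfl⟩
          refine ⟨(d : G) * y * (d : G)⁻¹, (hmapmem _ _ _).mpr ⟨y, hy, rfl⟩, ?_⟩
          simp only [Subgroup.coe_mul]
          group
        · rintro ⟨w, hw, rfl⟩
          obtain ⟨y, hy, rfl⟩ := (hmapmem _ _ _).mp hw
          refine ⟨y, hy, ?_⟩
          simp only [Subgroup.coe_mul]
          group }
  have hsmul : ∀ (c : zpowers k) (L : α), ((c • L : α) : Subgroup G) =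
      L.1.map (MulAut.conj (c : G)).toMonoidHom := fun c L => rfl
  have hPG : IsPGroup s (zpowers k) := by
    apply IsPGroup.of_card (n := 1)
    rw [Nat.card_zpowers, hk, pow_one]
  have hmod := hPG.card_modEq_card_fixedPoints α
  rw [hαcard] at hmod
  -- there is a fixed point
  have hex : (MulAction.fixedPoints (zpowers k) α).Nonempty := by
    by_contra hne
    rw [Set.not_nonempty_iff_eq_empty] at hne
    rw [hne] at hmod
    have h0 : Nat.card (∅ : Set α) = 0 := by simp
    rw [h0] at hmod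
    have h1 : s ∣ p + 1 := (Nat.modEq_zero_iff_dvd).mp hmod
    have h2 : s ∣ (p + 1) - (p - 1) := Nat.dvd_sub h1 hsp
    have h3 : (p + 1) - (p - 1) = 2 := by
      have := hp.two_le
      omega
    rw [h3] at h2
    rcases (Nat.dvd_prime Nat.prime_two).mp h2 with h4 | h4
    · exact hs.one_lt.ne' h4
    · exact hs2 h4
  obtain ⟨L, hLfix⟩ := hex
  refine ⟨L.1, L.2.1, L.2.2.1, L.2.2.2, ?_⟩
  have hkL : L.1.map (MulAut.conj k).toMonoidHom = L.1 := by
    have h1 := hLfix ⟨k, mem_zpowers k⟩
    have h2 := congrArg Subtype.val h1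
    rw [hsmul] at h2
    exact h2
  rw [mem_normalizer_iff]
  intro h
  constructor
  · intro hh
    rw [← hkL, hmapmem]
    exact ⟨h, hh, rfl⟩
  · intro hh
    rw [← hkL, hmapmem] at hh
    obtain ⟨y, hy, hyh⟩ := hh
    have : y = h := by
      have h1 : k * y = k * h := mul_right_cancel hyh
      exact mul_left_cancel h1
    rwa [← this]

end Cfsg.Agent.Helper20.BG157
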