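import Mathlib
import Cfsg.Agent.Lib.Helper33.CentricFusion
import Cfsg.Agent.Lib.Helper2.Frobenius

set_option autoImplicit false
set_option linter.unusedSectionVars false
set_option linter.unusedSimpArgs false
set_option linter.unusedVariables false

namespace Cfsg.Agent.Helper20

open Cfsg.Agent.Helper33
open Pointwise

/-- a preorder on elements respected by the steps of a chain is respected by the chain -/
theorem chain_preorder {G : Type*} [Group G] (𝓕 : Set (Subgroup G)) (r : G → G → Prop)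
    (hrefl : ∀ a, r a a) (htrans : ∀ a b c, r a b → r b c → r a c)
    (hstep : ∀ T ∈ 𝓕, ∀ x ∈ Subgroup.normalizer (T : Set G), ∀ a ∈ T, r a (x⁻¹ * a * x)) :
    ∀ (l : List (Subgroup G × G)) (A : Set G), IsChainR 𝓕 A l → ∀ a ∈ A,
      r a ((l.map Prod.snd).prod⁻¹ * a * (l.map Prod.snd).prod) := by
  intro l
  induction l with
  | nil =>
    intro A _ a _
    simpa using hrefl a
  | cons hd tl ih =>
    intro A h a ha
    obtain ⟨T, x⟩ := hd
    obtain ⟨hT, hx, hAT, hrest⟩ := h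
    have h1 := hstep T hT x hx a (hAT ha)
    have h2 := ih (rc x A) hrest (x⁻¹ * a * x) ⟨a, ha, rfl⟩
    have e : ((((T, x) :: tl).map Prod.snd).prod)⁻¹ * a * (((T, x) :: tl).map Prod.snd).prod =
        (tl.map Prod.snd).prod⁻¹ * (x⁻¹ * a * x) * (tl.map Prod.snd).prod := by
      simp only [List.map_cons, List.prod_cons]
      group
    rw [e]
    exact htrans _ _ _ h1 h2

/-- The Alperin–Goldschmidt theorem for a preorder on elements. -/
theorem alperin_preorder {G : Type*} [Group G] [Finite G] {p : ℕ} [Fact p.Prime] (P : Sylow p G)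
    (r : G → G → Prop) (hrefl : ∀ a, r a a) (htrans : ∀ a b c, r a b → r b c → r a c)
    (hstep : ∀ T ∈ centricFN P, ∀ x ∈ Subgroup.normalizer (T : Set G), ∀ a ∈ T,
      r a (x⁻¹ * a * x))
    (a : G) (ha : a ∈ (P : Subgroup G)) (g : G) (hg : g⁻¹ * a * g ∈ (P : Subgroup G)) :
    r a (g⁻¹ * a * g) := by
  have hA : Subgroup.zpowers a ≤ (P : Subgroup G) := by
    rw [Subgroup.zpowers_le]; exact ha
  have hAg : MulAut.conj g⁻¹ • Subgroup.zpowers a ≤ (P : Subgroup G) := by
    rw [conj_smul_le_iff]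
    rintro _ ⟨k, rfl⟩
    rw [inv_inv]
    have : g⁻¹ * a ^ k * g = (g⁻¹ * a * g) ^ k := by
      have := map_zpow (MulAut.conj g⁻¹) a k
      simpa [MulAut.conj_apply] using this
    rw [this]
    exact Subgroup.zpow_mem _ hg k
  obtain ⟨g', hagree, l, hl, hprod⟩ := reachA_centric P (Subgroup.zpowers a) hA g hAg
  have h1 := chain_preorder (centricFN P) r hrefl htrans hstep l _ hl a
    (Subgroup.mem_zpowers a)
  rw [hprod, hagree a (Subgroup.mem_zpowers a)] at h1
  exact h1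

/-- If every fully normalized centric subgroup `T` has `N_G(T)` acting on `T` as elements of the
Sylow subgroup do, then the Sylow subgroup controls strong fusion. -/
theorem alperin_controls {G : Type*} [Group G] [Finite G] {p : ℕ} [Fact p.Prime] (P : Sylow p G)
    (hloc : ∀ T ∈ centricFN P, ∀ x ∈ Subgroup.normalizer (T : Set G),
      ∃ s ∈ (P : Subgroup G), ∀ b ∈ T, s⁻¹ * b * s = x⁻¹ * b * x)
    (A : Subgroup G) (hA : A ≤ (P : Subgroup G)) (g : G)
    (hg : MulAut.conj g⁻¹ • A ≤ (P : Subgroup G)) :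
    ∃ s ∈ (P : Subgroup G), ∀ a ∈ A, s⁻¹ * a * s = g⁻¹ * a * g := by
  have h1 := reachA_centric P A hA g hg
  have h2 : Good (fun x => x ∈ (P : Subgroup G)) Set.univ (A : Set G) g := by
    refine ReachA.bind ?_ h1
    intro T hT x hx y hy
    obtain ⟨s, hs, hsx⟩ := hloc T hT x hx
    have h3 : Good (fun x => x ∈ (P : Subgroup G)) Set.univ (rc y (A : Set G)) s :=
      Good.single hs (Set.subset_univ _)
    exact h3.of_agree (fun a ha => (hsx a (hy ha)).symm)
  obtain ⟨l, hl, hla⟩ := h2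
  refine ⟨l.prod, ?_, hla⟩
  clear hla h1
  generalize (A : Set G) = A' at hl
  induction l generalizing A' with
  | nil => simp
  | cons x tl ih =>
    rw [List.prod_cons]
    exact Subgroup.mul_mem _ hl.1 (ih _ hl.2.2)

theorem normalizer_le_normalizer_centralizer_aux {G : Type*} [Group G] (T : Subgroup G) :
    Subgroup.normalizer (T : Set G) ≤
      Subgroup.normalizer ((Subgroup.centralizer (T : Set G) : Subgroup G) : Set G) := by
  have key : ∀ t ∈ Subgroup.normalizer (T : Set G), ∀ c ∈ Subgroup.centralizer (T : Set G),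
      t * c * t⁻¹ ∈ Subgroup.centralizer (T : Set G) := by
    intro t ht c hc
    rw [Subgroup.mem_centralizer_iff] at hc ⊢
    intro y hy
    have hy' : t⁻¹ * y * t ∈ T := by
      have := (Subgroup.mem_normalizer_iff.mp (Subgroup.inv_mem _ ht) y).mp hy
      simpa using this
    have h2 := hc _ hy'
    calc y * (t * c * t⁻¹) = t * ((t⁻¹ * y * t) * c) * t⁻¹ := by group
      _ = t * (c * (t⁻¹ * y * t)) * t⁻¹ := by rw [h2]
      _ = t * c * t⁻¹ * y := by group
  intro t ht
  rw [Subgroup.mem_normalizer_iff]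
  intro c
  refine ⟨key t ht c, fun hc => ?_⟩
  have := key t⁻¹ (Subgroup.inv_mem _ ht) _ hc
  have e1 : t⁻¹ * (t * c * t⁻¹) * t⁻¹⁻¹ = c := by group
  rwa [e1] at this

/-- control of strong fusion gives Frobenius' condition -/
theorem frobCond_of_controls {G : Type*} [Group G] [Finite G] {p : ℕ} [hp : Fact p.Prime]
    (P : Sylow p G)
    (hctl : ∀ A : Subgroup G, A ≤ (P : Subgroup G) → ∀ g : G,
      MulAut.conj g⁻¹ • A ≤ (P : Subgroup G) →
      ∃ s ∈ (P : Subgroup G), ∀ a ∈ A, s⁻¹ * a * s = g⁻¹ * a * g) :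
    Cfsg.Agent.Helper2.FrobCond p G := by
  apply Cfsg.Agent.Helper2.frobCond_of_sylow P
  intro Q hQ g hg hgo
  have hg' : MulAut.conj g⁻¹ • Q ≤ (P : Subgroup G) := by
    rw [smul_eq_of_mem_normalizer (Subgroup.inv_mem _ hg)]; exact hQ
  obtain ⟨s, hs, hsg⟩ := hctl Q hQ g hg'
  have hc : g * s⁻¹ ∈ Subgroup.centralizer (Q : Set G) := by
    rw [Subgroup.mem_centralizer_iff]
    intro a ha
    have h1 := hsg a ha
    have h2 : a = s * (g⁻¹ * a * g) * s⁻¹ := by rw [← h1]; group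
    calc a * (g * s⁻¹) = g * (g⁻¹ * a * g) * s⁻¹ := by group
      _ = g * (s⁻¹ * a * s) * s⁻¹ := by rw [h1]
      _ = g * s⁻¹ * a := by group
  have hcN : g * s⁻¹ ∈ Subgroup.normalizer (Q : Set G) := Subgroup.centralizer_le_normalizer _ hc
  have hsN : s ∈ Subgroup.normalizer (Q : Set G) := by
    have : s = (g * s⁻¹)⁻¹ * g := by group
    rw [this]
    exact Subgroup.mul_mem _ (Subgroup.inv_mem _ hcN) hg
  have hker : (⟨g * s⁻¹, hcN⟩ : ↥(Subgroup.normalizer (Q : Set G))) ∈ Q.normalizerMonoidHom.ker := by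
    rw [Subgroup.normalizerMonoidHom_ker, Subgroup.mem_subgroupOf]; exact hc
  have heq : Q.normalizerMonoidHom ⟨g, hg⟩ = Q.normalizerMonoidHom ⟨s, hsN⟩ := by
    have h1 : (⟨g, hg⟩ : ↥(Subgroup.normalizer (Q : Set G))) = ⟨g * s⁻¹, hcN⟩ * ⟨s, hsN⟩ := by
      apply Subtype.ext; simp
    rw [h1, map_mul, MonoidHom.mem_ker.mp hker, one_mul]
  have h1 : orderOf (Q.normalizerMonoidHom ⟨g, hg⟩) ∣ orderOf g := by
    have := orderOf_map_dvd Q.normalizerMonoidHom (⟨g, hg⟩ : ↥(Subgroup.normalizer (Q : Set G)))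
    rwa [Subgroup.orderOf_mk] at this
  have h2 : orderOf (Q.normalizerMonoidHom ⟨s, hsN⟩) ∣ orderOf s := by
    have := orderOf_map_dvd Q.normalizerMonoidHom (⟨s, hsN⟩ : ↥(Subgroup.normalizer (Q : Set G)))
    rwa [Subgroup.orderOf_mk] at this
  obtain ⟨k, hk⟩ := (IsPGroup.iff_orderOf.mp P.isPGroup') ⟨s, hs⟩
  rw [Subgroup.orderOf_mk] at hk
  rw [← heq, hk] at h2
  have h3 : orderOf (Q.normalizerMonoidHom ⟨g, hg⟩) = 1 := by
    have hcop : Nat.Coprime (orderOf g) (p ^ k) := Nat.Coprime.pow_right k hgo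
    exact Nat.eq_one_of_dvd_coprimes hcop h1 h2
  have h4 : (⟨g, hg⟩ : ↥(Subgroup.normalizer (Q : Set G))) ∈ Q.normalizerMonoidHom.ker :=
    MonoidHom.mem_ker.mpr (orderOf_eq_one_iff.mp h3)
  rw [Subgroup.normalizerMonoidHom_ker, Subgroup.mem_subgroupOf] at h4
  exact h4

/-- if `Aut(T)` is a `p`-group and `N_P(T)` is a Sylow subgroup of `N_G(T)`, then `N_G(T)` acts on
`T` as `N_P(T)` does -/
theorem local_of_aut_pgroup {G : Type*} [Group G] [Finite G] {p : ℕ} [hp : Fact p.Prime]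
    (P : Sylow p G) (T : Subgroup G)
    (hsyl : IsSylIn p ((P : Subgroup G) ⊓ Subgroup.normalizer (T : Set G))
      (Subgroup.normalizer (T : Set G)))
    (haut : IsPGroup p (MulAut ↥T)) (x : G) (hx : x ∈ Subgroup.normalizer (T : Set G)) :
    ∃ s ∈ (P : Subgroup G), ∀ b ∈ T, s⁻¹ * b * s = x⁻¹ * b * x := by
  set N := Subgroup.normalizer (T : Set G) with hN
  set C := Subgroup.centralizer (T : Set G) with hC
  set R := (P : Subgroup G) ⊓ N with hR
  have hCN : C ≤ N := Subgroup.centralizer_le_normalizer _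
  have hRN : R ≤ N := inf_le_right
  have h1 : (R ⊔ C).relIndex N ∣ R.relIndex N := Subgroup.relIndex_dvd_of_le_left N le_sup_left
  have h2 : (R ⊔ C).relIndex N ∣ C.relIndex N := Subgroup.relIndex_dvd_of_le_left N le_sup_right
  have h3 : ∃ k : ℕ, C.relIndex N = p ^ k := by
    have : C.relIndex N = Nat.card T.normalizerMonoidHom.range := by
      rw [← Subgroup.index_ker, Subgroup.normalizerMonoidHom_ker]; rfl
    rw [this]
    exact IsPGroup.iff_card.mp (haut.to_subgroup _)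
  obtain ⟨k, hk⟩ := h3
  rw [hk] at h2
  obtain ⟨j, -, hj⟩ := (Nat.dvd_prime_pow hp.out).mp h2
  have hj0 : j = 0 := by
    by_contra hne
    have : p ∣ (R ⊔ C).relIndex N := by
      rw [hj]; exact dvd_pow_self p hne
    exact hsyl.not_dvd (this.trans h1)
  rw [hj0, pow_zero, Subgroup.relIndex_eq_one] at hj
  have hxm : x ∈ ((R ⊔ C : Subgroup G) : Set G) := hj hx
  have hRC : R ≤ Subgroup.normalizer (C : Set G) :=
    hRN.trans (normalizer_le_normalizer_centralizer_aux T)
  rw [Subgroup.coe_mul_of_left_le_normalizer_right R C hRC] at hxm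
  obtain ⟨s, hs, c, hc, rfl⟩ := hxm
  refine ⟨s, (Subgroup.mem_inf.mp hs).1, fun b hb => ?_⟩
  have hsN : s ∈ N := hRN hs
  have hb' : s⁻¹ * b * s ∈ T := by
    have := (Subgroup.mem_normalizer_iff.mp (Subgroup.inv_mem _ hsN) b).mp hb
    simpa using this
  have h4 := (Subgroup.mem_centralizer_iff.mp hc) _ hb'
  calc s⁻¹ * b * s = c⁻¹ * (c * (s⁻¹ * b * s)) := by group
    _ = c⁻¹ * ((s⁻¹ * b * s) * c) := by rw [h4]
    _ = (s * c)⁻¹ * b * (s * c) := by group

/-- if `|N_G(T) : T C_G(T)| = 2` and some element of `P` normalizes `T` without lying in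
`T C_G(T)`, then `N_G(T)` acts on `T` as elements of `P` do -/
theorem local_of_relIndex_two {G : Type*} [Group G] (P T : Subgroup G) (hTP : T ≤ P)
    (h2 : (T ⊔ Subgroup.centralizer (T : Set G)).relIndex (Subgroup.normalizer (T : Set G)) = 2)
    (w : G) (hwP : w ∈ P) (hwN : w ∈ Subgroup.normalizer (T : Set G))
    (hwK : w ∉ T ⊔ Subgroup.centralizer (T : Set G))
    (x : G) (hx : x ∈ Subgroup.normalizer (T : Set G)) :
    ∃ s ∈ P, ∀ b ∈ T, s⁻¹ * b * s = x⁻¹ * b * x := by
  have key : ∀ y ∈ T ⊔ Subgroup.centralizer (T : Set G),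
      ∃ t ∈ T, ∀ b ∈ T, t⁻¹ * b * t = y⁻¹ * b * y := by
    intro y hy
    have hTn : T ≤ Subgroup.normalizer ((Subgroup.centralizer (T : Set G) : Subgroup G) : Set G) :=
      Subgroup.le_normalizer.trans (normalizer_le_normalizer_centralizer_aux T)
    have hy' : y ∈ ((T ⊔ Subgroup.centralizer (T : Set G) : Subgroup G) : Set G) := hy
    rw [Subgroup.coe_mul_of_left_le_normalizer_right _ _ hTn] at hy'
    obtain ⟨t, ht, c, hc, rfl⟩ := hy'
    refine ⟨t, ht, fun b hb => ?_⟩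
    have hb' : t⁻¹ * b * t ∈ T := T.mul_mem (T.mul_mem (T.inv_mem ht) hb) ht
    have h4 := (Subgroup.mem_centralizer_iff.mp hc) _ hb'
    calc t⁻¹ * b * t = c⁻¹ * (c * (t⁻¹ * b * t)) := by group
      _ = c⁻¹ * ((t⁻¹ * b * t) * c) := by rw [h4]
      _ = (t * c)⁻¹ * b * (t * c) := by group
  by_cases hxK : x ∈ T ⊔ Subgroup.centralizer (T : Set G)
  · obtain ⟨t, ht, htx⟩ := key x hxK
    exact ⟨t, hTP ht, htx⟩
  · have h1 := Subgroup.mul_mem_iff_of_index_two
      (H := (T ⊔ Subgroup.centralizer (T : Set G)).subgroupOf (Subgroup.normalizer (T : Set G))) h2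
      (a := (⟨w, hwN⟩ : ↥(Subgroup.normalizer (T : Set G)))⁻¹) (b := ⟨x, hx⟩)
    have h3 : w⁻¹ * x ∈ T ⊔ Subgroup.centralizer (T : Set G) := by
      have : (⟨w, hwN⟩ : ↥(Subgroup.normalizer (T : Set G)))⁻¹ * ⟨x, hx⟩ ∈
          (T ⊔ Subgroup.centralizer (T : Set G)).subgroupOf (Subgroup.normalizer (T : Set G)) := by
        rw [h1, Subgroup.inv_mem_iff]
        constructor
        · intro h; exact absurd (Subgroup.mem_subgroupOf.mp h) hwK
        · intro h; exact absurd (Subgroup.mem_subgroupOf.mp h) hxK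
      simpa [Subgroup.mem_subgroupOf] using this
    obtain ⟨t, ht, htx⟩ := key _ h3
    refine ⟨w * t, P.mul_mem hwP (hTP ht), fun b hb => ?_⟩
    have hb' : w⁻¹ * b * w ∈ T := by
      have := (Subgroup.mem_normalizer_iff.mp (Subgroup.inv_mem _ hwN) b).mp hb
      simpa using this
    have h5 := htx _ hb'
    calc (w * t)⁻¹ * b * (w * t) = t⁻¹ * (w⁻¹ * b * w) * t := by group
      _ = (w⁻¹ * x)⁻¹ * (w⁻¹ * b * w) * (w⁻¹ * x) := h5
      _ = x⁻¹ * b * x := by group

end Cfsg.Agent.Helper20
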