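import Mathlib
import Cfsg.Prelude.Def_OddOrderLocal

/-!
# Small group-theoretic lemmas for the re-base of S1357 (B-G 15.7 first part, TI clause)
-/

set_option autoImplicit false

namespace Cfsg.Agent.Helper20.BG157

open Subgroup

variable {G : Type*} [Group G]

/-- Two subgroups that normalize each other and meet trivially commute elementwise. -/
theorem commute_of_norm_disjoint {A B : Subgroup G}
    (hAB : A ≤ normalizer (B : Set G)) (hBA : B ≤ normalizer (A : Set G))
    (hdisj : A ⊓ B = ⊥) : ∀ a ∈ A, ∀ b ∈ B, a * b = b * a := by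
  intro a ha b hb
  have h1 : a * b * a⁻¹ * b⁻¹ ∈ B := by
    have : a * b * a⁻¹ ∈ B := ((Subgroup.mem_normalizer_iff.mp (hAB ha)) b).mp hb
    exact B.mul_mem this (B.inv_mem hb)
  have h2 : a * b * a⁻¹ * b⁻¹ ∈ A := by
    have : b * a⁻¹ * b⁻¹ ∈ A :=
      ((Subgroup.mem_normalizer_iff.mp (hBA hb)) a⁻¹).mp (A.inv_mem ha)
    have h3 : a * b * a⁻¹ * b⁻¹ = a * (b * a⁻¹ * b⁻¹) := by group
    rw [h3]
    exact A.mul_mem ha this
  have h4 : a * b * a⁻¹ * b⁻¹ ∈ A ⊓ B := ⟨h2, h1⟩
  rw [hdisj, Subgroup.mem_bot] at h4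
  have h5 : a * b = (a * b * a⁻¹ * b⁻¹) * (b * a) := by group
  rw [h5, h4, one_mul]

/-- An element of order prime to `p` lies in every normal complement of a Sylow `p`-subgroup. -/
theorem mem_normal_pcompl {H : Type*} [Group H] [Finite H] {p : ℕ} [Fact p.Prime]
    (P : Sylow p H) (Q : Subgroup H) [Q.Normal] (hc : Q.IsComplement' (P : Subgroup H))
    (a : H) (ha : (orderOf a).Coprime p) : a ∈ Q := by
  have hidx : Q.index = Nat.card (P : Subgroup H) := hc.symm.index_eq_card
  obtain ⟨n, hn⟩ := (P.2).exists_card_eq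
  have h1 : orderOf ((QuotientGroup.mk' Q) a) ∣ orderOf a := orderOf_map_dvd _ a
  have h2 : orderOf ((QuotientGroup.mk' Q) a) ∣ p ^ n := by
    have : orderOf ((QuotientGroup.mk' Q) a) ∣ Nat.card (H ⧸ Q) := orderOf_dvd_natCard _
    rwa [← Subgroup.index_eq_card, hidx, hn] at this
  have h3 : orderOf ((QuotientGroup.mk' Q) a) = 1 := by
    have hcop : (orderOf a).Coprime (p ^ n) := Nat.Coprime.pow_right n ha
    exact Nat.eq_one_of_dvd_coprimes hcop h1 h2
  rw [orderOf_eq_one_iff] at h3
  exact (QuotientGroup.eq_one_iff a).mp h3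

/-- the order of a normal complement of a Sylow `p`-subgroup is prime to `p`. -/
theorem card_normal_pcompl_coprime {H : Type*} [Group H] [Finite H] {p : ℕ} [hp : Fact p.Prime]
    (P : Sylow p H) (Q : Subgroup H) (hc : Q.IsComplement' (P : Subgroup H)) :
    (Nat.card Q).Coprime p := by
  have hidx : (P : Subgroup H).index = Nat.card Q := hc.index_eq_card
  rw [Nat.coprime_comm, Nat.Prime.coprime_iff_not_dvd hp.out, ← hidx]
  exact P.not_dvd_index

/-- An elementary abelian `q`-subgroup of `M` of order `> q ^ k` lying in `N` shows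
that `N` has `q`-rank `> k`. -/
theorem not_prankLE_of_map_le {M N : Subgroup G} {q k : ℕ} (A : Subgroup ↥M)
    (hAc : IsMulCommutative A) (hAe : ∀ a ∈ A, a ^ q = 1) (hAcard : q ^ k < Nat.card A)
    (hAN : A.map M.subtype ≤ N) : ¬ Cfsg.PRankLE q k ↥N := by
  intro h
  have hB := h ((A.map M.subtype).subgroupOf N) ?_ ?_
  · have h1 : Nat.card ↥((A.map M.subtype).subgroupOf N) = Nat.card ↥(A.map M.subtype) :=
      Nat.card_congr (Subgroup.subgroupOfEquivOfLe hAN).toEquiv
    have h2 : Nat.card ↥(A.map M.subtype) = Nat.card A :=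
      Nat.card_congr (A.equivMapOfInjective M.subtype M.subtype_injective).symm.toEquiv
    rw [h1, h2] at hB
    omega
  · refine ⟨⟨fun a b => ?_⟩⟩
    obtain ⟨a', ha', hae⟩ := Subgroup.mem_subgroupOf.mp a.2
    obtain ⟨b', hb', hbe⟩ := Subgroup.mem_subgroupOf.mp b.2
    have h1 := hAc.is_comm.comm ⟨a', ha'⟩ ⟨b', hb'⟩
    have h2 : a' * b' = b' * a' := congrArg Subtype.val h1
    have h3 : (a' : G) * (b' : G) = (b' : G) * (a' : G) := congrArg Subtype.val h2
    apply Subtype.ext
    apply Subtype.ext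
    simp only [Subgroup.coe_mul]
    rw [show ((a : ↥N) : G) = (a' : G) from hae.symm, show ((b : ↥N) : G) = (b' : G) from hbe.symm]
    exact h3
  · intro a ha
    obtain ⟨a', ha', hae⟩ := Subgroup.mem_subgroupOf.mp ha
    apply Subtype.ext
    have h1 : a' ^ q = 1 := hAe a' ha'
    have h2 : ((a' : G)) ^ q = 1 := by
      have := congrArg Subtype.val h1
      simpa using this
    simp only [Subgroup.coe_pow, Subgroup.coe_one]
    rw [show ((a : ↥N) : G) = (a' : G) from hae.symm]
    exact h2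

end Cfsg.Agent.Helper20.BG157
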