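import Cfsg.Agent.Lib.Helper20.CD3FD

set_option autoImplicit false
set_option linter.unusedVariables false
set_option linter.unusedSectionVars false
set_option linter.style.haveILetI false

/-! CD3 server (helper55), piece (BH): the hypotheses (h1), (h2) of helper1's CD3B theorem. -/

namespace Cfsg.Agent.Helper20.CD3

open Cfsg Cfsg.Agent.Helper79 Cfsg.Agent.Helper81 Cfsg.Agent.Helper55.CD3
open scoped ComplexConjugate

universe u

section general
variable {G : Type u} [Group G] [Finite G]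

/-- (BH) hypotheses (h1),(h2) of helper1's CD3B theorem. -/
theorem caseB_hyps (K F : Subgroup G) [K.Normal] [F.Normal] (p : ℕ) (h : Frob K F p)
    (m n : ℕ) (hm : 1 < m) (hmn : m < n) (hcd : CD3 G m n)
    (hp : ∀ θ : IrrCharacter F, charDegree (θ : F → ℂ) ≠ 1 → p ∣ charDegree (θ : F → ℂ))
    (hnl : ∃ θ : IrrCharacter F, charDegree (θ : F → ℂ) ≠ 1) :
    ∃ d a : ℕ, 1 ≤ a ∧
      (∀ χ : IrrCharacter G, ¬ ⁅F, F⁆ ≤ irrKer χ → charDegree (χ : G → ℂ) = d) ∧
      (∀ θ : IrrCharacter F, charDegree (θ : F → ℂ) ≠ 1 →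
        (charDegree (θ : F → ℂ)).factorization p = a) := by
  classical
  haveI : Fintype G := Fintype.ofFinite G
  haveI : Fintype F := Fintype.ofFinite F
  have hpr := h.prime
  have hcop := h.ndvd
  obtain ⟨⟨χf, hχf⟩, hF1⟩ := frob_deg K F p h
  have hfmn : F.index = m ∨ F.index = n := by
    rcases hcd χf with h1 | h1 | h1
    · rw [hχf] at h1; omega
    · left; rw [← hχf, h1]
    · right; rw [← hχf, h1]
  -- the other degree
  obtain ⟨d, hd0, hdeg⟩ : ∃ d : ℕ, d ≠ 0 ∧ ∀ χ : IrrCharacter G,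
      charDegree (χ : G → ℂ) = 1 ∨ charDegree (χ : G → ℂ) = F.index ∨
        charDegree (χ : G → ℂ) = d := by
    rcases hfmn with hfm | hfn
    · refine ⟨n, by omega, fun χ => ?_⟩
      rw [hfm]; exact hcd χ
    · refine ⟨m, by omega, fun χ => ?_⟩
      rw [hfn]
      rcases hcd χ with h1 | h1 | h1
      · exact Or.inl h1
      · exact Or.inr (Or.inr h1)
      · exact Or.inr (Or.inl h1)
  have hC : ∀ χ : IrrCharacter G, p ∣ charDegree (χ : G → ℂ) → charDegree (χ : G → ℂ) = d := by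
    intro χ hpχ
    rcases hdeg χ with h1 | h1 | h1
    · rw [h1] at hpχ
      exact absurd (Nat.le_of_dvd one_pos hpχ) (by have := hpr.two_le; omega)
    · exfalso; apply hcop; rw [← h1]; exact hpχ
    · exact h1
  have hO : ∀ θ : IrrCharacter F, charDegree (θ : F → ℂ) ≠ 1 →
      ∃ e : ℕ, d = e * charDegree (θ : F → ℂ) ∧ e ∣ F.index := by
    intro θ hθ1
    obtain ⟨χ, e, he, hef, -⟩ := Cfsg.Agent.Helper76.CD2.exists_over F θ
    have hpχ : p ∣ charDegree (χ : G → ℂ) := by
      rw [he]; exact dvd_mul_of_dvd_right (hp θ hθ1) e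
    refine ⟨e, ?_, hef⟩
    rw [← hC χ hpχ, he]
  obtain ⟨θ₀, hθ₀⟩ := hnl
  have hpd : p ∣ d := by
    obtain ⟨e, he, -⟩ := hO θ₀ hθ₀
    rw [he]; exact dvd_mul_of_dvd_right (hp θ₀ hθ₀) e
  refine ⟨d, d.factorization p, hpr.factorization_pos_of_dvd hd0 hpd, ?_, ?_⟩
  · intro χ hker
    obtain ⟨x, hxF, hxne⟩ := SetLike.not_le_iff_exists.1 hker
    have hxne' : (χ : G → ℂ) x ≠ (χ : G → ℂ) 1 := hxne
    rcases hdeg χ with h1 | h1 | h1
    · exact absurd (const_on_commutator_of_linear F χ h1 x hxF) hxne'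
    · exfalso
      obtain ⟨ψ, e, he, hef, hne⟩ := Cfsg.Agent.Helper76.CD2.exists_under F χ
      by_cases hψ1 : charDegree (ψ : F → ℂ) = 1
      · exact hxne' (const_on_commutator_of_linear_under F χ ψ hψ1 hne x hxF)
      · apply hcop
        rw [← h1, he]
        exact dvd_mul_of_dvd_right (hp ψ hψ1) e
    · exact h1
  · intro θ hθ1
    obtain ⟨e, he, hef⟩ := hO θ hθ1
    exact (factorization_eq_of_mul p hpr he hd0 hef hcop).symm

end general

end Cfsg.Agent.Helper20.CD3
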