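import Cfsg.Agent.Lib.Helper1.CD3.Defs
import Cfsg.Agent.Lib.Helper12.CD3BK2
import Cfsg.Agent.Lib.Helper12.CD3BK3
import Cfsg.Agent.Lib.Helper41.CD3BK4
import Cfsg.Agent.Lib.Helper22.CD3BK5
import Cfsg.Agent.Lib.Helper66.CD3BK6
import Cfsg.Agent.Lib.Helper56.CD3BK7
import Mathlib

set_option autoImplicit false
set_option linter.style.haveILetI false
set_option linter.unusedVariables false

/-! CD3B (helper1's server, S4460): assembly of the KEY LEMMA (relative Isaacs–Knutson) from the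
landed pieces K2–K7. -/

namespace Cfsg.Agent.Helper20.CD3B

open Cfsg Cfsg.Agent.Helper81 Cfsg.Agent.Helper1.CD3

universe u

/-- (KEY) the key lemma. -/
theorem key_lemma {G : Type u} [Group G] [Finite G] (W : Subgroup G) (hW : W.Normal)
    (hsolv : Group.IsSolvable W) (n : ℕ)
    (ha : ∀ χ : G → ℂ, IsIrrCharacter G χ → (∃ w : W, χ w ≠ χ 1) → χ 1 = (n : ℂ))
    (hb : ∀ ν : W → ℂ, IsIrrCharacter W ν → ν 1 = 1 → ν ≠ (fun _ => 1) → (stab W hW ν).index = n) :
    ∀ x y : W, x * y = y * x := by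
  classical
  haveI : Fintype G := Fintype.ofFinite G
  haveI : Fintype W := Fintype.ofFinite W
  haveI : Fintype (commutator W) := Fintype.ofFinite _
  by_contra hna
  obtain ⟨ω, hω, hω1, hker⟩ := Cfsg.Agent.Helper56.CD3B.exists_nonlinear_meta hsolv hna
  obtain ⟨d, hd0, hd⟩ := irr_one_pos hω
  have hd2 : 2 ≤ d := by
    rcases Nat.lt_or_ge d 2 with h | h
    · exfalso
      have : d = 1 := by omega
      apply hω1
      rw [hd, this]; simp
    · exact h
  obtain ⟨e1, t1, hcl, hdet⟩ := Cfsg.Agent.Helper66.CD3B.clifford_meta hω hker d hd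
  have hlam := Cfsg.Agent.Helper22.CD3B.card_Lam hω
  rw [hcl] at hlam
  have hlam' : e1 ^ 2 * t1 = Nat.card (Lam ω) := by exact_mod_cast hlam
  have hne : ω ≠ fun _ => 1 := by
    intro h
    apply hω1
    rw [h]
  obtain ⟨χ, hχ, hχω, hχW⟩ := Cfsg.Agent.Helper12.CD3B.exists_over W hW hω hne
  have hχn := ha χ hχ hχW
  obtain ⟨e, he0, hχe⟩ := Cfsg.Agent.Helper12.CD3B.degree_over W hW hχ hω hχω d hd
  have hn : n = e * (stab W hW ω).index * d := by
    rw [hχn] at hχe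
    exact_mod_cast hχe
  have hidx : 0 < (stab W hW ω).index := Nat.pos_of_ne_zero Subgroup.index_ne_zero_of_finite
  have hnpos : 0 < n := by
    rw [hn]
    exact Nat.mul_pos (Nat.mul_pos he0 hidx) hd0
  have hdvd := Cfsg.Agent.Helper41.CD3B.orbit_count W hW ω d e n hn hnpos
    (fun ν hν hν1 => hb ν hν.1 hν.2.1 hν1)
  rw [← hlam', hdet] at hdvd
  -- `e1 * t1 ∣ e1 ^ 2 * t1 - 1` forces `e1 * t1 = 1`
  have hpos : 0 < e1 ^ 2 * t1 := by
    rcases Nat.eq_zero_or_pos (e1 ^ 2 * t1) with h0 | h0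
    · exfalso
      have h1 : e1 * t1 = 0 := by
        rcases Nat.mul_eq_zero.1 h0 with h2 | h2
        · have : e1 = 0 := by simpa using h2
          rw [this, zero_mul]
        · rw [h2, mul_zero]
      omega
    · exact h0
  have h1 : e1 * t1 ∣ e1 ^ 2 * t1 := ⟨e1, by ring⟩
  have h2 : e1 * t1 ∣ 1 := by
    have h3 : e1 ^ 2 * t1 = (e1 ^ 2 * t1 - 1) + 1 := by omega
    rw [h3] at h1
    exact (Nat.dvd_add_right hdvd).1 h1
  have h4 : e1 * t1 = 1 := Nat.dvd_one.1 h2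
  omega

end Cfsg.Agent.Helper20.CD3B
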