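import Cfsg.Agent.Lib.Helper20.CD3FrobAPI

set_option autoImplicit false
set_option linter.unusedVariables false
set_option linter.unusedSectionVars false
set_option linter.style.haveILetI false

/-! CD3 server (helper55), piece (VD): a character vanishing off `K` has degree divisible by `p`. -/

namespace Cfsg.Agent.Helper20.CD3

open Cfsg Cfsg.Agent.Helper79 Cfsg.Agent.Helper81 Cfsg.Agent.Helper55.CD3
open scoped ComplexConjugate

universe u

section general
variable {G : Type u} [Group G] [Finite G]

/-- (VD) `θ ∈ Irr(F)` vanishing off `K`, `|F:K| = p^k > 1` ⇒ `p ∣ θ(1)`. -/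
theorem vanish_dvd (K F : Subgroup G) [K.Normal] [F.Normal] (p : ℕ) (h : Frob K F p)
    (θ : IrrCharacter F) (hv : ∀ x : F, (x : G) ∉ K → (θ : F → ℂ) x = 0) :
    p ∣ charDegree (θ : F → ℂ) := by
  obtain ⟨k, hk, hidx⟩ := h.card
  exact p_dvd_degree_of_vanish_off K F (frob_habF h) p k h.prime hk hidx θ hv

end general

end Cfsg.Agent.Helper20.CD3
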