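import Cfsg.Agent.Lib.Helper20.CD3FD
import Cfsg.Agent.Lib.Helper20.CD3VD

set_option autoImplicit false
set_option linter.unusedVariables false
set_option linter.unusedSectionVars false
set_option linter.style.haveILetI false

/-! CD3 server (helper55), piece (BS): the three sub-cases of case (B). -/

namespace Cfsg.Agent.Helper20.CD3

open Cfsg Cfsg.Agent.Helper79 Cfsg.Agent.Helper81 Cfsg.Agent.Helper55.CD3
open scoped ComplexConjugate

universe u

section general
variable {G : Type u} [Group G] [Finite G]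

/-- (BS) the three sub-cases of (B). -/
theorem caseB_split (K F : Subgroup G) [K.Normal] [F.Normal] (p : ℕ) (h : Frob K F p)
    (m n : ℕ) (hm : 1 < m) (hmn : m < n) (hcd : CD3 G m n)
    (h124 : ∀ θ : IrrCharacter F, charDegree (θ : F → ℂ) ≠ 1 →
      (∀ x : F, (x : G) ∉ K → (θ : F → ℂ) x = 0) ∨ HasDeg G (F.index * charDegree (θ : F → ℂ))) :
    (∀ θ : IrrCharacter F, charDegree (θ : F → ℂ) ≠ 1 → p ∣ charDegree (θ : F → ℂ)) ∨
    (∃ x : ℕ, ∀ θ : IrrCharacter F, charDegree (θ : F → ℂ) = 1 ∨ charDegree (θ : F → ℂ) = x) := by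
  classical
  haveI : Fintype G := Fintype.ofFinite G
  haveI : Fintype F := Fintype.ofFinite F
  have hpr := h.prime
  have hcop := h.ndvd
  obtain ⟨⟨χf, hχf⟩, hF1⟩ := frob_deg K F p h
  have hpos : ∀ θ : IrrCharacter F, 0 < charDegree (θ : F → ℂ) := fun θ => (irr_one_eq θ).2
  have hfmn : F.index = m ∨ F.index = n := by
    rcases hcd χf with h1 | h1 | h1
    · rw [hχf] at h1; omega
    · left; rw [← hχf, h1]
    · right; rw [← hχf, h1]
  -- the second alternative of 12.4 when `f = m`
  have halt2 : F.index = m → ∀ θ : IrrCharacter F, charDegree (θ : F → ℂ) ≠ 1 →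
      HasDeg G (F.index * charDegree (θ : F → ℂ)) → n = m * charDegree (θ : F → ℂ) := by
    intro hfm θ hθ1 hd
    obtain ⟨χ, hχ⟩ := hd
    have h2le : 2 ≤ charDegree (θ : F → ℂ) := by have := hpos θ; omega
    rw [hfm] at hχ
    have h3 : m * 2 ≤ charDegree (χ : G → ℂ) := by rw [hχ]; exact Nat.mul_le_mul_left m h2le
    rcases hcd χ with h1 | h1 | h1
    · omega
    · omega
    · rw [← h1, hχ]
  rcases hfmn with hfm | hfn
  · by_cases hpn : p ∣ n
    · left
      intro θ hθ1
      rcases h124 θ hθ1 with hv | hd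
      · exact vanish_dvd K F p h θ hv
      · have h1 := halt2 hfm θ hθ1 hd
        rw [h1] at hpn
        rcases (Nat.Prime.dvd_mul hpr).1 hpn with h2 | h2
        · exfalso; apply hcop; rw [hfm]; exact h2
        · exact h2
    · right
      refine ⟨n / m, ?_⟩
      intro θ
      by_cases hθ1 : charDegree (θ : F → ℂ) = 1
      · exact Or.inl hθ1
      · right
        rcases h124 θ hθ1 with hv | hd
        · exfalso
          have hpθ := vanish_dvd K F p h θ hv
          obtain ⟨χ, e, he, hef, -⟩ := Cfsg.Agent.Helper76.CD2.exists_over F θ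
          have hpχ : p ∣ charDegree (χ : G → ℂ) := by rw [he]; exact dvd_mul_of_dvd_right hpθ e
          rcases hcd χ with h1 | h1 | h1
          · rw [h1] at hpχ
            exact absurd (Nat.le_of_dvd one_pos hpχ) (by have := hpr.two_le; omega)
          · apply hcop; rw [hfm, ← h1]; exact hpχ
          · apply hpn; rw [← h1]; exact hpχ
        · have h1 := halt2 hfm θ hθ1 hd
          rw [h1]
          exact (Nat.mul_div_cancel_left _ (by omega)).symm
  · left
    intro θ hθ1
    rcases h124 θ hθ1 with hv | hd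
    · exact vanish_dvd K F p h θ hv
    · exfalso
      obtain ⟨χ, hχ⟩ := hd
      have h2le : 2 ≤ charDegree (θ : F → ℂ) := by have := hpos θ; omega
      rw [hfn] at hχ
      have h3 : n * 2 ≤ charDegree (χ : G → ℂ) := by rw [hχ]; exact Nat.mul_le_mul_left n h2le
      rcases hcd χ with h1 | h1 | h1 <;> omega

end general

end Cfsg.Agent.Helper20.CD3
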