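import Cfsg.Agent.Lib.Helper20.CD3VanK
import Cfsg.Agent.Lib.Helper76.CD2CaseB
import Cfsg.Agent.S4458

set_option autoImplicit false
set_option linter.style.haveILetI false
set_option linter.unusedSectionVars false
set_option linter.unusedVariables false

/-! Case (B) of the theorem on groups with three character degrees: the "Frobenius" case of
Isaacs' Lemma 12.3.  `cd(G) ⊆ {1, m, n}`, `K ≤ F` normal, `F / K` abelian of order `p ^ k > 1`,
`G / F` abelian of order prime to `p`, every element outside `F` fixed-point-free on `F / K`.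
Then `F'' = 1`, given the relative Isaacs–Knutson theorem `Hmain` (helper1's CD3B `main`). -/

namespace Cfsg.Agent.Helper20.CD3

open Cfsg Cfsg.Agent.Helper79 Cfsg.Agent.Helper81 Cfsg.Agent.Helper76.CD2
open scoped commutatorElement

universe u

section caseB
variable {G : Type u} [Group G] [Finite G]

/-- the trivial character -/
theorem isIrr_triv (H : Type u) [Group H] [Finite H] : IsIrrCharacter H (fun _ : H => (1 : ℂ)) := by
  haveI : Fintype H := Fintype.ofFinite H
  exact isIrrCharacter_one

noncomputable def trivIrr (H : Type u) [Group H] [Finite H] : IrrCharacter H :=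
  ⟨fun _ => 1, isIrr_triv H⟩

theorem charDegree_trivIrr (H : Type u) [Group H] [Finite H] :
    charDegree ((trivIrr H : IrrCharacter H) : H → ℂ) = 1 := by
  haveI : Fintype H := Fintype.ofFinite H
  exact charDegree_eq_of_one 1 (by simp [trivIrr])

theorem exists_not_mem_of_relIndex (K F : Subgroup G) (p k : ℕ) (hp : p.Prime) (hk : 0 < k)
    (hidx : K.relIndex F = p ^ k) : ∃ x : F, (x : G) ∉ K := by
  by_contra hall
  push Not at hall
  have htop : K.subgroupOf F = ⊤ := by
    rw [eq_top_iff]
    intro x _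
    exact Subgroup.mem_subgroupOf.2 (hall x)
  have h1 : K.relIndex F = 1 := by rw [Subgroup.relIndex, htop, Subgroup.index_top]
  rw [hidx] at h1
  have h2 : 1 < p ^ k := Nat.one_lt_pow (Nat.pos_iff_ne_zero.1 hk) hp.one_lt
  omega

/-- `|G : F|` is a character degree of `G` -/
theorem index_mem_cd (K F : Subgroup G) [hK : K.Normal] [hF : F.Normal]
    (habF : ∀ x ∈ F, ∀ y ∈ F, ⁅x, y⁆ ∈ K)
    (habG : ∀ a b : G, ⁅a, b⁆ ∈ F)
    (hfpf : ∀ g : G, g ∉ F → ∀ x ∈ F, ⁅g, x⁆ ∈ K → x ∈ K)
    (p k : ℕ) (hp : p.Prime) (hk : 0 < k) (hidx : K.relIndex F = p ^ k) :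
    ∃ χ : IrrCharacter G, charDegree (χ : G → ℂ) = F.index := by
  obtain ⟨x, hx⟩ := exists_not_mem_of_relIndex K F p k hp hk hidx
  rcases strong124 K F habF habG hfpf (trivIrr F) with h | ⟨χ, hχ⟩
  · exfalso
    have h1 : (1 : ℂ) = 0 := h x hx
    exact one_ne_zero h1
  · exact ⟨χ, by rw [hχ, charDegree_trivIrr, mul_one]⟩

/-- an element of `⁅F, F⁆` comes from the commutator subgroup of the group `F` -/
theorem exists_mem_commutator_coe (F : Subgroup G) {x : G} (hx : x ∈ ⁅F, F⁆) :
    ∃ x' : F, x' ∈ commutator F ∧ (x' : G) = x := by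
  rw [← Subgroup.map_subtype_commutator] at hx
  obtain ⟨x', hx', rfl⟩ := hx
  exact ⟨x', hx', rfl⟩

/-- if `χ ∈ Irr(G)` lies over a linear character of `F ⊴ G`, then `χ` is constant on `F'` -/
theorem const_on_commutator_of_linear_under (F : Subgroup G) [hF : F.Normal] (χ : IrrCharacter G)
    (ψ : IrrCharacter F) (hψ : charDegree (ψ : F → ℂ) = 1)
    [Fintype F] (hne : classInner (fun n : F => (χ : G → ℂ) n) (ψ : F → ℂ) ≠ 0) :
    ∀ x ∈ ⁅F, F⁆, (χ : G → ℂ) x = (χ : G → ℂ) 1 := by
  classical
  haveI : Fintype G := Fintype.ofFinite G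
  intro x hx
  obtain ⟨x', hx', rfl⟩ := exists_mem_commutator_coe F hx
  have hcl := clifford F hF χ.2 ψ.2 hne
  have hS := conjSet_finite F hF (ψ : F → ℂ)
  rw [finsum_mem_eq_finite_toFinset_sum _ hS] at hcl
  have h1 := congrFun hcl (1 : F)
  have h2 := congrFun hcl x'
  simp only [Pi.smul_apply, Finset.sum_apply, smul_eq_mul] at h1 h2
  have hψ1 : (ψ : F → ℂ) 1 = 1 := by rw [(irr_one_eq ψ).1, hψ]; simp
  have h3 : ∀ φ ∈ hS.toFinset, φ x' = φ (1 : F) := by
    intro φ hφ
    rw [Set.Finite.mem_toFinset] at hφ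
    obtain ⟨g, rfl⟩ := hφ
    have hirr := conjFun_isIrrCharacter F hF ψ.2 g
    have h11 : conjFun F hF (ψ : F → ℂ) g 1 = 1 := by
      rw [conjFun_apply, ← hψ1]
      exact congrArg (ψ : F → ℂ) (Subtype.ext (by simp))
    let φ' := Cfsg.Agent.Helper74.Lin.toHom ⟨conjFun F hF (ψ : F → ℂ) g, hirr⟩ h11
    have hker : commutator F ≤ φ'.ker := Abelianization.commutator_subset_ker φ'
    have h4 : φ' x' = 1 := MonoidHom.mem_ker.mp (hker hx')
    have h5 : ((φ' x' : ℂˣ) : ℂ) = conjFun F hF (ψ : F → ℂ) g x' := rfl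
    rw [← h5, h4, h11]
    rfl
  rw [Finset.sum_congr rfl h3] at h2
  have h6 : (χ : G → ℂ) ((1 : F) : G) = (χ : G → ℂ) 1 := by simp
  rw [← h6, h1, h2]

/-- a linear character is constant on `F' ≤ G'` -/
theorem const_on_commutator_of_linear (F : Subgroup G) (χ : IrrCharacter G)
    (hχ : charDegree (χ : G → ℂ) = 1) : ∀ x ∈ ⁅F, F⁆, (χ : G → ℂ) x = (χ : G → ℂ) 1 := by
  intro x hx
  have h1 : (χ : G → ℂ) 1 = 1 := by rw [(irr_one_eq χ).1, hχ]; simp
  let φ' := Cfsg.Agent.Helper74.Lin.toHom χ h1
  have hker : commutator G ≤ φ'.ker := Abelianization.commutator_subset_ker φ'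
  have hx' : x ∈ commutator G := by
    rw [commutator_def]
    exact Subgroup.commutator_mono le_top le_top hx
  have h4 : φ' x = 1 := MonoidHom.mem_ker.mp (hker hx')
  have h5 : ((φ' x : ℂˣ) : ℂ) = (χ : G → ℂ) x := rfl
  rw [← h5, h4, h1]
  rfl

/-- transfer of `p`-parts: `N = e * d`, `e ∣ f`, `p ∤ f` -/
theorem factorization_eq_of_mul (p : ℕ) (hp : p.Prime) {N e d f : ℕ} (hN : N = e * d)
    (hN0 : N ≠ 0) (hef : e ∣ f) (hpf : ¬ p ∣ f) : N.factorization p = d.factorization p := by
  have he0 : e ≠ 0 := by rintro rfl; simp at hN; exact hN0 hN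
  have hd0 : d ≠ 0 := by rintro rfl; simp at hN; exact hN0 hN
  have hpe : ¬ p ∣ e := fun h => hpf (dvd_trans h hef)
  rw [hN, Nat.factorization_mul he0 hd0, Finsupp.add_apply,
    Nat.factorization_eq_zero_of_not_dvd hpe, zero_add]

/-- an abelian subgroup has trivial second derived subgroup -/
theorem der2_eq_bot_of_comm (F : Subgroup G) (h : ∀ a b : F, a * b = b * a) :
    ⁅⁅F, F⁆, ⁅F, F⁆⁆ = ⊥ := by
  have h1 : ⁅F, F⁆ = ⊥ := by
    rw [Subgroup.commutator_eq_bot_iff_le_centralizer]
    intro x hx y hy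
    have := h ⟨y, hy⟩ ⟨x, hx⟩
    exact congrArg Subtype.val this
  rw [h1, Subgroup.commutator_bot_left]

/-- **Case (B).** -/
theorem caseB (m n : ℕ) (hm : 1 < m) (hmn : m < n)
    (hcd : ∀ χ : IrrCharacter G, charDegree (χ : G → ℂ) = 1 ∨ charDegree (χ : G → ℂ) = m ∨
      charDegree (χ : G → ℂ) = n)
    (K F : Subgroup G) [hK : K.Normal] [hF : F.Normal]
    (habF : ∀ x ∈ F, ∀ y ∈ F, ⁅x, y⁆ ∈ K)
    (habG : ∀ a b : G, ⁅a, b⁆ ∈ F)
    (hfpf : ∀ g : G, g ∉ F → ∀ x ∈ F, ⁅g, x⁆ ∈ K → x ∈ K)
    (p k : ℕ) (hp : p.Prime) (hk : 0 < k) (hidx : K.relIndex F = p ^ k)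
    (hcop : ¬ p ∣ F.index) (hF1 : 1 < F.index)
    (Hmain : ∀ a d : ℕ, 0 < a →
      (∀ χ : G → ℂ, IsIrrCharacter G χ → (∃ x ∈ ⁅F, F⁆, χ x ≠ χ 1) → χ 1 = (d : ℂ)) →
      (∀ θ : F → ℂ, IsIrrCharacter F θ → θ 1 ≠ 1 →
        ∃ d' : ℕ, θ 1 = (d' : ℂ) ∧ d'.factorization p = a) →
      ⁅⁅F, F⁆, ⁅F, F⁆⁆ = ⊥) :
    ⁅⁅F, F⁆, ⁅F, F⁆⁆ = ⊥ := by
  classical
  haveI : Fintype G := Fintype.ofFinite G
  haveI : Fintype F := Fintype.ofFinite F
  -- the abelian case
  by_cases hFab : ∀ θ : IrrCharacter F, charDegree (θ : F → ℂ) = 1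
  · exact der2_eq_bot_of_comm F (comm_of_all_linear hFab)
  push Not at hFab
  obtain ⟨θ₀, hθ₀⟩ := hFab
  have hpos : ∀ θ : IrrCharacter F, 0 < charDegree (θ : F → ℂ) := fun θ => (irr_one_eq θ).2
  have hposG : ∀ χ : IrrCharacter G, 0 < charDegree (χ : G → ℂ) := fun χ => (irr_one_eq χ).2
  have hm0 : m ≠ 0 := by omega
  have hn0 : n ≠ 0 := by omega
  obtain ⟨χf, hχf⟩ := index_mem_cd K F habF habG hfpf p k hp hk hidx
  -- 12.4 for nonlinear characters
  have h124 : ∀ θ : IrrCharacter F, p ∣ charDegree (θ : F → ℂ) ∨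
      ∃ χ : IrrCharacter G, charDegree (χ : G → ℂ) = F.index * charDegree (θ : F → ℂ) := by
    intro θ
    rcases lemma124_degree K F habF habG hfpf p k hp hk hidx θ with h | h
    · exact Or.inl h.2
    · exact Or.inr h
  -- the (h2)-type conclusion, once the degree `N` over `θ` is pinned down
  have hfin : ∀ (a d : ℕ), 0 < a →
      (∀ θ : IrrCharacter F, charDegree (θ : F → ℂ) ≠ 1 →
        (charDegree (θ : F → ℂ)).factorization p = a) →
      (∀ χ : IrrCharacter G, charDegree (χ : G → ℂ) ≠ 1 → charDegree (χ : G → ℂ) ≠ d →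
        charDegree (χ : G → ℂ) = F.index) →
      ⁅⁅F, F⁆, ⁅F, F⁆⁆ = ⊥ := by
    intro a d ha hh2 hh1
    apply Hmain a d ha
    · intro χ hχ hx
      obtain ⟨x, hxF, hxne⟩ := hx
      have hd1 : charDegree ((⟨χ, hχ⟩ : IrrCharacter G) : G → ℂ) ≠ 1 := by
        intro h1
        exact hxne (const_on_commutator_of_linear F ⟨χ, hχ⟩ h1 x hxF)
      by_cases hdd : charDegree ((⟨χ, hχ⟩ : IrrCharacter G) : G → ℂ) = d
      · have := (irr_one_eq (⟨χ, hχ⟩ : IrrCharacter G)).1
        rw [hdd] at this
        exact this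
      · exfalso
        have hf := hh1 ⟨χ, hχ⟩ hd1 hdd
        obtain ⟨ψ, e, he, hef, hne⟩ := exists_under F (⟨χ, hχ⟩ : IrrCharacter G)
        by_cases hψ1 : charDegree (ψ : F → ℂ) = 1
        · exact hxne (const_on_commutator_of_linear_under F ⟨χ, hχ⟩ ψ hψ1 hne x hxF)
        · have h3 := hh2 ψ hψ1
          have h4 : p ∣ charDegree (ψ : F → ℂ) :=
            Nat.dvd_of_factorization_pos (by rw [h3]; exact Nat.pos_iff_ne_zero.1 ha)
          apply hcop
          rw [← hf, he]
          exact dvd_mul_of_dvd_right h4 e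
    · intro θ hθ h1
      refine ⟨charDegree ((⟨θ, hθ⟩ : IrrCharacter F) : F → ℂ),
        (irr_one_eq (⟨θ, hθ⟩ : IrrCharacter F)).1, ?_⟩
      apply hh2
      intro h2
      apply h1
      have := (irr_one_eq (⟨θ, hθ⟩ : IrrCharacter F)).1
      rw [h2] at this
      simpa using this
  have hfmn : F.index = m ∨ F.index = n := by
    rcases hcd χf with h | h | h
    · rw [hχf] at h; omega
    · left; rw [← hχf, h]
    · right; rw [← hχf, h]
  rcases hfmn with hfm | hfn
  · -- `f = m`
    by_cases hpn : p ∣ n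
    · -- (B2), `p ∣ n`
      have ha : 0 < n.factorization p := hp.factorization_pos_of_dvd hn0 hpn
      apply hfin (n.factorization p) n ha
      · intro θ hθ1
        rcases h124 θ with h | ⟨χ, hχ⟩
        · obtain ⟨χ, e, he, hef, -⟩ := exists_over F θ
          have hpχ : p ∣ charDegree (χ : G → ℂ) := by rw [he]; exact dvd_mul_of_dvd_right h e
          have hχn : charDegree (χ : G → ℂ) = n := by
            rcases hcd χ with h1 | h1 | h1
            · rw [h1] at hpχ; exact absurd (Nat.le_of_dvd one_pos hpχ) (by have := hp.two_le; omega)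
            · exfalso; apply hcop; rw [hfm, ← h1]; exact hpχ
            · exact h1
          rw [hχn] at he
          exact (factorization_eq_of_mul p hp he hn0 hef hcop).symm
        · have hχn : charDegree (χ : G → ℂ) = n := by
            rcases hcd χ with h1 | h1 | h1
            · exfalso
              rw [h1] at hχ
              have := hpos θ
              have h2 : 1 < F.index * charDegree (θ : F → ℂ) := by
                calc 1 < F.index := hF1
                  _ ≤ F.index * charDegree (θ : F → ℂ) := Nat.le_mul_of_pos_right _ this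
              omega
            · exfalso
              rw [h1, hfm] at hχ
              have h2 : charDegree (θ : F → ℂ) = 1 := by
                have : m * 1 = m * charDegree (θ : F → ℂ) := by rw [mul_one]; exact hχ
                exact (Nat.eq_of_mul_eq_mul_left (by omega) this).symm
              exact hθ1 h2
            · exact h1
          rw [hχn] at hχ
          exact (factorization_eq_of_mul p hp hχ hn0 (dvd_refl _) hcop).symm
      · intro χ h1 h2
        rcases hcd χ with h | h | h
        · exact absurd h h1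
        · rw [h, hfm]
        · exact absurd h h2
    · -- (B2), `p ∤ n`: two degrees on `F`
      have hpm : ¬ p ∣ m := by rw [← hfm]; exact hcop
      have hdeg : ∀ θ : IrrCharacter F, charDegree (θ : F → ℂ) ≠ 1 →
          m * charDegree (θ : F → ℂ) = n := by
        intro θ hθ1
        rcases h124 θ with h | ⟨χ, hχ⟩
        · exfalso
          obtain ⟨χ, e, he, hef, -⟩ := exists_over F θ
          have hpχ : p ∣ charDegree (χ : G → ℂ) := by rw [he]; exact dvd_mul_of_dvd_right h e
          rcases hcd χ with h1 | h1 | h1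
          · rw [h1] at hpχ
            exact absurd (Nat.le_of_dvd one_pos hpχ) (by have := hp.two_le; omega)
          · exact hpm (h1 ▸ hpχ)
          · exact hpn (h1 ▸ hpχ)
        · rcases hcd χ with h1 | h1 | h1
          · exfalso
            rw [h1] at hχ
            have := hpos θ
            have h2 : 1 < F.index * charDegree (θ : F → ℂ) := by
              calc 1 < F.index := hF1
                _ ≤ F.index * charDegree (θ : F → ℂ) := Nat.le_mul_of_pos_right _ this
            omega
          · exfalso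
            rw [h1, hfm] at hχ
            have h2 : charDegree (θ : F → ℂ) = 1 := by
              have : m * 1 = m * charDegree (θ : F → ℂ) := by rw [mul_one]; exact hχ
              exact (Nat.eq_of_mul_eq_mul_left (by omega) this).symm
            exact hθ1 h2
          · rw [← hfm, ← hχ, h1]
      set c := charDegree (θ₀ : F → ℂ) with hc
      have hcθ : ∀ θ : IrrCharacter F, charDegree (θ : F → ℂ) = 1 ∨ charDegree (θ : F → ℂ) = c := by
        intro θ
        by_cases h1 : charDegree (θ : F → ℂ) = 1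
        · exact Or.inl h1
        · right
          have e1 := hdeg θ h1
          have e2 := hdeg θ₀ hθ₀
          rw [← e2] at e1
          exact Nat.eq_of_mul_eq_mul_left (by omega) e1
      have hab := Cfsg.Agent.S4458.result (G := F) c hcθ ⟨θ₀, rfl⟩ hθ₀
      rw [Subgroup.commutator_eq_bot_iff_le_centralizer]
      intro x hx y hy
      obtain ⟨x', hx', rfl⟩ := exists_mem_commutator_coe F hx
      obtain ⟨y', hy', rfl⟩ := exists_mem_commutator_coe F hy
      have := hab y' hy' x' hx'
      exact congrArg Subtype.val this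
  · -- `f = n`: (B1)
    have hall : ∀ θ : IrrCharacter F, charDegree (θ : F → ℂ) ≠ 1 →
        p ∣ charDegree (θ : F → ℂ) ∧ (charDegree (θ : F → ℂ)).factorization p =
          m.factorization p := by
      intro θ hθ1
      have h2le : 2 ≤ charDegree (θ : F → ℂ) := by have := hpos θ; omega
      rcases h124 θ with h | ⟨χ, hχ⟩
      · refine ⟨h, ?_⟩
        obtain ⟨χ, e, he, hef, -⟩ := exists_over F θ
        have hpχ : p ∣ charDegree (χ : G → ℂ) := by rw [he]; exact dvd_mul_of_dvd_right h e
        have hχm : charDegree (χ : G → ℂ) = m := by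
          rcases hcd χ with h1 | h1 | h1
          · rw [h1] at hpχ; exact absurd (Nat.le_of_dvd one_pos hpχ) (by have := hp.two_le; omega)
          · exact h1
          · exfalso; apply hcop; rw [hfn, ← h1]; exact hpχ
        rw [hχm] at he
        exact (factorization_eq_of_mul p hp he hm0 hef hcop).symm
      · exfalso
        have h3 : n * 2 ≤ charDegree (χ : G → ℂ) := by
          rw [hχ, hfn]; exact Nat.mul_le_mul_left n h2le
        rcases hcd χ with h1 | h1 | h1 <;> omega
    have hpm : p ∣ m := by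
      have h1 := hall θ₀ hθ₀
      have h2 : 0 < m.factorization p := by
        rw [← h1.2]
        exact hp.factorization_pos_of_dvd (by have := hpos θ₀; omega) h1.1
      exact Nat.dvd_of_factorization_pos (Nat.pos_iff_ne_zero.1 h2)
    have ha : 0 < m.factorization p := hp.factorization_pos_of_dvd hm0 hpm
    apply hfin (m.factorization p) m ha
    · intro θ hθ1
      exact (hall θ hθ1).2
    · intro χ h1 h2
      rcases hcd χ with h | h | h
      · exact absurd h h1
      · exact absurd h h2
      · rw [h, hfn]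

end caseB

end Cfsg.Agent.Helper20.CD3
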