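import Cfsg.Agent.Lib.Helper20.CD3FrobAPI

set_option autoImplicit false
set_option linter.unusedVariables false
set_option linter.unusedSectionVars false
set_option linter.style.haveILetI false

/-! CD3 server (helper55), piece (FD): `|G:F|` is a character degree. -/

namespace Cfsg.Agent.Helper20.CD3

open Cfsg Cfsg.Agent.Helper79 Cfsg.Agent.Helper81 Cfsg.Agent.Helper55.CD3
open scoped ComplexConjugate

universe u

section general
variable {G : Type u} [Group G] [Finite G]

/-- (FD) `|G:F|` is a character degree. -/
theorem frob_deg (K F : Subgroup G) [K.Normal] [F.Normal] (p : ℕ) (h : Frob K F p) :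
    HasDeg G F.index ∧ 1 < F.index := by
  obtain ⟨k, hk, hidx⟩ := h.card
  exact ⟨index_mem_cd K F (frob_habF h) (frob_habG h) (frob_hfpf h) p k h.prime hk hidx,
    frob_one_lt_index h⟩

end general

end Cfsg.Agent.Helper20.CD3
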