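import Cfsg.Agent.Lib.Helper55.CD3Defs
import Cfsg.Agent.Lib.Helper20.CD3CaseB

set_option autoImplicit false
set_option linter.style.haveILetI false
set_option linter.unusedSectionVars false

/-! Unpacking helper55's structure `Frob K F p` into the hypotheses of the 12.4 lemmas. -/

namespace Cfsg.Agent.Helper20.CD3

open Cfsg Cfsg.Agent.Helper79 Cfsg.Agent.Helper81 Cfsg.Agent.Helper55.CD3
open scoped commutatorElement

universe u

section frobapi
variable {G : Type u} [Group G]

theorem frob_habF {K F : Subgroup G} [K.Normal] [F.Normal] {p : ℕ} (h : Frob K F p) :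
    ∀ x ∈ F, ∀ y ∈ F, ⁅x, y⁆ ∈ K := by
  intro x hx y hy
  rw [commutatorElement_def]
  exact h.comm x hx y hy

theorem frob_habG {K F : Subgroup G} [K.Normal] [F.Normal] {p : ℕ} (h : Frob K F p) :
    ∀ a b : G, ⁅a, b⁆ ∈ F := by
  intro a b
  apply h.ab
  rw [commutator_def]
  exact Subgroup.commutator_mem_commutator (Subgroup.mem_top a) (Subgroup.mem_top b)

theorem frob_hfpf {K F : Subgroup G} [K.Normal] [F.Normal] {p : ℕ} (h : Frob K F p) :
    ∀ g : G, g ∉ F → ∀ x ∈ F, ⁅g, x⁆ ∈ K → x ∈ K := by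
  intro g hg x hx hc
  rw [commutatorElement_def] at hc
  exact h.fpf g hg x hx hc

theorem frob_one_lt_index [Finite G] {K F : Subgroup G} [K.Normal] [F.Normal] {p : ℕ}
    (h : Frob K F p) : 1 < F.index := by
  have h1 : F.index ≠ 1 := fun h1 => h.ne_top (Subgroup.index_eq_one.1 h1)
  have h0 : F.index ≠ 0 := Subgroup.index_ne_zero_of_finite
  omega

end frobapi

end Cfsg.Agent.Helper20.CD3
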