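import Cfsg.Agent.Lib.Helper20.CD3FrobAPI

set_option autoImplicit false
set_option linter.unusedVariables false
set_option linter.unusedSectionVars false
set_option linter.style.haveILetI false

/-! CD3 server (helper55), piece (L124): Isaacs 12.4 in general form. -/

namespace Cfsg.Agent.Helper20.CD3

open Cfsg Cfsg.Agent.Helper79 Cfsg.Agent.Helper81 Cfsg.Agent.Helper55.CD3
open scoped ComplexConjugate

universe u

section general
variable {G : Type u} [Group G] [Finite G]

/-- (L124) Isaacs 12.4, GENERAL form (no `cd` hypothesis). -/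
theorem lemma12_4 (K F : Subgroup G) [K.Normal] [F.Normal] (p : ℕ) (h : Frob K F p)
    (θ : IrrCharacter F) :
    (∀ x : F, (x : G) ∉ K → (θ : F → ℂ) x = 0) ∨ HasDeg G (F.index * charDegree (θ : F → ℂ)) :=
  strong124 K F (frob_habF h) (frob_habG h) (frob_hfpf h) θ

end general

end Cfsg.Agent.Helper20.CD3
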