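import Cfsg.Agent.Lib.Helper76.CD2Final

set_option autoImplicit false
set_option linter.style.haveILetI false
set_option linter.unusedSectionVars false

/-! A strong and general form of Isaacs' Lemma 12.4: if `K ≤ F` are normal in `G`, `G / F` is
abelian and every element outside `F` acts fixed-point-freely on `F / K`, then every irreducible
character `θ` of `F` either vanishes off `K`, or `|G : F| θ(1)` is a character degree of `G`. -/

namespace Cfsg.Agent.Helper20.CD3

open Cfsg Cfsg.Agent.Helper79 Cfsg.Agent.Helper81 Cfsg.Agent.Helper76.CD2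
open scoped commutatorElement

universe u

section abstractPart

/-- In a commutative group, let `c` be an endomorphism without nontrivial fixed points in `Λ` and
`U ≤ Λ` a finite `c`-stable subgroup. If `c η / η ∈ U` for some `η ∈ Λ`, then `η ∈ U`. -/
theorem mem_of_div_mem {A : Type*} [CommGroup A] (c : A →* A) (Λ U : Subgroup A) [Finite U]
    (hUΛ : U ≤ Λ) (hfix : ∀ a ∈ Λ, c a = a → a = 1) (hUc : ∀ u ∈ U, c u ∈ U)
    {η : A} (hη : η ∈ Λ) (h : c η / η ∈ U) : η ∈ U := by
  let φ : U → U := fun u => ⟨c u / u, U.div_mem (hUc u u.2) u.2⟩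
  have hinj : Function.Injective φ := by
    intro u v huv
    have h1 : c (u : A) / u = c (v : A) / v := congrArg Subtype.val huv
    rw [div_eq_div_iff_mul_eq_mul] at h1
    have h2 : c ((u : A) / v) = (u : A) / v := by
      rw [map_div, div_eq_div_iff_mul_eq_mul, h1, mul_comm]
    have h3 := hfix _ (Λ.div_mem (hUΛ u.2) (hUΛ v.2)) h2
    exact Subtype.ext (div_eq_one.1 h3)
  have hsurj : Function.Surjective φ := Finite.injective_iff_surjective.1 hinj
  obtain ⟨u, hu⟩ := hsurj ⟨c η / η, h⟩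
  have h1 : c (u : A) / u = c η / η := congrArg Subtype.val hu
  rw [div_eq_div_iff_mul_eq_mul] at h1
  have h2 : c (η / (u : A)) = η / u := by
    rw [map_div, div_eq_div_iff_mul_eq_mul, ← h1, mul_comm]
  have h3 := hfix _ (Λ.div_mem hη (hUΛ u.2)) h2
  rw [div_eq_one] at h3
  rw [h3]; exact u.2

/-- Two twists of `x` fixed by the same semi-equivariant map coincide. -/
theorem smul_eq_of_common_fix {A X : Type*} [CommGroup A] [MulAction A X] (c : A →* A)
    (γ : X → X) (hγ : ∀ (a : A) (x : X), γ (a • x) = c a • γ x)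
    (Λ : Subgroup A) [Finite Λ] (hΛc : ∀ a ∈ Λ, c a ∈ Λ) (hfix : ∀ a ∈ Λ, c a = a → a = 1)
    (x : X) {mu nu : A} (hmu : mu ∈ Λ) (hnu : nu ∈ Λ)
    (h1 : γ (mu • x) = mu • x) (h2 : γ (nu • x) = nu • x) : mu • x = nu • x := by
  have e1 : γ x = (mu / c mu) • x := by
    rw [hγ] at h1
    rw [div_eq_mul_inv, mul_comm, mul_smul, ← h1, inv_smul_smul]
  have e2 : γ x = (nu / c nu) • x := by
    rw [hγ] at h2
    rw [div_eq_mul_inv, mul_comm, mul_smul, ← h2, inv_smul_smul]
  let U : Subgroup A := MulAction.stabilizer A x ⊓ Λ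
  haveI : Finite U := Finite.of_injective (fun u : U => (⟨u.1, (Subgroup.mem_inf.1 u.2).2⟩ : Λ))
    (by
      intro u v huv
      exact Subtype.ext (congrArg (fun w : Λ => (w : A)) huv))
  have hUΛ : U ≤ Λ := inf_le_right
  have hUc : ∀ u ∈ U, c u ∈ U := by
    intro u hu
    have hu' := Subgroup.mem_inf.1 hu
    refine Subgroup.mem_inf.2 ⟨?_, hΛc u hu'.2⟩
    have hux : u • x = x := MulAction.mem_stabilizer_iff.1 hu'.1
    have h3 : c u • γ x = γ x := by rw [← hγ, hux]
    rw [e1, smul_smul, mul_comm, ← smul_smul] at h3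
    exact MulAction.mem_stabilizer_iff.2 (smul_left_cancel _ h3)
  have hη : mu / nu ∈ Λ := Λ.div_mem hmu hnu
  have hdiv : c (mu / nu) / (mu / nu) ∈ U := by
    refine Subgroup.mem_inf.2 ⟨?_, Λ.div_mem (hΛc _ hη) hη⟩
    rw [MulAction.mem_stabilizer_iff]
    have h4 : (mu / c mu) • x = (nu / c nu) • x := by rw [← e1, ← e2]
    have h5 : c (mu / nu) / (mu / nu) = (mu / c mu)⁻¹ * (nu / c nu) := by
      rw [map_div, inv_div, div_mul_div_comm, div_div_div_eq, mul_comm (c nu) mu]
    rw [h5, mul_smul, ← h4, inv_smul_smul]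
  have hmem := mem_of_div_mem c Λ U hUΛ hfix hUc hη hdiv
  have hstab : (mu / nu) • x = x := MulAction.mem_stabilizer_iff.1 (Subgroup.mem_inf.1 hmem).1
  calc mu • x = ((mu / nu) * nu) • x := by rw [div_mul_cancel]
    _ = (nu * (mu / nu)) • x := by rw [mul_comm]
    _ = nu • x := by rw [mul_smul, hstab]

/-- if `b • x = a • x` then `a / b` stabilises `x` -/
theorem div_smul_eq_of {A X : Type*} [CommGroup A] [MulAction A X] {a b : A} {x : X}
    (h : b • x = a • x) : (a / b) • x = x := by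
  rw [div_eq_mul_inv, mul_comm, mul_smul, ← h, inv_smul_smul]

end abstractPart

section concretePart
variable {G : Type u} [Group G] [Fintype G]

/-- the twisting action of linear characters on functions -/
@[reducible] def twAct (N : Type*) [Group N] : MulAction (N →* ℂˣ) (N → ℂ) where
  smul a ψ := linFun a * ψ
  one_smul ψ := by
    show linFun (1 : N →* ℂˣ) * ψ = ψ
    funext x
    simp [linFun_apply]
  mul_smul a b ψ := by
    show linFun (a * b) * ψ = linFun a * (linFun b * ψ)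
    funext x
    simp [linFun_apply, mul_assoc]

/-- conjugation by `g` as an endomorphism of the group of linear characters of `N` -/
def cgHom (N : Subgroup G) [hN : N.Normal] (g : G) : (N →* ℂˣ) →* (N →* ℂˣ) where
  toFun mu := conjHom N mu g
  map_one' := MonoidHom.ext fun _ => rfl
  map_mul' _ _ := MonoidHom.ext fun _ => rfl

theorem cgHom_apply (N : Subgroup G) [hN : N.Normal] (g : G) (mu : N →* ℂˣ) :
    cgHom N g mu = conjHom N mu g := rfl

/-- **Key lemma.** If `G / N` is abelian, `Λ` is a `G`-stable group of linear characters of `N`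
on which every element outside `N` acts without nontrivial fixed points, and `ψ ∈ Irr(N)` is moved
by some member of `Λ`, then some twist of `ψ` by a member of `Λ` has inertia group `N`. -/
theorem twist_inertia (N : Subgroup G) [hN : N.Normal] (hab : ∀ a b : G, ⁅a, b⁆ ∈ N)
    (Λ : Subgroup (N →* ℂˣ))
    (hstab : ∀ mu ∈ Λ, ∀ g : G, conjHom N mu g ∈ Λ)
    (hfpf : ∀ g : G, g ∉ N → ∀ mu ∈ Λ, conjHom N mu g = mu → mu = 1)
    {ψ : N → ℂ} (hψ : IsIrrCharacter N ψ) {mu0 : N →* ℂˣ} (hmu0 : mu0 ∈ Λ)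
    (hne : linFun mu0 * ψ ≠ ψ) :
    ∃ mu ∈ Λ, ∀ g : G, conjFun N hN (linFun mu * ψ) g = linFun mu * ψ → g ∈ N := by
  classical
  letI := twAct N
  haveI : Finite (N →* ℂˣ) := inferInstance
  haveI : Finite Λ := inferInstance
  by_cases h0 : ∀ g : G, conjFun N hN ψ g = ψ → g ∈ N
  · refine ⟨1, Λ.one_mem, ?_⟩
    have h1 : linFun (1 : N →* ℂˣ) * ψ = ψ := one_smul (N →* ℂˣ) ψ
    rw [h1]; exact h0
  · push Not at h0
    obtain ⟨g, hgψ, hgN⟩ := h0
    refine ⟨mu0, hmu0, ?_⟩
    intro h hh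
    by_contra hhN
    have hirr0 : IsIrrCharacter N (linFun mu0 * ψ) :=
      isIrrCharacter_hom_mul ((Units.coeHom ℂ).comp mu0) hψ
    -- (a) `h` also fixes the `g`-conjugate twist
    have ha : conjFun N hN (linFun (conjHom N mu0 g) * ψ) h = linFun (conjHom N mu0 g) * ψ := by
      have e : linFun (conjHom N mu0 g) * ψ = conjFun N hN (linFun mu0 * ψ) g := by
        rw [conjFun_linFun_mul, hgψ]
      rw [e, conjFun_mul]
      have hc : (h * g)⁻¹ * (g * h) ∈ N := by
        have h2 := hab g⁻¹ h⁻¹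
        have e2 : (h * g)⁻¹ * (g * h) = ⁅g⁻¹, h⁻¹⁆ := by
          rw [commutatorElement_def]; group
        rw [e2]; exact h2
      have e3 : g * h = (h * g) * ((h * g)⁻¹ * (g * h)) := by group
      rw [e3, ← conjFun_mul,
        conjFun_of_mem N (conjFun_isIrrCharacter N hN hirr0 (h * g)) _ hc, ← conjFun_mul, hh]
    -- (b) so the two twists coincide
    have hb : mu0 • ψ = (conjHom N mu0 g) • ψ :=
      smul_eq_of_common_fix (cgHom N h) (fun θ => conjFun N hN θ h)
        (fun a θ => conjFun_linFun_mul N a θ h) Λ (fun a ha => hstab a ha h)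
        (fun a ha => hfpf h hhN a ha) ψ hmu0 (hstab mu0 hmu0 g) hh ha
    -- (c) and then `mu0` stabilises `ψ`
    let U : Subgroup (N →* ℂˣ) := MulAction.stabilizer (N →* ℂˣ) ψ ⊓ Λ
    haveI : Finite U := inferInstance
    have hUc : ∀ u ∈ U, cgHom N g u ∈ U := by
      intro u hu
      have hu' := Subgroup.mem_inf.1 hu
      refine Subgroup.mem_inf.2 ⟨?_, hstab u hu'.2 g⟩
      rw [MulAction.mem_stabilizer_iff]
      have hux : u • ψ = ψ := MulAction.mem_stabilizer_iff.1 hu'.1
      have h3 : conjFun N hN (u • ψ) g = (conjHom N u g) • conjFun N hN ψ g :=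
        conjFun_linFun_mul N u ψ g
      rw [hux, hgψ] at h3
      exact h3.symm
    have hdiv : cgHom N g mu0 / mu0 ∈ U := by
      refine Subgroup.mem_inf.2 ⟨?_, Λ.div_mem (hstab mu0 hmu0 g) hmu0⟩
      rw [MulAction.mem_stabilizer_iff, cgHom_apply]
      exact div_smul_eq_of hb
    have hmem := mem_of_div_mem (cgHom N g) Λ U inf_le_right (fun a ha => hfpf g hgN a ha) hUc
      hmu0 hdiv
    exact hne (MulAction.mem_stabilizer_iff.1 (Subgroup.mem_inf.1 hmem).1)

/-- the degree statement that follows from `twist_inertia` -/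
theorem exists_degree_of_twist (N : Subgroup G) [hN : N.Normal] (hab : ∀ a b : G, ⁅a, b⁆ ∈ N)
    (Λ : Subgroup (N →* ℂˣ))
    (hstab : ∀ mu ∈ Λ, ∀ g : G, conjHom N mu g ∈ Λ)
    (hfpf : ∀ g : G, g ∉ N → ∀ mu ∈ Λ, conjHom N mu g = mu → mu = 1)
    (ψ : IrrCharacter N) {mu0 : N →* ℂˣ} (hmu0 : mu0 ∈ Λ)
    (hne : linFun mu0 * (ψ : N → ℂ) ≠ ψ) :
    ∃ χ : IrrCharacter G, charDegree (χ : G → ℂ) = N.index * charDegree (ψ : N → ℂ) := by
  classical
  haveI : Fintype N := Fintype.ofFinite N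
  obtain ⟨mu, -, hgood⟩ := twist_inertia N hab Λ hstab hfpf ψ.2 hmu0 hne
  have hirr : IsIrrCharacter N (linFun mu * (ψ : N → ℂ)) :=
    isIrrCharacter_hom_mul ((Units.coeHom ℂ).comp mu) ψ.2
  have hT : ∀ g : G, g ∈ N ↔ conjFun N hN (linFun mu * (ψ : N → ℂ)) g = linFun mu * (ψ : N → ℂ) :=
    fun g => ⟨fun hg => conjFun_of_mem N hirr g hg, hgood g⟩
  have hne' : classInner (resTo (le_refl N) (linFun mu * (ψ : N → ℂ)))
      (linFun mu * (ψ : N → ℂ)) ≠ 0 := by
    have : resTo (le_refl N) (linFun mu * (ψ : N → ℂ)) = linFun mu * (ψ : N → ℂ) := by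
      funext n; rfl
    rw [this, irr_orthonormal hirr hirr, if_pos rfl]
    exact one_ne_zero
  have hind := (clifford_corr_irr N N hN (le_refl N) hirr hT hirr hne').1
  refine ⟨⟨_, hind⟩, ?_⟩
  apply charDegree_eq_of_one
  show indFun N (linFun mu * (ψ : N → ℂ)) 1 = _
  rw [indFun_one, Pi.mul_apply, linFun_apply, map_one, Units.val_one, one_mul, (irr_one_eq ψ).1]
  push_cast; ring

end concretePart

section modK
variable {G : Type u} [Group G] [Fintype G]

/-- the linear characters of `F` that are trivial on `K` -/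
def linMod (K F : Subgroup G) : Subgroup (F →* ℂˣ) where
  carrier := {mu | ∀ x : F, (x : G) ∈ K → mu x = 1}
  one_mem' := fun _ _ => rfl
  mul_mem' := by
    intro a b ha hb x hx
    rw [MonoidHom.mul_apply, ha x hx, hb x hx, one_mul]
  inv_mem' := by
    intro a ha x hx
    rw [MonoidHom.inv_apply, ha x hx, inv_one]

theorem mem_linMod (K F : Subgroup G) (mu : F →* ℂˣ) :
    mu ∈ linMod K F ↔ ∀ x : F, (x : G) ∈ K → mu x = 1 := Iff.rfl

theorem linMod_stable (K F : Subgroup G) [hK : K.Normal] [hF : F.Normal] (mu : F →* ℂˣ)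
    (hmu : mu ∈ linMod K F) (g : G) : conjHom F mu g ∈ linMod K F := by
  intro x hx
  rw [conjHom_apply]
  exact hmu _ (hK.conj_mem _ hx g)

/-- the commutator `[g, x]` as an element of the normal subgroup `F` -/
def cmEl (F : Subgroup G) [hF : F.Normal] (g : G) (x : F) : F :=
  ⟨g * x * g⁻¹ * (x : G)⁻¹, F.mul_mem (hF.conj_mem x x.2 g) (F.inv_mem x.2)⟩

theorem cmEl_coe (F : Subgroup G) [hF : F.Normal] (g : G) (x : F) :
    ((cmEl F g x : F) : G) = g * x * g⁻¹ * (x : G)⁻¹ := rfl

/-- dual form of fixed-point-freeness: a `g`-invariant linear character of `F / K` is trivial when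
`g` acts fixed-point-freely on `F / K` -/
theorem linMod_fpf (K F : Subgroup G) [hK : K.Normal] [hF : F.Normal] (g : G)
    (hfpf : ∀ x ∈ F, ⁅g, x⁆ ∈ K → x ∈ K)
    (mu : F →* ℂˣ) (hmu : mu ∈ linMod K F) (hinv : conjHom F mu g = mu) : mu = 1 := by
  classical
  let φ : F ⧸ K.subgroupOf F → F ⧸ K.subgroupOf F := fun q =>
    ((cmEl F g q.out : F) : F ⧸ K.subgroupOf F)
  have hinj : Function.Injective φ := by
    intro q₁ q₂ h
    have h1 : (cmEl F g q₁.out)⁻¹ * cmEl F g q₂.out ∈ K.subgroupOf F := QuotientGroup.eq.1 h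
    rw [Subgroup.mem_subgroupOf] at h1
    have h2 : ⁅g, ((q₁.out : F) : G)⁻¹ * ((q₂.out : F) : G)⁆ ∈ K := by
      have e : ⁅g, ((q₁.out : F) : G)⁻¹ * ((q₂.out : F) : G)⁆ =
          ((q₁.out : F) : G)⁻¹ * (((cmEl F g q₁.out)⁻¹ * cmEl F g q₂.out : F) : G) *
            (((q₁.out : F) : G)⁻¹)⁻¹ := by
        rw [commutatorElement_def, Subgroup.coe_mul, Subgroup.coe_inv, cmEl_coe, cmEl_coe]
        group
      rw [e]
      exact hK.conj_mem _ h1 _
    have h3 := hfpf _ (F.mul_mem (F.inv_mem (q₁.out).2) (q₂.out).2) h2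
    have h4 : ((q₁.out : F) : F ⧸ K.subgroupOf F) = ((q₂.out : F) : F ⧸ K.subgroupOf F) := by
      rw [QuotientGroup.eq, Subgroup.mem_subgroupOf, Subgroup.coe_mul, Subgroup.coe_inv]
      exact h3
    rw [QuotientGroup.out_eq', QuotientGroup.out_eq'] at h4
    exact h4
  have hsurj : Function.Surjective φ := Finite.injective_iff_surjective.1 hinj
  apply MonoidHom.ext
  intro y
  obtain ⟨q, hq⟩ := hsurj (y : F ⧸ K.subgroupOf F)
  have h1 : (cmEl F g q.out)⁻¹ * y ∈ K.subgroupOf F := QuotientGroup.eq.1 hq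
  have h2 := hmu _ (Subgroup.mem_subgroupOf.1 h1)
  rw [map_mul, map_inv, inv_mul_eq_one] at h2
  rw [MonoidHom.one_apply, ← h2]
  have e : cmEl F g q.out = ⟨g * (q.out : F) * g⁻¹, hF.conj_mem _ (q.out).2 g⟩ * (q.out)⁻¹ :=
    Subtype.ext rfl
  have h3 : conjHom F mu g q.out = mu q.out := DFunLike.congr_fun hinv q.out
  rw [conjHom_apply] at h3
  rw [e, map_mul, map_inv, h3, mul_inv_cancel]

/-- linear characters of `F / K` separate the elements of `F` from `K` when `F / K` is abelian -/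
theorem exists_linMod_ne_one (K F : Subgroup G) [hK : K.Normal]
    (habF : ∀ x ∈ F, ∀ y ∈ F, ⁅x, y⁆ ∈ K) (x : F) (hx : (x : G) ∉ K) :
    ∃ mu ∈ linMod K F, mu x ≠ 1 := by
  classical
  letI : CommGroup (F ⧸ K.subgroupOf F) :=
    { (inferInstance : Group (F ⧸ K.subgroupOf F)) with
      mul_comm := by
        intro a b
        induction a using QuotientGroup.induction_on with
        | _ a =>
        induction b using QuotientGroup.induction_on with
        | _ b =>
        rw [← QuotientGroup.mk_mul, ← QuotientGroup.mk_mul, QuotientGroup.eq,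
          Subgroup.mem_subgroupOf]
        have h := habF _ (F.inv_mem b.2) _ (F.inv_mem a.2)
        have e : (((a * b)⁻¹ * (b * a) : F) : G) = ⁅(b : G)⁻¹, (a : G)⁻¹⁆ := by
          rw [commutatorElement_def]; push_cast; group
        rw [e]; exact h }
  haveI : NeZero (Monoid.exponent (F ⧸ K.subgroupOf F)) :=
    ⟨Monoid.exponent_ne_zero_of_finite⟩
  have hx' : ((x : F) : F ⧸ K.subgroupOf F) ≠ 1 := by
    intro h
    rw [QuotientGroup.eq_one_iff, Subgroup.mem_subgroupOf] at h
    exact hx h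
  obtain ⟨φ, hφ⟩ :=
    CommGroup.exists_apply_ne_one_of_hasEnoughRootsOfUnity (F ⧸ K.subgroupOf F) ℂ hx'
  refine ⟨φ.comp (QuotientGroup.mk' (K.subgroupOf F)), ?_, hφ⟩
  intro y hy
  show φ ((y : F) : F ⧸ K.subgroupOf F) = 1
  rw [(QuotientGroup.eq_one_iff y).2 (Subgroup.mem_subgroupOf.2 hy), map_one]

/-- **Strong Lemma 12.4** (Fintype form). -/
theorem strong124_fintype (K F : Subgroup G) [hK : K.Normal] [hF : F.Normal]
    (habF : ∀ x ∈ F, ∀ y ∈ F, ⁅x, y⁆ ∈ K)
    (habG : ∀ a b : G, ⁅a, b⁆ ∈ F)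
    (hfpf : ∀ g : G, g ∉ F → ∀ x ∈ F, ⁅g, x⁆ ∈ K → x ∈ K)
    (θ : IrrCharacter F) :
    (∀ x : F, (x : G) ∉ K → (θ : F → ℂ) x = 0) ∨
      ∃ χ : IrrCharacter G, charDegree (χ : G → ℂ) = F.index * charDegree (θ : F → ℂ) := by
  by_cases hall : ∀ mu ∈ linMod K F, linFun mu * (θ : F → ℂ) = θ
  · left
    intro x hx
    obtain ⟨mu, hmu, hmux⟩ := exists_linMod_ne_one K F habF x hx
    have h1 := congrFun (hall mu hmu) x
    rw [Pi.mul_apply, linFun_apply] at h1
    by_contra h0
    apply hmux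
    have h2 : ((mu x : ℂˣ) : ℂ) = 1 := mul_right_cancel₀ h0 (h1.trans (one_mul _).symm)
    exact Units.ext h2
  · right
    push Not at hall
    obtain ⟨mu0, hmu0, hne⟩ := hall
    exact exists_degree_of_twist F habG (linMod K F)
      (fun mu hmu g => linMod_stable K F mu hmu g)
      (fun g hg mu hmu hinv => linMod_fpf K F g (hfpf g hg) mu hmu hinv) θ hmu0 hne

end modK

/-- **Strong Lemma 12.4.**  Let `K, F` be normal subgroups of the finite group `G` such that
`F / K` and `G / F` are abelian and every element of `G` outside `F` acts fixed-point-freely on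
`F / K`.  Then every `θ ∈ Irr(F)` either vanishes off `K`, or `|G : F| θ(1)` is the degree of an
irreducible character of `G`. -/
theorem strong124 {G : Type u} [Group G] [Finite G] (K F : Subgroup G) [hK : K.Normal]
    [hF : F.Normal]
    (habF : ∀ x ∈ F, ∀ y ∈ F, ⁅x, y⁆ ∈ K)
    (habG : ∀ a b : G, ⁅a, b⁆ ∈ F)
    (hfpf : ∀ g : G, g ∉ F → ∀ x ∈ F, ⁅g, x⁆ ∈ K → x ∈ K)
    (θ : IrrCharacter F) :
    (∀ x : F, (x : G) ∉ K → (θ : F → ℂ) x = 0) ∨
      ∃ χ : IrrCharacter G, charDegree (χ : G → ℂ) = F.index * charDegree (θ : F → ℂ) := by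
  haveI : Fintype G := Fintype.ofFinite G
  exact strong124_fintype K F habF habG hfpf θ

end Cfsg.Agent.Helper20.CD3
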