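import Cfsg.Agent.Lib.Helper20.CD3S124

set_option autoImplicit false
set_option linter.style.haveILetI false
set_option linter.unusedSectionVars false

/-! Companion of the strong Lemma 12.4: an irreducible character of `F` vanishing off the normal
subgroup `K`, with `F / K` an abelian group of order `p ^ k > 1`, has degree divisible by `p`. -/

namespace Cfsg.Agent.Helper20.CD3

open Cfsg Cfsg.Agent.Helper79 Cfsg.Agent.Helper81 Cfsg.Agent.Helper76.CD2
open scoped commutatorElement

universe u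

section vanK
variable {G : Type u} [Group G]

/-- a power of an element of `F` by the index of `K` in `F` lies in `K` -/
theorem pow_relIndex_mem (K F : Subgroup G) [hK : K.Normal] [Finite G] (x : F) :
    ((x ^ K.relIndex F : F) : G) ∈ K := by
  have h1 : ((x : F) : F ⧸ K.subgroupOf F) ^ Nat.card (F ⧸ K.subgroupOf F) = 1 := pow_card_eq_one'
  rw [← QuotientGroup.mk_pow, QuotientGroup.eq_one_iff, Subgroup.mem_subgroupOf] at h1
  have h2 : K.relIndex F = Nat.card (F ⧸ K.subgroupOf F) := by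
    rw [Subgroup.relIndex, Subgroup.index_eq_card]
  rw [h2]
  exact h1

/-- **Companion of 12.4.** -/
theorem p_dvd_degree_of_vanish_off [Finite G] (K F : Subgroup G) [hK : K.Normal]
    (habF : ∀ x ∈ F, ∀ y ∈ F, ⁅x, y⁆ ∈ K) (p k : ℕ) (hp : p.Prime) (hk : 0 < k)
    (hidx : K.relIndex F = p ^ k) (θ : IrrCharacter F)
    (hvan : ∀ x : F, (x : G) ∉ K → (θ : F → ℂ) x = 0) : p ∣ charDegree (θ : F → ℂ) := by
  classical
  haveI : Fintype G := Fintype.ofFinite G
  haveI : Fintype F := Fintype.ofFinite F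
  by_contra hnd
  have hcop : Nat.Coprime (charDegree (θ : F → ℂ)) (p ^ k) :=
    Nat.Coprime.pow_right k ((Nat.Prime.coprime_iff_not_dvd hp).2 hnd).symm
  -- an element of `F` outside `K`
  have hex : ∃ x : F, (x : G) ∉ K := by
    by_contra hall
    push Not at hall
    have htop : K.subgroupOf F = ⊤ := by
      rw [eq_top_iff]
      intro x _
      exact Subgroup.mem_subgroupOf.2 (hall x)
    have h1 : K.relIndex F = 1 := by rw [Subgroup.relIndex, htop, Subgroup.index_top]
    rw [hidx] at h1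
    have h2 : 1 < p ^ k := Nat.one_lt_pow (Nat.pos_iff_ne_zero.1 hk) hp.one_lt
    omega
  obtain ⟨x, hx⟩ := hex
  obtain ⟨mu, hmu, hmux⟩ := exists_linMod_ne_one K F habF x hx
  have hmul : ∀ n : F, ((mu n : ℂˣ) : ℂ) * (θ : F → ℂ) n = (θ : F → ℂ) n := by
    intro n
    by_cases hn : (n : G) ∈ K
    · rw [hmu n hn, Units.val_one, one_mul]
    · rw [hvan n hn, mul_zero]
  have he : ∀ n : F, mu n ^ (p ^ k) = 1 := by
    intro n
    rw [← map_pow, ← hidx]
    exact hmu _ (pow_relIndex_mem K F n)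
  have h1 := eq_one_of_mul_eq θ.2 (charDegree (θ : F → ℂ)) (irr_one_eq θ).1 mu hmul (p ^ k) he hcop
  apply hmux
  rw [h1, MonoidHom.one_apply]

/-- **Lemma 12.4, degree form.**  `K, F ⊴ G`, `F / K` abelian of order `p ^ k > 1`, `G / F`
abelian, every element outside `F` fixed-point-free on `F / K`.  Then for every `θ ∈ Irr(F)` either
`p ∣ θ(1)` (indeed `θ` vanishes off `K`) or `|G : F| θ(1)` is a character degree of `G`. -/
theorem lemma124_degree [Finite G] (K F : Subgroup G) [hK : K.Normal] [hF : F.Normal]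
    (habF : ∀ x ∈ F, ∀ y ∈ F, ⁅x, y⁆ ∈ K)
    (habG : ∀ a b : G, ⁅a, b⁆ ∈ F)
    (hfpf : ∀ g : G, g ∉ F → ∀ x ∈ F, ⁅g, x⁆ ∈ K → x ∈ K)
    (p k : ℕ) (hp : p.Prime) (hk : 0 < k) (hidx : K.relIndex F = p ^ k)
    (θ : IrrCharacter F) :
    ((∀ x : F, (x : G) ∉ K → (θ : F → ℂ) x = 0) ∧ p ∣ charDegree (θ : F → ℂ)) ∨
      ∃ χ : IrrCharacter G, charDegree (χ : G → ℂ) = F.index * charDegree (θ : F → ℂ) := by
  rcases strong124 K F habF habG hfpf θ with h | h
  · exact Or.inl ⟨h, p_dvd_degree_of_vanish_off K F habF p k hp hk hidx θ h⟩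
  · exact Or.inr h

end vanK

end Cfsg.Agent.Helper20.CD3
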