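import Mathlib
import Cfsg.Prelude.Def_Transfer
import Cfsg.Agent.Lib.Helper24.CYCDefs

/-!
# CYC (C8) `compl_of_min` (helper24 lemma server, S4016) -- helper20

Schur-Zassenhaus in `N_G(P)` gives a complement `K`.  A `p'`-element `t ∈ C_G(P)` decomposes as `t = a k`, `a ∈ P`, `k ∈ K`;
`a⁻¹` and `t` commute and have coprime orders, so `o(k) = o(a) o(t)`; as `K` is a `p'`-group, `a = 1` and `t = k ∈ K`.
(Only `[Finite G]` is used, not `Min`.)
-/

set_option autoImplicit false

namespace Cfsg.Agent.Helper20.CYC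

open Subgroup Cfsg.Agent.Helper24.CYC

universe u

variable {G : Type u} [Group G] [Finite G] {p : ℕ} [Fact p.Prime]

theorem h20_compl (P : Sylow p G) :
    ∃ K : Subgroup G, K ≤ NP P ∧ ¬ p ∣ Nat.card K ∧ Nat.card K * Nat.card P = Nat.card (NP P) ∧
      ∀ t ∈ CP P, (orderOf t).Coprime p → t ∈ K := by
  classical
  set N : Subgroup G := NP P with hN
  have hPN : (P : Subgroup G) ≤ N := Subgroup.le_normalizer
  set P' : Subgroup N := (P : Subgroup G).subgroupOf N with hP'
  haveI : P'.Normal := Subgroup.normal_in_normalizer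
  have hcardP' : Nat.card P' = Nat.card (P : Subgroup G) :=
    Nat.card_congr (Subgroup.subgroupOfEquivOfLe hPN).toEquiv
  have hrel : P'.index ∣ (P : Subgroup G).index := Subgroup.relIndex_dvd_index_of_le hPN
  have hcop : Nat.Coprime (Nat.card P') P'.index := by
    rw [hcardP']
    exact Nat.Coprime.coprime_dvd_right hrel P.card_coprime_index
  obtain ⟨K', hK'⟩ := Subgroup.exists_right_complement'_of_coprime hcop
  have hcardK : Nat.card (K'.map N.subtype) = Nat.card K' :=
    Subgroup.card_map_of_injective N.subtype_injective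
  have hpK : ¬ p ∣ Nat.card (K'.map N.subtype) := by
    rw [hcardK, ← hK'.symm.index_eq_card]
    exact fun hd => P.not_dvd_index (hd.trans hrel)
  refine ⟨K'.map N.subtype, ?_, hpK, ?_, ?_⟩
  · rintro x ⟨y, -, rfl⟩
    exact y.2
  · rw [hcardK, mul_comm, ← hcardP']
    exact hK'.card_mul_card
  · intro t ht hto
    have htN : t ∈ N := Subgroup.centralizer_le_normalizer _ ht
    obtain ⟨⟨a, k⟩, hak, -⟩ := (Subgroup.IsComplement.existsUnique hK' (⟨t, htN⟩ : N))
    have hak' : (a.1 : G) * (k.1 : G) = t := congrArg Subtype.val hak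
    have haP : (a.1 : G) ∈ (P : Subgroup G) := Subgroup.mem_subgroupOf.1 a.2
    have hkK : (k.1 : G) ∈ K'.map N.subtype := ⟨k.1, k.2, rfl⟩
    -- `a` commutes with `t`
    have hcomm : Commute ((a.1 : G)⁻¹) t := by
      rw [mem_centralizer_iff] at ht
      exact (show Commute (a.1 : G) t from ht _ haP).inv_left
    -- order of `a`
    obtain ⟨j, hj⟩ := (IsPGroup.iff_orderOf.1 P.isPGroup') ⟨(a.1 : G), haP⟩
    have hj' : orderOf ((a.1 : G)⁻¹) = p ^ j := by
      rw [orderOf_inv, ← hj]
      exact (Subgroup.orderOf_mk _ _).symm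
    have hk0 : (k.1 : G) = (a.1 : G)⁻¹ * t := by rw [← hak']; group
    have hcop2 : (orderOf ((a.1 : G)⁻¹)).Coprime (orderOf t) := by
      rw [hj']; exact Nat.Coprime.pow_left j hto.symm
    have hord : orderOf (k.1 : G) = p ^ j * orderOf t := by
      rw [hk0, hcomm.orderOf_mul_eq_mul_orderOf_of_coprime hcop2, hj']
    have hdvd : orderOf (k.1 : G) ∣ Nat.card (K'.map N.subtype) := by
      have := orderOf_dvd_natCard (⟨(k.1 : G), hkK⟩ : K'.map N.subtype)
      rwa [Subgroup.orderOf_mk] at this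
    have hj0 : j = 0 := by
      by_contra hne
      apply hpK
      refine dvd_trans ?_ hdvd
      rw [hord]
      exact dvd_mul_of_dvd_left (dvd_pow_self p hne) _
    have ha1 : (a.1 : G)⁻¹ = 1 := by
      rw [← orderOf_eq_one_iff, hj', hj0, pow_zero]
    rw [hk0, ha1, one_mul] at hkK
    exact hkK

/-- (C8) a complement `K` to `P` in `N_G(P)` containing all `p'`-elements of `C_G(P)`. -/
theorem compl_of_min (hM : Min p G) (P : Sylow p G) :
    ∃ K : Subgroup G, K ≤ NP P ∧ ¬ p ∣ Nat.card K ∧ Nat.card K * Nat.card P = Nat.card (NP P) ∧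
      ∀ t ∈ CP P, (orderOf t).Coprime p → t ∈ K :=
  h20_compl P

end Cfsg.Agent.Helper20.CYC
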