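import Mathlib
import Cfsg.Prelude.Def_Transfer
import Cfsg.Agent.Lib.Helper24.CYCDefs
import Cfsg.Agent.Lib.Helper23.NPC

/-!
# CYC (R3) `concl_of_normal_p'` (helper24 lemma server, S4016) -- helper20
-/

set_option autoImplicit false

namespace Cfsg.Agent.Helper20.CYC

open Subgroup Cfsg.Agent.Helper24.CYC

universe u

variable {G : Type u} [Group G] [Finite G] {p : ℕ} [Fact p.Prime]

/-- (R3) a nontrivial normal `p'`-subgroup `M`. -/
theorem concl_of_normal_p' (h : Hyp p G)
    (ih : ∀ (H : Type u) [Group H] [Finite H], Nat.card H < Nat.card G → Hyp p H → Concl p H)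
    (hq : ∀ (M : Subgroup G) [M.Normal], ¬ p ∣ Nat.card M → Hyp p (G ⧸ M))
    (hB : ¬ Cfsg.HasNormalPComplement p G → ∀ P : Sylow p G, ∃ x ∈ NP P, (orderOf x).Coprime p ∧ x ∉ CP P)
    (hfpf : ∀ (P : Sylow p G) (x a : G), x ∈ NP P → (orderOf x).Coprime p → a ∈ P → a ≠ 1 → x * a = a * x → x ∈ CP P)
    (M : Subgroup G) [M.Normal] (hM1 : M ≠ ⊥) (hMp : ¬ p ∣ Nat.card M) : Concl p G := by
  classical
  have hp : p.Prime := Fact.out
  have hMcop : (Nat.card M).Coprime p := ((Nat.Prime.coprime_iff_not_dvd hp).2 hMp).symm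
  have hlt : Nat.card (G ⧸ M) < Nat.card G := by
    have h1 := Subgroup.card_eq_card_quotient_mul_card_subgroup M
    have hM2 : 1 < Nat.card M := (Subgroup.one_lt_card_iff_ne_bot M).2 hM1
    have hpos : 0 < Nat.card (G ⧸ M) := Nat.card_pos
    nlinarith
  have hcq : Concl p (G ⧸ M) := ih (G ⧸ M) hlt (hq M hMp)
  by_cases hnpc : Cfsg.HasNormalPComplement p G
  · exact Or.inl hnpc
  rcases hcq with hq1 | hq2
  · exact absurd (Cfsg.Agent.Helper23.hasNPC_of_quotient_coprime M hMcop hq1) hnpc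
  right
  set CM : Subgroup G := Subgroup.centralizer (M : Set G) with hCM
  haveI hCMn : CM.Normal := Subgroup.normal_centralizer
  -- every Sylow `p`-subgroup centralises `M`
  have hPcM : ∀ P : Sylow p G, (P : Subgroup G) ≤ CM := by
    intro P
    obtain ⟨x, hxN, hxo, hxC⟩ := hB hnpc P
    have hxM : x ∈ CM := by
      set H : Subgroup G := Subgroup.zpowers x ⊔ M with hH
      have hHp : ¬ p ∣ Nat.card H := by
        have e1 : Nat.card M * M.relIndex H = Nat.card H := by
          have := Subgroup.relIndex_mul_relIndex (⊥ : Subgroup G) M H bot_le le_sup_right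
          rwa [Subgroup.relIndex_bot_left, Subgroup.relIndex_bot_left] at this
        have e2 : M.relIndex H = M.relIndex (Subgroup.zpowers x) :=
          Subgroup.relIndex_sup_right (Subgroup.zpowers x) M
        have e3 : M.relIndex (Subgroup.zpowers x) ∣ orderOf x := by
          rw [← Nat.card_zpowers]; exact Subgroup.relIndex_dvd_card _ _
        intro hd
        rw [← e1] at hd
        rcases (Nat.Prime.dvd_mul hp).1 hd with hd | hd
        · exact hMp hd
        · rw [e2] at hd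
          exact (Nat.Prime.coprime_iff_not_dvd hp).1 hxo.symm (hd.trans e3)
      have hab := h.2 H hHp
      rw [hCM, mem_centralizer_iff]
      intro m hm
      have hx' : x ∈ H := le_sup_left (a := Subgroup.zpowers x) (Subgroup.mem_zpowers x)
      have hm' : m ∈ H := le_sup_right (b := M) hm
      have := hab.is_comm.comm (⟨m, hm'⟩ : H) ⟨x, hx'⟩
      exact congrArg Subtype.val this
    -- the map `a ↦ a x a⁻¹ x⁻¹` on `P` is injective, hence surjective
    have hxinv : ∀ a ∈ (P : Subgroup G), x * a * x⁻¹ ∈ (P : Subgroup G) := fun a ha =>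
      (mem_normalizer_iff.1 hxN a).1 ha
    let f : P → P := fun a => ⟨a.1 * x * a.1⁻¹ * x⁻¹, by
      have h1 : x * a.1⁻¹ * x⁻¹ ∈ (P : Subgroup G) := hxinv _ (inv_mem a.2)
      have : a.1 * x * a.1⁻¹ * x⁻¹ = a.1 * (x * a.1⁻¹ * x⁻¹) := by group
      rw [this]; exact mul_mem a.2 h1⟩
    have hf : Function.Injective f := by
      intro a b hab
      have h1 : a.1 * x * a.1⁻¹ * x⁻¹ = b.1 * x * b.1⁻¹ * x⁻¹ := congrArg Subtype.val hab
      have h2 : a.1 * x * a.1⁻¹ = b.1 * x * b.1⁻¹ := mul_right_cancel h1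
      -- `c = b⁻¹ a` commutes with `x`
      have h3 : x * (b.1⁻¹ * a.1) = (b.1⁻¹ * a.1) * x := by
        have : (b.1⁻¹ * a.1) * x * (b.1⁻¹ * a.1)⁻¹ = x := by
          calc (b.1⁻¹ * a.1) * x * (b.1⁻¹ * a.1)⁻¹ = b.1⁻¹ * (a.1 * x * a.1⁻¹) * b.1 := by group
            _ = b.1⁻¹ * (b.1 * x * b.1⁻¹) * b.1 := by rw [h2]
            _ = x := by group
        calc x * (b.1⁻¹ * a.1) = ((b.1⁻¹ * a.1) * x * (b.1⁻¹ * a.1)⁻¹) * (b.1⁻¹ * a.1) := by
              rw [this]
          _ = (b.1⁻¹ * a.1) * x := by group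
      have h4 : b.1⁻¹ * a.1 = 1 := by
        by_contra hne
        exact hxC (hfpf P x _ hxN hxo (mul_mem (inv_mem b.2) a.2) hne h3)
      apply Subtype.ext
      calc a.1 = b.1 * (b.1⁻¹ * a.1) := by group
        _ = b.1 := by rw [h4, mul_one]
    have hsurj : Function.Surjective f := Finite.injective_iff_surjective.1 hf
    intro b hb
    obtain ⟨a, ha⟩ := hsurj ⟨b, hb⟩
    have hb' : b = a.1 * x * a.1⁻¹ * x⁻¹ := (congrArg Subtype.val ha).symm
    rw [hb']
    exact mul_mem (hCMn.conj_mem x hxM a.1) (inv_mem hxM)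
  -- every Sylow `p`-subgroup of `G` is normal
  intro P
  have hπ : Function.Surjective (QuotientGroup.mk' M) := QuotientGroup.mk'_surjective M
  have hPbar : ((P.mapSurjective hπ : Sylow p (G ⧸ M)) : Subgroup (G ⧸ M)).Normal :=
    hq2 (P.mapSurjective hπ)
  rw [Sylow.coe_mapSurjective] at hPbar
  constructor
  intro b hb g
  have h1 : QuotientGroup.mk' M (g * b * g⁻¹) ∈ (P : Subgroup G).map (QuotientGroup.mk' M) := by
    have := hPbar.conj_mem (QuotientGroup.mk' M b) ⟨b, hb, rfl⟩ (QuotientGroup.mk' M g)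
    simpa using this
  obtain ⟨a, haP, ha⟩ := h1
  set y : G := g * b * g⁻¹ with hy
  have hm : a⁻¹ * y ∈ M := by
    have : (QuotientGroup.mk a : G ⧸ M) = QuotientGroup.mk y := ha
    exact QuotientGroup.eq.1 this
  -- `a` commutes with `m = a⁻¹ y`
  have hcomm : Commute a (a⁻¹ * y) := by
    have := hPcM P haP
    rw [hCM, mem_centralizer_iff] at this
    exact (this _ hm).symm
  have hcomm2 : Commute a⁻¹ y := by
    have h2 : Commute a y := by
      have : y = a * (a⁻¹ * y) := by group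
      rw [this]
      exact (Commute.refl a).mul_right hcomm
    exact h2.inv_left
  -- orders
  obtain ⟨i, hi⟩ := (IsPGroup.iff_orderOf.1 P.isPGroup') ⟨b, hb⟩
  obtain ⟨j, hj⟩ := (IsPGroup.iff_orderOf.1 P.isPGroup') ⟨a, haP⟩
  have hyo : y ^ (p ^ i) = 1 := by
    have hbo : b ^ (p ^ i) = 1 := by
      have := pow_orderOf_eq_one (⟨b, hb⟩ : P)
      rw [hi] at this
      exact congrArg Subtype.val this
    rw [hy, conj_pow, hbo]; group
  have hao : a ^ (p ^ j) = 1 := by
    have := pow_orderOf_eq_one (⟨a, haP⟩ : P)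
    rw [hj] at this
    exact congrArg Subtype.val this
  have hmo : (a⁻¹ * y) ^ (p ^ (i + j)) = 1 := by
    have hy2 : y ^ (p ^ (i + j)) = 1 := by rw [pow_add, pow_mul, hyo, one_pow]
    have ha2 : a ^ (p ^ (i + j)) = 1 := by rw [pow_add, mul_comm, pow_mul, hao, one_pow]
    rw [hcomm2.mul_pow, inv_pow, ha2, hy2, inv_one, one_mul]
  have hd1 : orderOf (a⁻¹ * y) ∣ p ^ (i + j) := orderOf_dvd_of_pow_eq_one hmo
  have hd2 : (orderOf (a⁻¹ * y)).Coprime (p ^ (i + j)) :=
    Nat.Coprime.pow_right _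
      (Nat.Coprime.coprime_dvd_left (Subgroup.orderOf_dvd_natCard M hm) hMcop)
  have hm1 : a⁻¹ * y = 1 := by
    rw [← orderOf_eq_one_iff]
    exact Nat.Coprime.eq_one_of_dvd hd2 hd1
  have hya : y = a := by
    calc y = a * (a⁻¹ * y) := by group
      _ = a := by rw [hm1, mul_one]
  rw [hya]
  exact haP

end Cfsg.Agent.Helper20.CYC
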