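import Mathlib
import Cfsg.Prelude.Def_Transfer
import Cfsg.Agent.Lib.Helper24.CYCDefs
import Cfsg.Agent.S4043

/-!
# CYC (R4) `concl_of_normal_p` (helper24 lemma server, S4016) -- helper20
-/

set_option autoImplicit false

namespace Cfsg.Agent.Helper20.CYC

open Subgroup Cfsg.Agent.Helper24.CYC

universe u

variable {G : Type u} [Group G] [Finite G] {p : ℕ} [Fact p.Prime]

/-- (R4) no nontrivial normal `p'`-subgroup, `R ≠ 1` a normal `p`-subgroup. -/
theorem concl_of_normal_p (h : Hyp p G)
    (ih : ∀ (H : Type u) [Group H] [Finite H], Nat.card H < Nat.card G → Hyp p H → Concl p H)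
    (hs : ∀ H : Subgroup G, Hyp p H)
    (hB : ¬ Cfsg.HasNormalPComplement p G → ∀ P : Sylow p G, ∃ x ∈ NP P, (orderOf x).Coprime p ∧ x ∉ CP P)
    (hfpf : ∀ (P : Sylow p G) (x a : G), x ∈ NP P → (orderOf x).Coprime p → a ∈ P → a ≠ 1 → x * a = a * x → x ∈ CP P)
    (h1 : ∀ M : Subgroup G, M.Normal → ¬ p ∣ Nat.card M → M = ⊥)
    (R : Subgroup G) [R.Normal] (hR1 : R ≠ ⊥) (hRp : IsPGroup p R) : Concl p G := by
  classical
  have hp : p.Prime := Fact.out
  have hRle : ∀ P : Sylow p G, R ≤ P := fun P => hRp.le_sylow_of_normal P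
  set C : Subgroup G := Subgroup.centralizer (R : Set G) with hC
  haveI hCn : C.Normal := Subgroup.normal_centralizer
  -- every Sylow `p`-subgroup lies in `C`
  have hPC : ∀ P : Sylow p G, (P : Subgroup G) ≤ C := by
    intro P x hx
    rw [hC, mem_centralizer_iff]
    intro r hr
    haveI : IsCyclic P := h.1 P
    letI : CommGroup P := IsCyclic.commGroup
    have hcomm : (⟨r, hRle P hr⟩ : P) * ⟨x, hx⟩ = ⟨x, hx⟩ * ⟨r, hRle P hr⟩ := mul_comm _ _
    exact congrArg Subtype.val hcomm
  by_cases hCtop : C = ⊤
  · -- `R` is central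
    by_contra hcon
    have hnpc : ¬ Cfsg.HasNormalPComplement p G := fun hh => hcon (Or.inl hh)
    obtain ⟨P⟩ : Nonempty (Sylow p G) := inferInstance
    obtain ⟨x, hxN, hxo, hxC⟩ := hB hnpc P
    obtain ⟨⟨a, haR⟩, ha1⟩ := (Subgroup.ne_bot_iff_exists_ne_one).1 hR1
    have ha1' : a ≠ 1 := fun h => ha1 (Subtype.ext h)
    have hxa : x * a = a * x := by
      have : x ∈ C := by rw [hCtop]; exact mem_top x
      rw [hC, mem_centralizer_iff] at this
      exact (this a haR).symm
    exact hxC (hfpf P x a hxN hxo (hRle P haR) ha1' hxa)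
  · -- `C` is proper
    have hlt : Nat.card C < Nat.card G :=
      lt_of_le_of_ne (Subgroup.card_le_card_group C)
        (fun he => hCtop (Subgroup.eq_top_of_card_eq C he))
    have hcC : Concl p C := ih C hlt (hs C)
    rcases hcC with hnpc | hnorm
    · -- a normal `p`-complement `K` of `C` is the set of `p'`-elements of `C`
      obtain ⟨K, Q, hKC, hQC, hCK, hQp, hKcop, hcard, hsup, hall⟩ :=
        Cfsg.Agent.S4043.npc_data C hnpc
      have hKn : K.Normal := by
        constructor
        intro x hx g
        have hxC : x ∈ C := hKC hx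
        have hgx : g * x * g⁻¹ ∈ C := hCn.conj_mem x hxC g
        apply hall _ hgx
        have ho : orderOf (g * x * g⁻¹) = orderOf x := by
          have := (MulAut.conj g).orderOf_eq x
          rwa [MulAut.conj_apply] at this
        rw [ho]
        exact Nat.Coprime.coprime_dvd_left (Subgroup.orderOf_dvd_natCard K hx) hKcop
      have hK1 : K = ⊥ :=
        h1 K hKn ((Nat.Prime.coprime_iff_not_dvd hp).1 hKcop.symm)
      have hCQ : C = Q := by rw [← hsup, hK1, bot_sup_eq]
      have hCp : IsPGroup p C := by rw [hCQ]; exact hQp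
      right
      intro P
      have hPeq : C = (P : Subgroup G) := P.is_maximal' hCp (hPC P)
      rw [← hPeq]
      exact hCn
    · -- all Sylow `p`-subgroups of `C` are normal in `C`
      right
      intro P
      have hn : ((P.subtype (hPC P) : Sylow p C) : Subgroup C).Normal := hnorm (P.subtype (hPC P))
      haveI hchar : ((P.subtype (hPC P) : Sylow p C) : Subgroup C).Characteristic :=
        Sylow.characteristic_of_normal (P.subtype (hPC P)) hn
      have hmap : (((P.subtype (hPC P) : Sylow p C) : Subgroup C).map C.subtype).Normal :=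
        ConjAct.normal_of_characteristic_of_normal
      have he : ((P.subtype (hPC P) : Sylow p C) : Subgroup C).map C.subtype = (P : Subgroup G) := by
        rw [Sylow.coe_subtype]
        exact Subgroup.map_subgroupOf_eq_of_le (hPC P)
      rw [he] at hmap
      exact hmap

end Cfsg.Agent.Helper20.CYC
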