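import Mathlib
import Cfsg.Prelude.Def_CaseTheorems
import Cfsg.Prelude.Def_Transfer
import Cfsg.Agent.Lib.Helper21.AbelianTransfer
import Cfsg.Agent.Lib.Helper21.KleinFour
import Cfsg.Agent.Lib.Helper73.QuatRecog

set_option autoImplicit false
set_option linter.unusedSectionVars false
set_option linter.unusedSimpArgs false
set_option linter.unusedVariables false

namespace Cfsg.Agent.Helper20

/-! ### invariance of the two families of 2-groups under isomorphism -/

theorem isQuasiDihedral_of_equiv {S S' : Type*} [Group S] [Group S'] (e : S ≃* S')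
    (h : Cfsg.IsQuasiDihedral S) : Cfsg.IsQuasiDihedral S' := by
  obtain ⟨n, hn, hcard, x, y, hx, hy, hxy⟩ := h
  refine ⟨n, hn, by rw [← Nat.card_congr e.toEquiv]; exact hcard, e x, e y, ?_, ?_, ?_⟩
  · rw [MulEquiv.orderOf_eq]; exact hx
  · rw [MulEquiv.orderOf_eq]; exact hy
  · rw [← map_inv, ← map_mul, ← map_mul, hxy, map_pow]

theorem isWreathed_of_equiv {S S' : Type*} [Group S] [Group S'] (e : S ≃* S')
    (h : Cfsg.IsWreathed S) : Cfsg.IsWreathed S' := by
  obtain ⟨n, hn, hcard, x, y, z, hx, hxy, hdisj, hz, hzx⟩ := h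
  refine ⟨n, hn, by rw [← Nat.card_congr e.toEquiv]; exact hcard, e x, e y, e z, ?_, ?_, ?_, ?_, ?_⟩
  · rw [MulEquiv.orderOf_eq]; exact hx
  · rw [← map_mul, ← map_mul, hxy]
  · rw [eq_bot_iff]
    rintro w ⟨hw1, hw2⟩
    obtain ⟨i, hi⟩ := Subgroup.mem_zpowers_iff.mp hw1
    obtain ⟨j, hj⟩ := Subgroup.mem_zpowers_iff.mp hw2
    have h1 : x ^ i = y ^ j := by
      apply e.injective
      rw [map_zpow, map_zpow, hi, hj]
    have h2 : x ^ i ∈ Subgroup.zpowers x ⊓ Subgroup.zpowers y :=
      ⟨Subgroup.zpow_mem_zpowers x i, h1 ▸ Subgroup.zpow_mem_zpowers y j⟩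
    rw [hdisj, Subgroup.mem_bot] at h2
    rw [Subgroup.mem_bot, ← hi, ← map_zpow, h2, map_one]
  · rw [MulEquiv.orderOf_eq]; exact hz
  · rw [← map_inv, ← map_mul, ← map_mul, hzx]

/-! ### groups without subgroups of index two -/

theorem pow_index_eq_zero_of_no_index_two {G : Type*} [Group G] [Finite G]
    (hG : ∀ H : Subgroup G, H.index ≠ 2) (K : Subgroup G) [K.Normal] (a : ℕ)
    (hK : K.index = 2 ^ a) : a = 0 := by
  have hfin : Finite (G ⧸ K) := inferInstance
  have hP : IsPGroup 2 (G ⧸ K) := by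
    apply IsPGroup.of_card (n := a)
    rw [← hK, Subgroup.index]
  have h1 : ∀ g : G, g ∈ K := by
    intro g
    have := Cfsg.Agent.Helper21.hom_eq_one_of_no_index_two hG hP (QuotientGroup.mk' K) g
    rwa [QuotientGroup.mk'_apply, QuotientGroup.eq_one_iff] at this
  have h2 : K = ⊤ := by
    rw [eq_top_iff]; intro g _; exact h1 g
  rw [h2, Subgroup.index_top] at hK
  by_contra ha
  have : 2 ≤ 2 ^ a := by
    calc 2 = 2 ^ 1 := by norm_num
      _ ≤ 2 ^ a := Nat.pow_le_pow_right (by norm_num) (by omega)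
  omega

theorem not_hasNormalPComplement_of_no_index_two {G : Type*} [Group G] [Finite G]
    (hG : ∀ H : Subgroup G, H.index ≠ 2) (S : Sylow 2 G) (hS : Nat.card S ≠ 1) :
    ¬ Cfsg.HasNormalPComplement 2 G := by
  rintro ⟨P, N, hN, hc⟩
  haveI := hN
  have h1 : N.index = Nat.card P := hc.symm.index_eq_card
  haveI : Fact (Nat.Prime 2) := ⟨Nat.prime_two⟩
  obtain ⟨a, ha⟩ := IsPGroup.iff_card.mp P.isPGroup'
  have h2 := pow_index_eq_zero_of_no_index_two hG N a (by rw [h1]; exact ha)
  rw [h2, pow_zero] at ha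
  apply hS
  rw [← ha]
  rw [Sylow.card_eq_multiplicity S, Sylow.card_eq_multiplicity P]

/-! ### subgroups of a subgroup -/

theorem centralizer_subgroupOf_eq {G : Type*} [Group G] (C A : Subgroup G) (hA : A ≤ C) :
    Subgroup.centralizer ((A.subgroupOf C : Subgroup ↥C) : Set ↥C) =
      (Subgroup.centralizer (A : Set G)).subgroupOf C := by
  ext c
  rw [Subgroup.mem_subgroupOf, Subgroup.mem_centralizer_iff, Subgroup.mem_centralizer_iff]
  constructor
  · intro h a ha
    have := h ⟨a, hA ha⟩ (by rw [SetLike.mem_coe, Subgroup.mem_subgroupOf]; exact ha)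
    exact congrArg Subtype.val this
  · intro h a ha
    apply Subtype.ext
    exact h a.1 (Subgroup.mem_subgroupOf.mp ha)

theorem normalizer_subgroupOf_eq {G : Type*} [Group G] (C A : Subgroup G) (hA : A ≤ C) :
    Subgroup.normalizer ((A.subgroupOf C : Subgroup ↥C) : Set ↥C) =
      (Subgroup.normalizer (A : Set G)).subgroupOf C := by
  ext c
  rw [Subgroup.mem_subgroupOf, Subgroup.mem_normalizer_iff, Subgroup.mem_normalizer_iff]
  constructor
  · intro h a
    constructor
    · intro ha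
      have := (h ⟨a, hA ha⟩).mp (Subgroup.mem_subgroupOf.mpr ha)
      exact Subgroup.mem_subgroupOf.mp this
    · intro ha
      have haC : a ∈ C := by
        have h1 : (c : G) * a * (c : G)⁻¹ ∈ C := hA ha
        have e : a = (c : G)⁻¹ * ((c : G) * a * (c : G)⁻¹) * (c : G) := by group
        rw [e]
        exact C.mul_mem (C.mul_mem (C.inv_mem c.2) h1) c.2
      have := (h ⟨a, haC⟩).mpr (Subgroup.mem_subgroupOf.mpr ha)
      exact Subgroup.mem_subgroupOf.mp this
  · intro h a
    rw [Subgroup.mem_subgroupOf, Subgroup.mem_subgroupOf]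
    exact h a.1

/-- the local index of `A` computed inside a subgroup `C` containing `N_G(A)` -/
theorem relIndex_sup_centralizer_subgroupOf {G : Type*} [Group G] (C A : Subgroup G)
    (hN : Subgroup.normalizer (A : Set G) ≤ C) :
    ((A.subgroupOf C) ⊔ Subgroup.centralizer ((A.subgroupOf C : Subgroup ↥C) : Set ↥C)).relIndex
      (Subgroup.normalizer ((A.subgroupOf C : Subgroup ↥C) : Set ↥C)) =
    (A ⊔ Subgroup.centralizer (A : Set G)).relIndex (Subgroup.normalizer (A : Set G)) := by
  have hA : A ≤ C := Subgroup.le_normalizer.trans hN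
  have hCC : Subgroup.centralizer (A : Set G) ≤ C := (Subgroup.centralizer_le_normalizer _).trans hN
  rw [centralizer_subgroupOf_eq C A hA, normalizer_subgroupOf_eq C A hA,
    ← Subgroup.subgroupOf_sup hA hCC, Subgroup.relIndex_subgroupOf hN]

theorem relIndex_centralizer_subgroupOf {G : Type*} [Group G] (C A : Subgroup G)
    (hN : Subgroup.normalizer (A : Set G) ≤ C) :
    (Subgroup.centralizer ((A.subgroupOf C : Subgroup ↥C) : Set ↥C)).relIndex
      (Subgroup.normalizer ((A.subgroupOf C : Subgroup ↥C) : Set ↥C)) =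
    (Subgroup.centralizer (A : Set G)).relIndex (Subgroup.normalizer (A : Set G)) := by
  have hA : A ≤ C := Subgroup.le_normalizer.trans hN
  rw [centralizer_subgroupOf_eq C A hA, normalizer_subgroupOf_eq C A hA,
    Subgroup.relIndex_subgroupOf hN]

/-! ### quaternion subgroups from generators -/

theorem exists_quat8_of_rel {G : Type*} [Group G] (a t : G) (ha : orderOf a = 2 * 2)
    (ht2 : t ^ 2 = a ^ 2) (hta : t * a * t⁻¹ = a⁻¹) (ht : t ∉ Subgroup.zpowers a) :
    ∃ Q : Subgroup G, a ∈ Q ∧ t ∈ Q ∧ Q ≤ Subgroup.closure {a, t} ∧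
      Nonempty (Q ≃* QuaternionGroup 2) := by
  have hinj := Cfsg.Agent.Helper73.quatHom_injective ha ht2 hta ht
  set f := Cfsg.Agent.Helper73.quatHom ha ht2 hta with hf
  have hfa : f (QuaternionGroup.a 1) = a := by
    show Cfsg.Agent.Helper73.zq a (2 * 2) 1 = a
    have := Cfsg.Agent.Helper73.zq_natCast a (2 * 2) ha 1
    rw [Nat.cast_one, pow_one] at this
    exact this
  have hft : f (QuaternionGroup.xa 0) = t := by
    show t * Cfsg.Agent.Helper73.zq a (2 * 2) 0 = t
    have := Cfsg.Agent.Helper73.zq_natCast a (2 * 2) ha 0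
    rw [Nat.cast_zero, pow_zero] at this
    rw [this, mul_one]
  refine ⟨f.range, ⟨_, hfa⟩, ⟨_, hft⟩, ?_, ⟨(MonoidHom.ofInjective hinj).symm⟩⟩
  rintro _ ⟨w, rfl⟩
  have haC : a ∈ Subgroup.closure ({a, t} : Set G) := Subgroup.subset_closure (by simp)
  have htC : t ∈ Subgroup.closure ({a, t} : Set G) := Subgroup.subset_closure (by simp)
  cases w with
  | a i =>
    show Cfsg.Agent.Helper73.zq a (2 * 2) i ∈ _
    exact Subgroup.zpow_mem _ haC _
  | xa i =>
    show t * Cfsg.Agent.Helper73.zq a (2 * 2) i ∈ _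
    exact Subgroup.mul_mem _ htC (Subgroup.zpow_mem _ haC _)

end Cfsg.Agent.Helper20
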