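import Mathlib
import Cfsg.Prelude.Def_CaseTheorems
import Cfsg.Agent.Lib.Helper98.ZPow

set_option autoImplicit false
set_option linter.unusedSectionVars false
set_option linter.unusedSimpArgs false

namespace Cfsg.Agent.Helper20

open Cfsg.Agent.Helper98

/-! ### Arithmetic in `ZMod (2^(k+3))` -/

section arith
variable {k : ℕ}

/-- `2^(k+2)`, half the modulus -/
def hN (k : ℕ) : ZMod (2 ^ (k + 3)) := 2 ^ (k + 2)
/-- `2^(k+1)`, a quarter of the modulus -/
def qN (k : ℕ) : ZMod (2 ^ (k + 3)) := 2 ^ (k + 1)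
/-- `2^k` -/
def oN (k : ℕ) : ZMod (2 ^ (k + 3)) := 2 ^ k
/-- the twisting unit `2^(k+2) - 1` -/
def cN (k : ℕ) : ZMod (2 ^ (k + 3)) := hN k - 1

lemma two_pow_eq_zero : (2 : ZMod (2 ^ (k + 3))) ^ (k + 3) = 0 := by
  have : ((2 ^ (k + 3) : ℕ) : ZMod (2 ^ (k + 3))) = 0 := ZMod.natCast_self _
  rw [Nat.cast_pow] at this
  exact_mod_cast this

lemma two_hN : 2 * hN k = 0 := by
  unfold hN; rw [← pow_succ']; exact two_pow_eq_zero
lemma two_qN : 2 * qN k = hN k := by
  unfold hN qN; rw [← pow_succ']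
lemma two_oN : 2 * oN k = qN k := by
  unfold oN qN; rw [← pow_succ']
lemma hN_mul_hN : hN k * hN k = 0 := by
  unfold hN
  rw [← pow_add, show k + 2 + (k + 2) = (k + 3) + (k + 1) by ring,
    pow_add (2 : ZMod (2 ^ (k + 3))) (k + 3) (k + 1), two_pow_eq_zero, zero_mul]
lemma hN_mul_qN : hN k * qN k = 0 := by
  unfold hN qN
  rw [← pow_add, show k + 2 + (k + 1) = (k + 3) + k by ring,
    pow_add (2 : ZMod (2 ^ (k + 3))) (k + 3) k, two_pow_eq_zero, zero_mul]
lemma cN_mul_cN : cN k * cN k = 1 := by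
  unfold cN
  linear_combination (hN_mul_hN (k := k)) - (two_hN (k := k))

lemma cN_cN_mul (d : ZMod (2 ^ (k + 3))) : cN k * (cN k * d) = d := by
  rw [← mul_assoc, cN_mul_cN, one_mul]

lemma hN_ne_zero : hN k ≠ 0 := by
  unfold hN
  intro h
  have h1 : ((2 ^ (k + 2) : ℕ) : ZMod (2 ^ (k + 3))) = 0 := by push_cast; exact h
  rw [ZMod.natCast_eq_zero_iff] at h1
  have := Nat.le_of_dvd (by positivity) h1
  have : 2 ^ (k + 2) < 2 ^ (k + 3) := Nat.pow_lt_pow_right (by norm_num) (by omega)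
  omega

lemma zmod_even_or_odd (a : ZMod (2 ^ (k + 3))) : (∃ b, a = 2 * b) ∨ (∃ b, a = 2 * b + 1) := by
  have ha : a = ((a.val : ℕ) : ZMod (2 ^ (k + 3))) := (ZMod.natCast_zmod_val a).symm
  rcases Nat.even_or_odd' a.val with ⟨m, hm | hm⟩
  · left; refine ⟨(m : ZMod _), ?_⟩; rw [ha, hm]; push_cast; ring
  · right; refine ⟨(m : ZMod _), ?_⟩; rw [ha, hm]; push_cast; ring

lemma hN_mul_even (b : ZMod (2 ^ (k + 3))) : hN k * (2 * b) = 0 := by
  linear_combination b * (two_hN (k := k))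

lemma hN_mul_odd (b : ZMod (2 ^ (k + 3))) : hN k * (2 * b + 1) = hN k := by
  linear_combination b * (two_hN (k := k))

lemma even_ne_odd (b b' : ZMod (2 ^ (k + 3))) : 2 * b ≠ 2 * b' + 1 := by
  intro h
  have h1 := hN_mul_even (k := k) b
  rw [h, hN_mul_odd] at h1
  exact hN_ne_zero h1

lemma two_mul_eq_zero_iff (b : ZMod (2 ^ (k + 3))) : 2 * b = 0 ↔ b = 0 ∨ b = hN k := by
  constructor
  · intro h
    have hb : b = ((b.val : ℕ) : ZMod (2 ^ (k + 3))) := (ZMod.natCast_zmod_val b).symm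
    have hlt : b.val < 2 ^ (k + 3) := ZMod.val_lt b
    generalize b.val = v at hb hlt
    have h1 : ((2 * v : ℕ) : ZMod (2 ^ (k + 3))) = 0 := by
      push_cast; rw [← hb]; exact h
    rw [ZMod.natCast_eq_zero_iff] at h1
    obtain ⟨m, hm⟩ := h1
    have e3 : 2 ^ (k + 3) = 2 * 2 ^ (k + 2) := by rw [pow_succ]; ring
    have hbv : v = 2 ^ (k + 2) * m := by
      have : 2 * v = 2 * (2 ^ (k + 2) * m) := by rw [hm, e3]; ring
      omega
    have hm2 : m < 2 := by
      by_contra hge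
      have hge' : 2 ≤ m := by omega
      have : 2 ^ (k + 2) * 2 ≤ 2 ^ (k + 2) * m := Nat.mul_le_mul_left _ hge'
      omega
    interval_cases m
    · left; rw [hb, hbv]; simp
    · right; rw [hb, hbv]; unfold hN; push_cast; ring
  · rintro (rfl | rfl)
    · ring
    · exact two_hN

lemma two_mul_cancel {b b' : ZMod (2 ^ (k + 3))} (h : 2 * b = 2 * b') :
    b = b' ∨ b = b' + hN k := by
  have h1 : 2 * (b - b') = 0 := by linear_combination h
  rcases (two_mul_eq_zero_iff _).mp h1 with h2 | h2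
  · left; exact sub_eq_zero.mp h2
  · right; linear_combination h2

end arith


/-! ### The model -/

/-- Model of the quasi-dihedral group of order `2^(k+4)`: pairs `(a, e)` standing for `x^a y^e`. -/
@[ext]
structure SD (k : ℕ) where
  a : ZMod (2 ^ (k + 3))
  e : Bool
deriving DecidableEq

namespace SD

variable {k : ℕ}

instance : Mul (SD k) :=
  ⟨fun p q => if p.e then ⟨p.a + cN k * q.a, !q.e⟩ else ⟨p.a + q.a, q.e⟩⟩

instance : One (SD k) := ⟨⟨0, false⟩⟩

instance : Inv (SD k) := ⟨fun p => if p.e then ⟨-(cN k * p.a), true⟩ else ⟨-p.a, false⟩⟩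

theorem one_def : (1 : SD k) = ⟨0, false⟩ := rfl

@[simp] theorem mk_mul_mk_false (a b : ZMod (2 ^ (k + 3))) (f : Bool) :
    (⟨a, false⟩ : SD k) * ⟨b, f⟩ = ⟨a + b, f⟩ := rfl

@[simp] theorem mk_mul_mk_true (a b : ZMod (2 ^ (k + 3))) (f : Bool) :
    (⟨a, true⟩ : SD k) * ⟨b, f⟩ = ⟨a + cN k * b, !f⟩ := rfl

@[simp] theorem inv_mk_false (a : ZMod (2 ^ (k + 3))) : (⟨a, false⟩ : SD k)⁻¹ = ⟨-a, false⟩ := rfl

@[simp] theorem inv_mk_true (a : ZMod (2 ^ (k + 3))) :
    (⟨a, true⟩ : SD k)⁻¹ = ⟨-(cN k * a), true⟩ := rfl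

@[simp] theorem one_a : (1 : SD k).a = 0 := rfl
@[simp] theorem one_e : (1 : SD k).e = false := rfl

instance : Group (SD k) where
  mul_assoc p q r := by
    rcases p with ⟨a, e⟩; rcases q with ⟨b, f⟩; rcases r with ⟨d, g⟩
    cases e <;> cases f <;> cases g <;> simp [SD.ext_iff, mul_add, cN_cN_mul, add_assoc]
  one_mul p := by
    rcases p with ⟨a, e⟩
    simp [one_def]
  mul_one p := by
    rcases p with ⟨a, e⟩
    cases e <;> simp [one_def]
  inv_mul_cancel p := by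
    rcases p with ⟨a, e⟩
    cases e <;> simp [one_def, cN_cN_mul]

instance : Fintype (SD k) :=
  Fintype.ofEquiv (ZMod (2 ^ (k + 3)) × Bool)
    { toFun := fun t => ⟨t.1, t.2⟩
      invFun := fun p => (p.a, p.e)
      left_inv := fun _ => rfl
      right_inv := fun _ => rfl }

theorem card : Fintype.card (SD k) = 2 ^ (k + 3) * 2 := by
  rw [Fintype.card_congr (β := ZMod (2 ^ (k + 3)) × Bool)
    { toFun := fun p => (p.a, p.e)
      invFun := fun t => ⟨t.1, t.2⟩
      left_inv := fun _ => rfl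
      right_inv := fun _ => rfl }]
  simp [ZMod.card]

theorem nat_card : Nat.card (SD k) = 2 ^ (k + 4) := by
  rw [Nat.card_eq_fintype_card, card, ← pow_succ]

end SD


/-- The data in `Cfsg.IsQuasiDihedral` (with `n = k + 3`). -/
structure SDData (S : Type*) [Group S] (k : ℕ) (x y : S) : Prop where
  card : Nat.card S = 2 ^ (k + 4)
  ox : orderOf x = 2 ^ (k + 3)
  oy : orderOf y = 2
  conj : y * x * y⁻¹ = x ^ (2 ^ (k + 2) - 1)

namespace SDData

variable {S : Type*} [Group S] {k : ℕ} {x y : S} (D : SDData S k x y)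
include D

theorem x_pow : x ^ (2 ^ (k + 3)) = 1 := D.ox ▸ pow_orderOf_eq_one x

theorem y_sq : y * y = 1 := by
  have := pow_orderOf_eq_one y
  rw [D.oy, pow_two] at this
  exact this

theorem y_inv : y⁻¹ = y := inv_eq_of_mul_eq_one_left D.y_sq

theorem zpw_pow_base (m : ℕ) (b : ZMod (2 ^ (k + 3))) :
    zpw (2 ^ (k + 3)) (x ^ m) b = zpw (2 ^ (k + 3)) x ((m : ZMod (2 ^ (k + 3))) * b) := by
  have h1 : zpw (2 ^ (k + 3)) (x ^ m) b = x ^ ((m : ℤ) * (b.cast : ℤ)) := by
    unfold zpw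
    rw [zpow_mul, zpow_natCast]
  rw [h1, ← zpw_intCast D.x_pow]
  congr 1
  push_cast
  simp

theorem yX (b : ZMod (2 ^ (k + 3))) :
    y * zpw (2 ^ (k + 3)) x b = zpw (2 ^ (k + 3)) x (cN k * b) * y := by
  have h := zpw_conj (N := 2 ^ (k + 3)) (g := x) y b
  rw [D.conj, D.zpw_pow_base] at h
  have hc : ((2 ^ (k + 2) - 1 : ℕ) : ZMod (2 ^ (k + 3))) = cN k := by
    rw [Nat.cast_sub (Nat.one_le_two_pow)]
    unfold cN hN
    push_cast
    rfl
  rw [hc] at h
  rw [← h]
  group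

/-- The element `x^a y^e`. -/
noncomputable def elt (_ : SDData S k x y) (p : SD k) : S :=
  zpw (2 ^ (k + 3)) x p.a * (if p.e then y else 1)

theorem elt_mul (p q : SD k) : D.elt (p * q) = D.elt p * D.elt q := by
  rcases p with ⟨a, e⟩
  rcases q with ⟨b, f⟩
  have hx := D.x_pow
  cases e
  · simp only [SD.mk_mul_mk_false, elt, zpw_add hx, Bool.false_eq_true, if_false, mul_one, mul_assoc]
  · cases f
    · simp only [SD.mk_mul_mk_true, elt, zpw_add hx, Bool.false_eq_true, if_false, if_true,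
        Bool.not_false, mul_one, mul_assoc, D.yX]
    · simp only [SD.mk_mul_mk_true, elt, zpw_add hx, Bool.false_eq_true, if_false, if_true,
        Bool.not_true, mul_one, mul_assoc, D.yX, D.y_sq]
      rw [← mul_assoc y, D.yX, mul_assoc, D.y_sq, mul_one]

theorem elt_one : D.elt 1 = 1 := by
  simp [elt, zpw_zero]

theorem y_not_mem : ∀ a : ZMod (2 ^ (k + 3)), zpw (2 ^ (k + 3)) x a * y ≠ 1 := by
  intro a h
  have hy : y = (zpw (2 ^ (k + 3)) x a)⁻¹ := by
    rw [eq_inv_iff_mul_eq_one, ← D.y_sq]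
    have : zpw (2 ^ (k + 3)) x a = y⁻¹ := eq_inv_of_mul_eq_one_left h
    rw [this, D.y_inv]
  have hcx : Commute (zpw (2 ^ (k + 3)) x a) x := by
    unfold zpw; exact (Commute.refl x).zpow_left _
  have hyx : Commute y x := by rw [hy]; exact hcx.inv_left
  have h1 : x ^ (2 ^ (k + 2) - 1) = x := by
    rw [← D.conj, hyx.eq]; group
  have h2 : x ^ (2 ^ (k + 2) - 2) = 1 := by
    have e : 2 ^ (k + 2) - 1 = (2 ^ (k + 2) - 2) + 1 := by
      have : 4 ≤ 2 ^ (k + 2) := by
        calc 4 = 2 ^ 2 := by norm_num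
          _ ≤ 2 ^ (k + 2) := Nat.pow_le_pow_right (by norm_num) (by omega)
      omega
    rw [e, pow_succ] at h1
    exact mul_eq_right.mp h1
  have h3 := orderOf_dvd_of_pow_eq_one h2
  rw [D.ox] at h3
  have h4 : 4 ≤ 2 ^ (k + 2) := by
    calc 4 = 2 ^ 2 := by norm_num
      _ ≤ 2 ^ (k + 2) := Nat.pow_le_pow_right (by norm_num) (by omega)
  have h5 := Nat.le_of_dvd (by omega) h3
  have h6 : 2 ^ (k + 3) = 2 * 2 ^ (k + 2) := by rw [pow_succ]; ring
  omega

theorem elt_injective : Function.Injective D.elt := by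
  have key : ∀ p : SD k, D.elt p = 1 → p = 1 := by
    rintro ⟨a, e⟩ h
    cases e
    · simp only [elt, Bool.false_eq_true, if_false, mul_one] at h
      have ha : a = 0 := (zpw_eq_one_iff D.ox a).mp h
      rw [ha]; rfl
    · simp only [elt, if_true] at h
      exact absurd h (D.y_not_mem a)
  intro p q h
  have : D.elt (p⁻¹ * q) = 1 := by
    rw [D.elt_mul]
    have h1 : D.elt p⁻¹ * D.elt p = 1 := by rw [← D.elt_mul, inv_mul_cancel, D.elt_one]
    rw [← h, h1]
  have := key _ this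
  exact inv_mul_eq_one.mp this

theorem elt_bijective : Function.Bijective D.elt := by
  have hfin : Finite S := Nat.finite_of_card_ne_zero (by rw [D.card]; positivity)
  refine D.elt_injective.bijective_of_nat_card_le ?_
  rw [D.card, SD.nat_card]

/-- The isomorphism from the model to `S`. -/
noncomputable def iso : SD k ≃* S :=
  MulEquiv.ofBijective (MonoidHom.mk' D.elt D.elt_mul) D.elt_bijective

theorem iso_apply (p : SD k) : D.iso p = D.elt p := rfl

end SDData

theorem exists_sdData {S : Type*} [Group S] (hS : Cfsg.IsQuasiDihedral S) :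
    ∃ (k : ℕ) (x y : S), SDData S k x y := by
  obtain ⟨n, hn, hcard, x, y, ox, oy, conj⟩ := hS
  obtain ⟨k, rfl⟩ : ∃ k, n = k + 3 := ⟨n - 3, by omega⟩
  exact ⟨k, x, y, ⟨hcard, ox, oy, conj⟩⟩

theorem exists_iso_SD {S : Type*} [Group S] (hS : Cfsg.IsQuasiDihedral S) :
    ∃ k : ℕ, Nat.card S = 2 ^ (k + 4) ∧ Nonempty (SD k ≃* S) := by
  obtain ⟨k, x, y, D⟩ := exists_sdData hS
  exact ⟨k, D.card, ⟨D.iso⟩⟩

end Cfsg.Agent.Helper20
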