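import Mathlib
import Cfsg.Agent.Lib.Helper20.QD

set_option autoImplicit false
set_option linter.unusedSectionVars false
set_option linter.unusedSimpArgs false

namespace Cfsg.Agent.Helper20

namespace SD

variable {k : ℕ}

/-! ### basic formulas -/

theorem cN_mul (a : ZMod (2 ^ (k + 3))) : cN k * a = hN k * a - a := by
  unfold cN; ring

theorem conj_false_true (a b : ZMod (2 ^ (k + 3))) :
    (⟨b, false⟩ : SD k) * ⟨a, true⟩ * (⟨b, false⟩ : SD k)⁻¹ = ⟨a + 2 * b - hN k * b, true⟩ := by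
  simp [SD.ext_iff, cN_mul]; ring

theorem conj_false_false (a b : ZMod (2 ^ (k + 3))) :
    (⟨b, false⟩ : SD k) * ⟨a, false⟩ * (⟨b, false⟩ : SD k)⁻¹ = ⟨a, false⟩ := by
  simp [SD.ext_iff]

theorem conj_true_false (a b : ZMod (2 ^ (k + 3))) :
    (⟨b, true⟩ : SD k) * ⟨a, false⟩ * (⟨b, true⟩ : SD k)⁻¹ = ⟨cN k * a, false⟩ := by
  simp [SD.ext_iff, cN_cN_mul, mul_add]

theorem conj_true_true (a b : ZMod (2 ^ (k + 3))) :
    (⟨b, true⟩ : SD k) * ⟨a, true⟩ * (⟨b, true⟩ : SD k)⁻¹ = ⟨b + cN k * a - cN k * b, true⟩ := by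
  simp [SD.ext_iff, cN_cN_mul, mul_add]; ring

theorem conj_e (g p : SD k) : (g * p * g⁻¹).e = p.e := by
  rcases g with ⟨b, f⟩; rcases p with ⟨a, e⟩
  cases f <;> cases e <;> simp

theorem isConj_e {p p' : SD k} (h : IsConj p p') : p.e = p'.e := by
  obtain ⟨g, hg⟩ := isConj_iff.mp h
  rw [← hg, conj_e]

/-- elements `(a, true)` and `(a + 2d, true)` are conjugate -/
theorem isConj_true_of_even (a d : ZMod (2 ^ (k + 3))) :
    IsConj (⟨a, true⟩ : SD k) ⟨a + 2 * d, true⟩ := by
  rw [isConj_iff]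
  rcases zmod_even_or_odd d with ⟨b, rfl⟩ | ⟨b, rfl⟩
  · refine ⟨⟨2 * b, false⟩, ?_⟩
    rw [conj_false_true, hN_mul_even]; simp
  · refine ⟨⟨2 * b + 1 + qN k, false⟩, ?_⟩
    rw [conj_false_true]
    simp only [SD.mk.injEq, and_true]
    have h1 : hN k * (2 * b + 1 + qN k) = hN k := by
      rw [mul_add, hN_mul_odd, hN_mul_qN, add_zero]
    rw [h1]
    linear_combination (two_qN (k := k))

theorem sq_false (a : ZMod (2 ^ (k + 3))) : (⟨a, false⟩ : SD k) * ⟨a, false⟩ = ⟨2 * a, false⟩ := by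
  simp [SD.ext_iff]; ring

theorem sq_true (a : ZMod (2 ^ (k + 3))) : (⟨a, true⟩ : SD k) * ⟨a, true⟩ = ⟨hN k * a, false⟩ := by
  simp [SD.ext_iff, cN_mul]

theorem pow_false (a : ZMod (2 ^ (k + 3))) (m : ℕ) : (⟨a, false⟩ : SD k) ^ m = ⟨m * a, false⟩ := by
  induction m with
  | zero => simp [one_def]
  | succ m ih => rw [pow_succ, ih]; simp [SD.ext_iff]; ring

theorem eq_one_iff (p : SD k) : p = 1 ↔ p.a = 0 ∧ p.e = false := by
  rw [SD.ext_iff]; rfl

/-! ### orders -/

theorem orderOf_eq_four_iff' {G : Type*} [Group G] (x : G) :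
    orderOf x = 4 ↔ x ^ 4 = 1 ∧ x ^ 2 ≠ 1 := by
  constructor
  · intro h
    refine ⟨by rw [← h]; exact pow_orderOf_eq_one x, ?_⟩
    intro h2
    have := orderOf_dvd_of_pow_eq_one h2
    rw [h] at this
    norm_num at this
  · rintro ⟨h4, h2⟩
    have := orderOf_eq_prime_pow (p := 2) (n := 1) (x := x) (by simpa using h2) (by simpa using h4)
    simpa using this

theorem orderOf_eq_two_iff (p : SD k) :
    orderOf p = 2 ↔ p = ⟨hN k, false⟩ ∨ (p.e = true ∧ ∃ b, p.a = 2 * b) := by
  have : Fact (Nat.Prime 2) := ⟨Nat.prime_two⟩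
  rw [orderOf_eq_prime_iff, pow_two]
  rcases p with ⟨a, e⟩
  cases e
  · rw [sq_false]
    simp only [eq_one_iff, SD.mk.injEq, and_true, ne_eq, Bool.false_eq_true, false_and, or_false]
    constructor
    · rintro ⟨h1, h2⟩
      rcases (two_mul_eq_zero_iff a).mp h1 with h3 | h3
      · exact absurd h3 h2
      · exact h3
    · rintro rfl
      exact ⟨two_hN, hN_ne_zero⟩
  · rw [sq_true]
    simp only [eq_one_iff, and_true, ne_eq, Bool.true_eq_false, and_false, not_false_eq_true,
      SD.mk.injEq, false_or, true_and]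
    constructor
    · intro h1
      rcases zmod_even_or_odd a with ⟨b, hb⟩ | ⟨b, hb⟩
      · exact ⟨b, hb⟩
      · rw [hb, hN_mul_odd] at h1
        exact absurd h1 hN_ne_zero
    · rintro ⟨b, rfl⟩
      exact hN_mul_even b

theorem orderOf_eq_four_iff (p : SD k) :
    orderOf p = 4 ↔ p = ⟨qN k, false⟩ ∨ p = ⟨qN k + hN k, false⟩ ∨
      (p.e = true ∧ ∃ b, p.a = 2 * b + 1) := by
  rw [orderOf_eq_four_iff']
  rcases p with ⟨a, e⟩
  cases e
  · rw [pow_false, pow_false]
    simp only [eq_one_iff, and_true, ne_eq, SD.mk.injEq, Bool.false_eq_true, false_and, or_false]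
    push_cast
    constructor
    · rintro ⟨h1, h2⟩
      have h3 : 2 * (2 * a) = 0 := by linear_combination h1
      rcases (two_mul_eq_zero_iff _).mp h3 with h4 | h4
      · exact absurd h4 h2
      · rw [← two_qN] at h4
        exact two_mul_cancel h4
    · rintro (rfl | rfl)
      · refine ⟨?_, ?_⟩
        · linear_combination 2 * (two_qN (k := k)) + (two_hN (k := k))
        · rw [two_qN]; exact hN_ne_zero
      · refine ⟨?_, ?_⟩
        · linear_combination 2 * (two_qN (k := k)) + 3 * (two_hN (k := k))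
        · have : 2 * (qN k + hN k) = hN k := by
            linear_combination (two_qN (k := k)) + (two_hN (k := k))
          rw [this]; exact hN_ne_zero
  · have e4 : (⟨a, true⟩ : SD k) ^ 4 = 1 := by
      rw [show 4 = 2 * 2 by norm_num, pow_mul, pow_two (⟨a, true⟩ : SD k), sq_true, pow_two, sq_false]
      rw [eq_one_iff]
      simp only [and_true]
      linear_combination a * (two_hN (k := k))
    rw [pow_two, sq_true]
    simp only [e4, true_and, eq_one_iff, and_true, ne_eq, SD.mk.injEq, Bool.true_eq_false,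
      and_false, false_or]
    constructor
    · intro h1
      rcases zmod_even_or_odd a with ⟨b, hb⟩ | ⟨b, hb⟩
      · rw [hb, hN_mul_even] at h1
        exact absurd rfl h1
      · exact ⟨b, hb⟩
    · rintro ⟨b, rfl⟩
      rw [hN_mul_odd]; exact hN_ne_zero

end SD

end Cfsg.Agent.Helper20
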