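import Mathlib

set_option autoImplicit false

namespace Cfsg.Agent.Helper20

section
variable {G H : Type*} [Group G] [Group H] (φ : G ≃* H)

theorem mem_map_equiv' {T : Subgroup G} {x : H} :
    x ∈ T.map φ.toMonoidHom ↔ φ.symm x ∈ T := by
  constructor
  · rintro ⟨y, hy, rfl⟩; simpa using hy
  · intro h; exact ⟨φ.symm x, h, by simp⟩

theorem map_centralizer_equiv (T : Subgroup G) :
    (Subgroup.centralizer (T : Set G)).map φ.toMonoidHom =
      Subgroup.centralizer ((T.map φ.toMonoidHom : Subgroup H) : Set H) := by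
  ext x
  rw [mem_map_equiv', Subgroup.mem_centralizer_iff, Subgroup.mem_centralizer_iff]
  constructor
  · intro h y hy
    have hy' : φ.symm y ∈ T := (mem_map_equiv' φ).mp hy
    have := congrArg φ (h _ hy')
    simpa using this
  · intro h y hy
    have hy' : φ y ∈ T.map φ.toMonoidHom := ⟨y, hy, rfl⟩
    have := congrArg φ.symm (h _ hy')
    simpa using this

theorem map_normalizer_equiv (T : Subgroup G) :
    (Subgroup.normalizer (T : Set G)).map φ.toMonoidHom =
      Subgroup.normalizer ((T.map φ.toMonoidHom : Subgroup H) : Set H) :=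
  Subgroup.map_equiv_normalizer_eq T φ

theorem map_conj_map (T : Subgroup G) (s : G) :
    (T.map (MulAut.conj s).toMonoidHom).map φ.toMonoidHom =
      (T.map φ.toMonoidHom).map (MulAut.conj (φ s)).toMonoidHom := by
  rw [Subgroup.map_map, Subgroup.map_map]
  congr 1
  ext x
  simp [MulAut.conj_apply]

theorem map_symm_map (T : Subgroup H) :
    (T.map φ.symm.toMonoidHom).map φ.toMonoidHom = T := by
  rw [Subgroup.map_map]
  have : φ.toMonoidHom.comp φ.symm.toMonoidHom = MonoidHom.id H := by
    ext x; simp
  rw [this, Subgroup.map_id]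

theorem map_map_symm (T : Subgroup G) :
    (T.map φ.toMonoidHom).map φ.symm.toMonoidHom = T := by
  rw [Subgroup.map_map]
  have : φ.symm.toMonoidHom.comp φ.toMonoidHom = MonoidHom.id G := by
    ext x; simp
  rw [this, Subgroup.map_id]

theorem isKleinFour_map (T : Subgroup G) (hT : IsKleinFour T) :
    IsKleinFour ↥(T.map φ.toMonoidHom) := by
  have e : T ≃* ↥(T.map φ.toMonoidHom) := T.equivMapOfInjective φ.toMonoidHom φ.injective
  exact ⟨by rw [← Nat.card_congr e.toEquiv]; exact hT.card_four,
    by rw [← Monoid.exponent_eq_of_mulEquiv e]; exact hT.exponent_two⟩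

theorem relIndex_map_equiv (T K : Subgroup G) :
    (T.map φ.toMonoidHom).relIndex (K.map φ.toMonoidHom) = T.relIndex K :=
  Subgroup.relIndex_map_map_of_injective T K φ.injective

theorem isCoatom_map_iff (T : Subgroup G) :
    IsCoatom (T.map φ.toMonoidHom) ↔ IsCoatom T :=
  OrderIso.isCoatom_iff (MulEquiv.mapSubgroup φ) T

theorem isCyclic_map_iff (T : Subgroup G) :
    IsCyclic ↥(T.map φ.toMonoidHom) ↔ IsCyclic T :=
  (MulEquiv.isCyclic (T.equivMapOfInjective φ.toMonoidHom φ.injective)).symm

theorem map_commutator_equiv :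
    (commutator G).map φ.toMonoidHom = commutator H := by
  rw [commutator_def, commutator_def, Subgroup.map_commutator,
    ← MonoidHom.range_eq_map, MonoidHom.range_eq_top.mpr φ.surjective]

theorem map_eq_top_iff (T : Subgroup G) : T.map φ.toMonoidHom = ⊤ ↔ T = ⊤ := by
  constructor
  · intro h
    have := congrArg (Subgroup.map φ.symm.toMonoidHom) h
    rw [map_map_symm] at this
    rw [this, ← MonoidHom.range_eq_map, MonoidHom.range_eq_top.mpr φ.symm.surjective]
  · rintro rfl
    rw [← MonoidHom.range_eq_map, MonoidHom.range_eq_top.mpr φ.surjective]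

theorem map_le_map_iff_equiv (T K : Subgroup G) :
    T.map φ.toMonoidHom ≤ K.map φ.toMonoidHom ↔ T ≤ K :=
  Subgroup.map_le_map_iff_of_injective φ.injective

end

end Cfsg.Agent.Helper20
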