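import Mathlib
import Cfsg.Agent.Lib.Helper20.QDFacts
import Cfsg.Agent.Lib.Helper20.Transport

set_option autoImplicit false
set_option linter.unusedSectionVars false
set_option linter.unusedSimpArgs false

namespace Cfsg.Agent.Helper20

theorem card_le_four_of_subset {α : Type*} (s : Set α) (a b c d : α)
    (h : s ⊆ {a, b, c, d}) : Nat.card s ≤ 4 := by
  rw [Nat.card_coe_set_eq]
  have hfin : ({a, b, c, d} : Set α).Finite := by simp
  refine (Set.ncard_le_ncard h hfin).trans ?_
  refine (Set.ncard_insert_le _ _).trans ?_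
  have h1 : ({b, c, d} : Set α).ncard ≤ 3 := by
    refine (Set.ncard_insert_le _ _).trans ?_
    have h2 : ({c, d} : Set α).ncard ≤ 2 := by
      refine (Set.ncard_insert_le _ _).trans ?_
      simp
    omega
  omega

theorem card_le_two_of_subset {α : Type*} (s : Set α) (a b : α)
    (h : s ⊆ {a, b}) : Nat.card s ≤ 2 := by
  rw [Nat.card_coe_set_eq]
  have hfin : ({a, b} : Set α).Finite := by simp
  refine (Set.ncard_le_ncard h hfin).trans ?_
  refine (Set.ncard_insert_le _ _).trans ?_
  simp

/-- conjugating the centralizer of an element -/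
theorem map_conj_centralizer_singleton {G : Type*} [Group G] (s t : G) :
    (Subgroup.centralizer ({t} : Set G)).map (MulAut.conj s).toMonoidHom =
      Subgroup.centralizer ({s * t * s⁻¹} : Set G) := by
  ext x
  rw [mem_map_equiv', Subgroup.mem_centralizer_iff, Subgroup.mem_centralizer_iff]
  simp only [Set.mem_singleton_iff, forall_eq, MulAut.conj_symm_apply]
  constructor
  · intro h
    calc s * t * s⁻¹ * x = s * (t * (s⁻¹ * x * s)) * s⁻¹ := by group
      _ = s * ((s⁻¹ * x * s) * t) * s⁻¹ := by rw [h]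
      _ = _ := by group
  · intro h
    calc t * (s⁻¹ * x * s) = s⁻¹ * ((s * t * s⁻¹) * x) * s := by group
      _ = s⁻¹ * (x * (s * t * s⁻¹)) * s := by rw [h]
      _ = _ := by group

namespace SD

variable {k : ℕ}

theorem two_mul_eq_hN_mul_iff (d : ZMod (2 ^ (k + 3))) :
    2 * d = hN k * d ↔ d = 0 ∨ d = hN k := by
  constructor
  · intro h
    rcases zmod_even_or_odd d with ⟨b, hb⟩ | ⟨b, hb⟩
    · rw [hb, hN_mul_even] at h
      rw [← hb] at h
      exact (two_mul_eq_zero_iff d).mp h
    · exfalso
      rw [hb, hN_mul_odd, ← hb, ← two_qN] at h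
      rcases two_mul_cancel h with h1 | h1
      · rw [h1, ← two_oN] at hb
        exact even_ne_odd _ _ hb
      · rw [h1, ← two_oN, ← two_qN, ← two_oN] at hb
        have : 2 * oN k + 2 * (2 * oN k) = 2 * (oN k + 2 * oN k) := by ring
        rw [this] at hb
        exact even_ne_odd _ _ hb
  · rintro (rfl | rfl)
    · ring
    · rw [two_hN, hN_mul_hN]

/-- the centralizer of a non-central involution `(a, true)` -/
theorem mem_centralizer_true (a : ZMod (2 ^ (k + 3))) (p : SD k) :
    p ∈ Subgroup.centralizer ({⟨a, true⟩} : Set (SD k)) ↔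
      p = ⟨0, false⟩ ∨ p = ⟨hN k, false⟩ ∨ p = ⟨a, true⟩ ∨ p = ⟨a + hN k, true⟩ := by
  rw [Subgroup.mem_centralizer_iff]
  simp only [Set.mem_singleton_iff, forall_eq]
  rcases p with ⟨b, e⟩
  cases e
  · simp only [mk_mul_mk_true, mk_mul_mk_false, SD.mk.injEq, and_true, Bool.not_false,
      Bool.false_eq_true, and_false, or_false]
    rw [cN_mul]
    have : a + (hN k * b - b) = b + a ↔ 2 * b = hN k * b := by
      constructor
      · intro h; linear_combination -h
      · intro h; linear_combination -h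
    rw [this, two_mul_eq_hN_mul_iff]
  · simp only [mk_mul_mk_true, SD.mk.injEq, and_true, Bool.not_true, Bool.true_eq_false,
      and_false, false_or]
    rw [cN_mul, cN_mul]
    have : a + (hN k * b - b) = b + (hN k * a - a) ↔ 2 * (b - a) = hN k * (b - a) := by
      constructor
      · intro h; linear_combination -h
      · intro h; linear_combination -h
    rw [this, two_mul_eq_hN_mul_iff]
    constructor
    · rintro (h | h)
      · left; exact sub_eq_zero.mp h
      · right; linear_combination h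
    · rintro (h | h)
      · left; rw [h]; ring
      · right; rw [h]; ring

/-- every element of a Klein four subgroup squares to one -/
theorem klein_sq {G : Type*} [Group G] (T : Subgroup G) (hT : IsKleinFour T) (p : G) (hp : p ∈ T) :
    p * p = 1 := by
  have h := Monoid.pow_exponent_eq_one (⟨p, hp⟩ : T)
  rw [hT.exponent_two] at h
  have := congrArg Subtype.val h
  simpa [pow_two] using this

theorem klein_comm {G : Type*} [Group G] (T : Subgroup G) (hT : IsKleinFour T) (p q : G)
    (hp : p ∈ T) (hq : q ∈ T) : p * q = q * p := by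
  have h1 := klein_sq T hT p hp
  have h2 := klein_sq T hT q hq
  have h3 := klein_sq T hT (p * q) (T.mul_mem hp hq)
  have hp' : p⁻¹ = p := inv_eq_of_mul_eq_one_left h1
  have hq' : q⁻¹ = q := inv_eq_of_mul_eq_one_left h2
  have : (p * q)⁻¹ = p * q := inv_eq_of_mul_eq_one_left h3
  rw [mul_inv_rev, hp', hq'] at this
  exact this.symm

/-- A Klein four subgroup of `SD k` is the centralizer of one of its non-central involutions. -/
theorem klein_eq_centralizer (T : Subgroup (SD k)) (hT : IsKleinFour T) :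
    ∃ b : ZMod (2 ^ (k + 3)), (⟨2 * b, true⟩ : SD k) ∈ T ∧
      T = Subgroup.centralizer ({⟨2 * b, true⟩} : Set (SD k)) := by
  -- some element has e = true
  have hex : ∃ p ∈ T, p.e = true := by
    by_contra hno
    push Not at hno
    have hsub : (T : Set (SD k)) ⊆ {⟨0, false⟩, ⟨hN k, false⟩} := by
      intro p hp
      have he := hno p hp
      have hsq := klein_sq T hT p hp
      rcases p with ⟨a, e⟩
      simp only [Bool.not_eq_true] at he
      subst he
      rw [sq_false, eq_one_iff] at hsq
      simp only [and_true] at hsq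
      rcases (two_mul_eq_zero_iff a).mp hsq with h | h
      · left; rw [h]
      · right; rw [h]; rfl
    have := card_le_two_of_subset _ _ _ hsub
    have h4 : Nat.card (T : Set (SD k)) = 4 := hT.card_four
    omega
  obtain ⟨p, hp, he⟩ := hex
  rcases p with ⟨a, e⟩
  simp only at he
  subst he
  have hsq := klein_sq T hT _ hp
  rw [sq_true, eq_one_iff] at hsq
  simp only [and_true] at hsq
  obtain ⟨b, hb⟩ : ∃ b, a = 2 * b := by
    rcases zmod_even_or_odd a with ⟨b, hb⟩ | ⟨b, hb⟩
    · exact ⟨b, hb⟩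
    · rw [hb, hN_mul_odd] at hsq
      exact absurd hsq hN_ne_zero
  subst hb
  refine ⟨b, hp, ?_⟩
  have hle : T ≤ Subgroup.centralizer ({⟨2 * b, true⟩} : Set (SD k)) := by
    intro q hq
    rw [Subgroup.mem_centralizer_iff]
    simp only [Set.mem_singleton_iff, forall_eq]
    exact klein_comm T hT _ _ hp hq
  have hfin : Finite (SD k) := inferInstance
  apply Subgroup.eq_of_le_of_card_ge hle
  have h4 : Nat.card T = 4 := hT.card_four
  rw [h4]
  apply card_le_four_of_subset _ ⟨0, false⟩ ⟨hN k, false⟩ ⟨2 * b, true⟩ ⟨2 * b + hN k, true⟩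
  intro q hq
  exact (mem_centralizer_true _ q).mp hq

theorem neg_hN : -hN k = hN k := by
  linear_combination (-1 : ZMod (2 ^ (k + 3))) * (two_hN (k := k))

theorem hN_add_hN : hN k + hN k = 0 := by
  linear_combination (two_hN (k := k))

theorem klein_conj (T₁ T₂ : Subgroup (SD k)) (h₁ : IsKleinFour T₁) (h₂ : IsKleinFour T₂) :
    ∃ s : SD k, T₁.map (MulAut.conj s).toMonoidHom = T₂ := by
  obtain ⟨b₁, -, e₁⟩ := klein_eq_centralizer T₁ h₁
  obtain ⟨b₂, -, e₂⟩ := klein_eq_centralizer T₂ h₂
  have hc := isConj_true_of_even (k := k) (2 * b₁) (b₂ - b₁)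
  have e : 2 * b₁ + 2 * (b₂ - b₁) = 2 * b₂ := by ring
  rw [e] at hc
  obtain ⟨s, hs⟩ := isConj_iff.mp hc
  refine ⟨s, ?_⟩
  rw [e₁, map_conj_centralizer_singleton, hs, e₂]

theorem klein_centralizer (T : Subgroup (SD k)) (hT : IsKleinFour T) :
    Subgroup.centralizer (T : Set (SD k)) = T := by
  obtain ⟨b, hb, e⟩ := klein_eq_centralizer T hT
  apply le_antisymm
  · calc Subgroup.centralizer (T : Set (SD k))
        ≤ Subgroup.centralizer ({⟨2 * b, true⟩} : Set (SD k)) :=
          Subgroup.centralizer_le (Set.singleton_subset_iff.mpr hb)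
      _ = T := e.symm
  · intro p hp
    rw [Subgroup.mem_centralizer_iff]
    intro q hq
    exact klein_comm T hT q p hq hp

theorem klein_relIndex (T : Subgroup (SD k)) (hT : IsKleinFour T) :
    T.relIndex (Subgroup.normalizer (T : Set (SD k))) = 2 := by
  obtain ⟨b, hb, e⟩ := klein_eq_centralizer T hT
  have hc := isConj_true_of_even (k := k) (2 * b) (qN k)
  rw [two_qN] at hc
  obtain ⟨g, hg⟩ := isConj_iff.mp hc
  -- C(tz) = C(t)
  have hCtz : Subgroup.centralizer ({⟨2 * b + hN k, true⟩} : Set (SD k)) = T := by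
    rw [e]
    ext p
    rw [mem_centralizer_true, mem_centralizer_true, add_assoc, hN_add_hN, add_zero]
    tauto
  have hgN : g ∈ Subgroup.normalizer (T : Set (SD k)) := by
    rw [Subgroup.mem_normalizer_iff_map_conj_eq]
    have := map_conj_centralizer_singleton g (⟨2 * b, true⟩ : SD k)
    rw [hg, hCtz, ← e] at this
    exact this
  have htne : (⟨2 * b, true⟩ : SD k) ≠ ⟨2 * b + hN k, true⟩ := by
    intro h
    rw [SD.mk.injEq] at h
    have : hN k = 0 := by linear_combination -h.1
    exact hN_ne_zero this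
  have hmemT : ∀ p : SD k, p ∈ T ↔ p * ⟨2 * b, true⟩ * p⁻¹ = ⟨2 * b, true⟩ := by
    intro p
    rw [e, Subgroup.mem_centralizer_iff]
    simp only [Set.mem_singleton_iff, forall_eq]
    constructor
    · intro h; rw [← h]; group
    · intro h
      calc (⟨2 * b, true⟩ : SD k) * p = (p * ⟨2 * b, true⟩ * p⁻¹) * p := by rw [h]
        _ = _ := by group
  have hz : ∀ p : SD k, p * ⟨2 * b + hN k, true⟩ * p⁻¹
      = (p * ⟨2 * b, true⟩ * p⁻¹) * ⟨hN k, false⟩ := by
    intro p
    have h1 : (⟨2 * b + hN k, true⟩ : SD k) = ⟨2 * b, true⟩ * ⟨hN k, false⟩ := by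
      simp only [mk_mul_mk_true, SD.mk.injEq, Bool.not_false, and_true]
      rw [cN_mul, hN_mul_hN, zero_sub, neg_hN]
    have h2 : p * (⟨hN k, false⟩ : SD k) * p⁻¹ = ⟨hN k, false⟩ := by
      rcases p with ⟨a, e'⟩
      cases e'
      · rw [conj_false_false]
      · rw [conj_true_false, cN_mul, hN_mul_hN, zero_sub, neg_hN]
    calc p * ⟨2 * b + hN k, true⟩ * p⁻¹
        = (p * ⟨2 * b, true⟩ * p⁻¹) * (p * ⟨hN k, false⟩ * p⁻¹) := by rw [h1]; group
      _ = _ := by rw [h2]
  rw [Subgroup.relIndex_eq_two_iff]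
  refine ⟨g, hgN, ?_⟩
  intro p hp
  have hpt : p * ⟨2 * b, true⟩ * p⁻¹ ∈ T := (Subgroup.mem_normalizer_iff.mp hp _).mp hb
  rw [e, mem_centralizer_true] at hpt
  have he := conj_e p (⟨2 * b, true⟩ : SD k)
  rcases hpt with h | h | h | h
  · rw [h] at he; simp at he
  · rw [h] at he; simp at he
  · -- p ∈ T
    right
    refine ⟨(hmemT p).mpr h, ?_⟩
    intro hpg
    have hgT : g ∈ T := by
      have := T.mul_mem (T.inv_mem ((hmemT p).mpr h)) hpg
      simpa using this
    have := (hmemT g).mp hgT
    rw [hg] at this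
    exact htne this.symm
  · left
    constructor
    · rw [hmemT]
      calc p * g * ⟨2 * b, true⟩ * (p * g)⁻¹ = p * (g * ⟨2 * b, true⟩ * g⁻¹) * p⁻¹ := by group
        _ = p * ⟨2 * b + hN k, true⟩ * p⁻¹ := by rw [hg]
        _ = ⟨2 * b + hN k, true⟩ * ⟨hN k, false⟩ := by rw [hz, h]
        _ = ⟨2 * b, true⟩ := by
          simp only [mk_mul_mk_true, SD.mk.injEq, Bool.not_false, and_true]
          rw [cN_mul, hN_mul_hN, zero_sub, neg_hN, add_assoc, hN_add_hN, add_zero]
    · intro hpT
      have := (hmemT p).mp hpT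
      rw [h] at this
      exact htne this.symm

end SD

end Cfsg.Agent.Helper20
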