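import Mathlib
import Cfsg.Agent.Lib.Helper20.QDFacts
import Cfsg.Agent.Lib.Helper20.Transport

set_option autoImplicit false
set_option linter.unusedSectionVars false
set_option linter.unusedSimpArgs false

namespace Cfsg.Agent.Helper20

/-! ### general lemmas on index two -/

section general
variable {G : Type*} [Group G]

theorem isCoatom_of_index_two {M : Subgroup G} (h : M.index = 2) : IsCoatom M := by
  constructor
  · intro htop
    rw [htop, Subgroup.index_top] at h
    omega
  · intro K hK
    have hd : K.index ∣ M.index := Subgroup.index_dvd_of_le hK.le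
    rw [h] at hd
    rcases (Nat.dvd_prime Nat.prime_two).mp hd with h1 | h2
    · exact Subgroup.index_eq_one.mp h1
    · exfalso
      have := Subgroup.relIndex_mul_index hK.le
      rw [h, h2] at this
      have h1 : M.relIndex K = 1 := by omega
      have := Subgroup.relIndex_eq_one.mp h1
      exact (not_le_of_gt hK) this

theorem eq_of_le_of_index_two {M N : Subgroup G} (h : M.index = 2) (hle : M ≤ N) (hN : N ≠ ⊤) :
    N = M := by
  by_contra hne
  have hlt : M < N := lt_of_le_of_ne hle (Ne.symm hne)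
  exact hN ((isCoatom_of_index_two h).2 N hlt)

theorem index_ker_eq_two (f : G →* Multiplicative (ZMod 2)) (hf : Function.Surjective f) :
    f.ker.index = 2 := by
  rw [Subgroup.index_ker, MonoidHom.range_eq_top.mpr hf, Subgroup.card_top]
  simp [Nat.card_eq_fintype_card]

end general

namespace SD

variable {k : ℕ}

open scoped commutatorElement

theorem neg_hN' : -hN k = hN k := by
  linear_combination (-1 : ZMod (2 ^ (k + 3))) * (two_hN (k := k))

/-- parity -/
def par : ZMod (2 ^ (k + 3)) →+* ZMod 2 :=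
  ZMod.castHom (dvd_pow_self 2 (by omega)) (ZMod 2)

theorem par_two : par (2 : ZMod (2 ^ (k + 3))) = 0 := by
  rw [map_ofNat]; decide

theorem par_two_mul (b : ZMod (2 ^ (k + 3))) : par (2 * b) = 0 := by
  rw [map_mul, par_two, zero_mul]

theorem par_odd (b : ZMod (2 ^ (k + 3))) : par (2 * b + 1) = 1 := by
  rw [map_add, par_two_mul, map_one, zero_add]

theorem par_hN : par (hN k) = 0 := by
  rw [← two_qN, par_two_mul]

theorem par_cN : par (cN k) = 1 := by
  unfold cN
  rw [map_sub, par_hN, map_one]; decide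

theorem par_eq_zero_iff (a : ZMod (2 ^ (k + 3))) : par a = 0 ↔ ∃ b, a = 2 * b := by
  constructor
  · intro h
    rcases zmod_even_or_odd a with ⟨b, hb⟩ | ⟨b, hb⟩
    · exact ⟨b, hb⟩
    · rw [hb, par_odd] at h; exact absurd h (by decide)
  · rintro ⟨b, rfl⟩; exact par_two_mul b

theorem par_eq_one_iff (a : ZMod (2 ^ (k + 3))) : par a = 1 ↔ ∃ b, a = 2 * b + 1 := by
  constructor
  · intro h
    rcases zmod_even_or_odd a with ⟨b, hb⟩ | ⟨b, hb⟩
    · rw [hb, par_two_mul] at h; exact absurd h (by decide)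
    · exact ⟨b, hb⟩
  · rintro ⟨b, rfl⟩; exact par_odd b

/-- the homomorphism `x^a y^e ↦ e` -/
def eHom : SD k →* Multiplicative (ZMod 2) where
  toFun p := Multiplicative.ofAdd (if p.e then 1 else 0)
  map_one' := rfl
  map_mul' p q := by
    rcases p with ⟨a, e⟩; rcases q with ⟨b, f⟩
    cases e <;> cases f <;> simp <;> rfl

/-- the homomorphism `x^a y^e ↦ a mod 2` -/
def pHom : SD k →* Multiplicative (ZMod 2) where
  toFun p := Multiplicative.ofAdd (par p.a)
  map_one' := by simp
  map_mul' p q := by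
    rcases p with ⟨a, e⟩; rcases q with ⟨b, f⟩
    cases e <;> simp [par_cN, ← ofAdd_add]

theorem eHom_apply (p : SD k) : eHom p = Multiplicative.ofAdd (if p.e then 1 else 0) := rfl
theorem pHom_apply (p : SD k) : pHom p = Multiplicative.ofAdd (par p.a) := rfl

theorem eHom_surjective : Function.Surjective (eHom (k := k)) := by
  intro m
  obtain ⟨m, rfl⟩ := Multiplicative.ofAdd.surjective m
  fin_cases m
  · exact ⟨⟨0, false⟩, rfl⟩
  · exact ⟨⟨0, true⟩, rfl⟩

theorem pHom_surjective : Function.Surjective (pHom (k := k)) := by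
  intro m
  obtain ⟨m, rfl⟩ := Multiplicative.ofAdd.surjective m
  fin_cases m
  · exact ⟨⟨0, false⟩, by rw [pHom_apply]; simp; rfl⟩
  · exact ⟨⟨1, false⟩, by rw [pHom_apply]; simp; rfl⟩

/-- the product of the two homomorphisms -/
def epHom : SD k →* Multiplicative (ZMod 2) := eHom * pHom

theorem epHom_apply (p : SD k) : epHom p = eHom p * pHom p := rfl

theorem epHom_surjective : Function.Surjective (epHom (k := k)) := by
  intro m
  obtain ⟨m, rfl⟩ := Multiplicative.ofAdd.surjective m
  fin_cases m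
  · exact ⟨⟨0, false⟩, by rw [epHom_apply, pHom_apply, eHom_apply]; simp; rfl⟩
  · exact ⟨⟨1, false⟩, by rw [epHom_apply, pHom_apply, eHom_apply]; simp; rfl⟩

/-- the cyclic maximal subgroup -/
def Rot : Subgroup (SD k) := (eHom (k := k)).ker
/-- the dihedral maximal subgroup -/
def Dih : Subgroup (SD k) := (pHom (k := k)).ker
/-- the generalized quaternion maximal subgroup -/
def Qt : Subgroup (SD k) := (epHom (k := k)).ker

theorem mem_Rot (p : SD k) : p ∈ Rot ↔ p.e = false := by
  unfold Rot
  rw [MonoidHom.mem_ker, eHom_apply]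
  rcases p with ⟨a, e⟩
  cases e <;> simp

theorem mem_Dih (p : SD k) : p ∈ Dih ↔ ∃ b, p.a = 2 * b := by
  unfold Dih
  rw [MonoidHom.mem_ker, pHom_apply, ← par_eq_zero_iff]
  simp

theorem mem_Qt (p : SD k) :
    p ∈ Qt ↔ (p.e = false ∧ ∃ b, p.a = 2 * b) ∨ (p.e = true ∧ ∃ b, p.a = 2 * b + 1) := by
  unfold Qt
  rw [MonoidHom.mem_ker, epHom_apply, eHom_apply, pHom_apply, ← par_eq_zero_iff,
    ← par_eq_one_iff]
  rcases p with ⟨a, e⟩
  cases e
  · simp
  · simp only [if_true, Bool.true_eq_false, false_and, true_and, false_or]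
    rw [← ofAdd_add, ofAdd_eq_one]
    constructor
    · intro h
      have : par a = -1 := by linear_combination h
      rw [this]; decide
    · intro h; rw [h]; decide

theorem index_Rot : (Rot (k := k)).index = 2 := index_ker_eq_two _ eHom_surjective
theorem index_Dih : (Dih (k := k)).index = 2 := index_ker_eq_two _ pHom_surjective
theorem index_Qt : (Qt (k := k)).index = 2 := index_ker_eq_two _ epHom_surjective

/-! ### the rotation subgroup is cyclic; odd rotations generate it -/

theorem isUnit_of_odd (d : ZMod (2 ^ (k + 3))) : IsUnit (2 * d + 1) := by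
  apply IsNilpotent.isUnit_add_one
  refine ⟨k + 3, ?_⟩
  rw [mul_pow, two_pow_eq_zero, zero_mul]

theorem rot_mem_of_odd_mem (N : Subgroup (SD k)) (d b : ZMod (2 ^ (k + 3)))
    (h : (⟨2 * d + 1, false⟩ : SD k) ∈ N) : (⟨b, false⟩ : SD k) ∈ N := by
  obtain ⟨u, hu⟩ := isUnit_of_odd (k := k) d
  have h1 : (⟨2 * d + 1, false⟩ : SD k) ^ (b * ↑u⁻¹).val ∈ N := N.pow_mem h _
  rw [pow_false, ZMod.natCast_zmod_val, ← hu, mul_assoc, Units.inv_mul, mul_one] at h1
  exact h1

instance : IsCyclic ↥(Rot (k := k)) := by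
  refine ⟨⟨⟨⟨1, false⟩, (mem_Rot _).mpr rfl⟩, ?_⟩⟩
  rintro ⟨p, hp⟩
  rw [mem_Rot] at hp
  rcases p with ⟨a, e⟩
  simp only at hp
  subst hp
  refine ⟨(a.val : ℤ), ?_⟩
  apply Subtype.ext
  simp only [zpow_natCast, Subgroup.coe_pow]
  rw [pow_false, ZMod.natCast_zmod_val, mul_one]

/-! ### the commutator subgroup -/

theorem even_rot_mem_commutator (b : ZMod (2 ^ (k + 3))) :
    (⟨2 * b, false⟩ : SD k) ∈ commutator (SD k) := by
  have key : ∀ b' : ZMod (2 ^ (k + 3)), (⟨hN k * b' - 2 * b', false⟩ : SD k) ∈ commutator (SD k) := by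
    intro b'
    have h1 : ⁅(⟨0, true⟩ : SD k), (⟨b', false⟩ : SD k)⁆ = (⟨hN k * b' - 2 * b', false⟩ : SD k) := by
      rw [commutatorElement_def, conj_true_false, cN_mul]
      simp only [inv_mk_false, mk_mul_mk_false, SD.mk.injEq, and_true]
      ring
    rw [← h1, commutator_eq_closure]
    exact Subgroup.subset_closure (commutator_mem_commutatorSet _ _)
  rcases zmod_even_or_odd b with ⟨d, hd⟩ | ⟨d, hd⟩
  · have := key (-b)
    rw [hd] at this
    have e : hN k * -(2 * d) - 2 * -(2 * d) = 2 * (2 * d) := by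
      linear_combination (-d) * (two_hN (k := k))
    rw [e, ← hd] at this
    exact this
  · have := key (-b + qN k)
    have e : hN k * (-b + qN k) - 2 * (-b + qN k) = 2 * b := by
      rw [hd]
      have h1 : hN k * (-(2 * d + 1) + qN k) = hN k := by
        have : hN k * (-(2 * d + 1) + qN k) = -(hN k * (2 * d + 1)) + hN k * qN k := by ring
        rw [this, hN_mul_odd, hN_mul_qN, add_zero, neg_hN']
      rw [h1]
      linear_combination (-1 : ZMod (2 ^ (k + 3))) * (two_qN (k := k))
    rw [e] at this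
    exact this

theorem commutator_eq : commutator (SD k) = Rot ⊓ Dih := by
  apply le_antisymm
  · exact le_inf (Abelianization.commutator_subset_ker eHom) (Abelianization.commutator_subset_ker pHom)
  · intro p hp
    obtain ⟨h1, h2⟩ := Subgroup.mem_inf.mp hp
    rw [mem_Rot] at h1
    rw [mem_Dih] at h2
    obtain ⟨b, hb⟩ := h2
    rcases p with ⟨a, e⟩
    simp only at h1 hb
    subst h1 hb
    exact even_rot_mem_commutator b

/-! ### normal subgroups -/

theorem normal_analysis (N : Subgroup (SD k)) [hN : N.Normal] :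
    N ≤ Rot ⊓ Dih ∨ Rot ≤ N ∨ Dih ≤ N ∨ Qt ≤ N := by
  by_cases hle : N ≤ Rot ⊓ Dih
  · left; exact hle
  right
  obtain ⟨g, hgN, hg⟩ := SetLike.not_le_iff_exists.mp hle
  rcases g with ⟨a, e⟩
  cases e
  · -- a is odd
    left
    have hodd : ∃ d, a = 2 * d + 1 := by
      rcases zmod_even_or_odd a with ⟨d, hd⟩ | ⟨d, hd⟩
      · exfalso; apply hg
        exact Subgroup.mem_inf.mpr ⟨(mem_Rot _).mpr rfl, (mem_Dih _).mpr ⟨d, hd⟩⟩
      · exact ⟨d, hd⟩
    obtain ⟨d, rfl⟩ := hodd
    intro p hp
    rw [mem_Rot] at hp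
    rcases p with ⟨b, f⟩
    simp only at hp
    subst hp
    exact rot_mem_of_odd_mem N d b hgN
  · right
    -- all even rotations are in N
    have heven : ∀ d : ZMod (2 ^ (k + 3)), (⟨2 * d, false⟩ : SD k) ∈ N := by
      intro d
      obtain ⟨s, hs⟩ := isConj_iff.mp (isConj_true_of_even (k := k) a d)
      have h1 : (⟨a + 2 * d, true⟩ : SD k) ∈ N := by
        rw [← hs]; exact hN.conj_mem _ hgN s
      have h2 := N.mul_mem h1 (N.inv_mem hgN)
      have e : (⟨a + 2 * d, true⟩ : SD k) * (⟨a, true⟩ : SD k)⁻¹ = ⟨2 * d, false⟩ := by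
        simp only [inv_mk_true, mk_mul_mk_true, SD.mk.injEq, Bool.not_true, and_true]
        rw [mul_neg, cN_cN_mul]; ring
      rw [e] at h2
      exact h2
    rcases zmod_even_or_odd a with ⟨b, hb⟩ | ⟨b, hb⟩
    · left
      intro p hp
      rw [mem_Dih] at hp
      obtain ⟨d, hd⟩ := hp
      rcases p with ⟨a', f⟩
      simp only at hd
      subst hd
      cases f
      · exact heven d
      · have := N.mul_mem (heven (d - b)) hgN
        have e : (⟨2 * (d - b), false⟩ : SD k) * ⟨a, true⟩ = ⟨2 * d, true⟩ := by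
          simp only [mk_mul_mk_false, SD.mk.injEq, and_true]
          rw [hb]; ring
        rw [e] at this
        exact this
    · right
      intro p hp
      rw [mem_Qt] at hp
      rcases p with ⟨a', f⟩
      rcases hp with ⟨h1, d, hd⟩ | ⟨h1, d, hd⟩
      · simp only at h1 hd
        subst h1 hd
        exact heven d
      · simp only at h1 hd
        subst h1 hd
        have := N.mul_mem (heven (d - b)) hgN
        have e : (⟨2 * (d - b), false⟩ : SD k) * ⟨a, true⟩ = ⟨2 * d + 1, true⟩ := by
          simp only [mk_mul_mk_false, SD.mk.injEq, and_true]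
          rw [hb]; ring
        rw [e] at this
        exact this

/-- model version of S1194 -/
theorem normal_coatom_or_cyclic (N : Subgroup (SD k)) [N.Normal] (hN : N ≠ ⊤) :
    IsCoatom N ∨ (IsCyclic N ∧ N ≤ commutator (SD k)) := by
  rcases normal_analysis N with h | h | h | h
  · right
    refine ⟨Subgroup.isCyclic_of_le (le_trans h inf_le_left), ?_⟩
    rw [commutator_eq]; exact h
  · left; rw [eq_of_le_of_index_two index_Rot h hN]; exact isCoatom_of_index_two index_Rot
  · left; rw [eq_of_le_of_index_two index_Dih h hN]; exact isCoatom_of_index_two index_Dih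
  · left; rw [eq_of_le_of_index_two index_Qt h hN]; exact isCoatom_of_index_two index_Qt

end SD

end Cfsg.Agent.Helper20
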