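import Mathlib
import Cfsg.Agent.Lib.Helper20.QDSub

set_option autoImplicit false
set_option linter.unusedSectionVars false
set_option linter.unusedSimpArgs false

namespace Cfsg.Agent.Helper20

namespace SD

variable {k : ℕ}

/-- the doubling map `ZMod m → ZMod (2^(k+3))` for `2 * m = 2^(k+3)` -/
def dbl (m : ℕ) (hm : 2 * m = 2 ^ (k + 3)) : ZMod m →+ ZMod (2 ^ (k + 3)) :=
  ZMod.lift m ⟨(AddMonoidHom.mulLeft (2 : ZMod (2 ^ (k + 3)))).comp (Int.castAddHom _), by
    show (2 : ZMod (2 ^ (k + 3))) * ((m : ℤ) : ZMod (2 ^ (k + 3))) = 0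
    have : ((2 * m : ℕ) : ZMod (2 ^ (k + 3))) = 0 := by rw [hm]; exact ZMod.natCast_self _
    push_cast at this ⊢
    exact this⟩

variable (m : ℕ) (hm : 2 * m = 2 ^ (k + 3))

theorem dbl_intCast (x : ℤ) : dbl m hm (x : ZMod m) = 2 * (x : ZMod (2 ^ (k + 3))) := by
  unfold dbl
  rw [ZMod.lift_coe]
  rfl

theorem dbl_natCast (x : ℕ) : dbl m hm (x : ZMod m) = 2 * (x : ZMod (2 ^ (k + 3))) := by
  have := dbl_intCast m hm (x : ℤ)
  simpa using this

theorem dbl_eq (i : ZMod m) : dbl m hm i = 2 * ((i.cast : ℤ) : ZMod (2 ^ (k + 3))) := by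
  have h := dbl_intCast m hm (i.cast : ℤ)
  rwa [ZMod.intCast_zmod_cast] at h

theorem hN_mul_dbl (i : ZMod m) : hN k * dbl m hm i = 0 := by
  rw [dbl_eq, hN_mul_even]

theorem cN_mul_dbl (i : ZMod m) : cN k * dbl m hm i = -dbl m hm i := by
  rw [cN_mul, hN_mul_dbl, zero_sub]

include hm in
theorem m_pos : 0 < m := by
  rcases Nat.eq_zero_or_pos m with h | h
  · subst h; simp at hm; exact absurd hm.symm (by positivity)
  · exact h

theorem dbl_injective : Function.Injective (dbl m hm) := by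
  rw [injective_iff_map_eq_zero]
  intro i hi
  have hpos := m_pos m hm
  have : NeZero m := ⟨hpos.ne'⟩
  have h1 := dbl_natCast m hm i.val
  rw [ZMod.natCast_zmod_val] at h1
  rw [h1] at hi
  have h2 : ((2 * i.val : ℕ) : ZMod (2 ^ (k + 3))) = 0 := by push_cast; exact hi
  rw [ZMod.natCast_eq_zero_iff, ← hm] at h2
  have h3 : m ∣ i.val := Nat.dvd_of_mul_dvd_mul_left (by norm_num) h2
  have h4 : i.val < m := ZMod.val_lt i
  have h5 : i.val = 0 := Nat.eq_zero_of_dvd_of_lt h3 h4
  exact (ZMod.val_eq_zero i).mp h5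

theorem dbl_surj_even (b : ZMod (2 ^ (k + 3))) : ∃ i : ZMod m, dbl m hm i = 2 * b := by
  refine ⟨(b.val : ZMod m), ?_⟩
  rw [dbl_natCast, ZMod.natCast_zmod_val]

/-! ### the dihedral maximal subgroup -/

theorem hmD : 2 * 2 ^ (k + 2) = 2 ^ (k + 3) := by rw [← pow_succ']

theorem hmQ : 2 * (2 * 2 ^ (k + 1)) = 2 ^ (k + 3) := by
  rw [← pow_succ', ← pow_succ']

/-- the embedding of the dihedral group -/
def dihHom : DihedralGroup (2 ^ (k + 2)) →* SD k where
  toFun
    | DihedralGroup.r i => ⟨dbl _ hmD i, false⟩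
    | DihedralGroup.sr i => ⟨-dbl _ hmD i, true⟩
  map_one' := by
    rw [DihedralGroup.one_def]
    simp [one_def]
  map_mul' := by
    rintro (i | i) (j | j)
    · simp [SD.ext_iff]
    · simp [SD.ext_iff]; ring
    · simp [SD.ext_iff, cN_mul_dbl]; ring
    · simp [SD.ext_iff, cN_mul_dbl]; ring

theorem dihHom_r (i : ZMod (2 ^ (k + 2))) :
    dihHom (k := k) (DihedralGroup.r i) = ⟨dbl _ hmD i, false⟩ := rfl
theorem dihHom_sr (i : ZMod (2 ^ (k + 2))) :
    dihHom (k := k) (DihedralGroup.sr i) = ⟨-dbl _ hmD i, true⟩ := rfl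

theorem dihHom_injective : Function.Injective (dihHom (k := k)) := by
  rw [injective_iff_map_eq_one]
  rintro (i | i) h
  · rw [dihHom_r, eq_one_iff] at h
    have := (injective_iff_map_eq_zero _).mp (dbl_injective _ (hmD (k := k))) i h.1
    rw [this]; rfl
  · rw [dihHom_sr, eq_one_iff] at h
    simp at h

theorem dihHom_range : (dihHom (k := k)).range = Dih := by
  ext p
  rw [MonoidHom.mem_range, mem_Dih]
  constructor
  · rintro ⟨(i | i), rfl⟩
    · rw [dihHom_r, dbl_eq]; exact ⟨_, rfl⟩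
    · rw [dihHom_sr, dbl_eq]; exact ⟨-_, by ring⟩
  · rintro ⟨b, hb⟩
    rcases p with ⟨a, e⟩
    simp only at hb
    subst hb
    cases e
    · obtain ⟨i, hi⟩ := dbl_surj_even _ (hmD (k := k)) b
      exact ⟨DihedralGroup.r i, by rw [dihHom_r, hi]⟩
    · obtain ⟨i, hi⟩ := dbl_surj_even _ (hmD (k := k)) (-b)
      refine ⟨DihedralGroup.sr i, ?_⟩
      rw [dihHom_sr, hi]; simp

/-- the dihedral maximal subgroup is dihedral -/
noncomputable def dihEquiv : ↥(Dih (k := k)) ≃* DihedralGroup (2 ^ (k + 2)) :=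
  ((MonoidHom.ofInjective dihHom_injective).trans (MulEquiv.subgroupCongr dihHom_range)).symm

/-! ### the quaternion maximal subgroup -/

/-- the embedding of the generalized quaternion group -/
def qtHom : QuaternionGroup (2 ^ (k + 1)) →* SD k where
  toFun
    | QuaternionGroup.a i => ⟨dbl _ hmQ i, false⟩
    | QuaternionGroup.xa i => ⟨1 - dbl _ hmQ i, true⟩
  map_one' := by
    rw [QuaternionGroup.one_def]
    simp [one_def]
  map_mul' := by
    have hn : dbl (2 * 2 ^ (k + 1)) hmQ ((2 ^ (k + 1) : ℕ) : ZMod (2 * 2 ^ (k + 1))) = hN k := by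
      rw [dbl_natCast]; unfold hN; push_cast; rw [← pow_succ']
    rintro (i | i) (j | j)
    · simp [SD.ext_iff]
    · simp [SD.ext_iff]; ring
    · simp [SD.ext_iff, cN_mul_dbl]; ring
    · simp only [QuaternionGroup.xa_mul_xa, mk_mul_mk_true, SD.mk.injEq, Bool.not_true, and_true,
        map_add, map_sub]
      rw [hn, mul_sub, cN_mul_dbl]
      unfold cN; ring

theorem qtHom_a (i : ZMod (2 * 2 ^ (k + 1))) :
    qtHom (k := k) (QuaternionGroup.a i) = ⟨dbl _ hmQ i, false⟩ := rfl
theorem qtHom_xa (i : ZMod (2 * 2 ^ (k + 1))) :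
    qtHom (k := k) (QuaternionGroup.xa i) = ⟨1 - dbl _ hmQ i, true⟩ := rfl

theorem qtHom_injective : Function.Injective (qtHom (k := k)) := by
  rw [injective_iff_map_eq_one]
  rintro (i | i) h
  · rw [qtHom_a, eq_one_iff] at h
    have := (injective_iff_map_eq_zero _).mp (dbl_injective _ (hmQ (k := k))) i h.1
    rw [this]; rfl
  · rw [qtHom_xa, eq_one_iff] at h
    simp at h

theorem qtHom_range : (qtHom (k := k)).range = Qt := by
  ext p
  rw [MonoidHom.mem_range, mem_Qt]
  constructor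
  · rintro ⟨(i | i), rfl⟩
    · left; rw [qtHom_a, dbl_eq]; exact ⟨rfl, _, rfl⟩
    · right; rw [qtHom_xa, dbl_eq]; exact ⟨rfl, -_, by ring⟩
  · rintro (⟨he, b, hb⟩ | ⟨he, b, hb⟩)
    · rcases p with ⟨a, e⟩
      simp only at hb he
      subst hb he
      obtain ⟨i, hi⟩ := dbl_surj_even _ (hmQ (k := k)) b
      exact ⟨QuaternionGroup.a i, by rw [qtHom_a, hi]⟩
    · rcases p with ⟨a, e⟩
      simp only at hb he
      subst hb he
      obtain ⟨i, hi⟩ := dbl_surj_even _ (hmQ (k := k)) (-b)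
      refine ⟨QuaternionGroup.xa i, ?_⟩
      rw [qtHom_xa, hi]; simp [SD.ext_iff]; ring

/-- the quaternion maximal subgroup is generalized quaternion -/
noncomputable def qtEquiv : ↥(Qt (k := k)) ≃* QuaternionGroup (2 ^ (k + 1)) :=
  ((MonoidHom.ofInjective qtHom_injective).trans (MulEquiv.subgroupCongr qtHom_range)).symm

/-! ### classification of the maximal subgroups -/

theorem one_false_mem_Rot : (⟨1, false⟩ : SD k) ∈ Rot := (mem_Rot _).mpr rfl

theorem one_false_not_mem_Dih : (⟨1, false⟩ : SD k) ∉ Dih := by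
  rw [mem_Dih]
  rintro ⟨b, hb⟩
  simp only at hb
  have := even_ne_odd b (0 : ZMod (2 ^ (k + 3)))
  apply this
  rw [← hb]; ring

theorem one_false_not_mem_Qt : (⟨1, false⟩ : SD k) ∉ Qt := by
  rw [mem_Qt]
  rintro (⟨-, b, hb⟩ | ⟨h, -⟩)
  · simp only at hb
    have := even_ne_odd b (0 : ZMod (2 ^ (k + 3)))
    apply this
    rw [← hb]; ring
  · simp at h

theorem zero_true_mem_Dih : (⟨0, true⟩ : SD k) ∈ Dih := (mem_Dih _).mpr ⟨0, by simp⟩

theorem zero_true_not_mem_Qt : (⟨0, true⟩ : SD k) ∉ Qt := by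
  rw [mem_Qt]
  rintro (⟨h, -⟩ | ⟨-, b, hb⟩)
  · simp at h
  · simp only at hb
    have := even_ne_odd (0 : ZMod (2 ^ (k + 3))) b
    apply this
    rw [← hb]; ring

theorem Rot_ne_Dih : (Rot (k := k)) ≠ Dih := by
  intro h; exact one_false_not_mem_Dih (h ▸ one_false_mem_Rot)

theorem Rot_ne_Qt : (Rot (k := k)) ≠ Qt := by
  intro h; exact one_false_not_mem_Qt (h ▸ one_false_mem_Rot)

theorem Qt_ne_Dih : (Qt (k := k)) ≠ Dih := by
  intro h; exact zero_true_not_mem_Qt (h ▸ zero_true_mem_Dih)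

theorem isPGroup : IsPGroup 2 (SD k) := IsPGroup.of_card (n := k + 4) nat_card

theorem coatom_iff (M : Subgroup (SD k)) : IsCoatom M ↔ M = Rot ∨ M = Qt ∨ M = Dih := by
  constructor
  · intro hM
    have : Fact (Nat.Prime 2) := ⟨Nat.prime_two⟩
    have hnil : Group.IsNilpotent (SD k) := isPGroup.isNilpotent
    have hnorm : M.Normal := Subgroup.NormalizerCondition.normal_of_coatom
      (H := M) Group.normalizerCondition_of_isNilpotent hM
    rcases normal_analysis M with h | h | h | h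
    · exfalso
      have h1 : M ≤ Rot := le_trans h inf_le_left
      have hRtop : (Rot (k := k)) ≠ ⊤ := (isCoatom_of_index_two index_Rot).1
      have h2 : M = Rot := by
        by_contra hne
        exact hRtop (hM.2 Rot (lt_of_le_of_ne h1 hne))
      have h3 : Rot (k := k) ≤ Dih := by
        rw [← h2]; exact le_trans h inf_le_right
      exact one_false_not_mem_Dih (h3 one_false_mem_Rot)
    · left; exact eq_of_le_of_index_two index_Rot h hM.1
    · right; right; exact eq_of_le_of_index_two index_Dih h hM.1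
    · right; left; exact eq_of_le_of_index_two index_Qt h hM.1
  · rintro (rfl | rfl | rfl)
    · exact isCoatom_of_index_two index_Rot
    · exact isCoatom_of_index_two index_Qt
    · exact isCoatom_of_index_two index_Dih

end SD

end Cfsg.Agent.Helper20
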