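import Mathlib
import Cfsg.Agent.Lib.Helper20.QDMax
import Cfsg.Agent.Lib.Helper20.QDKlein

set_option autoImplicit false
set_option linter.unusedSectionVars false
set_option linter.unusedSimpArgs false

namespace Cfsg.Agent.Helper20

section transport
variable {G H : Type*} [Group G] [Group H] (φ : G ≃* H)

theorem map_frattini_equiv : (frattini G).map φ.toMonoidHom = frattini H :=
  OrderIso.map_radical (MulEquiv.mapSubgroup φ)

theorem map_center_equiv : (Subgroup.center G).map φ.toMonoidHom = Subgroup.center H := by
  ext h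
  rw [mem_map_equiv', Subgroup.mem_center_iff, Subgroup.mem_center_iff]
  constructor
  · intro hg x
    have := congrArg φ (hg (φ.symm x))
    simpa using this
  · intro hh g
    apply φ.injective
    simpa using hh (φ g)

theorem map_closure_orderOf_equiv (n : ℕ) :
    (Subgroup.closure {g : G | orderOf g = n}).map φ.toMonoidHom =
      Subgroup.closure {h : H | orderOf h = n} := by
  rw [MonoidHom.map_closure]
  congr 1
  ext h
  constructor
  · rintro ⟨g, hg, rfl⟩
    show orderOf (φ g) = n
    rw [MulEquiv.orderOf_eq]
    exact hg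
  · intro hh
    refine ⟨φ.symm h, ?_, by simp⟩
    show orderOf (φ.symm h) = n
    rw [MulEquiv.orderOf_eq]
    exact hh

theorem card_map_equiv (T : Subgroup G) : Nat.card ↥(T.map φ.toMonoidHom) = Nat.card T :=
  (Nat.card_congr (T.equivMapOfInjective φ.toMonoidHom φ.injective).toEquiv).symm

end transport

namespace SD

variable {k : ℕ}

theorem frattini_eq : frattini (SD k) = Rot ⊓ Dih := by
  apply le_antisymm
  · exact le_inf (frattini_le_coatom (isCoatom_of_index_two index_Rot))
      (frattini_le_coatom (isCoatom_of_index_two index_Dih))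
  · unfold frattini Order.radical
    refine le_iInf₂ ?_
    intro M hM
    rcases (coatom_iff M).mp hM with rfl | rfl | rfl
    · exact inf_le_left
    · intro p hp
      obtain ⟨h1, h2⟩ := Subgroup.mem_inf.mp hp
      rw [mem_Rot] at h1
      rw [mem_Dih] at h2
      rw [mem_Qt]
      left; exact ⟨h1, h2⟩
    · exact inf_le_right

theorem commutator_eq_frattini : commutator (SD k) = frattini (SD k) := by
  rw [commutator_eq, frattini_eq]

instance : IsCyclic ↥(commutator (SD k)) := by
  have h : commutator (SD k) ≤ Rot := by rw [commutator_eq]; exact inf_le_left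
  exact Subgroup.isCyclic_of_le h

/-- even rotations are parametrized by `ZMod (2^(k+2))` -/
noncomputable def evenRotEquiv : ZMod (2 ^ (k + 2)) ≃ ↥(Rot (k := k) ⊓ Dih) :=
  Equiv.ofBijective
    (fun i => ⟨⟨dbl _ hmD i, false⟩, Subgroup.mem_inf.mpr
      ⟨(mem_Rot _).mpr rfl, (mem_Dih _).mpr ⟨_, dbl_eq _ hmD i⟩⟩⟩)
    (by
      constructor
      · intro i j h
        have h1 := congrArg Subtype.val h
        simp only [SD.mk.injEq, and_true] at h1
        exact dbl_injective _ hmD h1
      · rintro ⟨p, hp⟩
        obtain ⟨h1, h2⟩ := Subgroup.mem_inf.mp hp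
        rw [mem_Rot] at h1
        rw [mem_Dih] at h2
        obtain ⟨b, hb⟩ := h2
        obtain ⟨i, hi⟩ := dbl_surj_even _ (hmD (k := k)) b
        refine ⟨i, ?_⟩
        apply Subtype.ext
        rcases p with ⟨a, e⟩
        simp only at h1 hb
        subst h1 hb
        simp only [SD.mk.injEq, and_true]
        exact hi)

theorem card_commutator : Nat.card ↥(commutator (SD k)) = 2 ^ (k + 2) := by
  rw [commutator_eq, ← Nat.card_congr evenRotEquiv, Nat.card_zmod]

theorem z_central (p : SD k) : p * ⟨hN k, false⟩ = ⟨hN k, false⟩ * p := by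
  rcases p with ⟨a, e⟩
  cases e
  · simp [SD.ext_iff]; ring
  · simp only [mk_mul_mk_true, mk_mul_mk_false, SD.mk.injEq, Bool.not_false, and_true]
    rw [cN_mul, hN_mul_hN, zero_sub, neg_hN']; ring

theorem center_eq : Subgroup.center (SD k) = Subgroup.zpowers (⟨hN k, false⟩ : SD k) := by
  apply le_antisymm
  · intro p hp
    rw [Subgroup.mem_center_iff] at hp
    rcases p with ⟨a, e⟩
    cases e
    · have h1 := hp ⟨0, true⟩
      simp only [mk_mul_mk_true, mk_mul_mk_false, SD.mk.injEq, Bool.not_false, and_true,
        zero_add, add_zero] at h1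
      rw [cN_mul] at h1
      have h2 : 2 * a = hN k * a := by linear_combination -h1
      rcases (two_mul_eq_hN_mul_iff a).mp h2 with rfl | rfl
      · exact Subgroup.one_mem _
      · exact Subgroup.mem_zpowers _
    · exfalso
      have h1 := hp ⟨qN k, false⟩
      simp only [mk_mul_mk_true, mk_mul_mk_false, SD.mk.injEq, Bool.not_false, and_true] at h1
      rw [cN_mul, hN_mul_qN, zero_sub] at h1
      have h2 : hN k = 0 := by
        rw [← two_qN]; linear_combination h1
      exact hN_ne_zero h2
  · rw [Subgroup.zpowers_le]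
    rw [Subgroup.mem_center_iff]
    intro p
    exact z_central p

theorem card_center : Nat.card ↥(Subgroup.center (SD k)) = 2 := by
  rw [center_eq, Nat.card_zpowers]
  rw [orderOf_eq_two_iff]; left; rfl

theorem closure_involutions_eq : Subgroup.closure {p : SD k | orderOf p = 2} = Dih := by
  apply le_antisymm
  · rw [Subgroup.closure_le]
    intro p hp
    have hp' : orderOf p = 2 := hp
    rw [orderOf_eq_two_iff] at hp'
    rw [SetLike.mem_coe, mem_Dih]
    rcases hp' with rfl | ⟨-, b, hb⟩
    · exact ⟨qN k, two_qN.symm⟩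
    · exact ⟨b, hb⟩
  · intro p hp
    rw [mem_Dih] at hp
    obtain ⟨b, hb⟩ := hp
    rcases p with ⟨a, e⟩
    simp only at hb
    subst hb
    have hinv : ∀ d : ZMod (2 ^ (k + 3)),
        (⟨2 * d, true⟩ : SD k) ∈ Subgroup.closure {p : SD k | orderOf p = 2} := by
      intro d
      apply Subgroup.subset_closure
      show orderOf (⟨2 * d, true⟩ : SD k) = 2
      rw [orderOf_eq_two_iff]; right; exact ⟨rfl, d, rfl⟩
    cases e
    · have := Subgroup.mul_mem _ (hinv b) (hinv 0)
      simp only [mul_zero, mk_mul_mk_true, Bool.not_true, add_zero] at this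
      exact this
    · exact hinv b

end SD

end Cfsg.Agent.Helper20
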