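import Mathlib
import Cfsg.Agent.Lib.Helper20.Transport

set_option autoImplicit false
set_option linter.unusedSectionVars false
set_option linter.unusedSimpArgs false
set_option linter.unusedVariables false

namespace Cfsg.Agent.Helper20

/-- every automorphism of odd order is trivial -/
def OddAutTrivial (H : Type*) [Group H] : Prop :=
  ∀ β : MulAut H, (orderOf β).Coprime 2 → β = 1

theorem OddAutTrivial.of_equiv {H M : Type*} [Group H] [Group M] (h : OddAutTrivial H)
    (e : H ≃* M) : OddAutTrivial M := by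
  intro β hβ
  have h1 : orderOf ((MulAut.congr e).symm β) = orderOf β := MulEquiv.orderOf_eq _ β
  have h2 := h ((MulAut.congr e).symm β) (h1 ▸ hβ)
  exact (map_eq_one_iff _ (MulAut.congr e).symm.injective).mp h2

/-- an element of odd order normalizing a subgroup without odd automorphisms centralizes it -/
theorem mem_centralizer_of_oddAutTrivial {G : Type*} [Group G] (Q : Subgroup G)
    (hQ : OddAutTrivial ↥Q) (g : G) (hg : g ∈ Subgroup.normalizer (Q : Set G))
    (hodd : (orderOf g).Coprime 2) : g ∈ Subgroup.centralizer (Q : Set G) := by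
  have h1 : orderOf (Q.normalizerMonoidHom ⟨g, hg⟩) ∣ orderOf g := by
    have := orderOf_map_dvd Q.normalizerMonoidHom (⟨g, hg⟩ : ↥(Subgroup.normalizer (Q : Set G)))
    rwa [Subgroup.orderOf_mk] at this
  have h2 := hQ _ (Nat.Coprime.coprime_dvd_left h1 hodd)
  have h3 : (⟨g, hg⟩ : ↥(Subgroup.normalizer (Q : Set G))) ∈ Q.normalizerMonoidHom.ker := h2
  rw [Subgroup.normalizerMonoidHom_ker] at h3
  exact Subgroup.mem_subgroupOf.mp h3

/-- an odd order automorphism mapping an element of `2`-power order into the cyclic group it generates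
fixes it -/
theorem apply_eq_of_mem_zpowers {H : Type*} [Group H] (β : MulAut H) (x : H) (a : ℕ)
    (hx : orderOf x = 2 ^ a) (hβx : β x ∈ Subgroup.zpowers x) (hβ : (orderOf β).Coprime 2) :
    β x = x := by
  have hn0 : orderOf β ≠ 0 := by
    intro h
    rw [h] at hβ
    simp at hβ
  have hfin : IsOfFinOrder x := by
    rw [← orderOf_pos_iff, hx]; positivity
  obtain ⟨j, hj⟩ : ∃ j : ℕ, x ^ j = β x := by
    have := (hfin.mem_powers_iff_mem_zpowers).mpr hβx
    exact this
  have hpow : ∀ i : ℕ, (β ^ i) x = x ^ (j ^ i) := by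
    intro i
    induction i with
    | zero => simp
    | succ i ih =>
      rw [pow_succ', MulAut.mul_apply, ih, map_pow, ← hj, ← pow_mul, pow_succ']
  have h1 : x ^ (j ^ orderOf β) = x ^ 1 := by
    rw [← hpow, pow_orderOf_eq_one, MulAut.one_apply, pow_one]
  rw [pow_eq_pow_iff_modEq, hx] at h1
  have h2 : ((j : ZMod (2 ^ a)) ^ orderOf β) = 1 := by
    have := (ZMod.natCast_eq_natCast_iff _ _ _).mpr h1
    push_cast at this
    exact this
  set u : (ZMod (2 ^ a))ˣ := Units.ofPowEqOne _ _ h2 hn0 with hu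
  have hu1 : u ^ orderOf β = 1 := Units.pow_ofPowEqOne h2 hn0
  have h3 : orderOf u ∣ orderOf β := orderOf_dvd_of_pow_eq_one hu1
  have h4 : orderOf u ∣ 2 ^ a := by
    have h5 : orderOf u ∣ Nat.card (ZMod (2 ^ a))ˣ := orderOf_dvd_natCard u
    have h6 : Nat.card (ZMod (2 ^ a))ˣ = Nat.totient (2 ^ a) := by
      have : NeZero (2 ^ a) := ⟨by positivity⟩
      rw [Nat.card_eq_fintype_card, ZMod.card_units_eq_totient]
    rw [h6] at h5
    rcases Nat.eq_zero_or_pos a with rfl | ha
    · simpa using h5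
    · rw [Nat.totient_prime_pow Nat.prime_two ha] at h5
      have : 2 ^ (a - 1) * (2 - 1) ∣ 2 ^ a := by
        rw [Nat.mul_one]
        exact pow_dvd_pow 2 (by omega)
      exact h5.trans this
  have h7 : orderOf u = 1 := by
    have h8 : (orderOf u).Coprime (2 ^ a) :=
      Nat.Coprime.pow_right a (Nat.Coprime.coprime_dvd_left h3 hβ)
    exact Nat.Coprime.eq_one_of_dvd h8 h4
  have h9 : u = 1 := orderOf_eq_one_iff.mp h7
  have h10 : (j : ZMod (2 ^ a)) = 1 := by
    have := congrArg Units.val h9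
    rwa [hu, Units.val_ofPowEqOne, Units.val_one] at this
  have h11 : j ≡ 1 [MOD 2 ^ a] := by
    apply (ZMod.natCast_eq_natCast_iff _ _ _).mp
    rw [h10, Nat.cast_one]
  rw [← hj]
  conv_rhs => rw [← pow_one x]
  rw [pow_eq_pow_iff_modEq, hx]
  exact h11

/-- a cyclic subgroup of index at most two containing all elements of the order of its generator -/
def Rigid (H : Type*) [Group H] : Prop :=
  ∃ x : H, (∀ y : H, orderOf y = orderOf x → y ∈ Subgroup.zpowers x) ∧
    ∀ y z : H, y ∉ Subgroup.zpowers x → z ∉ Subgroup.zpowers x → y⁻¹ * z ∈ Subgroup.zpowers x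

theorem oddAutTrivial_of_rigid {H : Type*} [Group H] [Finite H] (hH : IsPGroup 2 H)
    (hR : Rigid H) : OddAutTrivial H := by
  obtain ⟨x, hx1, hx2⟩ := hR
  intro β hβ
  obtain ⟨a, ha⟩ := (IsPGroup.iff_orderOf.mp hH) x
  have h1 : β x ∈ Subgroup.zpowers x := hx1 _ (MulEquiv.orderOf_eq β x)
  have h2 : β x = x := apply_eq_of_mem_zpowers β x a ha h1 hβ
  have h3 : ∀ c ∈ Subgroup.zpowers x, β c = c := by
    rintro c ⟨i, rfl⟩
    show β (x ^ i) = x ^ i
    rw [map_zpow, h2]
  have h4 : ∀ y, y⁻¹ * β y ∈ Subgroup.zpowers x := by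
    intro y
    by_cases hy : y ∈ Subgroup.zpowers x
    · rw [h3 y hy, inv_mul_cancel]; exact Subgroup.one_mem _
    · have hy' : β y ∉ Subgroup.zpowers x := by
        intro h
        have h5 := β.injective (h3 _ h)
        rw [h5] at h; exact hy h
      exact hx2 y (β y) hy hy'
  ext y
  have hc : β (y⁻¹ * β y) = y⁻¹ * β y := h3 _ (h4 y)
  have hy : β y = y * (y⁻¹ * β y) := by group
  have h5 : ∀ k : ℕ, (β ^ k) y = y * (y⁻¹ * β y) ^ k := by
    intro k
    induction k with
    | zero => simp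
    | succ k ih =>
      rw [pow_succ', MulAut.mul_apply, ih, map_mul, map_pow, hc, pow_succ', ← mul_assoc, ← hy]
  have h6 := h5 (orderOf β)
  rw [pow_orderOf_eq_one, MulAut.one_apply] at h6
  have h7 : (y⁻¹ * β y) ^ orderOf β = 1 := by
    have := h6.symm
    rwa [mul_eq_left] at this
  obtain ⟨b, hb⟩ := (IsPGroup.iff_orderOf.mp hH) (y⁻¹ * β y)
  have h8 : orderOf (y⁻¹ * β y) ∣ orderOf β := orderOf_dvd_of_pow_eq_one h7
  have h9 : orderOf (y⁻¹ * β y) = 1 := by
    have h10 : (orderOf (y⁻¹ * β y)).Coprime (2 ^ b) :=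
      Nat.Coprime.pow_right b (Nat.Coprime.coprime_dvd_left h8 hβ)
    exact Nat.Coprime.eq_one_of_dvd h10 (hb ▸ dvd_rfl)
  have h11 : y⁻¹ * β y = 1 := orderOf_eq_one_iff.mp h9
  rw [MulAut.one_apply]
  exact (inv_mul_eq_one.mp h11).symm

/-- cyclic `2`-groups have no odd automorphisms -/
theorem oddAutTrivial_of_isCyclic {H : Type*} [Group H] [Finite H] (hH : IsPGroup 2 H)
    [hc : IsCyclic H] : OddAutTrivial H := by
  apply oddAutTrivial_of_rigid hH
  obtain ⟨x, hx⟩ := hc.exists_generator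
  exact ⟨x, fun y _ => hx y, fun y z hy _ => absurd (hx y) hy⟩

/-- an element of odd order lies in every normal subgroup of index two -/
theorem mem_of_index_two_of_odd {N : Type*} [Group N] (K : Subgroup N) [K.Normal]
    (hK : K.index = 2) (g : N) (hodd : (orderOf g).Coprime 2) : g ∈ K := by
  have h1 : orderOf (QuotientGroup.mk' K g) ∣ orderOf g := orderOf_map_dvd _ g
  have h2 : orderOf (QuotientGroup.mk' K g) ∣ 2 := by
    have := orderOf_dvd_natCard (QuotientGroup.mk' K g)
    rwa [← Subgroup.index_eq_card, hK] at this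
  have h3 : orderOf (QuotientGroup.mk' K g) = 1 :=
    Nat.Coprime.eq_one_of_dvd (Nat.Coprime.coprime_dvd_left h1 hodd) h2
  have h4 : QuotientGroup.mk' K g = 1 := orderOf_eq_one_iff.mp h3
  exact (QuotientGroup.eq_one_iff g).mp h4

/-- elements of odd order normalizing `Q` centralize it -/
def OddCentralizes {G : Type*} [Group G] (Q : Subgroup G) : Prop :=
  ∀ g ∈ Subgroup.normalizer (Q : Set G), (orderOf g).Coprime 2 →
    g ∈ Subgroup.centralizer (Q : Set G)

theorem OddCentralizes.map_conj {G : Type*} [Group G] {Q : Subgroup G} (h : OddCentralizes Q)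
    (u : G) : OddCentralizes (Q.map (MulAut.conj u).toMonoidHom) := by
  intro g hg hodd
  rw [← map_normalizer_equiv, mem_map_equiv'] at hg
  rw [← map_centralizer_equiv, mem_map_equiv']
  apply h _ hg
  rwa [MulEquiv.orderOf_eq]

theorem oddCentralizes_of_oddAutTrivial {G : Type*} [Group G] (Q : Subgroup G)
    (hQ : OddAutTrivial ↥Q) : OddCentralizes Q :=
  fun g hg hodd => mem_centralizer_of_oddAutTrivial Q hQ g hg hodd

theorem oddCentralizes_of_relIndex_two {G : Type*} [Group G] (T : Subgroup G)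
    (h : (Subgroup.centralizer (T : Set G)).relIndex (Subgroup.normalizer (T : Set G)) = 2) :
    OddCentralizes T := by
  intro g hg hodd
  have hn : ((Subgroup.centralizer (T : Set G)).subgroupOf
      (Subgroup.normalizer (T : Set G))).Normal := by
    rw [← Subgroup.normalizerMonoidHom_ker]; exact MonoidHom.normal_ker _
  have h1 := mem_of_index_two_of_odd
    ((Subgroup.centralizer (T : Set G)).subgroupOf (Subgroup.normalizer (T : Set G))) h ⟨g, hg⟩
    (by rwa [Subgroup.orderOf_mk])
  exact Subgroup.mem_subgroupOf.mp h1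

theorem oddCentralizes_of_sup_relIndex_two {G : Type*} [Group G] (Q : Subgroup G)
    (hQ2 : IsPGroup 2 Q)
    (h : (Q ⊔ Subgroup.centralizer (Q : Set G)).relIndex (Subgroup.normalizer (Q : Set G)) = 2) :
    OddCentralizes Q := by
  intro g hg hodd
  have hKn : ((Q ⊔ Subgroup.centralizer (Q : Set G)).subgroupOf
      (Subgroup.normalizer (Q : Set G))).Normal := by
    rw [Subgroup.subgroupOf_sup Subgroup.le_normalizer (Subgroup.centralizer_le_normalizer _)]
    have : ((Subgroup.centralizer (Q : Set G)).subgroupOf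
        (Subgroup.normalizer (Q : Set G))).Normal := by
      rw [← Subgroup.normalizerMonoidHom_ker]; exact MonoidHom.normal_ker _
    have : (Q.subgroupOf (Subgroup.normalizer (Q : Set G))).Normal :=
      Subgroup.normal_in_normalizer
    infer_instance
  have h1 : g ∈ Q ⊔ Subgroup.centralizer (Q : Set G) :=
    Subgroup.mem_subgroupOf.mp (mem_of_index_two_of_odd _ h ⟨g, hg⟩ (by rwa [Subgroup.orderOf_mk]))
  have hle : Q ⊔ Subgroup.centralizer (Q : Set G) ≤
      (((MulAut.conj : ↥Q →* MulAut ↥Q).range).comap Q.normalizerMonoidHom).map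
        (Subgroup.normalizer (Q : Set G)).subtype := by
    apply sup_le
    · intro q hq
      refine ⟨⟨q, Subgroup.le_normalizer hq⟩, Subgroup.mem_comap.mpr ?_, rfl⟩
      refine ⟨⟨q, hq⟩, ?_⟩
      ext x
      rw [Subgroup.normalizerMonoidHom_apply_apply_coe]
      simp [MulAut.conj_apply]
    · intro c hc
      refine ⟨⟨c, Subgroup.centralizer_le_normalizer _ hc⟩, Subgroup.mem_comap.mpr ?_, rfl⟩
      have h2 : (⟨c, Subgroup.centralizer_le_normalizer _ hc⟩ :
          ↥(Subgroup.normalizer (Q : Set G))) ∈ Q.normalizerMonoidHom.ker := by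
        rw [Subgroup.normalizerMonoidHom_ker]
        exact Subgroup.mem_subgroupOf.mpr hc
      rw [MonoidHom.mem_ker.mp h2]
      exact Subgroup.one_mem _
  obtain ⟨n, hn, hng⟩ := hle h1
  have hn' : n = ⟨g, hg⟩ := Subtype.ext hng
  subst hn'
  obtain ⟨q, hq⟩ := hn
  obtain ⟨m, hm⟩ := hQ2 q
  have h3 : (Q.normalizerMonoidHom ⟨g, hg⟩) ^ 2 ^ m = 1 := by
    rw [← hq, ← map_pow, hm, map_one]
  have h4 : orderOf (Q.normalizerMonoidHom ⟨g, hg⟩) ∣ orderOf g := by
    have := orderOf_map_dvd Q.normalizerMonoidHom (⟨g, hg⟩ : ↥(Subgroup.normalizer (Q : Set G)))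
    rwa [Subgroup.orderOf_mk] at this
  have h5 : orderOf (Q.normalizerMonoidHom ⟨g, hg⟩) = 1 :=
    Nat.Coprime.eq_one_of_dvd
      (Nat.Coprime.pow_right m (Nat.Coprime.coprime_dvd_left h4 hodd))
      (orderOf_dvd_of_pow_eq_one h3)
  have h6 : (⟨g, hg⟩ : ↥(Subgroup.normalizer (Q : Set G))) ∈ Q.normalizerMonoidHom.ker :=
    orderOf_eq_one_iff.mp h5
  rw [Subgroup.normalizerMonoidHom_ker] at h6
  exact Subgroup.mem_subgroupOf.mp h6

end Cfsg.Agent.Helper20
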