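import Mathlib
import Cfsg.Agent.Lib.Helper20.QDFrat

set_option autoImplicit false
set_option linter.unusedSectionVars false
set_option linter.unusedSimpArgs false
set_option linter.unusedVariables false

namespace Cfsg.Agent.Helper20

theorem centralizer_eq_map_center_of_le {G : Type*} [Group G] (Q : Subgroup G)
    (h : Subgroup.centralizer (Q : Set G) ≤ Q) :
    Subgroup.centralizer (Q : Set G) = (Subgroup.center Q).map Q.subtype := by
  ext s
  constructor
  · intro hs
    refine ⟨⟨s, h hs⟩, ?_, rfl⟩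
    rw [SetLike.mem_coe, Subgroup.mem_center_iff]
    intro p
    apply Subtype.ext
    exact (Subgroup.mem_centralizer_iff.mp hs) p.1 p.2
  · rintro ⟨y, hy, rfl⟩
    rw [SetLike.mem_coe, Subgroup.mem_center_iff] at hy
    rw [Subgroup.mem_centralizer_iff]
    intro p hp
    have := congrArg Subtype.val (hy ⟨p, hp⟩)
    exact this

namespace SD

variable {k : ℕ}

/-- twisted subgroups `{(x, e) | m * (x - [e] a) = 0}` for `m * hN = 0` -/
def Tw (m : ZMod (2 ^ (k + 3))) (hm : m * hN k = 0) (a : ZMod (2 ^ (k + 3))) : Subgroup (SD k) where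
  carrier := {p | m * (p.a - (if p.e then a else 0)) = 0}
  one_mem' := by simp
  mul_mem' := by
    rintro ⟨x, e1⟩ ⟨y, e2⟩ h1 h2
    simp only [Set.mem_ofPred_eq] at h1 h2 ⊢
    cases e1 <;> cases e2 <;>
      simp only [mk_mul_mk_false, mk_mul_mk_true, Bool.not_true, Bool.not_false, if_true,
        Bool.false_eq_true, if_false, sub_zero] at h1 h2 ⊢
    · linear_combination h1 + h2
    · linear_combination h1 + h2
    · rw [cN_mul]; linear_combination h1 + (hN k - 1) * h2
    · rw [cN_mul]; linear_combination h1 + (hN k - 1) * h2 + a * hm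
  inv_mem' := by
    rintro ⟨x, e1⟩ h1
    simp only [Set.mem_ofPred_eq] at h1 ⊢
    cases e1 <;>
      simp only [inv_mk_false, inv_mk_true, if_true, Bool.false_eq_true, if_false, sub_zero]
        at h1 ⊢
    · linear_combination -h1
    · rw [cN_mul]; linear_combination -(hN k - 1) * h1 - a * hm

theorem mem_Tw (m : ZMod (2 ^ (k + 3))) (hm : m * hN k = 0) (a : ZMod (2 ^ (k + 3))) (p : SD k) :
    p ∈ Tw m hm a ↔ m * (p.a - (if p.e then a else 0)) = 0 := Iff.rfl

theorem four_hN : (4 : ZMod (2 ^ (k + 3))) * hN k = 0 := by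
  linear_combination 2 * (two_hN (k := k))

theorem eight_hN : (8 : ZMod (2 ^ (k + 3))) * hN k = 0 := by
  linear_combination 4 * (two_hN (k := k))

theorem four_qN : (4 : ZMod (2 ^ (k + 3))) * qN k = 0 := by
  linear_combination 2 * (two_qN (k := k)) + (two_hN (k := k))

theorem four_oN : (4 : ZMod (2 ^ (k + 3))) * oN k = hN k := by
  linear_combination 2 * (two_oN (k := k)) + (two_qN (k := k))

/-- the quaternion subgroup attached to the odd residue `a` -/
def Qa (a : ZMod (2 ^ (k + 3))) : Subgroup (SD k) := Tw 4 four_hN a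

/-- its normalizer -/
def Na (a : ZMod (2 ^ (k + 3))) : Subgroup (SD k) := Tw 8 eight_hN a

theorem mem_Qa (a : ZMod (2 ^ (k + 3))) (p : SD k) :
    p ∈ Qa a ↔ 4 * (p.a - (if p.e then a else 0)) = 0 := Iff.rfl

theorem mem_Na (a : ZMod (2 ^ (k + 3))) (p : SD k) :
    p ∈ Na a ↔ 8 * (p.a - (if p.e then a else 0)) = 0 := Iff.rfl

theorem four_mul_eq_zero_iff (x : ZMod (2 ^ (k + 3))) :
    4 * x = 0 ↔ x = 0 ∨ x = hN k ∨ x = qN k ∨ x = qN k + hN k := by
  constructor
  · intro h
    have h1 : 2 * (2 * x) = 0 := by linear_combination h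
    rcases (two_mul_eq_zero_iff _).mp h1 with h2 | h2
    · rcases (two_mul_eq_zero_iff _).mp h2 with h3 | h3
      · left; exact h3
      · right; left; exact h3
    · rw [← two_qN] at h2
      rcases two_mul_cancel h2 with h3 | h3
      · right; right; left; exact h3
      · right; right; right; exact h3
  · rintro (rfl | rfl | rfl | rfl)
    · ring
    · exact four_hN
    · exact four_qN
    · rw [mul_add, four_qN, four_hN, add_zero]


/-! ### quaternion subgroups -/

theorem quat_pow_four : ∀ g : QuaternionGroup 2, g ^ 4 = 1 := by decide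

theorem quat_facts :
    (QuaternionGroup.a 1 : QuaternionGroup 2) ^ 2 = QuaternionGroup.a 2 ∧
    (QuaternionGroup.xa 0 : QuaternionGroup 2) ^ 2 = QuaternionGroup.a 2 ∧
    ((QuaternionGroup.a 1 : QuaternionGroup 2) * QuaternionGroup.xa 0) ^ 2 = QuaternionGroup.a 2 ∧
    (QuaternionGroup.a 2 : QuaternionGroup 2) ≠ 1 ∧
    (QuaternionGroup.a 1 : QuaternionGroup 2) * QuaternionGroup.xa 0 ≠
      QuaternionGroup.xa 0 * QuaternionGroup.a 1 := by decide

/-- data extracted from a quaternion subgroup -/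
theorem quat_data (Q : Subgroup (SD k)) (hQ : Nonempty (Q ≃* QuaternionGroup 2)) :
    (∀ p ∈ Q, p ^ 4 = 1) ∧ ∃ u ∈ Q, ∃ v ∈ Q, ∃ z : SD k, z ≠ 1 ∧ u ^ 2 = z ∧ v ^ 2 = z ∧
      (u * v) ^ 2 = z ∧ u * v ≠ v * u := by
  obtain ⟨ψ⟩ := hQ
  obtain ⟨f1, f2, f3, f4, f5⟩ := quat_facts
  constructor
  · intro p hp
    have h := quat_pow_four (ψ ⟨p, hp⟩)
    rw [← map_pow, ← map_one ψ] at h
    have := congrArg Subtype.val (ψ.injective h)
    simpa using this
  · refine ⟨(ψ.symm (QuaternionGroup.a 1)).1, (ψ.symm (QuaternionGroup.a 1)).2,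
      (ψ.symm (QuaternionGroup.xa 0)).1, (ψ.symm (QuaternionGroup.xa 0)).2,
      (ψ.symm (QuaternionGroup.a 2)).1, ?_, ?_, ?_, ?_, ?_⟩
    · intro h
      have h' : ψ.symm (QuaternionGroup.a 2) = 1 := Subtype.ext h
      rw [← map_one ψ.symm] at h'
      exact f4 (ψ.symm.injective h')
    · rw [← f1, map_pow]; rfl
    · rw [← f2, map_pow]; rfl
    · rw [← f3, map_pow, map_mul]; rfl
    · intro h
      apply f5
      apply ψ.symm.injective
      rw [map_mul, map_mul]
      exact Subtype.ext h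


theorem rot_mem_of_four (Q : Subgroup (SD k)) (hq : (⟨qN k, false⟩ : SD k) ∈ Q)
    (x : ZMod (2 ^ (k + 3))) (hx : 4 * x = 0) : (⟨x, false⟩ : SD k) ∈ Q := by
  have hh : (⟨hN k, false⟩ : SD k) ∈ Q := by
    have := Q.mul_mem hq hq
    rw [sq_false, two_qN] at this
    exact this
  rcases (four_mul_eq_zero_iff x).mp hx with rfl | rfl | rfl | rfl
  · exact Q.one_mem
  · exact hh
  · exact hq
  · have := Q.mul_mem hq hh
    rw [mk_mul_mk_false] at this
    exact this

theorem qrot_mem_of_sq (Q : Subgroup (SD k)) (x : ZMod (2 ^ (k + 3)))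
    (hx : (⟨x, false⟩ : SD k) ∈ Q) (h2 : (⟨x, false⟩ : SD k) ^ 2 ≠ 1)
    (h4 : (⟨x, false⟩ : SD k) ^ 4 = 1) : (⟨qN k, false⟩ : SD k) ∈ Q := by
  rw [pow_false, eq_one_iff] at h4
  rw [pow_false, Ne, eq_one_iff] at h2
  simp only [and_true, Nat.cast_ofNat] at h2 h4
  have h1 : 2 * (2 * x) = 0 := by linear_combination h4
  rcases (two_mul_eq_zero_iff _).mp h1 with h3 | h3
  · exact absurd h3 h2
  · rw [← two_qN] at h3
    rcases two_mul_cancel h3 with h5 | h5
    · rw [h5] at hx; exact hx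
    · have := Q.inv_mem hx
      rw [inv_mk_false, h5] at this
      have e : -(qN k + hN k) = qN k := by
        linear_combination -(two_qN (k := k)) - (two_hN (k := k))
      rw [e] at this
      exact this

theorem odd_of_sq_true (x : ZMod (2 ^ (k + 3))) (h2 : (⟨x, true⟩ : SD k) ^ 2 ≠ 1) :
    ∃ b, x = 2 * b + 1 := by
  rcases zmod_even_or_odd x with ⟨b, hb⟩ | ⟨b, hb⟩
  · exfalso
    apply h2
    rw [pow_two, sq_true, hb, hN_mul_even]; rfl
  · exact ⟨b, hb⟩

theorem quat_gens (Q : Subgroup (SD k)) (hQ : Nonempty (Q ≃* QuaternionGroup 2)) :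
    (∀ p ∈ Q, p ^ 4 = 1) ∧ (⟨qN k, false⟩ : SD k) ∈ Q ∧
      ∃ b, (⟨2 * b + 1, true⟩ : SD k) ∈ Q := by
  obtain ⟨h4, u, hu, v, hv, z, hz1, huz, hvz, huvz, hne⟩ := quat_data Q hQ
  refine ⟨h4, ?_⟩
  rcases u with ⟨x, e1⟩
  rcases v with ⟨y, e2⟩
  cases e1 <;> cases e2
  · exfalso; apply hne
    simp only [mk_mul_mk_false, SD.mk.injEq, and_true]; ring
  · refine ⟨qrot_mem_of_sq Q x hu (by rw [huz]; exact hz1) (h4 _ hu), ?_⟩
    obtain ⟨b, hb⟩ := odd_of_sq_true y (by rw [hvz]; exact hz1)
    exact ⟨b, hb ▸ hv⟩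
  · refine ⟨qrot_mem_of_sq Q y hv (by rw [hvz]; exact hz1) (h4 _ hv), ?_⟩
    obtain ⟨b, hb⟩ := odd_of_sq_true x (by rw [huz]; exact hz1)
    exact ⟨b, hb ▸ hu⟩
  · have huv := Q.mul_mem hu hv
    rw [mk_mul_mk_true] at huv huvz
    simp only [Bool.not_true] at huv huvz
    refine ⟨qrot_mem_of_sq Q _ huv (by rw [huvz]; exact hz1) (h4 _ huv), ?_⟩
    obtain ⟨b, hb⟩ := odd_of_sq_true x (by rw [huz]; exact hz1)
    exact ⟨b, hb ▸ hu⟩

theorem quat_eq_Qa (Q : Subgroup (SD k)) (hQ : Nonempty (Q ≃* QuaternionGroup 2)) :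
    ∃ b, Q = Qa (2 * b + 1) := by
  obtain ⟨h4, hq, b, hb⟩ := quat_gens Q hQ
  refine ⟨b, ?_⟩
  set a : ZMod (2 ^ (k + 3)) := 2 * b + 1 with ha
  apply le_antisymm
  · intro p hp
    rw [mem_Qa]
    rcases p with ⟨x, e⟩
    cases e
    · have := h4 _ hp
      rw [pow_false, eq_one_iff] at this
      simp only [and_true, Nat.cast_ofNat] at this
      simp only [Bool.false_eq_true, if_false, sub_zero]
      exact this
    · have h1 := Q.mul_mem hp (Q.inv_mem hb)
      rw [inv_mk_true, mk_mul_mk_true] at h1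
      simp only [Bool.not_true] at h1
      have := h4 _ h1
      rw [pow_false, eq_one_iff] at this
      simp only [and_true, Nat.cast_ofNat] at this
      simp only [if_true]
      rw [mul_neg, cN_cN_mul] at this
      linear_combination this
  · intro p hp
    rw [mem_Qa] at hp
    rcases p with ⟨x, e⟩
    cases e
    · simp only [Bool.false_eq_true, if_false, sub_zero] at hp
      exact rot_mem_of_four Q hq x hp
    · simp only [if_true] at hp
      have h1 := rot_mem_of_four Q hq (x - a) hp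
      have := Q.mul_mem h1 hb
      rw [mk_mul_mk_false] at this
      simpa using this


/-! ### conjugacy, centralizer, normalizer of `Qa a` -/

theorem Qa_map_conj_rot (a d : ZMod (2 ^ (k + 3))) :
    (Qa a).map (MulAut.conj (⟨d, false⟩ : SD k)).toMonoidHom = Qa (a + 2 * d - hN k * d) := by
  ext p
  rw [mem_map_equiv', MulAut.conj_symm_apply, mem_Qa, mem_Qa]
  rcases p with ⟨x, e⟩
  cases e
  · simp only [inv_mk_false, mk_mul_mk_false, Bool.false_eq_true, if_false, sub_zero]
    constructor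
    · intro h; linear_combination h
    · intro h; linear_combination h
  · simp only [inv_mk_false, mk_mul_mk_false, mk_mul_mk_true, Bool.not_false, if_true]
    rw [cN_mul]
    constructor
    · intro h; linear_combination h
    · intro h; linear_combination h

theorem exists_rot_shift (δ : ZMod (2 ^ (k + 3))) :
    ∃ d : ZMod (2 ^ (k + 3)), 2 * d - hN k * d = 2 * δ := by
  rcases zmod_even_or_odd δ with ⟨e, rfl⟩ | ⟨e, rfl⟩
  · refine ⟨2 * e, ?_⟩
    rw [hN_mul_even]; ring
  · refine ⟨2 * e + 1 + qN k, ?_⟩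
    rw [mul_add (hN k), hN_mul_odd, hN_mul_qN]
    linear_combination (two_qN (k := k))

theorem Qa_conj (b b' : ZMod (2 ^ (k + 3))) :
    ∃ g : SD k, (Qa (2 * b + 1)).map (MulAut.conj g).toMonoidHom = Qa (2 * b' + 1) := by
  obtain ⟨d, hd⟩ := exists_rot_shift (b' - b)
  refine ⟨⟨d, false⟩, ?_⟩
  rw [Qa_map_conj_rot]
  congr 1
  linear_combination hd

theorem quat_conj (Q₁ Q₂ : Subgroup (SD k)) (h₁ : Nonempty (Q₁ ≃* QuaternionGroup 2))
    (h₂ : Nonempty (Q₂ ≃* QuaternionGroup 2)) :
    ∃ g : SD k, Q₁.map (MulAut.conj g).toMonoidHom = Q₂ := by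
  obtain ⟨b, rfl⟩ := quat_eq_Qa Q₁ h₁
  obtain ⟨b', rfl⟩ := quat_eq_Qa Q₂ h₂
  exact Qa_conj b b'

theorem qrot_mem_Qa (a : ZMod (2 ^ (k + 3))) : (⟨qN k, false⟩ : SD k) ∈ Qa a := by
  rw [mem_Qa]; simp only [Bool.false_eq_true, if_false, sub_zero]; exact four_qN

theorem refl_mem_Qa (a : ZMod (2 ^ (k + 3))) : (⟨a, true⟩ : SD k) ∈ Qa a := by
  rw [mem_Qa]; simp

theorem centralizer_Qa_le (a : ZMod (2 ^ (k + 3))) :
    Subgroup.centralizer ((Qa a : Subgroup (SD k)) : Set (SD k)) ≤ Qa a := by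
  intro s hs
  rw [Subgroup.mem_centralizer_iff] at hs
  have h1 := hs _ (qrot_mem_Qa a)
  have h2 := hs _ (refl_mem_Qa a)
  rcases s with ⟨y, e⟩
  cases e
  · simp only [mk_mul_mk_false, mk_mul_mk_true, SD.mk.injEq, and_true, Bool.not_false] at h2
    rw [cN_mul] at h2
    have h3 : 2 * y = hN k * y := by linear_combination -h2
    rw [mem_Qa]
    simp only [Bool.false_eq_true, if_false, sub_zero]
    rcases (two_mul_eq_hN_mul_iff y).mp h3 with rfl | rfl
    · ring
    · exact four_hN
  · exfalso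
    simp only [mk_mul_mk_false, mk_mul_mk_true, SD.mk.injEq, and_true, Bool.not_false] at h1
    rw [cN_mul, hN_mul_qN] at h1
    apply hN_ne_zero (k := k)
    rw [← two_qN]
    linear_combination h1

theorem conj_mem_Qa (a : ZMod (2 ^ (k + 3))) (g : SD k) (hg : g ∈ Na a) (p : SD k)
    (hp : p ∈ Qa a) : g * p * g⁻¹ ∈ Qa a := by
  rw [mem_Na] at hg
  rw [mem_Qa] at hp ⊢
  rcases g with ⟨y, e⟩
  rcases p with ⟨x, e'⟩
  cases e <;> cases e'
  · rw [conj_false_false]; exact hp
  · rw [conj_false_true]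
    simp only [Bool.false_eq_true, if_false, sub_zero, if_true] at hg hp ⊢
    linear_combination hp + hg - y * (four_hN (k := k))
  · rw [conj_true_false]
    simp only [Bool.false_eq_true, if_false, sub_zero, if_true] at hg hp ⊢
    linear_combination (cN k) * hp
  · rw [conj_true_true, cN_mul, cN_mul]
    simp only [Bool.false_eq_true, if_false, sub_zero, if_true] at hg hp ⊢
    linear_combination hg - hp + (x - y) * (four_hN (k := k))

theorem normalizer_Qa (a : ZMod (2 ^ (k + 3))) :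
    Subgroup.normalizer ((Qa a : Subgroup (SD k)) : Set (SD k)) = Na a := by
  apply le_antisymm
  · intro g hg
    have h1 := (Subgroup.mem_normalizer_iff.mp hg _).mp (refl_mem_Qa a)
    rw [mem_Na]
    rcases g with ⟨y, e⟩
    cases e
    · rw [conj_false_true, mem_Qa] at h1
      simp only [Bool.false_eq_true, if_false, sub_zero, if_true] at h1 ⊢
      linear_combination h1 + y * (four_hN (k := k))
    · rw [conj_true_true, cN_mul, cN_mul, mem_Qa] at h1
      simp only [Bool.false_eq_true, if_false, sub_zero, if_true] at h1 ⊢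
      linear_combination h1 - (a - y) * (four_hN (k := k))
  · intro g hg
    rw [Subgroup.mem_normalizer_iff]
    intro p
    constructor
    · exact conj_mem_Qa a g hg p
    · intro hp
      have := conj_mem_Qa a g⁻¹ ((Na a).inv_mem hg) _ hp
      simpa [mul_assoc] using this

theorem four_mul_mem_of_eight (w : ZMod (2 ^ (k + 3))) (hw : 8 * w = 0) :
    4 * w = 0 ∨ 4 * w = hN k := by
  apply (two_mul_eq_zero_iff _).mp
  linear_combination hw

theorem relIndex_Qa_Na (a : ZMod (2 ^ (k + 3))) : (Qa a).relIndex (Na a) = 2 := by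
  rw [Subgroup.relIndex_eq_two_iff]
  refine ⟨⟨oN k, false⟩, ?_, ?_⟩
  · rw [mem_Na]
    simp only [Bool.false_eq_true, if_false, sub_zero]
    linear_combination 2 * (four_oN (k := k)) + (two_hN (k := k))
  · intro p hp
    rw [mem_Na] at hp
    rw [mem_Qa, mem_Qa]
    rcases p with ⟨x, e⟩
    cases e
    · simp only [mk_mul_mk_false, Bool.false_eq_true, if_false, sub_zero] at hp ⊢
      have e1 : 4 * (x + oN k) = 4 * x + hN k := by linear_combination (four_oN (k := k))
      rw [e1]
      rcases four_mul_mem_of_eight x hp with h | h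
      · right
        refine ⟨h, ?_⟩
        rw [h, zero_add]; exact hN_ne_zero
      · left
        refine ⟨?_, ?_⟩
        · rw [h]; linear_combination (two_hN (k := k))
        · rw [h]; exact hN_ne_zero
    · simp only [mk_mul_mk_true, Bool.not_false, if_true] at hp ⊢
      have e1 : 4 * (x + cN k * oN k - a) = 4 * (x - a) + hN k := by
        rw [cN_mul]
        linear_combination (hN k - 1) * (four_oN (k := k)) + (hN_mul_hN (k := k)) -
          (two_hN (k := k))
      rw [e1]
      rcases four_mul_mem_of_eight (x - a) hp with h | h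
      · right
        refine ⟨h, ?_⟩
        rw [h, zero_add]; exact hN_ne_zero
      · left
        refine ⟨?_, ?_⟩
        · rw [h]; linear_combination (two_hN (k := k))
        · rw [h]; exact hN_ne_zero

theorem quat_centralizer (Q : Subgroup (SD k)) (hQ : Nonempty (Q ≃* QuaternionGroup 2)) :
    Subgroup.centralizer (Q : Set (SD k)) ≤ Q := by
  obtain ⟨b, rfl⟩ := quat_eq_Qa Q hQ
  exact centralizer_Qa_le _

theorem quat_relIndex (Q : Subgroup (SD k)) (hQ : Nonempty (Q ≃* QuaternionGroup 2)) :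
    Q.relIndex (Subgroup.normalizer (Q : Set (SD k))) = 2 := by
  obtain ⟨b, rfl⟩ := quat_eq_Qa Q hQ
  rw [normalizer_Qa]
  exact relIndex_Qa_Na _

end SD

end Cfsg.Agent.Helper20
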