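import Mathlib
import Cfsg.Agent.Lib.Helper20.QDQuat
import Cfsg.Agent.Lib.Helper20.QDSub
import Cfsg.Agent.Lib.Helper20.QDKlein
import Cfsg.Agent.Lib.Helper20.OddAut

set_option autoImplicit false
set_option linter.unusedSectionVars false
set_option linter.unusedSimpArgs false
set_option linter.unusedVariables false

namespace Cfsg.Agent.Helper20

theorem mem_zpowers_subtype_iff {G : Type*} [Group G] (H : Subgroup G) (x y : H) :
    y ∈ Subgroup.zpowers x ↔ (y : G) ∈ Subgroup.zpowers (x : G) := by
  constructor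
  · rintro ⟨i, hi⟩
    refine ⟨i, ?_⟩
    have := congrArg Subtype.val hi
    simpa using this
  · rintro ⟨i, hi⟩
    refine ⟨i, Subtype.ext ?_⟩
    simpa using hi

theorem eq_one_or_eq_of_mem_zpowers_of_orderOf_two {G : Type*} [Group G] (z p : G)
    (hz : orderOf z = 2) (hp : p ∈ Subgroup.zpowers z) : p = 1 ∨ p = z := by
  obtain ⟨i, rfl⟩ := hp
  have h1 := zpow_mod_orderOf z i
  rw [hz] at h1
  rcases Int.emod_two_eq_zero_or_one i with h | h
  · left
    show z ^ i = 1
    rw [← h1]
    simp [h]
  · right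
    show z ^ i = z
    rw [← h1]
    simp [h]

namespace SD

variable {k : ℕ}

theorem inv_mul_e_of_true (p q : SD k) (hp : p.e = true) (hq : q.e = true) :
    (p⁻¹ * q).e = false := by
  rcases p with ⟨a, e⟩
  rcases q with ⟨b, f⟩
  simp only at hp hq
  subst hp hq
  rfl

theorem e_of_mem_zpowers (x p : SD k) (hx : x.e = false) (hp : p ∈ Subgroup.zpowers x) :
    p.e = false := by
  have h1 : Subgroup.zpowers x ≤ Rot := by
    rw [Subgroup.zpowers_le]
    exact (mem_Rot _).mpr hx
  exact (mem_Rot _).mp (h1 hp)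

theorem pow_four_true (a : ZMod (2 ^ (k + 3))) : (⟨a, true⟩ : SD k) ^ 4 = 1 := by
  rw [show 4 = 2 * 2 by norm_num, pow_mul, pow_two (⟨a, true⟩ : SD k), sq_true, pow_two, sq_false]
  rw [eq_one_iff]
  simp only [and_true]
  linear_combination a * (two_hN (k := k))

theorem eq_Qa_of_gens (Q : Subgroup (SD k)) (h4 : ∀ p ∈ Q, p ^ 4 = 1)
    (hq : (⟨qN k, false⟩ : SD k) ∈ Q) (b : ZMod (2 ^ (k + 3)))
    (hb : (⟨2 * b + 1, true⟩ : SD k) ∈ Q) : Q = Qa (2 * b + 1) := by
  set a : ZMod (2 ^ (k + 3)) := 2 * b + 1 with ha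
  apply le_antisymm
  · intro p hp
    rw [mem_Qa]
    rcases p with ⟨x, e⟩
    cases e
    · have := h4 _ hp
      rw [pow_false, eq_one_iff] at this
      simp only [and_true, Nat.cast_ofNat] at this
      simp only [Bool.false_eq_true, if_false, sub_zero]
      exact this
    · have h1 := Q.mul_mem hp (Q.inv_mem hb)
      rw [inv_mk_true, mk_mul_mk_true] at h1
      simp only [Bool.not_true] at h1
      have := h4 _ h1
      rw [pow_false, eq_one_iff] at this
      simp only [and_true, Nat.cast_ofNat] at this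
      simp only [if_true]
      rw [mul_neg, cN_cN_mul] at this
      linear_combination this
  · intro p hp
    rw [mem_Qa] at hp
    rcases p with ⟨x, e⟩
    cases e
    · simp only [Bool.false_eq_true, if_false, sub_zero] at hp
      exact rot_mem_of_four Q hq x hp
    · simp only [if_true] at hp
      have h1 := rot_mem_of_four Q hq (x - a) hp
      have := Q.mul_mem h1 hb
      rw [mk_mul_mk_false] at this
      simpa using this

/-- every subgroup of `SD k` either has a characteristic cyclic subgroup of index at most two, or is a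
four-group, or is quaternion of order eight -/
theorem subgroup_cases (H : Subgroup (SD k)) :
    Rigid ↥H ∨ (∃ b, H = Subgroup.centralizer ({⟨2 * b, true⟩} : Set (SD k))) ∨
      ∃ b, H = Qa (2 * b + 1) := by
  have hcyc : IsCyclic ↥(H ⊓ Rot) := Subgroup.isCyclic_of_le (inf_le_right : H ⊓ Rot ≤ Rot)
  obtain ⟨⟨x₀, hx₀⟩, hgen⟩ := hcyc.exists_generator
  have hx₀H : x₀ ∈ H := hx₀.1
  have hx₀e : x₀.e = false := (mem_Rot _).mp hx₀.2
  have hgen' : ∀ p ∈ H, p.e = false → p ∈ Subgroup.zpowers x₀ := by
    intro p hp he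
    have h1 := hgen ⟨p, ⟨hp, (mem_Rot _).mpr he⟩⟩
    exact (mem_zpowers_subtype_iff _ _ _).mp h1
  have hgenH : ∀ y : ↥H, (y : SD k).e = false → y ∈ Subgroup.zpowers (⟨x₀, hx₀H⟩ : ↥H) := by
    intro y he
    rw [mem_zpowers_subtype_iff]
    exact hgen' y y.2 he
  have hnot : ∀ y : ↥H, y ∉ Subgroup.zpowers (⟨x₀, hx₀H⟩ : ↥H) → (y : SD k).e = true := by
    intro y hy
    by_contra h
    rw [Bool.not_eq_true] at h
    exact hy (hgenH y h)
  by_cases hR : ∀ y ∈ H, y.e = true → orderOf y ≠ orderOf x₀
  · left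
    refine ⟨⟨x₀, hx₀H⟩, ?_, ?_⟩
    · intro y hy
      have hy' : orderOf (y : SD k) = orderOf x₀ := by
        rw [Subgroup.orderOf_coe, hy, ← Subgroup.orderOf_coe]
      cases he : (y : SD k).e
      · exact hgenH y he
      · exact absurd hy' (hR y y.2 he)
    · intro y z hy hz
      apply hgenH
      rw [Subgroup.coe_mul, Subgroup.coe_inv]
      exact inv_mul_e_of_true _ _ (hnot y hy) (hnot z hz)
  · right
    push Not at hR
    obtain ⟨y, hyH, hye, hyo⟩ := hR
    rcases y with ⟨b, e⟩
    simp only at hye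
    subst hye
    have hsplit : ∀ p ∈ H, p.e = true → (⟨b, true⟩ : SD k)⁻¹ * p ∈ Subgroup.zpowers x₀ := by
      intro p hp he
      apply hgen' _ (H.mul_mem (H.inv_mem hyH) hp)
      exact inv_mul_e_of_true _ _ rfl he
    rcases zmod_even_or_odd b with ⟨b', rfl⟩ | ⟨b', rfl⟩
    · left
      refine ⟨b', ?_⟩
      have ho : orderOf (⟨2 * b', true⟩ : SD k) = 2 := by
        rw [orderOf_eq_two_iff]; right; exact ⟨rfl, b', rfl⟩
      have hx2 : orderOf x₀ = 2 := by rw [← hyo, ho]
      have hx₀z : x₀ = ⟨hN k, false⟩ := by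
        rcases (orderOf_eq_two_iff x₀).mp hx2 with h | ⟨h, -⟩
        · exact h
        · rw [hx₀e] at h; exact absurd h (by simp)
      ext p
      rw [mem_centralizer_true]
      constructor
      · intro hp
        cases he : p.e
        · rcases eq_one_or_eq_of_mem_zpowers_of_orderOf_two x₀ p hx2 (hgen' p hp he) with h | h
          · left; rw [h]; rfl
          · right; left; rw [h, hx₀z]
        · rcases eq_one_or_eq_of_mem_zpowers_of_orderOf_two x₀ _ hx2 (hsplit p hp he) with h | h
          · right; right; left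
            exact (inv_mul_eq_one.mp h).symm
          · right; right; right
            have h1 : p = ⟨2 * b', true⟩ * x₀ := by rw [← h]; group
            rw [h1, hx₀z, mk_mul_mk_true, cN_mul, hN_mul_hN]
            simp only [Bool.not_false, SD.mk.injEq, and_true]
            rw [zero_sub, neg_hN]
      · rintro (h | h | h | h)
        · rw [h]; exact H.one_mem
        · rw [h, ← hx₀z]; exact hx₀H
        · rw [h]; exact hyH
        · have h1 : p = ⟨2 * b', true⟩ * x₀ := by
            rw [h, hx₀z, mk_mul_mk_true, cN_mul, hN_mul_hN]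
            simp only [Bool.not_false, SD.mk.injEq, and_true]
            rw [zero_sub, neg_hN]
          rw [h1]; exact H.mul_mem hyH hx₀H
    · right
      refine ⟨b', ?_⟩
      have ho : orderOf (⟨2 * b' + 1, true⟩ : SD k) = 4 := by
        rw [orderOf_eq_four_iff]; right; right; exact ⟨rfl, b', rfl⟩
      have hx4 : orderOf x₀ = 4 := by rw [← hyo, ho]
      have hx₀4 : x₀ ^ 4 = 1 := by rw [← hx4]; exact pow_orderOf_eq_one x₀
      have hq : (⟨qN k, false⟩ : SD k) ∈ H := by
        rcases (orderOf_eq_four_iff x₀).mp hx4 with h | h | ⟨h, -⟩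
        · rw [← h]; exact hx₀H
        · have h1 : (⟨qN k, false⟩ : SD k) = x₀⁻¹ := by
            rw [h, inv_mk_false]
            simp only [SD.mk.injEq, and_true]
            linear_combination (two_qN (k := k)) + (two_hN (k := k))
          rw [h1]; exact H.inv_mem hx₀H
        · rw [hx₀e] at h; exact absurd h (by simp)
      apply eq_Qa_of_gens H ?_ hq b' hyH
      intro p hp
      cases he : p.e
      · obtain ⟨i, hi⟩ := hgen' p hp he
        rw [← hi]
        show (x₀ ^ i) ^ 4 = 1
        rw [← zpow_natCast, ← zpow_mul, mul_comm, zpow_mul, zpow_natCast, hx₀4, one_zpow]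
      · rcases p with ⟨a, e⟩
        simp only at he
        subst he
        exact pow_four_true a

end SD

end Cfsg.Agent.Helper20
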