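import Mathlib
import Cfsg.Prelude.Def_CaseTheorems
import Cfsg.Agent.Lib.Helper20.QDSubCls
import Cfsg.Agent.Lib.Helper2.Frobenius

set_option autoImplicit false
set_option linter.unusedSectionVars false
set_option linter.unusedSimpArgs false
set_option linter.unusedVariables false

namespace Cfsg.Agent.Helper20

/-- if a Sylow `p`-subgroup controls fusion of its elements, the classes of `p`-elements of a given
order of `G` correspond to those of `S` -/
theorem card_classes_eq_of_controls {G : Type*} [Group G] [Finite G] {p : ℕ} [hp : Fact p.Prime]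
    (S : Sylow p G)
    (hctrl : ∀ x g : G, x ∈ (S : Subgroup G) → g * x * g⁻¹ ∈ (S : Subgroup G) →
      ∃ u ∈ (S : Subgroup G), u * x * u⁻¹ = g * x * g⁻¹)
    (n : ℕ) (hn : ∃ j : ℕ, n = p ^ j) :
    Nat.card {C : ConjClasses G // ∃ t : G, orderOf t = n ∧ ConjClasses.mk t = C} =
      Nat.card {C : ConjClasses ↥(S : Subgroup G) //
        ∃ t : ↥(S : Subgroup G), orderOf t = n ∧ ConjClasses.mk t = C} := by
  symm
  let f : {C : ConjClasses ↥(S : Subgroup G) //
      ∃ t : ↥(S : Subgroup G), orderOf t = n ∧ ConjClasses.mk t = C} →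
      {C : ConjClasses G // ∃ t : G, orderOf t = n ∧ ConjClasses.mk t = C} :=
    fun C => ⟨ConjClasses.map (S : Subgroup G).subtype C.1, by
      obtain ⟨t, ht, hC⟩ := C.2
      refine ⟨(t : G), ?_, ?_⟩
      · rw [Subgroup.orderOf_coe]; exact ht
      · rw [← hC]; rfl⟩
  apply Nat.card_congr (Equiv.ofBijective f ⟨?_, ?_⟩)
  · rintro ⟨C₁, t₁, h₁, rfl⟩ ⟨C₂, t₂, h₂, rfl⟩ heq
    have h3 : ConjClasses.mk (t₁ : G) = ConjClasses.mk (t₂ : G) := congrArg Subtype.val heq
    rw [ConjClasses.mk_eq_mk_iff_isConj, isConj_iff] at h3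
    obtain ⟨g, hg⟩ := h3
    obtain ⟨u, hu, hux⟩ := hctrl (t₁ : G) g t₁.2 (by rw [hg]; exact t₂.2)
    apply Subtype.ext
    show ConjClasses.mk t₁ = ConjClasses.mk t₂
    rw [ConjClasses.mk_eq_mk_iff_isConj, isConj_iff]
    refine ⟨⟨u, hu⟩, Subtype.ext ?_⟩
    simp only [Subgroup.coe_mul, Subgroup.coe_inv]
    rw [hux, hg]
  · rintro ⟨C, t, ht, rfl⟩
    obtain ⟨j, hj⟩ := hn
    have hz : IsPGroup p (Subgroup.zpowers t) := by
      apply IsPGroup.of_card (n := j)
      rw [Nat.card_zpowers, ht, hj]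
    obtain ⟨P, hP⟩ := hz.exists_le_sylow
    obtain ⟨g, hg⟩ := MulAction.exists_smul_eq G P S
    have htS : g * t * g⁻¹ ∈ (S : Subgroup G) := by
      rw [← hg, Cfsg.Agent.Helper2.mem_smul_sylow_iff]
      have : g⁻¹ * (g * t * g⁻¹) * g = t := by group
      rw [this]
      exact hP (Subgroup.mem_zpowers t)
    refine ⟨⟨ConjClasses.mk ⟨g * t * g⁻¹, htS⟩, ⟨g * t * g⁻¹, htS⟩, ?_, rfl⟩, ?_⟩
    · rw [← Subgroup.orderOf_coe]
      show orderOf (g * t * g⁻¹) = n
      rw [← ht]
      exact Cfsg.Agent.Helper2.orderOf_conj' g t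
    · apply Subtype.ext
      show ConjClasses.mk (g * t * g⁻¹) = ConjClasses.mk t
      rw [ConjClasses.mk_eq_mk_iff_isConj, isConj_comm, isConj_iff]
      exact ⟨g, rfl⟩

theorem map_conj_map_hom {A B : Type*} [Group A] [Group B] (ι : A →* B) (H : Subgroup A) (s : A) :
    (H.map (MulAut.conj s).toMonoidHom).map ι =
      (H.map ι).map (MulAut.conj (ι s)).toMonoidHom := by
  rw [Subgroup.map_map, Subgroup.map_map]
  congr 1
  ext x
  simp [MulAut.conj_apply]

namespace SD
variable {k : ℕ}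

theorem centralizer_true_conj (b₁ b₂ : ZMod (2 ^ (k + 3))) :
    ∃ s : SD k, (Subgroup.centralizer ({⟨2 * b₁, true⟩} : Set (SD k))).map
      (MulAut.conj s).toMonoidHom = Subgroup.centralizer ({⟨2 * b₂, true⟩} : Set (SD k)) := by
  have hc := isConj_true_of_even (k := k) (2 * b₁) (b₂ - b₁)
  have e : 2 * b₁ + 2 * (b₂ - b₁) = 2 * b₂ := by ring
  rw [e] at hc
  obtain ⟨s, hs⟩ := isConj_iff.mp hc
  refine ⟨s, ?_⟩
  rw [map_conj_centralizer_singleton, hs]

end SD

/-- the pullback of a subgroup of the range along an injective homomorphism -/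
noncomputable def comapEquiv {A B : Type*} [Group A] [Group B] (ι : A →* B)
    (hι : Function.Injective ι) (T : Subgroup B) (hT : T ≤ ι.range) : ↥(T.comap ι) ≃* ↥T :=
  ((T.comap ι).equivMapOfInjective ι hι).trans
    (MulEquiv.subgroupCongr (Subgroup.map_comap_eq_self hT))

/-- In a group with quasi-dihedral Sylow `2`-subgroup `S`, if the elements of odd order normalizing a
four-subgroup and a quaternion subgroup of `S` centralize them, the same holds for all subgroups of
`S`. -/
theorem oddCentralizes_of_qd {G : Type*} [Group G] [Finite G] (S : Sylow 2 G)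
    (hS : Cfsg.IsQuasiDihedral (S : Subgroup G)) (T : Subgroup G) (hT : IsKleinFour T)
    (hTS : T ≤ S) (Q : Subgroup G) (hQS : Q ≤ S) (eQ : Q ≃* QuaternionGroup 2)
    (h₁ : OddCentralizes T) (h₂ : OddCentralizes Q) :
    ∀ Q' : Subgroup G, Q' ≤ (S : Subgroup G) → OddCentralizes Q' := by
  obtain ⟨k, -, ⟨ψ⟩⟩ := exists_iso_SD hS
  set ι : SD k →* G := (S : Subgroup G).subtype.comp ψ.toMonoidHom with hι
  have hinj : Function.Injective ι := by
    rw [hι]
    exact (Subgroup.subtype_injective _).comp ψ.injective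
  have hrange : ι.range = (S : Subgroup G) := by
    rw [hι, MonoidHom.range_comp, MonoidHom.range_eq_top.mpr ψ.surjective,
      ← MonoidHom.range_eq_map, Subgroup.range_subtype]
  have key : ∀ H : Subgroup (SD k), OddCentralizes (H.map ι) := by
    intro H
    rcases SD.subgroup_cases H with h | ⟨b, rfl⟩ | ⟨b, rfl⟩
    · apply oddCentralizes_of_oddAutTrivial
      exact (oddAutTrivial_of_rigid (SD.isPGroup.to_subgroup H) h).of_equiv
        (H.equivMapOfInjective ι hinj)
    · have hTr : T ≤ ι.range := hrange ▸ hTS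
      have e := comapEquiv ι hinj T hTr
      have hT₀ : IsKleinFour ↥(T.comap ι) :=
        ⟨by rw [Nat.card_congr e.toEquiv]; exact hT.card_four,
          by rw [Monoid.exponent_eq_of_mulEquiv e]; exact hT.exponent_two⟩
      obtain ⟨b₂, -, e₂⟩ := SD.klein_eq_centralizer _ hT₀
      obtain ⟨s, hs⟩ := SD.centralizer_true_conj b₂ b
      rw [← hs, ← e₂, map_conj_map_hom, Subgroup.map_comap_eq_self hTr]
      exact h₁.map_conj _
    · have hQr : Q ≤ ι.range := hrange ▸ hQS
      have e := comapEquiv ι hinj Q hQr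
      obtain ⟨b₂, e₂⟩ := SD.quat_eq_Qa (Q.comap ι) ⟨e.trans eQ⟩
      obtain ⟨s, hs⟩ := SD.Qa_conj b₂ b
      rw [← hs, ← e₂, map_conj_map_hom, Subgroup.map_comap_eq_self hQr]
      exact h₂.map_conj _
  intro Q' hQ'
  have hQr : Q' ≤ ι.range := hrange ▸ hQ'
  rw [← Subgroup.map_comap_eq_self hQr]
  exact key _

end Cfsg.Agent.Helper20
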