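import Mathlib

set_option autoImplicit false
set_option linter.unusedSectionVars false
set_option linter.unusedSimpArgs false
set_option linter.unusedVariables false

namespace Cfsg.Agent.Helper20

section aut4
variable {V : Type*} [Group V]

/-- restriction of automorphisms to the non-identity elements -/
def autToPermNe : MulAut V →* Equiv.Perm {v : V // v ≠ 1} where
  toFun φ := φ.toEquiv.subtypeEquiv (fun a => by
    show a ≠ 1 ↔ φ a ≠ 1
    rw [Ne, Ne, map_eq_one_iff φ φ.injective])
  map_one' := by ext; rfl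
  map_mul' φ ψ := by ext; rfl

theorem autToPermNe_apply (φ : MulAut V) (v : {v : V // v ≠ 1}) :
    ((autToPermNe φ v : {v : V // v ≠ 1}) : V) = φ v := rfl

theorem autToPermNe_injective : Function.Injective (autToPermNe (V := V)) := by
  intro φ ψ h
  ext v
  by_cases hv : v = 1
  · subst hv; simp
  · have := congrArg (fun σ : Equiv.Perm {v : V // v ≠ 1} => ((σ ⟨v, hv⟩ : {v : V // v ≠ 1}) : V)) h
    simpa [autToPermNe_apply] using this

theorem card_mulAut_dvd_six (h4 : Nat.card V = 4) : Nat.card (MulAut V) ∣ 6 := by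
  have : Finite V := Nat.finite_of_card_ne_zero (by omega)
  have h1 := Subgroup.card_dvd_of_injective autToPermNe (autToPermNe_injective (V := V))
  have h2 : Nat.card (Equiv.Perm {v : V // v ≠ 1}) = 6 := by
    classical
    have : Fintype V := Fintype.ofFinite V
    rw [Nat.card_eq_fintype_card, Fintype.card_perm]
    have hV : Fintype.card V = 4 := by rw [← Nat.card_eq_fintype_card]; exact h4
    have : Fintype.card {v : V // ¬ (v = 1)} = 3 := by
      rw [Fintype.card_subtype_compl, Fintype.card_subtype_eq, hV]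
    rw [show Fintype.card {v : V // v ≠ 1} = 3 from this]; rfl
  rwa [h2] at h1

end aut4

/-- a `2`-element outside a normal subgroup forces even index -/
theorem two_dvd_index_of_two_elt {N : Type*} [Group N] [Finite N] (K : Subgroup N) [K.Normal]
    (g : N) (m : ℕ) (hg : g ^ 2 ^ m = 1) (hgK : g ∉ K) : 2 ∣ K.index := by
  have h1 : (QuotientGroup.mk' K g) ^ 2 ^ m = 1 := by rw [← map_pow, hg, map_one]
  have h2 : QuotientGroup.mk' K g ≠ 1 := by
    intro h
    exact hgK ((QuotientGroup.eq_one_iff g).mp h)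
  have h3 : orderOf (QuotientGroup.mk' K g) ∣ 2 ^ m := orderOf_dvd_of_pow_eq_one h1
  obtain ⟨j, hj, hj'⟩ := (Nat.dvd_prime_pow Nat.prime_two).mp h3
  have hj0 : j ≠ 0 := by
    rintro rfl
    rw [pow_zero, orderOf_eq_one_iff] at hj'
    exact h2 hj'
  have h4 : 2 ∣ orderOf (QuotientGroup.mk' K g) := by
    rw [hj']; exact dvd_pow_self 2 hj0
  have h5 : orderOf (QuotientGroup.mk' K g) ∣ Nat.card (N ⧸ K) := orderOf_dvd_natCard _
  rw [Subgroup.index_eq_card]
  exact h4.trans h5

theorem eq_two_or_six {n : ℕ} (h6 : n ∣ 6) (h2 : 2 ∣ n) : n = 2 ∨ n = 6 := by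
  have hle : n ≤ 6 := Nat.le_of_dvd (by norm_num) h6
  interval_cases n <;> omega

/-- `|N_G(T) : C_G(T)|` divides `|Aut T|` -/
theorem relIndex_centralizer_normalizer_dvd {G : Type*} [Group G] [Finite G] (T : Subgroup G) :
    (Subgroup.centralizer (T : Set G)).relIndex (Subgroup.normalizer (T : Set G)) ∣
      Nat.card (MulAut T) := by
  have key := Subgroup.card_dvd_of_injective _ (QuotientGroup.kerLift_injective T.normalizerMonoidHom)
  rw [Subgroup.normalizerMonoidHom_ker, ← Subgroup.index, ← Subgroup.relIndex] at key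
  exact key


/-- induced automorphisms on the quotient by a characteristic subgroup -/
def autQuot (Q : Type*) [Group Q] (Z : Subgroup Q) [hZ : Z.Characteristic] :
    MulAut Q →* MulAut (Q ⧸ Z) where
  toFun φ := QuotientGroup.congr Z Z φ (Subgroup.characteristic_iff_map_eq.mp hZ φ)
  map_one' := by
    ext x; induction x using QuotientGroup.induction_on; rfl
  map_mul' φ ψ := by
    ext x; induction x using QuotientGroup.induction_on; rfl

theorem autQuot_mk (Q : Type*) [Group Q] (Z : Subgroup Q) [hZ : Z.Characteristic] (φ : MulAut Q)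
    (x : Q) : autQuot Q Z φ (QuotientGroup.mk x) = QuotientGroup.mk (φ x) := rfl

section lift
variable {G : Type*} [Group G]

theorem exists_normalizing_not_mem (S T : Subgroup G) (hTS : T ≤ S)
    (hC : Subgroup.centralizer ((T.subgroupOf S : Subgroup S) : Set S) ≤ T.subgroupOf S)
    (hN : (T.subgroupOf S).relIndex
      (Subgroup.normalizer ((T.subgroupOf S : Subgroup S) : Set S)) = 2) :
    ∃ g ∈ S, g ∈ Subgroup.normalizer (T : Set G) ∧
      g ∉ T ⊔ Subgroup.centralizer (T : Set G) := by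
  have h1 : ¬ (Subgroup.normalizer ((T.subgroupOf S : Subgroup S) : Set S) ≤ T.subgroupOf S) := by
    intro h
    rw [← Subgroup.relIndex_eq_one] at h
    omega
  obtain ⟨g', hg'N, hg'T⟩ := SetLike.not_le_iff_exists.mp h1
  refine ⟨g'.1, g'.2, ?_, ?_⟩
  · rw [Subgroup.mem_normalizer_iff]
    intro h
    constructor
    · intro hh
      have := (Subgroup.mem_normalizer_iff.mp hg'N ⟨h, hTS hh⟩).mp
        (Subgroup.mem_subgroupOf.mpr hh)
      exact Subgroup.mem_subgroupOf.mp this
    · intro hh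
      have hS : h ∈ S := by
        have h2 : g'.1⁻¹ * (g'.1 * h * g'.1⁻¹) * g'.1 ∈ S :=
          S.mul_mem (S.mul_mem (S.inv_mem g'.2) (hTS hh)) g'.2
        simpa [mul_assoc] using h2
      have := (Subgroup.mem_normalizer_iff.mp hg'N ⟨h, hS⟩).mpr
        (Subgroup.mem_subgroupOf.mpr hh)
      exact Subgroup.mem_subgroupOf.mp this
  · intro hg
    have hTn : T ≤ Subgroup.normalizer ((Subgroup.centralizer (T : Set G) : Subgroup G) : Set G) := by
      intro t ht
      rw [Subgroup.mem_normalizer_iff]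
      intro c
      constructor
      · intro hc
        rw [Subgroup.mem_centralizer_iff] at hc ⊢
        intro y hy
        have h2 := hc (t⁻¹ * y * t) (T.mul_mem (T.mul_mem (T.inv_mem ht) hy) ht)
        calc y * (t * c * t⁻¹) = t * ((t⁻¹ * y * t) * c) * t⁻¹ := by group
          _ = t * (c * (t⁻¹ * y * t)) * t⁻¹ := by rw [h2]
          _ = t * c * t⁻¹ * y := by group
      · intro hc
        rw [Subgroup.mem_centralizer_iff] at hc ⊢
        intro y hy
        have h2 := hc (t * y * t⁻¹) (T.mul_mem (T.mul_mem ht hy) (T.inv_mem ht))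
        calc y * c = t⁻¹ * ((t * y * t⁻¹) * (t * c * t⁻¹)) * t := by group
          _ = t⁻¹ * ((t * c * t⁻¹) * (t * y * t⁻¹)) * t := by rw [h2]
          _ = c * y := by group
    have h2 : g'.1 ∈ ((T ⊔ Subgroup.centralizer (T : Set G) : Subgroup G) : Set G) := hg
    rw [Subgroup.coe_mul_of_left_le_normalizer_right _ _ hTn] at h2
    obtain ⟨t, ht, c, hc, htc⟩ := h2
    have hcS : c ∈ S := by
      have : c = t⁻¹ * g'.1 := by rw [← htc]; group
      rw [this]
      exact S.mul_mem (S.inv_mem (hTS ht)) g'.2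
    have hc' : (⟨c, hcS⟩ : S) ∈ Subgroup.centralizer ((T.subgroupOf S : Subgroup S) : Set S) := by
      rw [Subgroup.mem_centralizer_iff]
      intro y hy
      apply Subtype.ext
      exact (Subgroup.mem_centralizer_iff.mp hc) y.1 (Subgroup.mem_subgroupOf.mp hy)
    have hcT : c ∈ T := Subgroup.mem_subgroupOf.mp (hC hc')
    apply hg'T
    rw [Subgroup.mem_subgroupOf, ← htc]
    exact T.mul_mem ht hcT

end lift


section local_index
variable {G : Type*} [Group G] [Finite G]

theorem two_elt_of_pgroup (S : Subgroup G) (hS2 : IsPGroup 2 S) (g : G) (hg : g ∈ S) :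
    ∃ m : ℕ, g ^ 2 ^ m = 1 := by
  obtain ⟨m, hm⟩ := hS2 ⟨g, hg⟩
  exact ⟨m, by simpa using congrArg Subtype.val hm⟩

theorem centralizer_subgroupOf_normal (T : Subgroup G) :
    ((Subgroup.centralizer (T : Set G)).subgroupOf (Subgroup.normalizer (T : Set G))).Normal := by
  rw [← Subgroup.normalizerMonoidHom_ker]; exact MonoidHom.normal_ker _

theorem localIdx_four (S : Subgroup G) (hS2 : IsPGroup 2 S) (T : Subgroup G)
    (hT4 : Nat.card T = 4) (hTS : T ≤ S)
    (hC : Subgroup.centralizer ((T.subgroupOf S : Subgroup S) : Set S) ≤ T.subgroupOf S)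
    (hN : (T.subgroupOf S).relIndex
      (Subgroup.normalizer ((T.subgroupOf S : Subgroup S) : Set S)) = 2) :
    (Subgroup.centralizer (T : Set G)).relIndex (Subgroup.normalizer (T : Set G)) = 2 ∨
      (Subgroup.centralizer (T : Set G)).relIndex (Subgroup.normalizer (T : Set G)) = 6 := by
  have h1 : Nat.card (MulAut ↥T) ∣ 6 := card_mulAut_dvd_six (V := ↥T) hT4
  have h2 := relIndex_centralizer_normalizer_dvd T
  have h3 := h2.trans h1
  refine eq_two_or_six h3 ?_
  obtain ⟨g, hgS, hgN, hgK⟩ := exists_normalizing_not_mem S T hTS hC hN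
  obtain ⟨m, hm⟩ := two_elt_of_pgroup S hS2 g hgS
  have := centralizer_subgroupOf_normal T
  have hgm : (⟨g, hgN⟩ : ↥(Subgroup.normalizer (T : Set G))) ^ 2 ^ m = 1 := by
    apply Subtype.ext
    rw [Subgroup.coe_pow]
    exact hm
  refine two_dvd_index_of_two_elt ((Subgroup.centralizer (T : Set G)).subgroupOf
    (Subgroup.normalizer (T : Set G))) ⟨g, hgN⟩ m hgm ?_
  intro h
  apply hgK
  have h' : g ∈ Subgroup.centralizer (T : Set G) := Subgroup.mem_subgroupOf.mp h
  exact (le_sup_right : Subgroup.centralizer (T : Set G) ≤ T ⊔ Subgroup.centralizer (T : Set G)) h'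

end local_index

section quaternion
open QuaternionGroup

theorem q8_center : ∀ y : QuaternionGroup 2, (∀ w, w * y = y * w) → y = 1 ∨ y = a 2 := by decide

theorem q8_elems : ∀ w : QuaternionGroup 2, w = 1 ∨ w = a 1 ∨ w = a 1 ^ 2 ∨ w = a 1 ^ 3 ∨
    w = xa 0 ∨ w = xa 0 * a 1 ∨ w = xa 0 * a 1 ^ 2 ∨ w = xa 0 * a 1 ^ 3 := by decide

theorem q8_rel : ((xa 0 : QuaternionGroup 2) * a 1 * (xa 0)⁻¹ = a 1 * a 2 ∧
    (a 1 : QuaternionGroup 2) * xa 0 * (a 1)⁻¹ = xa 0 * a 2 ∧
    ((a 1 : QuaternionGroup 2) * xa 0) * a 1 * (a 1 * xa 0)⁻¹ = a 1 * a 2 ∧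
    ((a 1 : QuaternionGroup 2) * xa 0) * xa 0 * (a 1 * xa 0)⁻¹ = xa 0 * a 2) := by
  decide

theorem q8_card_center : Nat.card (Subgroup.center (QuaternionGroup 2)) = 2 := by
  rw [Nat.card_eq_fintype_card]
  decide

section
variable {Q : Type*} [Group Q]

theorem quat_card (e : Q ≃* QuaternionGroup 2) : Nat.card Q = 8 := by
  rw [Nat.card_congr e.toEquiv, Nat.card_eq_fintype_card, QuaternionGroup.card]

theorem quat_card_quot_center (e : Q ≃* QuaternionGroup 2) : Nat.card (Q ⧸ Subgroup.center Q) = 4 := by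
  have h1 : Nat.card (Subgroup.center Q) = 2 := by
    rw [Nat.card_congr (Subgroup.centerCongr e).toEquiv, q8_card_center]
  have h2 := Subgroup.card_mul_index (Subgroup.center Q)
  rw [h1, quat_card e, Subgroup.index_eq_card] at h2
  omega

theorem quat_center_cases (e : Q ≃* QuaternionGroup 2) (c : Q) (hc : c ∈ Subgroup.center Q) : c = 1 ∨ c = e.symm (a 2) := by
  rw [Subgroup.mem_center_iff] at hc
  have h1 : ∀ w, w * e c = e c * w := by
    intro w
    have := congrArg e (hc (e.symm w))
    simpa using this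
  rcases q8_center (e c) h1 with h | h
  · left
    apply e.injective
    rw [h, map_one]
  · right
    apply e.injective
    rw [h, MulEquiv.apply_symm_apply]

/-- an automorphism acting trivially modulo the center is inner -/
theorem quat_inner_of_trivial (e : Q ≃* QuaternionGroup 2) (φ : MulAut Q)
    (h : ∀ x : Q, x⁻¹ * φ x ∈ Subgroup.center Q) :
    ∃ y : Q, φ (e.symm (a 1)) = y * e.symm (a 1) * y⁻¹ ∧
      φ (e.symm (xa 0)) = y * e.symm (xa 0) * y⁻¹ := by
  obtain ⟨r1, r2, r3, r4⟩ := q8_rel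
  have r1' := congrArg e.symm r1
  have r2' := congrArg e.symm r2
  have r3' := congrArg e.symm r3
  have r4' := congrArg e.symm r4
  simp only [map_mul, map_inv] at r1' r2' r3' r4'
  have hi := quat_center_cases e _ (h (e.symm (a 1)))
  have hj := quat_center_cases e _ (h (e.symm (xa 0)))
  have hi' : φ (e.symm (a 1)) = e.symm (a 1) ∨ φ (e.symm (a 1)) = e.symm (a 1) * e.symm (a 2) := by
    rcases hi with hi | hi
    · left; exact (inv_mul_eq_one.mp hi).symm
    · right; rw [← hi]; group
  have hj' : φ (e.symm (xa 0)) = e.symm (xa 0) ∨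
      φ (e.symm (xa 0)) = e.symm (xa 0) * e.symm (a 2) := by
    rcases hj with hj | hj
    · left; exact (inv_mul_eq_one.mp hj).symm
    · right; rw [← hj]; group
  rcases hi' with hi' | hi' <;> rcases hj' with hj' | hj'
  · refine ⟨1, ?_, ?_⟩
    · rw [hi']; group
    · rw [hj']; group
  · refine ⟨e.symm (a 1), ?_, ?_⟩
    · rw [hi']; group
    · rw [hj', r2']
  · refine ⟨e.symm (xa 0), ?_, ?_⟩
    · rw [hi', r1']
    · rw [hj']; group
  · refine ⟨e.symm (a 1) * e.symm (xa 0), ?_, ?_⟩
    · rw [hi', r3']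
    · rw [hj', r4']

theorem quat_elems (e : Q ≃* QuaternionGroup 2) (w : Q) : w = 1 ∨ w = e.symm (a 1) ∨ w = e.symm (a 1) ^ 2 ∨
    w = e.symm (a 1) ^ 3 ∨ w = e.symm (xa 0) ∨ w = e.symm (xa 0) * e.symm (a 1) ∨
    w = e.symm (xa 0) * e.symm (a 1) ^ 2 ∨ w = e.symm (xa 0) * e.symm (a 1) ^ 3 := by
  have h := q8_elems (e w)
  have hw : w = e.symm (e w) := (e.symm_apply_apply w).symm
  rcases h with h | h | h | h | h | h | h | h <;>
    (rw [h] at hw; try simp only [map_one, map_mul, map_pow] at hw) <;> tauto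

end


section
variable {G : Type*} [Group G]

theorem commute_of_conj_eq {n y i : G} (h : n * i * n⁻¹ = y * i * y⁻¹) :
    Commute (y⁻¹ * n) i := by
  show y⁻¹ * n * i = i * (y⁻¹ * n)
  have h1 : n * i = y * i * y⁻¹ * n := by rw [← h]; group
  calc y⁻¹ * n * i = y⁻¹ * (n * i) := by group
    _ = y⁻¹ * (y * i * y⁻¹ * n) := by rw [h1]
    _ = i * (y⁻¹ * n) := by group

theorem quat_ker_le (Q : Subgroup G) (e : Q ≃* QuaternionGroup 2) :
    ((autQuot ↥Q (Subgroup.center ↥Q)).comp Q.normalizerMonoidHom).ker ≤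
      (Q ⊔ Subgroup.centralizer (Q : Set G)).subgroupOf (Subgroup.normalizer (Q : Set G)) := by
  intro n hn
  rw [MonoidHom.mem_ker, MonoidHom.comp_apply] at hn
  have h : ∀ x : Q, x⁻¹ * (Q.normalizerMonoidHom n) x ∈ Subgroup.center Q := by
    intro x
    have := congrArg (fun ψ : MulAut (Q ⧸ Subgroup.center Q) => ψ (QuotientGroup.mk x)) hn
    simp only [autQuot_mk, MulAut.one_apply] at this
    exact QuotientGroup.eq.mp this.symm
  obtain ⟨y, hy1, hy2⟩ := quat_inner_of_trivial e _ h
  rw [Subgroup.mem_subgroupOf]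
  have hi : (n : G) * (e.symm (a 1) : G) * (n : G)⁻¹ = y * (e.symm (a 1) : G) * (y : G)⁻¹ := by
    have := congrArg Subtype.val hy1
    rw [Subgroup.normalizerMonoidHom_apply_apply_coe] at this
    rw [this]; simp
  have hj : (n : G) * (e.symm (xa 0) : G) * (n : G)⁻¹ =
      y * (e.symm (xa 0) : G) * (y : G)⁻¹ := by
    have := congrArg Subtype.val hy2
    rw [Subgroup.normalizerMonoidHom_apply_apply_coe] at this
    rw [this]; simp
  have ci := commute_of_conj_eq hi
  have cj := commute_of_conj_eq hj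
  have hc : (y : G)⁻¹ * (n : G) ∈ Subgroup.centralizer (Q : Set G) := by
    rw [Subgroup.mem_centralizer_iff]
    intro w hw
    have key : ∀ w' : Q, Commute ((y : G)⁻¹ * (n : G)) (w' : G) := by
      intro w'
      rcases quat_elems e w' with h | h | h | h | h | h | h | h <;> rw [h]
      · simp
      · exact ci
      · rw [Subgroup.coe_pow]; exact ci.pow_right 2
      · rw [Subgroup.coe_pow]; exact ci.pow_right 3
      · exact cj
      · rw [Subgroup.coe_mul]; exact cj.mul_right ci
      · rw [Subgroup.coe_mul, Subgroup.coe_pow]; exact cj.mul_right (ci.pow_right 2)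
      · rw [Subgroup.coe_mul, Subgroup.coe_pow]; exact cj.mul_right (ci.pow_right 3)
    exact (key ⟨w, hw⟩).symm
  have hn' : (n : G) = y * ((y : G)⁻¹ * n) := by group
  rw [hn']
  exact Subgroup.mul_mem_sup y.2 hc

end


section
variable {G : Type*} [Group G] [Finite G]

theorem localIdx_quat (S : Subgroup G) (hS2 : IsPGroup 2 S) (Q : Subgroup G)
    (e : Q ≃* QuaternionGroup 2) (hQS : Q ≤ S)
    (hC : Subgroup.centralizer ((Q.subgroupOf S : Subgroup S) : Set S) ≤ Q.subgroupOf S)
    (hN : (Q.subgroupOf S).relIndex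
      (Subgroup.normalizer ((Q.subgroupOf S : Subgroup S) : Set S)) = 2) :
    (Q ⊔ Subgroup.centralizer (Q : Set G)).relIndex (Subgroup.normalizer (Q : Set G)) = 2 ∨
      (Q ⊔ Subgroup.centralizer (Q : Set G)).relIndex (Subgroup.normalizer (Q : Set G)) = 6 := by
  have hdvd : ((Q ⊔ Subgroup.centralizer (Q : Set G)).subgroupOf
      (Subgroup.normalizer (Q : Set G))).index ∣ 6 := by
    have h1 := Subgroup.index_dvd_of_le (quat_ker_le Q e)
    rw [Subgroup.index_ker] at h1
    have h2 : Nat.card ((autQuot ↥Q (Subgroup.center ↥Q)).comp Q.normalizerMonoidHom).range ∣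
        Nat.card (MulAut (Q ⧸ Subgroup.center Q)) := Subgroup.card_subgroup_dvd_card _
    have h3 : Nat.card (MulAut (Q ⧸ Subgroup.center Q)) ∣ 6 :=
      card_mulAut_dvd_six (quat_card_quot_center e)
    exact h1.trans (h2.trans h3)
  have hKn : ((Q ⊔ Subgroup.centralizer (Q : Set G)).subgroupOf
      (Subgroup.normalizer (Q : Set G))).Normal := by
    rw [Subgroup.subgroupOf_sup Subgroup.le_normalizer (Subgroup.centralizer_le_normalizer _)]
    have := centralizer_subgroupOf_normal Q
    have : (Q.subgroupOf (Subgroup.normalizer (Q : Set G))).Normal :=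
      Subgroup.normal_in_normalizer
    infer_instance
  refine eq_two_or_six hdvd ?_
  obtain ⟨g, hgS, hgN, hgK⟩ := exists_normalizing_not_mem S Q hQS hC hN
  obtain ⟨m, hm⟩ := two_elt_of_pgroup S hS2 g hgS
  have hgm : (⟨g, hgN⟩ : ↥(Subgroup.normalizer (Q : Set G))) ^ 2 ^ m = 1 := by
    apply Subtype.ext
    rw [Subgroup.coe_pow]
    exact hm
  refine two_dvd_index_of_two_elt _ ⟨g, hgN⟩ m hgm ?_
  intro h
  exact hgK (Subgroup.mem_subgroupOf.mp h)

end

end quaternion

end Cfsg.Agent.Helper20
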