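import Mathlib
import Cfsg.Agent.Lib.Helper20.LocalIdx
import Cfsg.Agent.Lib.Helper2.Fusion
import Cfsg.Agent.Lib.Helper20.Transport

set_option autoImplicit false
set_option linter.unusedSectionVars false
set_option linter.unusedSimpArgs false
set_option linter.unusedVariables false

namespace Cfsg.Agent.Helper20

/-- a group of order four with six automorphisms: the automorphisms are transitive on the
non-identity elements -/
theorem exists_aut_apply_eq {V : Type*} [Group V] (h4 : Nat.card V = 4)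
    (h6 : Nat.card (MulAut V) = 6) (a b : V) (ha : a ≠ 1) (hb : b ≠ 1) :
    ∃ α : MulAut V, α a = b := by
  classical
  have : Finite V := Nat.finite_of_card_ne_zero (by omega)
  have : Fintype V := Fintype.ofFinite V
  have h2 : Nat.card (Equiv.Perm {v : V // v ≠ 1}) = 6 := by
    rw [Nat.card_eq_fintype_card, Fintype.card_perm]
    have hV : Fintype.card V = 4 := by rw [← Nat.card_eq_fintype_card]; exact h4
    have : Fintype.card {v : V // ¬ (v = 1)} = 3 := by
      rw [Fintype.card_subtype_compl, Fintype.card_subtype_eq, hV]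
    rw [show Fintype.card {v : V // v ≠ 1} = 3 from this]; rfl
  have hbij : Function.Bijective (autToPermNe (V := V)) := by
    have : Finite (MulAut V) := Nat.finite_of_card_ne_zero (by omega)
    rw [Nat.bijective_iff_injective_and_card]
    exact ⟨autToPermNe_injective, by rw [h6, h2]⟩
  obtain ⟨α, hα⟩ := hbij.2 (Equiv.swap ⟨a, ha⟩ ⟨b, hb⟩)
  refine ⟨α, ?_⟩
  have := autToPermNe_apply α ⟨a, ha⟩
  rw [hα, Equiv.swap_apply_left] at this
  exact this.symm

/-- if `|N_G(T) : C_G(T)| = 6` for a subgroup `T` of order four then `N_G(T)` is transitive on the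
non-identity elements of `T` -/
theorem exists_normalizer_conj_of_relIndex_six {G : Type*} [Group G] [Finite G] (T : Subgroup G)
    (h4 : Nat.card T = 4)
    (h : (Subgroup.centralizer (T : Set G)).relIndex (Subgroup.normalizer (T : Set G)) = 6)
    (a b : G) (ha : a ∈ T) (hb : b ∈ T) (ha1 : a ≠ 1) (hb1 : b ≠ 1) :
    ∃ n ∈ Subgroup.normalizer (T : Set G), n * a * n⁻¹ = b := by
  have h1 : Nat.card T.normalizerMonoidHom.range = 6 := by
    rw [← Subgroup.index_ker, Subgroup.normalizerMonoidHom_ker]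
    exact h
  have h2 : Nat.card (MulAut T) = 6 := by
    have h3 := card_mulAut_dvd_six h4
    have h5 := Subgroup.card_subgroup_dvd_card T.normalizerMonoidHom.range
    rw [h1] at h5
    exact Nat.dvd_antisymm h3 h5
  have h3 : T.normalizerMonoidHom.range = ⊤ :=
    Subgroup.eq_top_of_card_eq _ (by rw [h1, h2])
  obtain ⟨α, hα⟩ := exists_aut_apply_eq h4 h2 (⟨a, ha⟩ : T) ⟨b, hb⟩
    (fun hh => ha1 (congrArg Subtype.val hh)) (fun hh => hb1 (congrArg Subtype.val hh))
  have hα' : α ∈ T.normalizerMonoidHom.range := by rw [h3]; exact Subgroup.mem_top _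
  obtain ⟨n, rfl⟩ := hα'
  refine ⟨n.1, n.2, ?_⟩
  have := congrArg Subtype.val hα
  rw [Subgroup.normalizerMonoidHom_apply_apply_coe] at this
  exact this

/-- in an index two subgroup situation, a subgroup containing the smaller group and one more element
contains everything -/
theorem le_of_relIndex_two {G : Type*} [Group G] (K N A : Subgroup G) (h : K.relIndex N = 2)
    (hKA : K ≤ A) (m : G) (hmN : m ∈ N) (hmA : m ∈ A) (hmK : m ∉ K) : N ≤ A := by
  intro n hn
  by_cases hnK : n ∈ K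
  · exact hKA hnK
  · have h1 := Subgroup.mul_mem_iff_of_index_two (H := K.subgroupOf N) h
      (a := (⟨m, hmN⟩ : N)⁻¹) (b := ⟨n, hn⟩)
    have h2 : (⟨m, hmN⟩ : N)⁻¹ * ⟨n, hn⟩ ∈ K.subgroupOf N := by
      rw [h1]
      constructor
      · intro h3
        exact absurd (Subgroup.mem_subgroupOf.mp ((Subgroup.inv_mem_iff _).mp h3)) hmK
      · intro h3
        exact absurd (Subgroup.mem_subgroupOf.mp h3) hnK
    have h3 : m⁻¹ * n ∈ K := Subgroup.mem_subgroupOf.mp h2
    have h4 : n = m * (m⁻¹ * n) := by group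
    rw [h4]
    exact A.mul_mem hmA (hKA h3)

theorem q8_sq_of_order_four : ∀ w : QuaternionGroup 2, w ^ 4 = 1 → w ^ 2 ≠ 1 →
    w ^ 2 = QuaternionGroup.a 2 := by decide

theorem q8_a2_sq : (QuaternionGroup.a 2 : QuaternionGroup 2) ^ 2 = 1 := by decide

/-- if `|N_G(Q) : Q C_G(Q)| = 6` for a quaternion subgroup `Q` of order eight, then `N_G(Q)` is
transitive on the cyclic subgroups of order four of `Q` -/
theorem exists_normalizer_conj_quat {G : Type*} [Group G] [Finite G] (Q : Subgroup G)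
    (e : Q ≃* QuaternionGroup 2)
    (h : (Q ⊔ Subgroup.centralizer (Q : Set G)).relIndex (Subgroup.normalizer (Q : Set G)) = 6)
    (x y : G) (hx : x ∈ Q) (hy : y ∈ Q) (hx4 : orderOf x = 4) (hy4 : orderOf y = 4) :
    ∃ n ∈ Subgroup.normalizer (Q : Set G), n * x * n⁻¹ = y ∨ n * x * n⁻¹ = y⁻¹ := by
  set Φ := (autQuot ↥Q (Subgroup.center ↥Q)).comp Q.normalizerMonoidHom with hΦ
  have hker := quat_ker_le Q e
  have h1 : 6 ∣ Nat.card Φ.range := by
    have := Subgroup.index_dvd_of_le hker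
    rw [Subgroup.index_ker] at this
    have h' : ((Q ⊔ Subgroup.centralizer (Q : Set G)).subgroupOf
      (Subgroup.normalizer (Q : Set G))).index = 6 := h
    rwa [h'] at this
  have hc4 : Nat.card (↥Q ⧸ Subgroup.center ↥Q) = 4 := quat_card_quot_center e
  have h2 : Nat.card (MulAut (↥Q ⧸ Subgroup.center ↥Q)) = 6 := by
    have h3 := card_mulAut_dvd_six hc4
    have h5 := Subgroup.card_subgroup_dvd_card Φ.range
    exact Nat.dvd_antisymm h3 (h1.trans h5)
  have h3 : Φ.range = ⊤ := by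
    apply Subgroup.eq_top_of_card_eq
    rw [h2]
    have h5 := Subgroup.card_subgroup_dvd_card Φ.range
    rw [h2] at h5
    exact Nat.dvd_antisymm h5 h1
  -- elements of order four are not central
  have hnc : ∀ w : G, ∀ hw : w ∈ Q, orderOf w = 4 →
      (QuotientGroup.mk (⟨w, hw⟩ : ↥Q) : ↥Q ⧸ Subgroup.center ↥Q) ≠ 1 := by
    intro w hw hw4 hh
    rw [QuotientGroup.eq_one_iff] at hh
    have hw4' : orderOf (⟨w, hw⟩ : ↥Q) = 4 := by rw [← Subgroup.orderOf_coe]; exact hw4
    rcases quat_center_cases e _ hh with h6 | h6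
    · rw [h6, orderOf_one] at hw4'; omega
    · have : (⟨w, hw⟩ : ↥Q) ^ 2 = 1 := by
        rw [h6, ← map_pow, q8_a2_sq, map_one]
      have := orderOf_dvd_of_pow_eq_one this
      rw [hw4'] at this
      omega
  obtain ⟨α, hα⟩ := exists_aut_apply_eq hc4 h2 _ _ (hnc x hx hx4) (hnc y hy hy4)
  have hα' : α ∈ Φ.range := by rw [h3]; exact Subgroup.mem_top _
  obtain ⟨n, rfl⟩ := hα'
  refine ⟨n.1, n.2, ?_⟩
  rw [hΦ, MonoidHom.comp_apply, autQuot_mk] at hα
  have h6 := QuotientGroup.eq.mp hα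
  -- `(n x n⁻¹)⁻¹ * y` is central
  have hy4' : orderOf (⟨y, hy⟩ : ↥Q) = 4 := by rw [← Subgroup.orderOf_coe]; exact hy4
  rcases quat_center_cases e _ h6 with h7 | h7
  · left
    have h8 := inv_mul_eq_one.mp h7
    have := congrArg Subtype.val h8
    rw [Subgroup.normalizerMonoidHom_apply_apply_coe] at this
    exact this
  · right
    have hy2 : (⟨y, hy⟩ : ↥Q) ^ 2 = e.symm (QuaternionGroup.a 2) := by
      have h9 : (e ⟨y, hy⟩) ^ 4 = 1 := by
        rw [← map_pow, ← hy4', pow_orderOf_eq_one, map_one]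
      have h10 : (e ⟨y, hy⟩) ^ 2 ≠ 1 := by
        intro hh
        rw [← map_pow, map_eq_one_iff e e.injective] at hh
        have := orderOf_dvd_of_pow_eq_one hh
        rw [hy4'] at this
        omega
      have := q8_sq_of_order_four _ h9 h10
      rw [← map_pow] at this
      rw [← this, e.symm_apply_apply]
    rw [← hy2] at h7
    have hy4'' : (⟨y, hy⟩ : ↥Q) ^ 4 = 1 := by rw [← hy4']; exact pow_orderOf_eq_one _
    have h8 : (Q.normalizerMonoidHom n) ⟨x, hx⟩ = (⟨y, hy⟩ : ↥Q)⁻¹ := by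
      have h11 : (⟨y, hy⟩ : ↥Q) = (Q.normalizerMonoidHom n) ⟨x, hx⟩ * (⟨y, hy⟩ : ↥Q) ^ 2 := by
        rw [← h7]; group
      have h12 : (⟨y, hy⟩ : ↥Q)⁻¹ = (⟨y, hy⟩ : ↥Q) ^ 3 := by
        rw [inv_eq_iff_mul_eq_one, ← pow_succ', hy4'']
      rw [h12]
      calc (Q.normalizerMonoidHom n) ⟨x, hx⟩
          = ((Q.normalizerMonoidHom n) ⟨x, hx⟩ * (⟨y, hy⟩ : ↥Q) ^ 2) * (⟨y, hy⟩ : ↥Q) ^ 2 := by
            rw [mul_assoc, ← pow_add, hy4'', mul_one]
        _ = (⟨y, hy⟩ : ↥Q) ^ 3 := by rw [← h11, ← pow_succ']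
    have := congrArg Subtype.val h8
    rw [Subgroup.normalizerMonoidHom_apply_apply_coe] at this
    exact this

theorem map_conj_eq_of_mem_normalizer {G : Type*} [Group G] (H : Subgroup G) (m : G)
    (hm : m ∈ Subgroup.normalizer (H : Set G)) : H.map (MulAut.conj m).toMonoidHom = H := by
  ext y
  rw [mem_map_equiv', MulAut.conj_symm_apply]
  have h1 := (Subgroup.mem_normalizer_iff.mp hm) (m⁻¹ * y * m)
  have h2 : m * (m⁻¹ * y * m) * m⁻¹ = y := by group
  rw [h2] at h1
  exact h1

theorem map_conj_zpowers {G : Type*} [Group G] (g x : G) :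
    (Subgroup.zpowers x).map (MulAut.conj g).toMonoidHom = Subgroup.zpowers (g * x * g⁻¹) := by
  rw [MonoidHom.map_zpowers]; rfl

/-- Sylow's theorem in the normalizer of a cyclic subgroup: if `⟨x⟩` is normalized by the Sylow
subgroup `S` and a `p`-subgroup `D` normalizes `⟨x'⟩` for a conjugate `x'` of `x`, then some conjugate
of `S` contains `D`, the conjugating element carrying `⟨x⟩` to `⟨x'⟩`. -/
theorem exists_conj_le_of_normalizer {G : Type*} [Group G] [Finite G] {p : ℕ} [Fact p.Prime]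
    (S : Sylow p G) (x : G)
    (hS : (S : Subgroup G) ≤ Subgroup.normalizer (Subgroup.zpowers x : Set G)) (g : G)
    (D : Subgroup G) (hD : IsPGroup p D)
    (hDN : D ≤ Subgroup.normalizer (Subgroup.zpowers (g * x * g⁻¹) : Set G)) :
    ∃ h : G, (∀ d ∈ D, h⁻¹ * d * h ∈ (S : Subgroup G)) ∧
      Subgroup.zpowers (h * x * h⁻¹) = Subgroup.zpowers (g * x * g⁻¹) := by
  set M := Subgroup.normalizer (Subgroup.zpowers (g * x * g⁻¹) : Set G) with hM
  have hNmap : (Subgroup.normalizer (Subgroup.zpowers x : Set G)).map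
      (MulAut.conj g).toMonoidHom = M := by
    rw [map_normalizer_equiv, map_conj_zpowers]
  have hS₁ : ((g • S : Sylow p G) : Subgroup G) ≤ M := by
    intro y hy
    rw [Cfsg.Agent.Helper2.mem_smul_sylow_iff] at hy
    rw [← hNmap, mem_map_equiv', MulAut.conj_symm_apply]
    exact hS hy
  obtain ⟨P', hP'⟩ :=
    (hD.comap_of_injective M.subtype Subtype.coe_injective).exists_le_sylow
  obtain ⟨m, hm⟩ := MulAction.exists_smul_eq ↥M ((g • S : Sylow p G).subtype hS₁) P'
  refine ⟨m.1 * g, ?_, ?_⟩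
  · intro d hd
    have h1 : (⟨d, hDN hd⟩ : ↥M) ∈ (P' : Subgroup ↥M) := hP' (Subgroup.mem_comap.mpr hd)
    rw [← hm, Cfsg.Agent.Helper2.mem_smul_sylow_iff, Sylow.coe_subtype,
      Subgroup.mem_subgroupOf, Cfsg.Agent.Helper2.mem_smul_sylow_iff] at h1
    simp only [Subgroup.coe_mul, Subgroup.coe_inv] at h1
    have h2 : (m.1 * g)⁻¹ * d * (m.1 * g) = g⁻¹ * ((m : G)⁻¹ * d * m) * g := by group
    rw [h2]
    exact h1
  · have h1 : m.1 * g * x * (m.1 * g)⁻¹ = m.1 * (g * x * g⁻¹) * m.1⁻¹ := by group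
    rw [h1, ← map_conj_zpowers m.1, map_conj_eq_of_mem_normalizer _ _ m.2]

theorem mem_normalizer_of_map_conj_eq {G : Type*} [Group G] (H : Subgroup G) (n : G)
    (h : H.map (MulAut.conj n).toMonoidHom = H) : n ∈ Subgroup.normalizer (H : Set G) := by
  rw [Subgroup.mem_normalizer_iff]
  intro y
  constructor
  · intro hy
    rw [← h]
    exact ⟨y, hy, rfl⟩
  · intro hy
    rw [← h] at hy
    obtain ⟨y', hy', e⟩ := hy
    have : y' = y := by
      have e' : n * y' * n⁻¹ = n * y * n⁻¹ := e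
      simpa using e'
    rw [← this]; exact hy'

theorem le_normalizer_of_relIndex_two {G : Type*} [Group G] (H K : Subgroup G) (hHK : H ≤ K)
    (h : H.relIndex K = 2) : K ≤ Subgroup.normalizer (H : Set G) := by
  rw [← Subgroup.normal_subgroupOf_iff_le_normalizer hHK]
  exact Subgroup.normal_of_index_eq_two h

theorem relIndex_eq_two_of_card {G : Type*} [Group G] [Finite G] (H K : Subgroup G) (hHK : H ≤ K)
    (n : ℕ) (hH : Nat.card H = n) (hK : Nat.card K = 2 * n) (hn : 0 < n) : H.relIndex K = 2 := by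
  have h1 := Subgroup.card_mul_index (H.subgroupOf K)
  rw [Nat.card_congr (Subgroup.subgroupOfEquivOfLe hHK).toEquiv, hH, hK] at h1
  have h2 : (H.subgroupOf K).index = 2 := by
    have : n * (H.subgroupOf K).index = n * 2 := by rw [h1]; ring
    exact Nat.eq_of_mul_eq_mul_left hn this
  exact h2

/-- an element conjugating `x` into `⟨x⟩` normalizes `⟨x⟩` -/
theorem mem_normalizer_zpowers {G : Type*} [Group G] [Finite G] (x s : G)
    (h : s * x * s⁻¹ ∈ Subgroup.zpowers x) : s ∈ Subgroup.normalizer (Subgroup.zpowers x : Set G) := by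
  apply mem_normalizer_of_map_conj_eq
  rw [map_conj_zpowers]
  apply Subgroup.eq_of_le_of_card_ge
  · rw [Subgroup.zpowers_le]; exact h
  · rw [Nat.card_zpowers, Nat.card_zpowers]
    exact le_of_eq (MulEquiv.orderOf_eq (MulAut.conj s) x).symm

/-- fusion of normal cyclic subgroups of a Sylow subgroup is realized in the normalizer of any
`p`-subgroup `D` whose `S`-conjugacy class is determined inside `S` -/
theorem exists_normalizer_zpowers_conj {G : Type*} [Group G] [Finite G] {p : ℕ} [Fact p.Prime]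
    (S : Sylow p G) (x : G)
    (hS : (S : Subgroup G) ≤ Subgroup.normalizer (Subgroup.zpowers x : Set G)) (g : G)
    (D : Subgroup G) (hD : IsPGroup p D)
    (hDN : D ≤ Subgroup.normalizer (Subgroup.zpowers (g * x * g⁻¹) : Set G))
    (hconj : ∀ h : G, D.map (MulAut.conj h).toMonoidHom ≤ (S : Subgroup G) →
      ∃ s ∈ (S : Subgroup G), D.map (MulAut.conj h).toMonoidHom = D.map (MulAut.conj s).toMonoidHom) :
    ∃ n ∈ Subgroup.normalizer (D : Set G),
      Subgroup.zpowers (n * x * n⁻¹) = Subgroup.zpowers (g * x * g⁻¹) := by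
  obtain ⟨h, h1, h2⟩ := exists_conj_le_of_normalizer S x hS g D hD hDN
  have h3 : D.map (MulAut.conj h⁻¹).toMonoidHom ≤ (S : Subgroup G) := by
    rintro _ ⟨d, hd, rfl⟩
    have := h1 d hd
    simpa [MulAut.conj_apply] using this
  obtain ⟨s, hs, h4⟩ := hconj h⁻¹ h3
  refine ⟨h * s, ?_, ?_⟩
  · apply mem_normalizer_of_map_conj_eq
    have h5 : (MulAut.conj (h * s)).toMonoidHom =
        (MulAut.conj h).toMonoidHom.comp (MulAut.conj s).toMonoidHom := by
      ext y; simp [MulAut.conj_apply, mul_assoc]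
    rw [h5, ← Subgroup.map_map, ← h4, Subgroup.map_map]
    have h6 : (MulAut.conj h).toMonoidHom.comp (MulAut.conj h⁻¹).toMonoidHom = MonoidHom.id G := by
      ext y; simp [MulAut.conj_apply, mul_assoc]
    rw [h6, Subgroup.map_id]
  · have h5 : h * s * x * (h * s)⁻¹ = h * (s * x * s⁻¹) * h⁻¹ := by group
    rw [h5, ← map_conj_zpowers h, ← map_conj_zpowers s,
      map_conj_eq_of_mem_normalizer _ s (hS hs), map_conj_zpowers, h2]

end Cfsg.Agent.Helper20
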