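import Mathlib
import Cfsg.Prelude.Def_CaseTheorems
import Cfsg.Agent.Lib.Helper20.QDFus
import Cfsg.Agent.Lib.Helper20.FrobQD
import Cfsg.Agent.S1190
import Cfsg.Agent.S1191

set_option autoImplicit false
set_option linter.unusedSectionVars false
set_option linter.unusedSimpArgs false
set_option linter.unusedVariables false

namespace Cfsg.Agent.Helper20

/-- coordinates on a quasi-dihedral Sylow subgroup -/
theorem exists_coord {G : Type*} [Group G] (S : Subgroup G)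
    (hS : Cfsg.IsQuasiDihedral ↥S) :
    ∃ (k : ℕ) (ι : SD k →* G), Function.Injective ι ∧ ι.range = S := by
  obtain ⟨k, -, ⟨ψ⟩⟩ := exists_iso_SD hS
  refine ⟨k, S.subtype.comp ψ.toMonoidHom, ?_, ?_⟩
  · exact (Subgroup.subtype_injective _).comp ψ.injective
  · rw [MonoidHom.range_comp, MonoidHom.range_eq_top.mpr ψ.surjective,
      ← MonoidHom.range_eq_map, Subgroup.range_subtype]

theorem exists_conj_mem_sylow {G : Type*} [Group G] [Finite G] {p : ℕ} [Fact p.Prime]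
    (S : Sylow p G) (t : G) (j : ℕ) (ht : orderOf t = p ^ j) :
    ∃ g : G, g * t * g⁻¹ ∈ (S : Subgroup G) := by
  have hz : IsPGroup p (Subgroup.zpowers t) := by
    apply IsPGroup.of_card (n := j)
    rw [Nat.card_zpowers, ht]
  obtain ⟨P, hP⟩ := hz.exists_le_sylow
  obtain ⟨g, hg⟩ := MulAction.exists_smul_eq G P S
  refine ⟨g, ?_⟩
  rw [← hg, Cfsg.Agent.Helper2.mem_smul_sylow_iff]
  have : g⁻¹ * (g * t * g⁻¹) * g = t := by group
  rw [this]
  exact hP (Subgroup.mem_zpowers t)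

namespace SD
variable {k : ℕ}

theorem isConj_inv_qN : IsConj (⟨qN k + hN k, false⟩ : SD k) ⟨qN k, false⟩ := by
  rw [isConj_iff]
  refine ⟨⟨0, true⟩, ?_⟩
  rw [conj_true_false, cN_mul]
  simp only [SD.mk.injEq, and_true]
  rw [mul_add, hN_mul_qN, hN_mul_hN]
  linear_combination (-1 : ZMod (2 ^ (k + 3))) * (two_qN (k := k)) - (two_hN (k := k))

theorem isConj_of_orderOf_two (b : ZMod (2 ^ (k + 3))) (p : SD k) (hp : orderOf p = 2) :
    p = ⟨hN k, false⟩ ∨ IsConj p ⟨2 * b, true⟩ := by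
  rcases (orderOf_eq_two_iff p).mp hp with h | ⟨h1, b', h2⟩
  · left; exact h
  · right
    rcases p with ⟨a, e⟩
    simp only at h1 h2
    subst h1 h2
    have := isConj_true_of_even (k := k) (2 * b') (b - b')
    have e : 2 * b' + 2 * (b - b') = 2 * b := by ring
    rwa [e] at this

theorem isConj_of_orderOf_four (b : ZMod (2 ^ (k + 3))) (p : SD k) (hp : orderOf p = 4) :
    IsConj p ⟨qN k, false⟩ ∨ IsConj p ⟨2 * b + 1, true⟩ := by
  rcases (orderOf_eq_four_iff p).mp hp with h | h | ⟨h1, b', h2⟩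
  · left; rw [h]
  · left; rw [h]; exact isConj_inv_qN
  · right
    rcases p with ⟨a, e⟩
    simp only at h1 h2
    subst h1 h2
    have := isConj_true_of_even (k := k) (2 * b' + 1) (b - b')
    have e : 2 * b' + 1 + 2 * (b - b') = 2 * b + 1 := by ring
    rwa [e] at this

theorem conj_zS (s : SD k) : s * ⟨hN k, false⟩ * s⁻¹ = ⟨hN k, false⟩ := by
  rcases s with ⟨d, e⟩
  cases e
  · rw [conj_false_false]
  · rw [conj_true_false, cN_mul, hN_mul_hN, zero_sub, neg_hN]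

theorem conj_vS (s : SD k) :
    s * ⟨qN k, false⟩ * s⁻¹ = ⟨qN k, false⟩ ∨ s * ⟨qN k, false⟩ * s⁻¹ = (⟨qN k, false⟩ : SD k)⁻¹ := by
  rcases s with ⟨d, e⟩
  cases e
  · left; rw [conj_false_false]
  · right; rw [conj_true_false, cN_mul, hN_mul_qN, zero_sub, inv_mk_false]

theorem orderOf_vS : orderOf (⟨qN k, false⟩ : SD k) = 4 :=
  (SD.orderOf_eq_four_iff _).mpr (Or.inl rfl)

theorem orderOf_uS (b : ZMod (2 ^ (k + 3))) : orderOf (⟨2 * b + 1, true⟩ : SD k) = 4 :=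
  (SD.orderOf_eq_four_iff _).mpr (Or.inr (Or.inr ⟨rfl, b, rfl⟩))

theorem zS_ne_one : (⟨hN k, false⟩ : SD k) ≠ 1 := by
  intro h
  rw [eq_one_iff] at h
  exact hN_ne_zero h.1

end SD

section coord
variable {G : Type*} [Group G] [Finite G] (S : Sylow 2 G) {k : ℕ} (ι : SD k →* G)
  (hinj : Function.Injective ι) (hrange : ι.range = (S : Subgroup G))

include hinj hrange

theorem klein_eq_map (T : Subgroup G) (hT : IsKleinFour T) (hTS : T ≤ S) :
    ∃ b, T = (Subgroup.centralizer ({⟨2 * b, true⟩} : Set (SD k))).map ι := by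
  have hTr : T ≤ ι.range := hrange ▸ hTS
  have e := comapEquiv ι hinj T hTr
  have hT₀ : IsKleinFour ↥(T.comap ι) :=
    ⟨by rw [Nat.card_congr e.toEquiv]; exact hT.card_four,
      by rw [Monoid.exponent_eq_of_mulEquiv e]; exact hT.exponent_two⟩
  obtain ⟨b, -, e₂⟩ := SD.klein_eq_centralizer _ hT₀
  exact ⟨b, by rw [← e₂, Subgroup.map_comap_eq_self hTr]⟩

theorem quat_eq_map (Q : Subgroup G) (eQ : Nonempty (Q ≃* QuaternionGroup 2)) (hQS : Q ≤ S) :
    ∃ b, Q = (SD.Qa (2 * b + 1)).map ι := by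
  have hQr : Q ≤ ι.range := hrange ▸ hQS
  have e := comapEquiv ι hinj Q hQr
  obtain ⟨eQ⟩ := eQ
  obtain ⟨b, e₂⟩ := SD.quat_eq_Qa (Q.comap ι) ⟨e.trans eQ⟩
  exact ⟨b, by rw [← e₂, Subgroup.map_comap_eq_self hQr]⟩

theorem klein_conj_in (T T₁ : Subgroup G) (hT : IsKleinFour T) (hT₁ : IsKleinFour T₁)
    (hTS : T ≤ S) (hT₁S : T₁ ≤ S) :
    ∃ s ∈ (S : Subgroup G), T₁ = T.map (MulAut.conj s).toMonoidHom := by
  obtain ⟨b, rfl⟩ := klein_eq_map S ι hinj hrange T hT hTS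
  obtain ⟨b₁, rfl⟩ := klein_eq_map S ι hinj hrange T₁ hT₁ hT₁S
  obtain ⟨s, hs⟩ := SD.centralizer_true_conj b b₁
  refine ⟨ι s, hrange ▸ ⟨s, rfl⟩, ?_⟩
  rw [← map_conj_map_hom, hs]

theorem quat_conj_in (Q Q₁ : Subgroup G) (eQ : Nonempty (Q ≃* QuaternionGroup 2))
    (eQ₁ : Nonempty (Q₁ ≃* QuaternionGroup 2))
    (hQS : Q ≤ S) (hQ₁S : Q₁ ≤ S) :
    ∃ s ∈ (S : Subgroup G), Q₁ = Q.map (MulAut.conj s).toMonoidHom := by
  obtain ⟨b, rfl⟩ := quat_eq_map S ι hinj hrange Q eQ hQS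
  obtain ⟨b₁, rfl⟩ := quat_eq_map S ι hinj hrange Q₁ eQ₁ hQ₁S
  obtain ⟨s, hs⟩ := SD.Qa_conj b b₁
  refine ⟨ι s, hrange ▸ ⟨s, rfl⟩, ?_⟩
  rw [← map_conj_map_hom, hs]

theorem isConj_involution (b : ZMod (2 ^ (k + 3))) (g : G) (hg : orderOf g = 2) :
    IsConj g (ι ⟨hN k, false⟩) ∨ IsConj g (ι ⟨2 * b, true⟩) := by
  obtain ⟨c, hc⟩ := exists_conj_mem_sylow S g 1 (by rw [hg, pow_one])
  rw [← hrange] at hc
  obtain ⟨p, hp⟩ := hc
  have hgp : IsConj g (ι p) := isConj_iff.mpr ⟨c, hp.symm⟩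
  have hp2 : orderOf p = 2 := by
    rw [← orderOf_injective ι hinj p, hp, ← hg]
    exact MulEquiv.orderOf_eq (MulAut.conj c) g
  rcases SD.isConj_of_orderOf_two b p hp2 with h | h
  · left; rw [← h]; exact hgp
  · right; exact hgp.trans (ι.map_isConj h)

theorem isConj_order_four (b : ZMod (2 ^ (k + 3))) (g : G) (hg : orderOf g = 4) :
    IsConj g (ι ⟨qN k, false⟩) ∨ IsConj g (ι ⟨2 * b + 1, true⟩) := by
  obtain ⟨c, hc⟩ := exists_conj_mem_sylow S g 2 (by rw [hg]; norm_num)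
  rw [← hrange] at hc
  obtain ⟨p, hp⟩ := hc
  have hgp : IsConj g (ι p) := isConj_iff.mpr ⟨c, hp.symm⟩
  have hp2 : orderOf p = 4 := by
    rw [← orderOf_injective ι hinj p, hp, ← hg]
    exact MulEquiv.orderOf_eq (MulAut.conj c) g
  rcases SD.isConj_of_orderOf_four b p hp2 with h | h
  · left; exact hgp.trans (ι.map_isConj h)
  · right; exact hgp.trans (ι.map_isConj h)

theorem zS_mem_klein (b : ZMod (2 ^ (k + 3))) :
    ι ⟨hN k, false⟩ ∈ (Subgroup.centralizer ({⟨2 * b, true⟩} : Set (SD k))).map ι :=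
  ⟨_, (SD.mem_centralizer_true _ _).mpr (Or.inr (Or.inl rfl)), rfl⟩

theorem tS_mem_klein (b : ZMod (2 ^ (k + 3))) :
    ι ⟨2 * b, true⟩ ∈ (Subgroup.centralizer ({⟨2 * b, true⟩} : Set (SD k))).map ι :=
  ⟨_, (SD.mem_centralizer_true _ _).mpr (Or.inr (Or.inr (Or.inl rfl))), rfl⟩

theorem exists_conj_z_t_of_six (b : ZMod (2 ^ (k + 3))) (T : Subgroup G) (hT4 : Nat.card T = 4)
    (hTb : T = (Subgroup.centralizer ({⟨2 * b, true⟩} : Set (SD k))).map ι)
    (h₁ : (Subgroup.centralizer (T : Set G)).relIndex (Subgroup.normalizer (T : Set G)) = 6) :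
    ∃ n ∈ Subgroup.normalizer (T : Set G), n * ι ⟨hN k, false⟩ * n⁻¹ = ι ⟨2 * b, true⟩ := by
  apply exists_normalizer_conj_of_relIndex_six T hT4 h₁
  · rw [hTb]; exact zS_mem_klein S ι hinj hrange b
  · rw [hTb]; exact tS_mem_klein S ι hinj hrange b
  · intro h
    rw [← map_one ι] at h
    exact SD.zS_ne_one (hinj h)
  · intro h
    rw [← map_one ι] at h
    have := congrArg SD.e (hinj h)
    simp at this

theorem exists_conj_v_u_of_six (b : ZMod (2 ^ (k + 3))) (Q : Subgroup G)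
    (eQ : Q ≃* QuaternionGroup 2) (hQb : Q = (SD.Qa (2 * b + 1)).map ι)
    (h₂ : (Q ⊔ Subgroup.centralizer (Q : Set G)).relIndex (Subgroup.normalizer (Q : Set G)) = 6) :
    ∃ n ∈ Subgroup.normalizer (Q : Set G), n * ι ⟨qN k, false⟩ * n⁻¹ = ι ⟨2 * b + 1, true⟩ ∨
      n * ι ⟨qN k, false⟩ * n⁻¹ = (ι ⟨2 * b + 1, true⟩)⁻¹ := by
  apply exists_normalizer_conj_quat Q eQ h₂
  · rw [hQb]; exact ⟨_, SD.qrot_mem_Qa _, rfl⟩
  · rw [hQb]; exact ⟨_, SD.refl_mem_Qa _, rfl⟩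
  · rw [orderOf_injective ι hinj]; exact SD.orderOf_vS
  · rw [orderOf_injective ι hinj]; exact SD.orderOf_uS b

theorem not_mem_map_zpowers (x : SD k) (hx : x.e = false) (a : ZMod (2 ^ (k + 3))) :
    ι ⟨a, true⟩ ∉ Subgroup.zpowers (ι x) := by
  intro h
  rw [← MonoidHom.map_zpowers] at h
  obtain ⟨p, hp, hpe⟩ := h
  have := hinj hpe
  have h2 := SD.e_of_mem_zpowers x p hx hp
  rw [this] at h2
  simp at h2

theorem center_le_normalizer_zS :
    (S : Subgroup G) ≤ Subgroup.normalizer (Subgroup.zpowers (ι ⟨hN k, false⟩) : Set G) := by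
  intro s hs
  rw [← hrange] at hs
  obtain ⟨s', rfl⟩ := hs
  apply mem_normalizer_zpowers
  rw [← map_inv, ← map_mul, ← map_mul, SD.conj_zS]
  exact Subgroup.mem_zpowers _

theorem le_normalizer_vS :
    (S : Subgroup G) ≤ Subgroup.normalizer (Subgroup.zpowers (ι ⟨qN k, false⟩) : Set G) := by
  intro s hs
  rw [← hrange] at hs
  obtain ⟨s', rfl⟩ := hs
  apply mem_normalizer_zpowers
  rw [← map_inv, ← map_mul, ← map_mul]
  rcases SD.conj_vS s' with h | h
  · rw [h]; exact Subgroup.mem_zpowers _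
  · rw [h, map_inv]; exact Subgroup.inv_mem _ (Subgroup.mem_zpowers _)

theorem commute_zS (s : G) (hs : s ∈ (S : Subgroup G)) :
    s * ι ⟨hN k, false⟩ * s⁻¹ = ι ⟨hN k, false⟩ := by
  rw [← hrange] at hs
  obtain ⟨s', rfl⟩ := hs
  rw [← map_inv, ← map_mul, ← map_mul, SD.conj_zS]

/-- if `|N_G(T) : C_G(T)| = 2` the central involution of `S` is not fused to a non-central one -/
theorem not_isConj_z_t_of_two (hS : Cfsg.IsQuasiDihedral (S : Subgroup G))
    (b : ZMod (2 ^ (k + 3))) (T : Subgroup G) (hT : IsKleinFour T)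
    (hTS : T ≤ S) (hTb : T = (Subgroup.centralizer ({⟨2 * b, true⟩} : Set (SD k))).map ι)
    (h₁ : (Subgroup.centralizer (T : Set G)).relIndex (Subgroup.normalizer (T : Set G)) = 2) :
    ¬ IsConj (ι ⟨hN k, false⟩) (ι ⟨2 * b, true⟩) := by
  intro hc
  obtain ⟨g, hg⟩ := isConj_iff.mp hc
  have hS2 : IsPGroup 2 (S : Subgroup G) := S.isPGroup'
  have hDN : T ≤ Subgroup.normalizer
      (Subgroup.zpowers (g * ι ⟨hN k, false⟩ * g⁻¹) : Set G) := by
    intro d hd
    rw [hg]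
    apply mem_normalizer_zpowers
    rw [hTb] at hd
    obtain ⟨d', hd', rfl⟩ := hd
    have := (Subgroup.mem_centralizer_iff.mp hd') _ (Set.mem_singleton _)
    rw [← map_inv, ← map_mul, ← map_mul, ← this, mul_inv_cancel_right]
    exact Subgroup.mem_zpowers _
  obtain ⟨n, hn, hnz⟩ := exists_normalizer_zpowers_conj S (ι ⟨hN k, false⟩)
    (center_le_normalizer_zS S ι hinj hrange) g T (hS2.to_le hTS) hDN (by
      intro h hle
      obtain ⟨s, hs, e⟩ := klein_conj_in S ι hinj hrange T _ hT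
        (isKleinFour_map (MulAut.conj h) T hT) hTS hle
      exact ⟨s, hs, e⟩)
  -- every element of the normalizer centralizes the central involution
  have hT' : IsKleinFour ↥(T.subgroupOf (S : Subgroup G)) := by
    have e := Subgroup.subgroupOfEquivOfLe hTS
    exact ⟨by rw [Nat.card_congr e.toEquiv]; exact hT.card_four,
      by rw [Monoid.exponent_eq_of_mulEquiv e]; exact hT.exponent_two⟩
  obtain ⟨h1, h2⟩ := (Cfsg.Agent.S1190.result hS).2 _ hT'
  obtain ⟨m, hmS, hmN, hmK⟩ := exists_normalizing_not_mem (S : Subgroup G) T hTS (le_of_eq h1) h2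
  have hzT : ι ⟨hN k, false⟩ ∈ T := by rw [hTb]; exact zS_mem_klein S ι hinj hrange b
  have hle := le_of_relIndex_two (Subgroup.centralizer (T : Set G))
    (Subgroup.normalizer (T : Set G))
    (Subgroup.centralizer ({ι ⟨hN k, false⟩} : Set G)) h₁
    (Subgroup.centralizer_le (Set.singleton_subset_iff.mpr hzT)) m hmN
    (by
      rw [Subgroup.mem_centralizer_iff]
      intro y hy
      rw [Set.mem_singleton_iff] at hy
      rw [hy]
      have := commute_zS S ι hinj hrange m hmS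
      calc ι ⟨hN k, false⟩ * m = (m * ι ⟨hN k, false⟩ * m⁻¹) * m := by rw [this]
        _ = m * ι ⟨hN k, false⟩ := by group)
    (fun hh => hmK (Subgroup.mem_sup_right hh))
  have hnc := (Subgroup.mem_centralizer_iff.mp (hle hn)) _ (Set.mem_singleton _)
  have hnx : n * ι ⟨hN k, false⟩ * n⁻¹ = ι ⟨hN k, false⟩ := by
    rw [← hnc, mul_inv_cancel_right]
  rw [hnx, hg] at hnz
  have : ι ⟨2 * b, true⟩ ∈ Subgroup.zpowers (ι ⟨hN k, false⟩) := by
    rw [hnz]; exact Subgroup.mem_zpowers _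
  exact not_mem_map_zpowers S ι hinj hrange _ rfl _ this

/-- if `|N_G(Q) : Q C_G(Q)| = 2` the two `S`-classes of elements of order four are not fused -/
theorem not_isConj_v_u_of_two (hS : Cfsg.IsQuasiDihedral (S : Subgroup G))
    (b : ZMod (2 ^ (k + 3))) (Q : Subgroup G) (eQ : Q ≃* QuaternionGroup 2)
    (hQS : Q ≤ S) (hQb : Q = (SD.Qa (2 * b + 1)).map ι)
    (h₂ : (Q ⊔ Subgroup.centralizer (Q : Set G)).relIndex (Subgroup.normalizer (Q : Set G)) = 2) :
    ¬ IsConj (ι ⟨qN k, false⟩) (ι ⟨2 * b + 1, true⟩) := by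
  intro hc
  obtain ⟨g, hg⟩ := isConj_iff.mp hc
  have hS2 : IsPGroup 2 (S : Subgroup G) := S.isPGroup'
  have hvQ : ι ⟨qN k, false⟩ ∈ Q := by rw [hQb]; exact ⟨_, SD.qrot_mem_Qa _, rfl⟩
  have huQ : ι ⟨2 * b + 1, true⟩ ∈ Q := by rw [hQb]; exact ⟨_, SD.refl_mem_Qa _, rfl⟩
  have hDN : Q ≤ Subgroup.normalizer
      (Subgroup.zpowers (g * ι ⟨qN k, false⟩ * g⁻¹) : Set G) := by
    rw [hg]
    apply le_normalizer_of_relIndex_two _ _ (by rw [Subgroup.zpowers_le]; exact huQ)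
    apply relIndex_eq_two_of_card _ _ (by rw [Subgroup.zpowers_le]; exact huQ) 4
    · rw [Nat.card_zpowers, orderOf_injective ι hinj]; exact SD.orderOf_uS b
    · exact quat_card eQ
    · norm_num
  obtain ⟨n, hn, hnz⟩ := exists_normalizer_zpowers_conj S (ι ⟨qN k, false⟩)
    (le_normalizer_vS S ι hinj hrange) g Q (hS2.to_le hQS) hDN (by
      intro h hle
      obtain ⟨s, hs, e⟩ := quat_conj_in S ι hinj hrange Q _ ⟨eQ⟩
        ⟨(Q.equivMapOfInjective _ (MulAut.conj h).injective).symm.trans eQ⟩ hQS hle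
      exact ⟨s, hs, e⟩)
  have hQ' : Nonempty (↥(Q.subgroupOf (S : Subgroup G)) ≃* QuaternionGroup 2) :=
    ⟨(Subgroup.subgroupOfEquivOfLe hQS).trans eQ⟩
  obtain ⟨h1, h2⟩ := (Cfsg.Agent.S1191.result hS).2 _ hQ'
  obtain ⟨m, hmS, hmN, hmK⟩ := exists_normalizing_not_mem (S : Subgroup G) Q hQS
    (by rw [h1]; exact Subgroup.map_subtype_le _) h2
  have hSv := le_normalizer_vS S ι hinj hrange
  have hle := le_of_relIndex_two (Q ⊔ Subgroup.centralizer (Q : Set G))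
    (Subgroup.normalizer (Q : Set G))
    (Subgroup.normalizer (Subgroup.zpowers (ι ⟨qN k, false⟩) : Set G)) h₂
    (sup_le (hQS.trans hSv) (by
      intro c hc
      apply mem_normalizer_zpowers
      have := (Subgroup.mem_centralizer_iff.mp hc) _ hvQ
      rw [← this, mul_inv_cancel_right]
      exact Subgroup.mem_zpowers _)) m hmN (hSv hmS) hmK
  have hnv := map_conj_eq_of_mem_normalizer _ n (hle hn)
  rw [map_conj_zpowers, hnz, hg] at hnv
  have : ι ⟨2 * b + 1, true⟩ ∈ Subgroup.zpowers (ι ⟨qN k, false⟩) := by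
    rw [← hnv]; exact Subgroup.mem_zpowers _
  exact not_mem_map_zpowers S ι hinj hrange _ rfl _ this

end coord

end Cfsg.Agent.Helper20
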