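import Mathlib
import Cfsg.Agent.Lib.Helper20.QDFus

set_option autoImplicit false
set_option linter.unusedSectionVars false
set_option linter.unusedSimpArgs false
set_option linter.unusedVariables false

namespace Cfsg.Agent.Helper20

/-- commutators lie in every subgroup of index two -/
theorem comm_mem_of_relIndex_two {G : Type*} [Group G] (H K : Subgroup G)
    (h : H.relIndex K = 2) (x g : G) (hx : x ∈ K) (hg : g ∈ K) :
    x⁻¹ * (g * x * g⁻¹) ∈ H := by
  have hn : (H.subgroupOf K).Normal := Subgroup.normal_of_index_eq_two h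
  have h1 := Subgroup.mul_mem_iff_of_index_two (H := H.subgroupOf K) h
    (a := (⟨x, hx⟩ : K)⁻¹) (b := ⟨g, hg⟩ * ⟨x, hx⟩ * (⟨g, hg⟩ : K)⁻¹)
  have h2 : (⟨x, hx⟩ : K)⁻¹ * (⟨g, hg⟩ * ⟨x, hx⟩ * (⟨g, hg⟩ : K)⁻¹) ∈ H.subgroupOf K := by
    rw [h1, Subgroup.inv_mem_iff]
    constructor
    · intro h3; exact hn.conj_mem _ h3 _
    · intro h3
      have := hn.conj_mem _ h3 (⟨g, hg⟩ : K)⁻¹
      have e : (⟨g, hg⟩ : K)⁻¹ * (⟨g, hg⟩ * ⟨x, hx⟩ * (⟨g, hg⟩ : K)⁻¹) * (⟨g, hg⟩ : K)⁻¹⁻¹ =
          ⟨x, hx⟩ := by group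
      rwa [e] at this
  exact Subgroup.mem_subgroupOf.mp h2

/-- conjugation can be realized inside a subgroup of index two if an element outside it
centralizes -/
theorem exists_mem_conj_eq_of_index_two {G : Type*} [Group G] (K : Subgroup G) (hK : K.index = 2)
    (s₀ x : G) (hs₀ : s₀ ∉ K) (hc : s₀ * x = x * s₀) (n : G) :
    ∃ n' ∈ K, n' * x * n'⁻¹ = n * x * n⁻¹ := by
  by_cases hn : n ∈ K
  · exact ⟨n, hn, rfl⟩
  · refine ⟨n * s₀, ?_, ?_⟩
    · rw [Subgroup.mul_mem_iff_of_index_two hK]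
      exact ⟨fun h => absurd h hn, fun h => absurd h hs₀⟩
    · have : n * s₀ * x * (n * s₀)⁻¹ = n * (s₀ * x) * s₀⁻¹ * n⁻¹ := by group
      rw [this, hc]
      group

section sylow
variable {G : Type*} [Group G] [Finite G] {p : ℕ} [Fact p.Prime]

theorem sylow_card_eq {K : Type*} [Group K] [Finite K] (P P₁ : Sylow p K) :
    Nat.card (P : Subgroup K) = Nat.card (P₁ : Subgroup K) := by
  rw [P.card_eq_multiplicity, P₁.card_eq_multiplicity]

/-- the Sylow subgroups of a normal subgroup `K` are isomorphic to `S ∩ K` -/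
theorem sylow_equiv_inf_normal (S : Sylow p G) (K : Subgroup G) [hK : K.Normal] (P : Sylow p K) :
    Nonempty (↥(P : Subgroup K) ≃* ↥((S : Subgroup G) ⊓ K)) := by
  set P' : Subgroup G := (P : Subgroup K).map K.subtype with hP'
  have hP'p : IsPGroup p P' := P.isPGroup'.map _
  obtain ⟨Q, hQ⟩ := hP'p.exists_le_sylow
  obtain ⟨g, hg⟩ := MulAction.exists_smul_eq G Q S
  have hle : P'.map (MulAut.conj g).toMonoidHom ≤ (S : Subgroup G) ⊓ K := by
    rintro _ ⟨y, hy, rfl⟩
    refine Subgroup.mem_inf.mpr ⟨?_, ?_⟩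
    · rw [← hg, Cfsg.Agent.Helper2.mem_smul_sylow_iff]
      have : g⁻¹ * ((MulAut.conj g).toMonoidHom y) * g = y := by
        simp [MulAut.conj_apply, mul_assoc]
      rw [this]
      exact hQ hy
    · obtain ⟨y', -, rfl⟩ := hy
      exact hK.conj_mem _ y'.2 g
  have hIp : IsPGroup p (((S : Subgroup G) ⊓ K).subgroupOf K) :=
    (S.isPGroup'.to_le inf_le_left).comap_of_injective K.subtype Subtype.coe_injective
  obtain ⟨P₁, hP₁⟩ := hIp.exists_le_sylow
  have hcard : Nat.card ↥((S : Subgroup G) ⊓ K) ≤ Nat.card ↥(P'.map (MulAut.conj g).toMonoidHom) := by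
    have e1 : Nat.card ↥(((S : Subgroup G) ⊓ K).subgroupOf K) = Nat.card ↥((S : Subgroup G) ⊓ K) :=
      Nat.card_congr (Subgroup.subgroupOfEquivOfLe inf_le_right).toEquiv
    have e2 : Nat.card ↥(P'.map (MulAut.conj g).toMonoidHom) = Nat.card ↥P' :=
      (Nat.card_congr (P'.equivMapOfInjective _ (MulAut.conj g).injective).toEquiv).symm
    have e3 : Nat.card ↥P' = Nat.card ↥(P : Subgroup K) :=
      (Nat.card_congr ((P : Subgroup K).equivMapOfInjective _ K.subtype_injective).toEquiv).symm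
    rw [e2, e3, sylow_card_eq P P₁, ← e1]
    exact Subgroup.card_le_of_le hP₁
  have heq := Subgroup.eq_of_le_of_card_ge hle hcard
  exact ⟨(((P : Subgroup K).equivMapOfInjective _ K.subtype_injective).trans
    (P'.equivMapOfInjective _ (MulAut.conj g).injective)).trans (MulEquiv.subgroupCongr heq)⟩

/-- `S ∩ K` is a Sylow subgroup of the normal subgroup `K` -/
theorem exists_sylow_eq_inf_normal (S : Sylow p G) (K : Subgroup G) [hK : K.Normal] :
    ∃ P : Sylow p K, (P : Subgroup K) = ((S : Subgroup G) ⊓ K).subgroupOf K := by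
  have hIp : IsPGroup p (((S : Subgroup G) ⊓ K).subgroupOf K) :=
    (S.isPGroup'.to_le inf_le_left).comap_of_injective K.subtype Subtype.coe_injective
  obtain ⟨P₁, hP₁⟩ := hIp.exists_le_sylow
  refine ⟨P₁, ?_⟩
  obtain ⟨e⟩ := sylow_equiv_inf_normal S K P₁
  symm
  apply Subgroup.eq_of_le_of_card_ge hP₁
  rw [Nat.card_congr e.toEquiv,
    Nat.card_congr (Subgroup.subgroupOfEquivOfLe (inf_le_right : (S : Subgroup G) ⊓ K ≤ K)).toEquiv]

/-- a subgroup of index `p` of a normal subgroup `K` cannot contain `S ∩ K` -/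
theorem not_inf_le_of_index_prime (S : Sylow p G) (K : Subgroup G) [hK : K.Normal]
    (H : Subgroup K) (hH : H.index = p) :
    ¬ (((S : Subgroup G) ⊓ K).subgroupOf K ≤ H) := by
  intro hle
  obtain ⟨P, hP⟩ := exists_sylow_eq_inf_normal S K
  rw [← hP] at hle
  have := Subgroup.index_dvd_of_le hle
  rw [hH] at this
  exact P.not_dvd_index this

end sylow

end Cfsg.Agent.Helper20
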