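import Mathlib
import Cfsg.Agent.Lib.Helper20.QDMax
import Cfsg.Agent.Lib.Helper20.QDKlein

set_option autoImplicit false
set_option linter.unusedSectionVars false
set_option linter.unusedSimpArgs false
set_option linter.unusedVariables false

namespace Cfsg.Agent.Helper20

namespace SD
variable {k : ℕ}

theorem even_rot_mem (N : Subgroup (SD k)) (h : (⟨2, false⟩ : SD k) ∈ N)
    (b : ZMod (2 ^ (k + 3))) : (⟨2 * b, false⟩ : SD k) ∈ N := by
  have h1 : (⟨2, false⟩ : SD k) ^ b.val ∈ N := N.pow_mem h _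
  rw [pow_false, ZMod.natCast_zmod_val, mul_comm] at h1
  exact h1

theorem even_rot_mem_of_neg (N : Subgroup (SD k)) (h : (⟨-2, false⟩ : SD k) ∈ N)
    (b : ZMod (2 ^ (k + 3))) : (⟨2 * b, false⟩ : SD k) ∈ N := by
  apply even_rot_mem N _ b
  have := N.inv_mem h
  rwa [inv_mk_false, neg_neg] at this

theorem zS_mem_of_four (N : Subgroup (SD k)) (h : (⟨-4, false⟩ : SD k) ∈ N) :
    (⟨hN k, false⟩ : SD k) ∈ N := by
  have h0 : (⟨4, false⟩ : SD k) ∈ N := by
    have := N.inv_mem h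
    rwa [inv_mk_false, neg_neg] at this
  have h1 : (⟨4, false⟩ : SD k) ^ (2 ^ k) ∈ N := N.pow_mem h0 _
  rw [pow_false] at h1
  have : ((2 ^ k : ℕ) : ZMod (2 ^ (k + 3))) * 4 = hN k := by
    unfold hN; push_cast; ring
  rwa [this] at h1

theorem mul_zS_true (a : ZMod (2 ^ (k + 3))) :
    (⟨a, true⟩ : SD k) * ⟨hN k, false⟩ = ⟨a + hN k, true⟩ := by
  rw [mk_mul_mk_true, cN_mul, hN_mul_hN, zero_sub, neg_hN]
  rfl

/-- a subgroup of `SD k` containing all commutators, a product of the central involution with a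
non-central one and a product of `v` with an element of order four outside the rotations is everything -/
theorem eq_top_of_fusion (N : Subgroup (SD k))
    (h1 : ∀ s₁ s₂ : SD k, s₁⁻¹ * (s₂ * s₁ * s₂⁻¹) ∈ N)
    (b : ZMod (2 ^ (k + 3))) (h2 : (⟨hN k, false⟩ : SD k)⁻¹ * ⟨2 * b, true⟩ ∈ N)
    (c : ZMod (2 ^ (k + 3)))
    (h3 : (⟨qN k, false⟩ : SD k)⁻¹ * ⟨2 * c + 1, true⟩ ∈ N ∨
      (⟨qN k, false⟩ : SD k)⁻¹ * (⟨2 * c + 1, true⟩ : SD k)⁻¹ ∈ N) : N = ⊤ := by
  have hm2 : (⟨-2, false⟩ : SD k) ∈ N := by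
    have := h1 ⟨1 + qN k, false⟩ ⟨0, true⟩
    rw [conj_true_false, inv_mk_false, mk_mul_mk_false, cN_mul, mul_add, hN_mul_qN] at this
    have e : -(1 + qN k) + (hN k * 1 + 0 - (1 + qN k)) = -2 := by
      linear_combination (-1 : ZMod (2 ^ (k + 3))) * (two_qN (k := k))
    rwa [e] at this
  have heven := even_rot_mem_of_neg N hm2
  -- an element `(even, true)`
  have ha₀ : ∃ b₀, (⟨2 * b₀, true⟩ : SD k) ∈ N := by
    refine ⟨b + qN k, ?_⟩
    rw [inv_mk_false, mk_mul_mk_false] at h2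
    have e : -hN k + 2 * b = 2 * (b + qN k) := by
      linear_combination (-1 : ZMod (2 ^ (k + 3))) * (two_qN (k := k)) - (two_hN (k := k))
    rwa [e] at h2
  -- an element `(odd, true)`
  have ha₁ : ∃ b₁, (⟨2 * b₁ + 1, true⟩ : SD k) ∈ N := by
    rcases h3 with h3 | h3
    · refine ⟨c - oN k, ?_⟩
      rw [inv_mk_false, mk_mul_mk_false] at h3
      have e : -qN k + (2 * c + 1) = 2 * (c - oN k) + 1 := by
        linear_combination (two_oN (k := k))
      rwa [e] at h3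
    · refine ⟨c - oN k + qN k, ?_⟩
      rw [inv_mk_false, inv_mk_true, mk_mul_mk_false, cN_mul, hN_mul_odd] at h3
      have e : -qN k + -(hN k - (2 * c + 1)) = 2 * (c - oN k + qN k) + 1 := by
        linear_combination (two_oN (k := k)) - (two_qN (k := k)) - (two_hN (k := k))
      rwa [e] at h3
  obtain ⟨b₀, hb₀⟩ := ha₀
  obtain ⟨b₁, hb₁⟩ := ha₁
  have hodd : (⟨2 * (b₀ + qN k - b₁ - 1) + 1, false⟩ : SD k) ∈ N := by
    have := N.mul_mem hb₀ hb₁
    rw [mk_mul_mk_true, cN_mul, hN_mul_odd] at this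
    simp only [Bool.not_true] at this
    have e : 2 * b₀ + (hN k - (2 * b₁ + 1)) = 2 * (b₀ + qN k - b₁ - 1) + 1 := by
      linear_combination (-1 : ZMod (2 ^ (k + 3))) * (two_qN (k := k))
    rwa [e] at this
  have hrot : ∀ x, (⟨x, false⟩ : SD k) ∈ N := fun x => rot_mem_of_odd_mem N _ x hodd
  rw [eq_top_iff]
  rintro ⟨x, e⟩ -
  cases e
  · exact hrot x
  · have := N.mul_mem (hrot (x - 2 * b₀)) hb₀
    rw [mk_mul_mk_false] at this
    simpa using this

/-- the analogous statement inside the quaternion maximal subgroup -/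
theorem Qt_le_of_fusion (N : Subgroup (SD k))
    (h1 : ∀ s₁ ∈ (Qt : Subgroup (SD k)), ∀ s₂ ∈ (Qt : Subgroup (SD k)),
      s₁⁻¹ * (s₂ * s₁ * s₂⁻¹) ∈ N)
    (c : ZMod (2 ^ (k + 3)))
    (h3 : (⟨qN k, false⟩ : SD k)⁻¹ * ⟨2 * c + 1, true⟩ ∈ N ∨
      (⟨qN k, false⟩ : SD k)⁻¹ * (⟨2 * c + 1, true⟩ : SD k)⁻¹ ∈ N)
    (h3' : (⟨qN k, false⟩ : SD k)⁻¹ * ⟨2 * c + 3, true⟩ ∈ N ∨
      (⟨qN k, false⟩ : SD k)⁻¹ * (⟨2 * c + 3, true⟩ : SD k)⁻¹ ∈ N) : Qt ≤ N := by
  have hm4 : (⟨-4, false⟩ : SD k) ∈ N := by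
    have := h1 ⟨1, true⟩ ((mem_Qt _).mpr (Or.inr ⟨rfl, 0, by ring⟩)) ⟨2, false⟩
      ((mem_Qt _).mpr (Or.inl ⟨rfl, 1, by ring⟩))
    rw [conj_false_true, inv_mk_true, mk_mul_mk_true, cN_mul, cN_mul] at this
    simp only [Bool.not_true] at this
    have e : -(hN k * 1 - 1) + (hN k * (1 + 2 * 2 - hN k * 2) - (1 + 2 * 2 - hN k * 2)) = -4 := by
      linear_combination (3 - hN k) * (two_hN (k := k))
    rwa [e] at this
  have hz := zS_mem_of_four N hm4
  -- normalize the two elements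
  have key : ∀ d : ZMod (2 ^ (k + 3)),
      ((⟨qN k, false⟩ : SD k)⁻¹ * ⟨2 * d + 1, true⟩ ∈ N ∨
        (⟨qN k, false⟩ : SD k)⁻¹ * (⟨2 * d + 1, true⟩ : SD k)⁻¹ ∈ N) →
      (⟨2 * d + 1 - qN k, true⟩ : SD k) ∈ N := by
    intro d hd
    rcases hd with hd | hd
    · rw [inv_mk_false, mk_mul_mk_false] at hd
      have e : -qN k + (2 * d + 1) = 2 * d + 1 - qN k := by ring
      rwa [e] at hd
    · rw [inv_mk_false, inv_mk_true, mk_mul_mk_false, cN_mul, hN_mul_odd] at hd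
      have := N.mul_mem hd hz
      rw [mul_zS_true] at this
      have e : -qN k + -(hN k - (2 * d + 1)) + hN k = 2 * d + 1 - qN k := by ring
      rwa [e] at this
  have ha₁ := key c h3
  have ha₂ : (⟨2 * c + 3 - qN k, true⟩ : SD k) ∈ N := by
    have := key (c + 1) (by
      have e : 2 * (c + 1) + 1 = 2 * c + 3 := by ring
      rw [e]; exact h3')
    have e : 2 * (c + 1) + 1 - qN k = 2 * c + 3 - qN k := by ring
    rwa [e] at this
  have hm2 : (⟨-2, false⟩ : SD k) ∈ N := by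
    have := N.mul_mem (N.inv_mem ha₁) ha₂
    rw [inv_mk_true, mk_mul_mk_true, cN_mul, cN_mul] at this
    simp only [Bool.not_true] at this
    have e : -(hN k * (2 * c + 1 - qN k) - (2 * c + 1 - qN k)) +
        (hN k * (2 * c + 3 - qN k) - (2 * c + 3 - qN k)) = -2 := by
      linear_combination (two_hN (k := k))
    rwa [e] at this
  have heven := even_rot_mem_of_neg N hm2
  intro p hp
  rcases p with ⟨x, e⟩
  rcases (mem_Qt _).mp hp with ⟨he, m, hm⟩ | ⟨he, m, hm⟩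
  · simp only at he hm
    subst he hm
    exact heven m
  · simp only at he hm
    subst he hm
    have := N.mul_mem (heven (m - c + oN k)) ha₁
    rw [mk_mul_mk_false] at this
    have e : 2 * (m - c + oN k) + (2 * c + 1 - qN k) = 2 * m + 1 := by
      linear_combination (two_oN (k := k))
    rwa [e] at this

/-- the analogous statement inside the dihedral maximal subgroup -/
theorem Dih_le_of_fusion (N : Subgroup (SD k))
    (h1 : ∀ s₁ ∈ (Dih : Subgroup (SD k)), ∀ s₂ ∈ (Dih : Subgroup (SD k)),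
      s₁⁻¹ * (s₂ * s₁ * s₂⁻¹) ∈ N)
    (b : ZMod (2 ^ (k + 3))) (h2 : (⟨hN k, false⟩ : SD k)⁻¹ * ⟨2 * b, true⟩ ∈ N)
    (h2' : (⟨hN k, false⟩ : SD k)⁻¹ * ⟨2 * b + 2 + hN k, true⟩ ∈ N) : Dih ≤ N := by
  have hm4 : (⟨-4, false⟩ : SD k) ∈ N := by
    have := h1 ⟨0, true⟩ ((mem_Dih _).mpr ⟨0, by ring⟩) ⟨2, false⟩ ((mem_Dih _).mpr ⟨1, by ring⟩)
    rw [conj_false_true, inv_mk_true, mk_mul_mk_true, cN_mul, cN_mul] at this
    simp only [Bool.not_true] at this
    have e : -(hN k * 0 - 0) + (hN k * (0 + 2 * 2 - hN k * 2) - (0 + 2 * 2 - hN k * 2)) = -4 := by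
      linear_combination (3 - hN k) * (two_hN (k := k))
    rwa [e] at this
  have hz := zS_mem_of_four N hm4
  have ha₁ : (⟨2 * b, true⟩ : SD k) ∈ N := by
    rw [inv_mk_false, mk_mul_mk_false] at h2
    have := N.mul_mem h2 hz
    rw [mul_zS_true] at this
    have e : -hN k + 2 * b + hN k = 2 * b := by ring
    rwa [e] at this
  have ha₂ : (⟨2 * b + 2, true⟩ : SD k) ∈ N := by
    rw [inv_mk_false, mk_mul_mk_false] at h2'
    have e : -hN k + (2 * b + 2 + hN k) = 2 * b + 2 := by ring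
    rwa [e] at h2'
  have hm2 : (⟨-2, false⟩ : SD k) ∈ N := by
    have := N.mul_mem (N.inv_mem ha₁) ha₂
    rw [inv_mk_true, mk_mul_mk_true, cN_mul, cN_mul] at this
    simp only [Bool.not_true] at this
    have e : -(hN k * (2 * b) - 2 * b) + (hN k * (2 * b + 2) - (2 * b + 2)) = -2 := by
      linear_combination (two_hN (k := k))
    rwa [e] at this
  have heven := even_rot_mem_of_neg N hm2
  intro p hp
  rcases p with ⟨x, e⟩
  obtain ⟨m, hm⟩ := (mem_Dih _).mp hp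
  simp only at hm
  subst hm
  cases e
  · exact heven m
  · have := N.mul_mem (heven (m - b)) ha₁
    rw [mk_mul_mk_false] at this
    have e : 2 * (m - b) + 2 * b = 2 * m := by ring
    rwa [e] at this

theorem isConj_inv_uS (c : ZMod (2 ^ (k + 3))) :
    IsConj ((⟨2 * c + 1, true⟩ : SD k)⁻¹) ⟨2 * c + 1, true⟩ := by
  have h := isConj_true_of_even (k := k) (2 * c + 1) (qN k)
  rw [inv_mk_true, cN_mul, hN_mul_odd]
  have e : -(hN k - (2 * c + 1)) = 2 * c + 1 + 2 * qN k := by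
    linear_combination (-1 : ZMod (2 ^ (k + 3))) * (two_qN (k := k)) - (two_hN (k := k))
  rw [e]
  exact h.symm

theorem conj_one_uS (c : ZMod (2 ^ (k + 3))) :
    (⟨1, false⟩ : SD k) * ⟨2 * c + 1, true⟩ * (⟨1, false⟩ : SD k)⁻¹ =
      (⟨2 * c + 3, true⟩ : SD k)⁻¹ := by
  rw [conj_false_true, inv_mk_true, cN_mul]
  have e : hN k * (2 * c + 3) = hN k := by
    have : (2 * c + 3 : ZMod (2 ^ (k + 3))) = 2 * (c + 1) + 1 := by ring
    rw [this, hN_mul_odd]
  rw [e]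
  simp only [SD.mk.injEq, and_true]
  ring

theorem conj_one_tS (b : ZMod (2 ^ (k + 3))) :
    (⟨1, false⟩ : SD k) * ⟨2 * b, true⟩ * (⟨1, false⟩ : SD k)⁻¹ =
      (⟨2 * b + 2 + hN k, true⟩ : SD k) := by
  rw [conj_false_true]
  simp only [SD.mk.injEq, and_true]
  linear_combination (-1 : ZMod (2 ^ (k + 3))) * (two_hN (k := k))

theorem one_false_comm_rot (a : ZMod (2 ^ (k + 3))) :
    (⟨1, false⟩ : SD k) * ⟨a, false⟩ = ⟨a, false⟩ * ⟨1, false⟩ := by
  simp [SD.ext_iff, add_comm]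

end SD

end Cfsg.Agent.Helper20
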