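import Mathlib
import Cfsg.Agent.Lib.Helper20.QDFus2
import Cfsg.Agent.Lib.Helper20.QDFus3
import Cfsg.Agent.Lib.Helper20.QDFus4
import Cfsg.Agent.Lib.Helper20.QDFrat
import Cfsg.Agent.Lib.Helper53.Thompson

set_option autoImplicit false
set_option linter.unusedSectionVars false
set_option linter.unusedSimpArgs false
set_option linter.unusedVariables false

namespace Cfsg.Agent.Helper20

theorem relIndex_map_subtype {G : Type*} [Group G] (K : Subgroup G) (H : Subgroup K) :
    (H.map K.subtype).relIndex K = H.index := by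
  rw [Subgroup.relIndex, Subgroup.subgroupOf,
    Subgroup.comap_map_eq_self_of_injective K.subtype_injective]

theorem subgroupOf_le_of_map_le {G : Type*} [Group G] (K R : Subgroup G) (H : Subgroup K)
    (h : R ≤ H.map K.subtype) : R.subgroupOf K ≤ H := by
  intro y hy
  obtain ⟨h', hh', e⟩ := h (Subgroup.mem_subgroupOf.mp hy)
  have : h' = y := Subtype.ext e
  rwa [← this]

section coord
variable {G : Type*} [Group G] [Finite G] (S : Sylow 2 G) {k : ℕ} (ι : SD k →* G)
  (hinj : Function.Injective ι) (hrange : ι.range = (S : Subgroup G))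

include hinj hrange

/-- a normal subgroup of index two not containing `S` pulls back to a maximal subgroup -/
theorem isCoatom_comap (K : Subgroup G) [K.Normal] (hK : K.index = 2) (p₀ : SD k)
    (hp₀ : ι p₀ ∉ K) : IsCoatom (K.comap ι) := by
  apply isCoatom_of_index_two
  have h1 : (K.comap ι).index ∣ 2 := by
    rw [Subgroup.index_comap, ← hK]
    exact Subgroup.relIndex_dvd_index_of_normal _ _
  have h2 : (K.comap ι).index ≠ 1 := by
    rw [Ne, Subgroup.index_eq_one]
    intro h
    exact hp₀ (show p₀ ∈ K.comap ι from h ▸ Subgroup.mem_top _)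
  rcases (Nat.dvd_prime Nat.prime_two).mp h1 with h | h
  · exact absurd h h2
  · exact h

theorem inf_eq_map_comap (K : Subgroup G) : (S : Subgroup G) ⊓ K = (K.comap ι).map ι := by
  rw [Subgroup.map_comap_eq, hrange]

/-- the centre of `S` in coordinates -/
theorem center_map_eq :
    (Subgroup.center ↥(S : Subgroup G)).map (S : Subgroup G).subtype =
      Subgroup.zpowers (ι ⟨hN k, false⟩) := by
  apply le_antisymm
  · rintro _ ⟨s, hs, rfl⟩
    have hsS : (s : G) ∈ ι.range := by rw [hrange]; exact s.2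
    obtain ⟨p, hp⟩ := hsS
    have hpc : p ∈ Subgroup.center (SD k) := by
      rw [Subgroup.mem_center_iff]
      intro q
      apply hinj
      rw [map_mul, map_mul, hp]
      have hq : ι q ∈ (S : Subgroup G) := hrange ▸ ⟨q, rfl⟩
      have := (Subgroup.mem_center_iff.mp hs) ⟨ι q, hq⟩
      exact congrArg Subtype.val this
    rw [SD.center_eq] at hpc
    show (s : G) ∈ _
    rw [← hp, ← MonoidHom.map_zpowers]
    exact ⟨p, hpc, rfl⟩
  · rw [Subgroup.zpowers_le]
    have hz : ι ⟨hN k, false⟩ ∈ (S : Subgroup G) := hrange ▸ ⟨_, rfl⟩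
    refine ⟨⟨_, hz⟩, ?_, rfl⟩
    rw [SetLike.mem_coe, Subgroup.mem_center_iff]
    intro s
    apply Subtype.ext
    have := commute_zS S ι hinj hrange s.1 s.2
    show (s : G) * ι ⟨hN k, false⟩ = ι ⟨hN k, false⟩ * (s : G)
    calc (s : G) * ι ⟨hN k, false⟩ = ((s : G) * ι ⟨hN k, false⟩ * (s : G)⁻¹) * s := by group
      _ = ι ⟨hN k, false⟩ * (s : G) := by rw [this]

/-- Thompson's transfer lemma in coordinates -/
theorem exists_index_two_of_transfer (M : Subgroup (SD k)) (hM : M.index = 2) (n : ℕ)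
    (hn : 1 ≤ n) (hord : ∀ p : SD k, p ∉ M → 2 ^ (n - 1) < orderOf p) (x : SD k)
    (hx : orderOf x = 2 ^ n) (hcon : ∀ g : G, ∀ p ∈ M, g * ι x * g⁻¹ ≠ ι p) :
    ∃ K : Subgroup G, K.Normal ∧ K.index = 2 ∧ ι x ∉ K := by
  have hrel : (M.map ι).relIndex (S : Subgroup G) = 2 := by
    rw [← hrange, MonoidHom.range_eq_map, Subgroup.relIndex_map_map_of_injective M ⊤ hinj,
      Subgroup.relIndex_top_right, hM]
  obtain ⟨H, hH, hxH⟩ := Cfsg.Agent.Helper53.thompson_transfer S (M.map ι) hrel n hn (by
      intro y hyS hyM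
      rw [← hrange] at hyS
      obtain ⟨p, rfl⟩ := hyS
      rw [orderOf_injective ι hinj]
      apply hord
      intro hp
      exact hyM ⟨p, hp, rfl⟩) (ι x) (by rw [orderOf_injective ι hinj, hx]) (by
      intro g hg
      obtain ⟨p, hp, e⟩ := hg
      exact hcon g p hp e.symm)
  exact ⟨H, Subgroup.normal_of_index_eq_two hH, hH, hxH⟩

end coord

end Cfsg.Agent.Helper20
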