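import Mathlib
import Cfsg.Agent.Lib.Helper20.CentA
import Cfsg.Agent.Lib.Helper20.QDFus5
import Cfsg.Agent.Lib.Helper20.QDSubCls
import Cfsg.Agent.S1203
import Cfsg.Agent.S1205
import Cfsg.Agent.S1206
import Cfsg.Agent.S1207

set_option autoImplicit false
set_option linter.unusedSectionVars false
set_option linter.unusedSimpArgs false
set_option linter.unusedVariables false

namespace Cfsg.Agent.Helper20

open Cfsg.Agent.Helper98
open scoped Pointwise

namespace SD
variable {k : ℕ}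

theorem cN_mul_hN : cN k * hN k = hN k := by
  unfold cN
  linear_combination (hN_mul_hN (k := k)) - (two_hN (k := k))

theorem cN_mul_qN : cN k * qN k = -qN k := by
  unfold cN
  linear_combination (hN_mul_qN (k := k))

/-- a Klein four-subgroup and a quaternion subgroup of the model -/
theorem exists_klein_quat :
    (∃ T : Subgroup (SD k), IsKleinFour T) ∧
    (∃ Q : Subgroup (SD k), Nonempty (Q ≃* QuaternionGroup 2)) := by
  constructor
  · have hz : (⟨hN k, false⟩ : SD k) * ⟨hN k, false⟩ = 1 := by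
      rw [mk_mul_mk_false, SD.ext_iff]
      refine ⟨?_, rfl⟩
      show hN k + hN k = 0
      linear_combination (two_hN (k := k))
    have hy : (⟨0, true⟩ : SD k) * ⟨0, true⟩ = 1 := by
      rw [mk_mul_mk_true, SD.ext_iff]
      refine ⟨?_, rfl⟩
      show 0 + cN k * 0 = 0
      ring
    have hzy : (⟨hN k, false⟩ : SD k) * ⟨0, true⟩ = ⟨0, true⟩ * ⟨hN k, false⟩ := by
      rw [mk_mul_mk_false, mk_mul_mk_true, SD.ext_iff]
      refine ⟨?_, rfl⟩
      show hN k + 0 = 0 + cN k * hN k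
      rw [cN_mul_hN]; ring
    refine ⟨Cfsg.Agent.Helper21.fourSub _ _ hz hy hzy,
      Cfsg.Agent.Helper21.isKleinFour_fourSub hz hy hzy zS_ne_one ?_ ?_⟩
    · intro h
      have := congrArg SD.e h
      simp at this
    · intro h
      have := congrArg SD.e h
      simp at this
  · have ha : orderOf (⟨qN k, false⟩ : SD k) = 2 * 2 := orderOf_vS
    have ht2 : (⟨1, true⟩ : SD k) ^ 2 = (⟨qN k, false⟩ : SD k) ^ 2 := by
      rw [pow_two, pow_two, mk_mul_mk_true, mk_mul_mk_false, SD.ext_iff]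
      refine ⟨?_, rfl⟩
      show 1 + cN k * 1 = qN k + qN k
      unfold cN
      linear_combination -(two_qN (k := k))
    have hta : (⟨1, true⟩ : SD k) * ⟨qN k, false⟩ * (⟨1, true⟩ : SD k)⁻¹ =
        (⟨qN k, false⟩ : SD k)⁻¹ := by
      rw [inv_mk_true, inv_mk_false, mk_mul_mk_true]
      simp only [Bool.not_false]
      rw [mk_mul_mk_true, SD.ext_iff]
      refine ⟨?_, rfl⟩
      show 1 + cN k * qN k + cN k * -(cN k * 1) = -qN k
      rw [cN_mul_qN]
      linear_combination -(cN_mul_cN (k := k))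
    have ht : (⟨1, true⟩ : SD k) ∉ Subgroup.zpowers (⟨qN k, false⟩ : SD k) := by
      intro h
      have := e_of_mem_zpowers _ _ rfl h
      simp at this
    obtain ⟨Q, -, -, -, hQ⟩ := exists_quat8_of_rel _ _ ha ht2 hta ht
    exact ⟨Q, hQ⟩

end SD

theorem isKleinFour_of_equiv {A B : Type*} [Group A] [Group B] (e : A ≃* B) (hA : IsKleinFour A) :
    IsKleinFour B :=
  ⟨by rw [← Nat.card_congr e.toEquiv]; exact hA.card_four,
    by rw [← Monoid.exponent_eq_of_mulEquiv e]; exact hA.exponent_two⟩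

/-- a Klein four-subgroup and a quaternion subgroup of a quasi-dihedral subgroup -/
theorem qd_exists_klein_quat {G : Type*} [Group G] (S : Subgroup G)
    (hS : Cfsg.IsQuasiDihedral ↥S) :
    (∃ T : Subgroup G, IsKleinFour T ∧ T ≤ S) ∧
    (∃ Q : Subgroup G, Q ≤ S ∧ Nonempty (Q ≃* QuaternionGroup 2)) := by
  obtain ⟨k, ι, hinj, hrange⟩ := exists_coord S hS
  obtain ⟨⟨T, hT⟩, ⟨Q, ⟨eQ⟩⟩⟩ := SD.exists_klein_quat (k := k)
  constructor
  · refine ⟨T.map ι, isKleinFour_of_equiv (T.equivMapOfInjective ι hinj) hT, ?_⟩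
    rw [← hrange]
    exact Subgroup.map_le_range _ _
  · refine ⟨Q.map ι, ?_, ⟨(Q.equivMapOfInjective ι hinj).symm.trans eQ⟩⟩
    rw [← hrange]
    exact Subgroup.map_le_range _ _

section main
variable {G : Type*} [Group G] [Finite G]

/-- without subgroups of index two both local indices are six -/
theorem qd_six_six_of_no_index_two (S : Sylow 2 G) (hS : Cfsg.IsQuasiDihedral (S : Subgroup G))
    (hG : ∀ H : Subgroup G, H.index ≠ 2)
    (T : Subgroup G) (hT : IsKleinFour T) (hTS : T ≤ S) (Q : Subgroup G) (hQS : Q ≤ S)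
    (eQ : Q ≃* QuaternionGroup 2) :
    (Subgroup.centralizer (T : Set G)).relIndex (Subgroup.normalizer (T : Set G)) = 6 ∧
    (Q ⊔ Subgroup.centralizer (Q : Set G)).relIndex (Subgroup.normalizer (Q : Set G)) = 6 := by
  obtain ⟨h1, h2⟩ := Cfsg.Agent.S1203.result S hS T hT hTS Q hQS eQ
  have hcard : Nat.card (S : Subgroup G) ≠ 1 := by
    obtain ⟨n, hn, hc, -⟩ := hS
    rw [hc]
    have : 2 ≤ 2 ^ (n + 1) := by
      calc 2 = 2 ^ 1 := by norm_num
        _ ≤ 2 ^ (n + 1) := Nat.pow_le_pow_right (by norm_num) (by omega)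
    omega
  rcases h1 with h1 | h1 <;> rcases h2 with h2 | h2
  · exfalso
    exact not_hasNormalPComplement_of_no_index_two hG S hcard
      (Cfsg.Agent.S1207.result S hS T hT hTS Q hQS eQ h1 h2).1
  · exfalso
    obtain ⟨⟨K, -, hK2, -⟩, -⟩ := Cfsg.Agent.S1205.result S hS T hT hTS Q hQS eQ h1 h2
    exact hG K hK2
  · exfalso
    obtain ⟨⟨K, -, hK2, -⟩, -⟩ := Cfsg.Agent.S1206.result S hS T hT hTS Q hQS eQ h1 h2
    exact hG K hK2
  · exact ⟨h1, h2⟩

end main

theorem q8_sq_one_cases : ∀ w : QuaternionGroup 2, w ^ 2 = 1 → w = 1 ∨ w = QuaternionGroup.a 2 := by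
  decide

/-- the normalizer of a quaternion group of order eight centralizes its involution -/
theorem normalizer_le_centralizer_of_quat {G : Type*} [Group G] (Q : Subgroup G)
    (eQ : Q ≃* QuaternionGroup 2) (x : G) (hxQ : x ∈ Q) (hx : orderOf x = 2) :
    Subgroup.normalizer (Q : Set G) ≤ Subgroup.centralizer ({x} : Set G) := by
  intro n hn
  have hx1 : x ≠ 1 := by
    intro h; rw [h, orderOf_one] at hx; omega
  have hx2 : x ^ 2 = 1 := by rw [← hx]; exact pow_orderOf_eq_one x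
  have hyQ : n * x * n⁻¹ ∈ Q := (Subgroup.mem_normalizer_iff.mp hn x).mp hxQ
  have key : ∀ y : G, ∀ hy : y ∈ Q, y ^ 2 = 1 → y ≠ 1 →
      eQ ⟨y, hy⟩ = QuaternionGroup.a 2 := by
    intro y hy hy2 hy1
    have h1 : (eQ ⟨y, hy⟩) ^ 2 = 1 := by
      rw [← map_pow]
      have : (⟨y, hy⟩ : ↥Q) ^ 2 = 1 := Subtype.ext (by rw [Subgroup.coe_pow]; exact hy2)
      rw [this, map_one]
    rcases q8_sq_one_cases _ h1 with h | h
    · exfalso
      apply hy1
      have := eQ.injective (h.trans (map_one eQ).symm)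
      exact congrArg Subtype.val this
    · exact h
  have h1 := key x hxQ hx2 hx1
  have h2 := key (n * x * n⁻¹) hyQ (by
    have : (n * x * n⁻¹) ^ 2 = n * x ^ 2 * n⁻¹ := by rw [pow_two, pow_two]; group
    rw [this, hx2]; group) (by
    intro h
    apply hx1
    have e : x = n⁻¹ * (n * x * n⁻¹) * n := by group
    rw [e, h]; group)
  have h3 : n * x * n⁻¹ = x := by
    have := eQ.injective (h2.trans h1.symm)
    exact congrArg Subtype.val this
  rw [Subgroup.mem_centralizer_iff]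
  intro y hy
  rw [Set.mem_singleton_iff] at hy
  rw [hy]
  calc x * n = (n * x * n⁻¹) * n := by rw [h3]
    _ = n * x := by group

section coord
variable {G : Type*} [Group G] [Finite G] (S : Sylow 2 G) {k : ℕ} (ι : SD k →* G)
  (hinj : Function.Injective ι) (hrange : ι.range = (S : Subgroup G))

include hinj hrange

theorem isConj_zS_of_six (T : Subgroup G) (hT : IsKleinFour T) (hTS : T ≤ S)
    (h₁ : (Subgroup.centralizer (T : Set G)).relIndex (Subgroup.normalizer (T : Set G)) = 6)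
    (t : G) (ht : orderOf t = 2) : IsConj t (ι ⟨hN k, false⟩) := by
  obtain ⟨b, hTb⟩ := klein_eq_map S ι hinj hrange T hT hTS
  obtain ⟨n₁, hn₁, hzt⟩ := exists_conj_z_t_of_six S ι hinj hrange b T hT.card_four hTb h₁
  have hzt' : IsConj (ι ⟨hN k, false⟩) (ι ⟨2 * b, true⟩) := isConj_iff.mpr ⟨n₁, hzt⟩
  rcases isConj_involution S ι hinj hrange b t ht with h | h
  · exact h
  · exact h.trans hzt'.symm

theorem orderOf_zS_map : orderOf (ι ⟨hN k, false⟩) = 2 := by
  rw [orderOf_injective ι hinj, SD.orderOf_eq_two_iff]; left; rfl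

/-- a central involution of `S` is the image of the central involution of the model -/
theorem eq_zS_of_central (x : G) (hx : orderOf x = 2) (hxS : x ∈ (S : Subgroup G))
    (hxc : ∀ s ∈ (S : Subgroup G), s * x = x * s) : x = ι ⟨hN k, false⟩ := by
  have h1 : x ∈ (Subgroup.center ↥(S : Subgroup G)).map (S : Subgroup G).subtype := by
    refine ⟨⟨x, hxS⟩, ?_, rfl⟩
    rw [SetLike.mem_coe, Subgroup.mem_center_iff]
    intro s
    exact Subtype.ext (hxc s.1 s.2)
  rw [center_map_eq S ι hinj hrange] at h1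
  rcases eq_one_or_eq_of_mem_zpowers_of_orderOf_two _ x (orderOf_zS_map S ι hinj hrange) h1
    with h | h
  · rw [h, orderOf_one] at hx; omega
  · exact h

/-- quaternion subgroups of `S` contain the central involution -/
theorem zS_mem_quat (Q : Subgroup G) (hQS : Q ≤ S) (eQ : Q ≃* QuaternionGroup 2) :
    ι ⟨hN k, false⟩ ∈ Q := by
  obtain ⟨c, hQc⟩ := quat_eq_map S ι hinj hrange Q ⟨eQ⟩ hQS
  rw [hQc]
  refine ⟨⟨qN k, false⟩ * ⟨qN k, false⟩, Subgroup.mul_mem _ (SD.qrot_mem_Qa _) (SD.qrot_mem_Qa _), ?_⟩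
  congr 1
  rw [SD.mk_mul_mk_false, SD.ext_iff]
  refine ⟨?_, rfl⟩
  show qN k + qN k = hN k
  linear_combination (two_qN (k := k))

end coord

section main2
variable {G : Type*} [Group G] [Finite G]

/-- the centralizer of the central involution -/
theorem qd_centralizer_aux (S : Sylow 2 G) (hS : Cfsg.IsQuasiDihedral (S : Subgroup G))
    (hG : ∀ H : Subgroup G, H.index ≠ 2) (x : G) (hx : orderOf x = 2)
    (hxS : x ∈ (S : Subgroup G)) (hxc : ∀ s ∈ (S : Subgroup G), s * x = x * s) :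
    ∃ R : Sylow 2 ↥(Subgroup.centralizer ({x} : Set G)), Nat.card R = Nat.card S ∧
      (∃ K : Subgroup ↥(Subgroup.centralizer ({x} : Set G)), K.Normal ∧
        (∃ a : ℕ, K.index = 2 ^ a) ∧ (∀ H : Subgroup ↥K, H.index ≠ 2) ∧
        (∀ P : Sylow 2 ↥K, ∃ m : ℕ, 1 ≤ m ∧
          Nonempty ((P : Subgroup ↥K) ≃* QuaternionGroup (2 ^ m)))) ∧
      (∀ Z₀ : Subgroup ↥(Subgroup.centralizer ({x} : Set G)),
        Z₀ ≤ ((Subgroup.center (R : Subgroup ↥(Subgroup.centralizer ({x} : Set G)))).map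
          (R : Subgroup ↥(Subgroup.centralizer ({x} : Set G))).subtype) →
        Cfsg.IsWeaklyClosed Z₀ (R : Subgroup ↥(Subgroup.centralizer ({x} : Set G)))) := by
  set C := Subgroup.centralizer ({x} : Set G) with hC
  have hmemC : ∀ g : G, g ∈ C ↔ x * g = g * x := by
    intro g
    rw [hC, Subgroup.mem_centralizer_iff]
    constructor
    · intro h; exact h x rfl
    · intro h y hy
      rw [Set.mem_singleton_iff] at hy
      rw [hy]; exact h
  have hSC : (S : Subgroup G) ≤ C := fun s hs => (hmemC s).mpr (hxc s hs).symm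
  obtain ⟨⟨T, hT, hTS⟩, ⟨Q, hQS, ⟨eQ⟩⟩⟩ := qd_exists_klein_quat (S : Subgroup G) hS
  obtain ⟨-, h₂⟩ := qd_six_six_of_no_index_two S hS hG T hT hTS Q hQS eQ
  obtain ⟨k, ι, hinj, hrange⟩ := exists_coord (S : Subgroup G) hS
  have hxz := eq_zS_of_central S ι hinj hrange x hx hxS hxc
  -- the Sylow subgroup of the centralizer
  set R : Sylow 2 ↥C := S.subtype hSC with hRdef
  have hRcoe : (R : Subgroup ↥C) = (S : Subgroup G).subgroupOf C := Sylow.coe_subtype S hSC
  have eR : ↥(R : Subgroup ↥C) ≃* ↥(S : Subgroup G) :=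
    (MulEquiv.subgroupCongr hRcoe).trans (Subgroup.subgroupOfEquivOfLe hSC)
  have hR : Cfsg.IsQuasiDihedral ↥(R : Subgroup ↥C) := isQuasiDihedral_of_equiv eR.symm hS
  have hcard : Nat.card (R : Subgroup ↥C) = Nat.card (S : Subgroup G) := Nat.card_congr eR.toEquiv
  -- the two test subgroups
  have hTC : T ≤ C := hTS.trans hSC
  have hQC : Q ≤ C := hQS.trans hSC
  set T' := T.subgroupOf C with hT'def
  set Q' := Q.subgroupOf C with hQ'def
  have hT' : IsKleinFour ↥T' := isKleinFour_of_equiv (Subgroup.subgroupOfEquivOfLe hTC).symm hT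
  have eQ' : ↥Q' ≃* QuaternionGroup 2 := (Subgroup.subgroupOfEquivOfLe hQC).trans eQ
  have hT'R : T' ≤ (R : Subgroup ↥C) := by
    rw [hRcoe]
    intro c hc
    exact Subgroup.mem_subgroupOf.mpr (hTS (Subgroup.mem_subgroupOf.mp hc))
  have hQ'R : Q' ≤ (R : Subgroup ↥C) := by
    rw [hRcoe]
    intro c hc
    exact Subgroup.mem_subgroupOf.mpr (hQS (Subgroup.mem_subgroupOf.mp hc))
  -- the local index of `Q'`
  have hxQ : x ∈ Q := by rw [hxz]; exact zS_mem_quat S ι hinj hrange Q hQS eQ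
  have hNQ : Subgroup.normalizer (Q : Set G) ≤ C :=
    normalizer_le_centralizer_of_quat Q eQ x hxQ hx
  have h₂' : (Q' ⊔ Subgroup.centralizer (Q' : Set ↥C)).relIndex
      (Subgroup.normalizer (Q' : Set ↥C)) = 6 := by
    rw [hQ'def, relIndex_sup_centralizer_subgroupOf C Q hNQ]; exact h₂
  -- the local index of `T'`
  obtain ⟨k', ι', hinj', hrange'⟩ := exists_coord (R : Subgroup ↥C) hR
  have hxC : x ∈ C := (hmemC x).mpr rfl
  have hx'R : (⟨x, hxC⟩ : ↥C) ∈ (R : Subgroup ↥C) := by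
    rw [hRcoe]; exact Subgroup.mem_subgroupOf.mpr hxS
  have hx'c : ∀ c : ↥C, c * (⟨x, hxC⟩ : ↥C) = ⟨x, hxC⟩ * c := by
    intro c
    apply Subtype.ext
    exact ((hmemC c.1).mp c.2).symm
  have hx'o : orderOf (⟨x, hxC⟩ : ↥C) = 2 := by
    rw [← hx]; exact Subgroup.orderOf_mk x hxC
  have hx'z : (⟨x, hxC⟩ : ↥C) = ι' ⟨hN k', false⟩ :=
    eq_zS_of_central R ι' hinj' hrange' _ hx'o hx'R (fun s _ => hx'c s)
  have h₁' : (Subgroup.centralizer (T' : Set ↥C)).relIndex
      (Subgroup.normalizer (T' : Set ↥C)) = 2 := by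
    rcases (Cfsg.Agent.S1203.result R hR T' hT' hT'R Q' hQ'R eQ').1 with h | h
    · exact h
    · exfalso
      obtain ⟨b', hT'b⟩ := klein_eq_map R ι' hinj' hrange' T' hT' hT'R
      obtain ⟨n, hn, hzt⟩ := exists_conj_z_t_of_six R ι' hinj' hrange' b' T' hT'.card_four hT'b h
      rw [← hx'z] at hzt
      have h1 : n * (⟨x, hxC⟩ : ↥C) * n⁻¹ = ⟨x, hxC⟩ := by
        rw [hx'c n]; group
      rw [h1, hx'z] at hzt
      have := congrArg SD.e (hinj' hzt)
      simp at this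
  obtain ⟨⟨K, hKn, hK2, hKsyl, hKno⟩, hwc, -, -⟩ :=
    Cfsg.Agent.S1205.result R hR T' hT' hT'R Q' hQ'R eQ' h₁' h₂'
  refine ⟨R, hcard, ⟨K, hKn, ⟨1, by rw [hK2, pow_one]⟩, hKno, hKsyl⟩, ?_⟩
  intro Z₀ hZ₀
  have hZc : Nat.card ↥((Subgroup.center ↥(R : Subgroup ↥C)).map (R : Subgroup ↥C).subtype) = 2 := by
    rw [center_map_eq R ι' hinj' hrange', Nat.card_zpowers, orderOf_zS_map R ι' hinj' hrange']
  have hdvd := Subgroup.card_dvd_of_le hZ₀
  rw [hZc] at hdvd
  rcases (Nat.dvd_prime Nat.prime_two).mp hdvd with h | h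
  · have : Z₀ = ⊥ := Subgroup.card_eq_one.mp h
    rw [this]
    exact ⟨bot_le, fun g _ => by rw [Subgroup.map_bot]⟩
  · have : Z₀ = (Subgroup.center ↥(R : Subgroup ↥C)).map (R : Subgroup ↥C).subtype :=
      Subgroup.eq_of_le_of_card_ge hZ₀ (by rw [hZc, h])
    rw [this]
    exact hwc

/-- the centralizer of an arbitrary involution -/
theorem qd_centralizer (S : Sylow 2 G) (hS : Cfsg.IsQuasiDihedral (S : Subgroup G))
    (hG : ∀ H : Subgroup G, H.index ≠ 2) (x : G) (hx : orderOf x = 2) :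
    ∃ R : Sylow 2 ↥(Subgroup.centralizer ({x} : Set G)), Nat.card R = Nat.card S ∧
      (∃ K : Subgroup ↥(Subgroup.centralizer ({x} : Set G)), K.Normal ∧
        (∃ a : ℕ, K.index = 2 ^ a) ∧ (∀ H : Subgroup ↥K, H.index ≠ 2) ∧
        (∀ P : Sylow 2 ↥K, ∃ m : ℕ, 1 ≤ m ∧
          Nonempty ((P : Subgroup ↥K) ≃* QuaternionGroup (2 ^ m)))) ∧
      (∀ Z₀ : Subgroup ↥(Subgroup.centralizer ({x} : Set G)),
        Z₀ ≤ ((Subgroup.center (R : Subgroup ↥(Subgroup.centralizer ({x} : Set G)))).map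
          (R : Subgroup ↥(Subgroup.centralizer ({x} : Set G))).subtype) →
        Cfsg.IsWeaklyClosed Z₀ (R : Subgroup ↥(Subgroup.centralizer ({x} : Set G)))) := by
  obtain ⟨⟨T, hT, hTS⟩, ⟨Q, hQS, ⟨eQ⟩⟩⟩ := qd_exists_klein_quat (S : Subgroup G) hS
  obtain ⟨h₁, -⟩ := qd_six_six_of_no_index_two S hS hG T hT hTS Q hQS eQ
  obtain ⟨k, ι, hinj, hrange⟩ := exists_coord (S : Subgroup G) hS
  obtain ⟨c, hc⟩ := isConj_iff.mp (isConj_zS_of_six S ι hinj hrange T hT hTS h₁ x hx)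
  -- `c * x * c⁻¹ = z`
  set S' : Sylow 2 G := MulAut.conj c⁻¹ • S with hS'def
  have hS'coe : (S' : Subgroup G) = MulAut.conj c⁻¹ • (S : Subgroup G) := rfl
  have hS' : Cfsg.IsQuasiDihedral ↥(S' : Subgroup G) :=
    isQuasiDihedral_of_equiv (Subgroup.equivSMul (MulAut.conj c⁻¹) (S : Subgroup G)) hS
  have hmem : ∀ s' ∈ (S' : Subgroup G), ∃ s ∈ (S : Subgroup G), s' = c⁻¹ * s * c := by
    intro s' hs'
    rw [hS'coe, Subgroup.mem_smul_pointwise_iff_exists] at hs'
    obtain ⟨s, hs, rfl⟩ := hs'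
    refine ⟨s, hs, ?_⟩
    rw [MulAut.smul_def, MulAut.conj_apply, inv_inv]
  have hxe : x = c⁻¹ * ι ⟨hN k, false⟩ * c := by rw [← hc]; group
  have hzS : ι ⟨hN k, false⟩ ∈ (S : Subgroup G) := hrange ▸ ⟨_, rfl⟩
  have hxS' : x ∈ (S' : Subgroup G) := by
    rw [hS'coe, Subgroup.mem_smul_pointwise_iff_exists]
    refine ⟨_, hzS, ?_⟩
    rw [MulAut.smul_def, MulAut.conj_apply, inv_inv, hxe]
  have hxc' : ∀ s' ∈ (S' : Subgroup G), s' * x = x * s' := by
    intro s' hs'
    obtain ⟨s, hs, rfl⟩ := hmem s' hs'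
    have h1 := commute_zS S ι hinj hrange s hs
    have h2 : s * ι ⟨hN k, false⟩ = ι ⟨hN k, false⟩ * s := by
      calc s * ι ⟨hN k, false⟩ = (s * ι ⟨hN k, false⟩ * s⁻¹) * s := by group
        _ = ι ⟨hN k, false⟩ * s := by rw [h1]
    rw [hxe]
    calc c⁻¹ * s * c * (c⁻¹ * ι ⟨hN k, false⟩ * c) = c⁻¹ * (s * ι ⟨hN k, false⟩) * c := by group
      _ = c⁻¹ * (ι ⟨hN k, false⟩ * s) * c := by rw [h2]
      _ = c⁻¹ * ι ⟨hN k, false⟩ * c * (c⁻¹ * s * c) := by group
  obtain ⟨R, hRcard, hrest⟩ := qd_centralizer_aux S' hS' hG x hx hxS' hxc'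
  refine ⟨R, ?_, hrest⟩
  haveI : Fact (Nat.Prime 2) := ⟨Nat.prime_two⟩
  rw [hRcard, Sylow.card_eq_multiplicity S', Sylow.card_eq_multiplicity S]

end main2

end Cfsg.Agent.Helper20
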