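import Mathlib

set_option autoImplicit false
set_option linter.unusedSectionVars false
set_option linter.unusedSimpArgs false
set_option linter.unusedVariables false

namespace Cfsg.Agent.Helper20

open Subgroup MonoidHom

/-- the transfer of a fusion-invariant homomorphism is its `|G : H|`-th power on `H` -/
theorem transfer_eq_pow_of_invariant {G : Type*} [Group G] (H : Subgroup G) [H.FiniteIndex]
    {A : Type*} [CommGroup A] (ϕ : H →* A)
    (hinv : ∀ (a : H) (g : G) (hg : g⁻¹ * (a : G) * g ∈ H), ϕ ⟨g⁻¹ * a * g, hg⟩ = ϕ a)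
    (x : H) : transfer ϕ (x : G) = ϕ x ^ H.index := by
  classical
  have : Fintype (Quotient (MulAction.orbitRel (Subgroup.zpowers (x : G)) (G ⧸ H))) :=
    Fintype.ofFinite _
  rw [transfer_eq_prod_quotient_orbitRel_zpowers_quot]
  have hterm : ∀ q : Quotient (MulAction.orbitRel (Subgroup.zpowers (x : G)) (G ⧸ H)),
      ϕ ⟨q.out.out⁻¹ * (x : G) ^ Function.minimalPeriod ((x : G) • ·) q.out * q.out.out,
          QuotientGroup.out_conj_pow_minimalPeriod_mem H (x : G) q.out⟩
        = ϕ x ^ Function.minimalPeriod ((x : G) • ·) q.out := by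
    intro q
    have h1 := hinv (x ^ Function.minimalPeriod ((x : G) • ·) q.out) q.out.out
      (by rw [Subgroup.coe_pow]
          exact QuotientGroup.out_conj_pow_minimalPeriod_mem H (x : G) q.out)
    rw [map_pow] at h1
    rw [← h1]
    congr 1
  rw [Finset.prod_congr rfl (fun q _ => hterm q), Finset.prod_pow_eq_pow_sum,
    ← Subgroup.index_eq_sum_minimalPeriod]

end Cfsg.Agent.Helper20
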