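import Mathlib
import Cfsg.Agent.Lib.Helper20.OddAut
import Cfsg.Agent.Lib.Helper20.QDFus

set_option autoImplicit false
set_option linter.unusedSectionVars false
set_option linter.unusedSimpArgs false
set_option linter.unusedVariables false

namespace Cfsg.Agent.Helper20

/-- an odd order automorphism of an abelian `2`-group fixing all involutions is trivial -/
theorem aut_trivial_of_omega {U : Type*} [Group U] (hcomm : ∀ a b : U, a * b = b * a)
    (hU : IsPGroup 2 U) (β : MulAut U) (hβ : (orderOf β).Coprime 2)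
    (h : ∀ u : U, u ^ 2 = 1 → β u = u) : β = 1 := by
  have key : ∀ j : ℕ, ∀ u : U, u ^ 2 ^ j = 1 → β u = u := by
    intro j
    induction j with
    | zero =>
      intro u hu
      rw [pow_zero, pow_one] at hu
      rw [hu, map_one]
    | succ j ih =>
      intro u hu
      have h1 : (u ^ 2) ^ 2 ^ j = 1 := by rw [← pow_mul, ← pow_succ']; exact hu
      have h2 : β (u ^ 2) = u ^ 2 := ih _ h1
      have hw2 : (u⁻¹ * β u) ^ 2 = 1 := by
        rw [pow_two]
        calc u⁻¹ * β u * (u⁻¹ * β u) = u⁻¹ * (β u * u⁻¹) * β u := by group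
          _ = u⁻¹ * (u⁻¹ * β u) * β u := by rw [hcomm (β u) u⁻¹]
          _ = (u ^ 2)⁻¹ * (β u) ^ 2 := by
            rw [pow_two, pow_two, mul_inv_rev]; simp only [mul_assoc]
          _ = (u ^ 2)⁻¹ * β (u ^ 2) := by rw [map_pow]
          _ = 1 := by rw [h2, inv_mul_cancel]
      have hw : β (u⁻¹ * β u) = u⁻¹ * β u := h _ hw2
      have hy : β u = u * (u⁻¹ * β u) := by group
      have h5 : ∀ k : ℕ, (β ^ k) u = u * (u⁻¹ * β u) ^ k := by
        intro k
        induction k with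
        | zero => simp
        | succ k ih2 =>
          rw [pow_succ', MulAut.mul_apply, ih2, map_mul, map_pow, hw, pow_succ', ← mul_assoc, ← hy]
      have h6 := h5 (orderOf β)
      rw [pow_orderOf_eq_one, MulAut.one_apply] at h6
      have h7 : (u⁻¹ * β u) ^ orderOf β = 1 := by
        have := h6.symm
        rwa [mul_eq_left] at this
      have h8 : orderOf (u⁻¹ * β u) ∣ orderOf β := orderOf_dvd_of_pow_eq_one h7
      have h9 : orderOf (u⁻¹ * β u) ∣ 2 := orderOf_dvd_of_pow_eq_one hw2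
      have h10 : orderOf (u⁻¹ * β u) = 1 :=
        Nat.Coprime.eq_one_of_dvd (Nat.Coprime.coprime_dvd_left h8 hβ) h9
      have h11 : u⁻¹ * β u = 1 := orderOf_eq_one_iff.mp h10
      exact (inv_mul_eq_one.mp h11).symm
  ext u
  obtain ⟨j, hj⟩ := hU u
  rw [MulAut.one_apply]
  exact key j u hj

/-- an element of odd order normalizing an abelian `2`-subgroup and centralizing its involutions
centralizes it -/
theorem mem_centralizer_of_odd_of_omega {G : Type*} [Group G] (U : Subgroup G)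
    (hcomm : ∀ a ∈ U, ∀ b ∈ U, a * b = b * a) (hU : IsPGroup 2 U) (g : G)
    (hg : g ∈ Subgroup.normalizer (U : Set G)) (hodd : (orderOf g).Coprime 2)
    (h : ∀ u ∈ U, u ^ 2 = 1 → g * u * g⁻¹ = u) : g ∈ Subgroup.centralizer (U : Set G) := by
  have h1 : orderOf (U.normalizerMonoidHom ⟨g, hg⟩) ∣ orderOf g := by
    have := orderOf_map_dvd U.normalizerMonoidHom (⟨g, hg⟩ : ↥(Subgroup.normalizer (U : Set G)))
    rwa [Subgroup.orderOf_mk] at this
  have h2 : U.normalizerMonoidHom ⟨g, hg⟩ = 1 := by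
    apply aut_trivial_of_omega (fun a b => Subtype.ext (hcomm a a.2 b b.2)) hU _
      (Nat.Coprime.coprime_dvd_left h1 hodd)
    intro u hu
    apply Subtype.ext
    rw [Subgroup.normalizerMonoidHom_apply_apply_coe]
    apply h u u.2
    have := congrArg Subtype.val hu
    simpa using this
  have h3 : (⟨g, hg⟩ : ↥(Subgroup.normalizer (U : Set G))) ∈ U.normalizerMonoidHom.ker := h2
  rw [Subgroup.normalizerMonoidHom_ker] at h3
  exact Subgroup.mem_subgroupOf.mp h3

/-- an element of odd order acting trivially on `V/Z` and on `Z` (a `2`-group) centralizes `V` -/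
theorem mem_centralizer_of_odd_of_chain {G : Type*} [Group G] (V Z : Subgroup G)
    (hZ : IsPGroup 2 Z) (g : G) (hodd : (orderOf g).Coprime 2)
    (hgZ : g ∈ Subgroup.centralizer (Z : Set G))
    (h : ∀ v ∈ V, v⁻¹ * (g * v * g⁻¹) ∈ Z) : g ∈ Subgroup.centralizer (V : Set G) := by
  rw [Subgroup.mem_centralizer_iff]
  intro v hv
  have hw := h v hv
  set w := v⁻¹ * (g * v * g⁻¹) with hwdef
  have hgw : g * w = w * g := ((Subgroup.mem_centralizer_iff.mp hgZ) w hw).symm
  have hgv : g * v * g⁻¹ = v * w := by rw [hwdef]; group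
  have h5 : ∀ k : ℕ, g ^ k * v * (g ^ k)⁻¹ = v * w ^ k := by
    intro k
    induction k with
    | zero => simp
    | succ k ih =>
      have hgwk : g * w ^ k * g⁻¹ = w ^ k := by
        have : Commute g (w ^ k) := (show Commute g w from hgw).pow_right k
        rw [this.eq, mul_inv_cancel_right]
      calc g ^ (k + 1) * v * (g ^ (k + 1))⁻¹ = g * (g ^ k * v * (g ^ k)⁻¹) * g⁻¹ := by
            rw [pow_succ']; group
        _ = g * (v * w ^ k) * g⁻¹ := by rw [ih]
        _ = (g * v * g⁻¹) * (g * w ^ k * g⁻¹) := by group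
        _ = v * w * w ^ k := by rw [hgv, hgwk]
        _ = v * w ^ (k + 1) := by rw [pow_succ', mul_assoc]
  have h6 := h5 (orderOf g)
  rw [pow_orderOf_eq_one] at h6
  have h7 : w ^ orderOf g = 1 := by
    have : v = v * w ^ orderOf g := by simpa using h6
    have := this.symm
    rwa [mul_eq_left] at this
  obtain ⟨j, hj⟩ := hZ ⟨w, hw⟩
  have hj' : w ^ 2 ^ j = 1 := by
    have := congrArg Subtype.val hj
    simpa using this
  have h8 : orderOf w = 1 :=
    Nat.Coprime.eq_one_of_dvd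
      (Nat.Coprime.pow_right j (Nat.Coprime.coprime_dvd_left (orderOf_dvd_of_pow_eq_one h7) hodd))
      (orderOf_dvd_of_pow_eq_one hj')
  have h9 : w = 1 := orderOf_eq_one_iff.mp h8
  rw [h9, mul_one] at hgv
  calc v * g = (g * v * g⁻¹) * g := by rw [hgv]
    _ = g * v := by group

/-- decomposition of an element of finite order into its `2`-part and its odd part -/
theorem exists_two_odd_decomp {G : Type*} [Group G] (g : G) (hg : 0 < orderOf g) :
    ∃ k h : G, g = k * h ∧ k ∈ Subgroup.zpowers g ∧ h ∈ Subgroup.zpowers g ∧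
      (∃ e : ℕ, k ^ 2 ^ e = 1) ∧ (orderOf h).Coprime 2 := by
  obtain ⟨e, m, hm, hn⟩ := Nat.exists_eq_two_pow_mul_odd (n := orderOf g) hg.ne'
  have hcop : Nat.Coprime (2 ^ e) m := Nat.Coprime.pow_left e (Nat.coprime_two_left.mpr hm)
  have hbez := Nat.gcd_eq_gcd_ab (2 ^ e) m
  rw [hcop.gcd_eq_one] at hbez
  -- 1 = 2^e * a + m * b
  set a := Nat.gcdA (2 ^ e) m
  set b := Nat.gcdB (2 ^ e) m
  refine ⟨g ^ ((m : ℤ) * b), g ^ ((2 ^ e : ℕ) * a : ℤ), ?_, ⟨_, rfl⟩, ⟨_, rfl⟩, ⟨e, ?_⟩, ?_⟩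
  · rw [← zpow_add]
    have : (m : ℤ) * b + ((2 ^ e : ℕ) : ℤ) * a = 1 := by
      rw [add_comm]; exact_mod_cast hbez.symm
    rw [this, zpow_one]
  · rw [← zpow_natCast, ← zpow_mul]
    have : (m : ℤ) * b * ((2 ^ e : ℕ) : ℤ) = ((orderOf g : ℕ) : ℤ) * b := by
      rw [hn]; push_cast; ring
    rw [this, zpow_mul, zpow_natCast, pow_orderOf_eq_one, one_zpow]
  · have h1 : (g ^ (((2 ^ e : ℕ) : ℤ) * a)) ^ m = 1 := by
      rw [← zpow_natCast, ← zpow_mul]
      have : ((2 ^ e : ℕ) : ℤ) * a * (m : ℤ) = ((orderOf g : ℕ) : ℤ) * a := by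
        rw [hn]; push_cast; ring
      rw [this, zpow_mul, zpow_natCast, pow_orderOf_eq_one, one_zpow]
    exact Nat.Coprime.coprime_dvd_left (orderOf_dvd_of_pow_eq_one h1)
      (Nat.coprime_two_right.mpr hm)

/-- Sylow's theorem inside a subgroup containing the Sylow subgroup -/
theorem exists_conj_mem_of_le {G : Type*} [Group G] [Finite G] {p : ℕ} [Fact p.Prime]
    (S : Sylow p G) (N : Subgroup G) (hSN : (S : Subgroup G) ≤ N) (k : G) (hk : k ∈ N)
    (hkp : ∃ e : ℕ, k ^ p ^ e = 1) : ∃ r ∈ N, r * k * r⁻¹ ∈ (S : Subgroup G) := by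
  obtain ⟨e, he⟩ := hkp
  have hz : IsPGroup p (Subgroup.zpowers (⟨k, hk⟩ : ↥N)) := by
    obtain ⟨j, -, hj⟩ := (Nat.dvd_prime_pow (Fact.out : p.Prime)).mp (orderOf_dvd_of_pow_eq_one he)
    apply IsPGroup.of_card (n := j)
    rw [Nat.card_zpowers, Subgroup.orderOf_mk, hj]
  obtain ⟨P, hP⟩ := hz.exists_le_sylow
  obtain ⟨r, hr⟩ := MulAction.exists_smul_eq ↥N P (S.subtype hSN)
  refine ⟨r.1, r.2, ?_⟩
  have h1 : r * ⟨k, hk⟩ * r⁻¹ ∈ ((r • P : Sylow p ↥N) : Subgroup ↥N) := by
    rw [Cfsg.Agent.Helper2.mem_smul_sylow_iff]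
    have : r⁻¹ * (r * ⟨k, hk⟩ * r⁻¹) * r = ⟨k, hk⟩ := by group
    rw [this]
    exact hP (Subgroup.mem_zpowers _)
  rw [hr, Sylow.coe_subtype, Subgroup.mem_subgroupOf] at h1
  simpa using h1

end Cfsg.Agent.Helper20
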