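import Mathlib
import Cfsg.Agent.Lib.Helper98.WrKlein
import Cfsg.Agent.Lib.Helper98.WrSubgroups
import Cfsg.Agent.Lib.Helper98.WrFacts
import Cfsg.Agent.Lib.Helper20.LocalIdx

set_option autoImplicit false
set_option linter.unusedSectionVars false
set_option linter.unusedSimpArgs false
set_option linter.unusedVariables false

namespace Cfsg.Agent.Helper20

open Cfsg.Agent.Helper98

namespace WrM

section general
variable {N : ℕ}

/-- the twisted subgroups `{(a, b, e) | m (a - b - e δ) = 0}` of the wreathed group -/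
def Tw (m δ : ZMod N) : Subgroup (Wr N) where
  carrier := {p | m * (p.a - p.b - (if p.e then δ else 0)) = 0}
  one_mem' := by simp
  mul_mem' := by
    rintro ⟨a, b, e⟩ ⟨c, d, f⟩ h1 h2
    simp only [Set.mem_ofPred_eq] at h1 h2 ⊢
    cases e <;> cases f <;>
      simp only [Wr.mk_mul_mk_false, Wr.mk_mul_mk_true, Bool.not_true, Bool.not_false, if_true,
        Bool.false_eq_true, if_false, sub_zero] at h1 h2 ⊢
    · linear_combination h1 + h2
    · linear_combination h1 + h2
    · linear_combination h1 - h2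
    · linear_combination h1 - h2
  inv_mem' := by
    rintro ⟨a, b, e⟩ h1
    simp only [Set.mem_ofPred_eq] at h1 ⊢
    cases e <;>
      simp only [Wr.inv_mk_false, Wr.inv_mk_true, if_true, Bool.false_eq_true, if_false,
        sub_zero] at h1 ⊢
    · linear_combination -h1
    · linear_combination h1

theorem mem_Tw (m δ : ZMod N) (p : Wr N) :
    p ∈ Tw m δ ↔ m * (p.a - p.b - (if p.e then δ else 0)) = 0 := Iff.rfl

theorem diag_le_Tw (m δ : ZMod N) : Wr.diag N ≤ Tw m δ := by
  rintro ⟨a, b, e⟩ ⟨he, hab⟩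
  simp only at he hab
  subst he hab
  rw [mem_Tw]
  simp

theorem refl_mem_Tw (m δ : ZMod N) : (⟨δ, 0, true⟩ : Wr N) ∈ Tw m δ := by
  rw [mem_Tw]; simp

/-- an element acting trivially modulo the centre on the reflection `(δ, 0, true)` lies in `Tw 2 δ` -/
theorem mem_Tw_of_trivial_mod (δ : ZMod N) (p : Wr N)
    (h : (⟨δ, 0, true⟩ : Wr N)⁻¹ * (p * ⟨δ, 0, true⟩ * p⁻¹) ∈ Wr.diag N) : p ∈ Tw 2 δ := by
  rcases p with ⟨c, d, e⟩
  rw [Wr.mem_diag] at h
  rw [mem_Tw]
  cases e
  · simp only [Wr.inv_mk_true, Wr.inv_mk_false, Wr.mk_mul_mk_false, Wr.mk_mul_mk_true,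
      Bool.not_true, Bool.not_false, Bool.false_eq_true, if_false, sub_zero] at h ⊢
    linear_combination -h.2
  · simp only [Wr.inv_mk_true, Wr.inv_mk_false, Wr.mk_mul_mk_false, Wr.mk_mul_mk_true,
      Bool.not_true, Bool.not_false, if_true] at h ⊢
    linear_combination -h.2

/-- base elements `(c, d)` with `4 (c - d) = 0` normalize `Tw 2 δ` -/
theorem conj_mem_Tw_two (δ c d : ZMod N) (hcd : 4 * (c - d) = 0) (p : Wr N) (hp : p ∈ Tw 2 δ) :
    (⟨c, d, false⟩ : Wr N) * p * (⟨c, d, false⟩ : Wr N)⁻¹ ∈ Tw 2 δ := by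
  rcases p with ⟨a, b, e⟩
  rw [mem_Tw] at hp ⊢
  cases e
  · simp only [Wr.inv_mk_false, Wr.mk_mul_mk_false, Bool.false_eq_true, if_false, sub_zero] at hp ⊢
    linear_combination hp
  · simp only [Wr.inv_mk_false, Wr.mk_mul_mk_false, Wr.mk_mul_mk_true, Bool.not_false,
      if_true] at hp ⊢
    linear_combination hp + hcd

theorem mem_normalizer_Tw_two (δ c d : ZMod N) (hcd : 4 * (c - d) = 0) :
    (⟨c, d, false⟩ : Wr N) ∈ Subgroup.normalizer ((Tw 2 δ : Subgroup (Wr N)) : Set (Wr N)) := by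
  rw [Subgroup.mem_normalizer_iff]
  intro p
  constructor
  · exact conj_mem_Tw_two δ c d hcd p
  · intro hp
    have h1 := conj_mem_Tw_two δ (-c) (-d) (by linear_combination -hcd) _ hp
    have h2 : (⟨-c, -d, false⟩ : Wr N) = (⟨c, d, false⟩ : Wr N)⁻¹ := rfl
    rw [h2] at h1
    have h3 : (⟨c, d, false⟩ : Wr N)⁻¹ * ((⟨c, d, false⟩ : Wr N) * p * (⟨c, d, false⟩ : Wr N)⁻¹) *
        (⟨c, d, false⟩ : Wr N)⁻¹⁻¹ = p := by group
    rwa [h3] at h1

end general

section half
variable {M : ℕ} [NeZero M]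

theorem two_mul_eq_zero_iff' (x : ZMod (2 * M)) : 2 * x = 0 ↔ x = 0 ∨ x = (M : ZMod (2 * M)) := by
  have h : (2 : ZMod (2 * M)) * x = x + x := two_mul x
  rw [h]; exact zmod_add_self_eq_zero_iff x

theorem two_mul_half : (2 : ZMod (2 * M)) * (M : ZMod (2 * M)) = 0 := by
  rw [two_mul_eq_zero_iff']; right; rfl

/-- an element centralizing the normal four-group lies in the base group -/
theorem mem_base_of_commute_half (p : Wr (2 * M))
    (h : p * ⟨(M : ZMod (2 * M)), 0, false⟩ = ⟨(M : ZMod (2 * M)), 0, false⟩ * p) :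
    p ∈ Wr.base (2 * M) := by
  rcases p with ⟨a, b, e⟩
  rw [Wr.mem_base]
  cases e
  · rfl
  · exfalso
    simp only [Wr.mk_mul_mk_true, Wr.mk_mul_mk_false, Wr.mk.injEq, Bool.not_false, and_true] at h
    have : (M : ZMod (2 * M)) = 0 := by linear_combination -h.1
    exact zmod_half_ne_zero this

theorem half_mem_four : (⟨(M : ZMod (2 * M)), 0, false⟩ : Wr (2 * M)) ∈ Wr.four M := by
  rw [Wr.mem_four]
  refine ⟨rfl, ?_, by simp⟩
  rw [← two_mul]; exact two_mul_half

theorem half_add_half' : (M : ZMod (2 * M)) + (M : ZMod (2 * M)) = 0 := by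
  rw [← two_mul]; exact two_mul_half

/-- from an antidiagonal element of order four to the standard one -/
theorem q1_mem (X : Subgroup (Wr (2 * M))) (h A : ZMod (2 * M))
    (hh : 2 * h = (M : ZMod (2 * M))) (hA : 2 * A = (M : ZMod (2 * M)))
    (hmem : (⟨A, -A, false⟩ : Wr (2 * M)) ∈ X) : (⟨h, -h, false⟩ : Wr (2 * M)) ∈ X := by
  have h1 : 2 * (A - h) = 0 := by linear_combination hA - hh
  rcases (two_mul_eq_zero_iff' _).mp h1 with h2 | h2
  · have : A = h := sub_eq_zero.mp h2
    rw [← this]; exact hmem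
  · have h3 := X.inv_mem hmem
    rw [Wr.inv_mk_false, neg_neg] at h3
    have e1 : -A = h := by
      have : A = h + (M : ZMod (2 * M)) := by linear_combination h2
      rw [this]
      linear_combination (-1 : ZMod (2 * M)) * hh - (half_add_half' (M := M))
    rw [e1] at h3
    have e2 : A = -h := by rw [← e1, neg_neg]
    rw [e2] at h3
    exact h3

end half

/-- generators and relations of a quaternion subgroup of order eight -/
theorem quat8_data {G : Type*} [Group G] (Q : Subgroup G) (ψ : Q ≃* QuaternionGroup 2) :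
    ∃ u ∈ Q, ∃ v ∈ Q, ∃ z : G, z ≠ 1 ∧ u ^ 2 = z ∧ v ^ 2 = z ∧ (u * v) ^ 2 = z ∧ u * v ≠ v * u ∧
      ∀ X : Subgroup G, u ∈ X → v ∈ X → Q ≤ X := by
  have f1 : (QuaternionGroup.a 1 : QuaternionGroup 2) ^ 2 = QuaternionGroup.a 2 := by decide
  have f2 : (QuaternionGroup.xa 0 : QuaternionGroup 2) ^ 2 = QuaternionGroup.a 2 := by decide
  have f3 : ((QuaternionGroup.a 1 : QuaternionGroup 2) * QuaternionGroup.xa 0) ^ 2 =
      QuaternionGroup.a 2 := by decide
  have f4 : (QuaternionGroup.a 2 : QuaternionGroup 2) ≠ 1 := by decide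
  have f5 : (QuaternionGroup.a 1 : QuaternionGroup 2) * QuaternionGroup.xa 0 ≠
      QuaternionGroup.xa 0 * QuaternionGroup.a 1 := by decide
  refine ⟨(ψ.symm (QuaternionGroup.a 1) : G), (ψ.symm (QuaternionGroup.a 1)).2,
    (ψ.symm (QuaternionGroup.xa 0) : G), (ψ.symm (QuaternionGroup.xa 0)).2,
    (ψ.symm (QuaternionGroup.a 2) : G), ?_, ?_, ?_, ?_, ?_, ?_⟩
  · intro h
    apply f4
    have : ψ.symm (QuaternionGroup.a 2) = 1 := Subtype.ext h
    rw [← map_one ψ.symm] at this
    exact ψ.symm.injective this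
  · rw [← Subgroup.coe_pow, ← map_pow, f1]
  · rw [← Subgroup.coe_pow, ← map_pow, f2]
  · rw [← Subgroup.coe_mul, ← Subgroup.coe_pow, ← map_mul, ← map_pow, f3]
  · intro h
    apply f5
    have : ψ.symm (QuaternionGroup.a 1) * ψ.symm (QuaternionGroup.xa 0) =
        ψ.symm (QuaternionGroup.xa 0) * ψ.symm (QuaternionGroup.a 1) := Subtype.ext h
    rw [← map_mul, ← map_mul] at this
    exact ψ.symm.injective this
  · intro X hu hv p hp
    rcases quat_elems ψ ⟨p, hp⟩ with h | h | h | h | h | h | h | h <;>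
      (have h' := congrArg Subtype.val h
       simp only [Subgroup.coe_mul, Subgroup.coe_pow, Subgroup.coe_one] at h'
       rw [h'])
    · exact X.one_mem
    · exact hu
    · exact X.pow_mem hu 2
    · exact X.pow_mem hu 3
    · exact hv
    · exact X.mul_mem hv hu
    · exact X.mul_mem hv (X.pow_mem hu 2)
    · exact X.mul_mem hv (X.pow_mem hu 3)

section half2
variable {M : ℕ} [NeZero M]

/-- the structure of a quaternion subgroup of order eight of the wreathed group -/
theorem quat8_struct (Q : Subgroup (Wr (2 * M))) (ψ : Q ≃* QuaternionGroup 2) (h : ZMod (2 * M))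
    (hh : 2 * h = (M : ZMod (2 * M))) :
    (⟨h, -h, false⟩ : Wr (2 * M)) ∈ Q ∧ ∃ c d : ZMod (2 * M), (⟨c, d, true⟩ : Wr (2 * M)) ∈ Q ∧
      c + d = (M : ZMod (2 * M)) ∧ Q ≤ Tw 2 (c - d) := by
  obtain ⟨u, hu, v, hv, z, hz1, huz, hvz, huvz, hne, hgen⟩ := quat8_data Q ψ
  rcases u with ⟨a, b, e₁⟩
  rcases v with ⟨c, d, e₂⟩
  have hM2 := two_mul_half (M := M)
  cases e₁ <;> cases e₂
  · exfalso; apply hne
    simp [Wr.ext_iff, add_comm]
  · -- u in the base group, v outside
    rw [pow_two] at huz hvz huvz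
    simp only [Wr.mk_mul_mk_false, Wr.mk_mul_mk_true, Bool.not_true] at huz hvz huvz
    rw [← hvz] at huz huvz hz1
    simp only [Wr.mk.injEq, and_true] at huz huvz
    have hab : b = -a := by linear_combination huvz.1
    subst hab
    have h4 : 2 * (2 * a) = 0 := by linear_combination huz.1 - huz.2
    have h2a : 2 * a = (M : ZMod (2 * M)) := by
      rcases (two_mul_eq_zero_iff' _).mp h4 with h5 | h5
      · exfalso; apply hz1
        have h6 : c + d = 0 := by linear_combination -huz.1 + h5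
        have h7 : d + c = 0 := by rw [add_comm]; exact h6
        rw [h6, h7]; rfl
      · exact h5
    have hcd : c + d = (M : ZMod (2 * M)) := by linear_combination -huz.1 + h2a
    refine ⟨q1_mem Q h a hh h2a hu, c, d, hv, hcd, ?_⟩
    apply hgen
    · rw [mem_Tw]
      simp only [Bool.false_eq_true, if_false, sub_zero]
      linear_combination 2 * h2a + hM2
    · rw [mem_Tw]; simp
  · -- u outside the base group, v inside
    rw [pow_two] at huz hvz huvz
    simp only [Wr.mk_mul_mk_false, Wr.mk_mul_mk_true, Bool.not_true, Bool.not_false] at huz hvz huvz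
    rw [← huz] at hvz huvz hz1
    simp only [Wr.mk.injEq, and_true] at hvz huvz
    have hab : d = -c := by linear_combination huvz.1
    subst hab
    have h4 : 2 * (2 * c) = 0 := by linear_combination hvz.1 - hvz.2
    have h2a : 2 * c = (M : ZMod (2 * M)) := by
      rcases (two_mul_eq_zero_iff' _).mp h4 with h5 | h5
      · exfalso; apply hz1
        have h6 : a + b = 0 := by linear_combination -hvz.1 + h5
        have h7 : b + a = 0 := by rw [add_comm]; exact h6
        rw [h6, h7]; rfl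
      · exact h5
    have hcd : a + b = (M : ZMod (2 * M)) := by linear_combination -hvz.1 + h2a
    refine ⟨q1_mem Q h c hh h2a hv, a, b, hu, hcd, ?_⟩
    apply hgen
    · rw [mem_Tw]; simp
    · rw [mem_Tw]
      simp only [Bool.false_eq_true, if_false, sub_zero]
      linear_combination 2 * h2a + hM2
  · -- both outside the base group
    rw [pow_two] at huz hvz huvz
    simp only [Wr.mk_mul_mk_false, Wr.mk_mul_mk_true, Bool.not_true, Bool.not_false] at huz hvz huvz
    rw [← huz] at hvz huvz hz1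
    simp only [Wr.mk.injEq, and_true] at hvz huvz
    -- uv = (a + d, b + c, false)
    have hs2 : 2 * (a + b) = 0 := by linear_combination huvz.1 + huvz.2 - 2 * hvz.1
    have hs : a + b = (M : ZMod (2 * M)) := by
      rcases (two_mul_eq_zero_iff' _).mp hs2 with h5 | h5
      · exfalso; apply hz1
        have h7 : b + a = 0 := by rw [add_comm]; exact h5
        rw [h5, h7]; rfl
      · exact h5
    have hA : 2 * (a + d) = (M : ZMod (2 * M)) := by linear_combination huvz.1 + hs
    have hB : b + c = -(a + d) := by linear_combination 2 * hs + hvz.1 + hM2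
    have huv : (⟨a + d, -(a + d), false⟩ : Wr (2 * M)) ∈ Q := by
      have := Q.mul_mem hu hv
      simp only [Wr.mk_mul_mk_true, Bool.not_true] at this
      rwa [hB] at this
    refine ⟨q1_mem Q h (a + d) hh hA huv, a, b, hu, hs, ?_⟩
    apply hgen
    · rw [mem_Tw]; simp
    · rw [mem_Tw]
      simp only [if_true]
      linear_combination 2 * hB - 2 * hA - hM2

theorem Tw_two_le (X : Subgroup (Wr (2 * M))) (h : ZMod (2 * M))
    (hh : 2 * h = (M : ZMod (2 * M))) (c d : ZMod (2 * M))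
    (hq : (⟨h, -h, false⟩ : Wr (2 * M)) ∈ X) (hβ : (⟨c, d, true⟩ : Wr (2 * M)) ∈ X)
    (hdiag : Wr.diag (2 * M) ≤ X) : Tw 2 (c - d) ≤ X := by
  have hbase : ∀ a b : ZMod (2 * M), 2 * (a - b) = 0 → (⟨a, b, false⟩ : Wr (2 * M)) ∈ X := by
    intro a b hab
    rcases (two_mul_eq_zero_iff' _).mp hab with h1 | h1
    · apply hdiag
      exact ⟨rfl, sub_eq_zero.mp h1⟩
    · have h2 : (⟨b + h, b + h, false⟩ : Wr (2 * M)) ∈ X := hdiag ⟨rfl, rfl⟩
      have h3 := X.mul_mem hq h2
      rw [Wr.mk_mul_mk_false] at h3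
      have e1 : h + (b + h) = a := by linear_combination hh - h1
      have e2 : -h + (b + h) = b := by ring
      rwa [e1, e2] at h3
  rintro ⟨a, b, e⟩ hp
  rw [mem_Tw] at hp
  cases e
  · simp only [Bool.false_eq_true, if_false, sub_zero] at hp
    exact hbase a b hp
  · simp only [if_true] at hp
    have h1 := hbase (a - c) (b - d) (by linear_combination hp)
    have h2 := X.mul_mem h1 hβ
    rw [Wr.mk_mul_mk_false] at h2
    simpa using h2

/-- `Q Z(S) = Tw 2 δ` for a quaternion subgroup `Q` of order eight -/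
theorem quat8_sup_diag (Q : Subgroup (Wr (2 * M))) (ψ : Q ≃* QuaternionGroup 2) (h : ZMod (2 * M))
    (hh : 2 * h = (M : ZMod (2 * M))) :
    ∃ δ : ZMod (2 * M), Q ⊔ Wr.diag (2 * M) = Tw 2 δ := by
  obtain ⟨hq, c, d, hβ, hcd, hle⟩ := quat8_struct Q ψ h hh
  refine ⟨c - d, le_antisymm (sup_le hle (diag_le_Tw _ _)) ?_⟩
  exact Tw_two_le _ h hh c d (Subgroup.mem_sup_left hq) (Subgroup.mem_sup_left hβ) le_sup_right

theorem q1_mem_Tw (h δ : ZMod (2 * M)) (hh : 2 * h = (M : ZMod (2 * M))) :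
    (⟨h, -h, false⟩ : Wr (2 * M)) ∈ Tw 2 δ := by
  rw [mem_Tw]
  simp only [Bool.false_eq_true, if_false, sub_zero]
  linear_combination 2 * hh + two_mul_half (M := M)

/-- the centralizer of a subgroup containing `q₁` and an element outside the base group is central -/
theorem centralizer_le_diag (X : Subgroup (Wr (2 * M))) (h : ZMod (2 * M))
    (hh : 2 * h = (M : ZMod (2 * M))) (hq : (⟨h, -h, false⟩ : Wr (2 * M)) ∈ X)
    (c d : ZMod (2 * M)) (hβ : (⟨c, d, true⟩ : Wr (2 * M)) ∈ X) :
    Subgroup.centralizer (X : Set (Wr (2 * M))) ≤ Wr.diag (2 * M) := by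
  intro p hp
  rw [Subgroup.mem_centralizer_iff] at hp
  have h1 := hp _ hq
  have h2 := hp _ hβ
  have hpb : p ∈ Wr.base (2 * M) := by
    rcases p with ⟨a, b, e⟩
    rw [Wr.mem_base]
    cases e
    · rfl
    · exfalso
      simp only [Wr.mk_mul_mk_true, Wr.mk_mul_mk_false, Wr.mk.injEq, Bool.not_false, and_true] at h1
      have : (M : ZMod (2 * M)) = 0 := by linear_combination h1.1 - hh
      exact zmod_half_ne_zero this
  exact Wr.mem_diag_of_commute hpb (by rw [Wr.mem_base]; simp) h2.symm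

theorem quarter_not_mem_Tw (h δ : ZMod (2 * M)) (hh : 2 * h = (M : ZMod (2 * M))) :
    (⟨h, 0, false⟩ : Wr (2 * M)) ∉ Tw 2 δ := by
  rw [mem_Tw]
  simp only [Bool.false_eq_true, if_false, sub_zero]
  rw [hh]
  exact zmod_half_ne_zero

theorem quarter_mem_normalizer (h δ : ZMod (2 * M)) (hh : 2 * h = (M : ZMod (2 * M))) :
    (⟨h, 0, false⟩ : Wr (2 * M)) ∈
      Subgroup.normalizer ((Tw 2 δ : Subgroup (Wr (2 * M))) : Set (Wr (2 * M))) := by
  apply mem_normalizer_Tw_two
  linear_combination 2 * hh + two_mul_half (M := M)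

theorem centralizer_Tw_le_diag (h δ : ZMod (2 * M)) (hh : 2 * h = (M : ZMod (2 * M))) :
    Subgroup.centralizer ((Tw 2 δ : Subgroup (Wr (2 * M))) : Set (Wr (2 * M))) ≤ Wr.diag (2 * M) :=
  centralizer_le_diag _ h hh (q1_mem_Tw h δ hh) δ 0 (refl_mem_Tw 2 δ)

end half2

end WrM

end Cfsg.Agent.Helper20
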