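import Mathlib
import Cfsg.Prelude.Def_CaseTheorems
import Cfsg.Agent.Lib.Helper98.Wreathed
import Cfsg.Agent.Lib.Helper20.WrA
import Cfsg.Agent.Lib.Helper20.WrB
import Cfsg.Agent.Lib.Helper20.FrobQD

set_option autoImplicit false
set_option linter.unusedSectionVars false
set_option linter.unusedSimpArgs false
set_option linter.unusedVariables false

namespace Cfsg.Agent.Helper20

open Cfsg.Agent.Helper98

/-- coordinates on a wreathed Sylow subgroup -/
theorem exists_wr_coord {G : Type*} [Group G] (S : Subgroup G) (hS : Cfsg.IsWreathed ↥S) :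
    ∃ n : ℕ, 2 ≤ n ∧ Nat.card S = 2 ^ (2 * n + 1) ∧
      ∃ ι : Wr (2 * 2 ^ (n - 1)) →* G, Function.Injective ι ∧ ι.range = S := by
  obtain ⟨n, x, y, z, hn, D⟩ := exists_wrData hS
  have hNM : 2 ^ n = 2 * 2 ^ (n - 1) := two_pow_eq_two_mul (by omega)
  set φ : Wr (2 * 2 ^ (n - 1)) ≃* ↥S := (Wr.castEquiv hNM).symm.trans D.iso with hφ
  refine ⟨n, hn, D.card, S.subtype.comp φ.toMonoidHom, ?_, ?_⟩
  · exact (Subgroup.subtype_injective _).comp φ.injective
  · rw [MonoidHom.range_comp, MonoidHom.range_eq_top.mpr φ.surjective,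
      ← MonoidHom.range_eq_map, Subgroup.range_subtype]

section coord
variable {G : Type*} [Group G] [Finite G] (S : Sylow 2 G) {M : ℕ} [NeZero M]
  (ι : Wr (2 * M) →* G) (hinj : Function.Injective ι) (hrange : ι.range = (S : Subgroup G))

include hinj hrange

theorem wr_mem_S (p : Wr (2 * M)) : ι p ∈ (S : Subgroup G) := hrange ▸ ⟨p, rfl⟩

/-- the image of a normal subgroup of the model is normalized by `S` -/
theorem le_normalizer_map_of_normal (X : Subgroup (Wr (2 * M))) [hX : X.Normal] :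
    (S : Subgroup G) ≤ Subgroup.normalizer ((X.map ι : Subgroup G) : Set G) := by
  intro s hs
  rw [← hrange] at hs
  obtain ⟨s', rfl⟩ := hs
  apply mem_normalizer_of_map_conj_eq
  rw [← map_conj_map_hom]
  congr 1
  exact map_conj_eq_of_mem_normalizer X s' (by rw [Subgroup.normalizer_eq_top]; exact Subgroup.mem_top _)

theorem base_map_comm (a b : G) (ha : a ∈ (Wr.base (2 * M)).map ι)
    (hb : b ∈ (Wr.base (2 * M)).map ι) : a * b = b * a := by
  obtain ⟨a', ha', rfl⟩ := ha
  obtain ⟨b', hb', rfl⟩ := hb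
  rw [← map_mul, ← map_mul, Wr.base_mul_comm ha' hb']

/-- involutions of `U` lie in the four-group -/
theorem mem_four_map_of_sq (u : G) (hu : u ∈ (Wr.base (2 * M)).map ι) (h2 : u ^ 2 = 1) :
    u ∈ (Wr.four M).map ι := by
  obtain ⟨u', hu', rfl⟩ := hu
  refine ⟨u', Wr.mem_four_of_sq hu' ?_, rfl⟩
  apply hinj
  rw [map_mul, map_one, ← pow_two, h2]

theorem normalizer_base_le_normalizer_four :
    Subgroup.normalizer (((Wr.base (2 * M)).map ι : Subgroup G) : Set G) ≤
      Subgroup.normalizer (((Wr.four M).map ι : Subgroup G) : Set G) := by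
  intro g hg
  apply mem_normalizer_of_map_conj_eq
  apply Subgroup.eq_of_le_of_card_ge
  · rintro _ ⟨w, hw, rfl⟩
    have hwU : w ∈ (Wr.base (2 * M)).map ι := Subgroup.map_mono Wr.four_le_base hw
    apply mem_four_map_of_sq S ι hinj hrange
    · exact (Subgroup.mem_normalizer_iff.mp hg w).mp hwU
    · obtain ⟨w', hw', rfl⟩ := hw
      have h1 : ι w' ^ 2 = 1 := by
        rw [pow_two, ← map_mul, Wr.four_sq hw', map_one]
      show (g * ι w' * g⁻¹) ^ 2 = 1
      rw [pow_two]
      calc g * ι w' * g⁻¹ * (g * ι w' * g⁻¹) = g * (ι w' ^ 2) * g⁻¹ := by rw [pow_two]; group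
        _ = 1 := by rw [h1]; group
  · exact le_of_eq (Nat.card_congr
      (Subgroup.equivMapOfInjective _ _ (MulAut.conj g).injective).toEquiv)

/-- elements of `N_G(U)` centralizing the involutions of `U` centralize `U` -/
theorem mem_centralizer_base_of_four (g : G)
    (hg : g ∈ Subgroup.normalizer (((Wr.base (2 * M)).map ι : Subgroup G) : Set G))
    (hgc : g ∈ Subgroup.centralizer (((Wr.four M).map ι : Subgroup G) : Set G)) :
    g ∈ Subgroup.centralizer (((Wr.base (2 * M)).map ι : Subgroup G) : Set G) := by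
  set U := (Wr.base (2 * M)).map ι with hU
  set Ω := (Wr.four M).map ι with hΩ
  have hU2 : IsPGroup 2 U := S.isPGroup'.to_le (by
    rw [← hrange]; rintro _ ⟨p, -, rfl⟩; exact ⟨p, rfl⟩)
  obtain ⟨k, h', hgk, hk, hh', ⟨e, hke⟩, hodd⟩ := exists_two_odd_decomp g (orderOf_pos g)
  have hzle : Subgroup.zpowers g ≤ Subgroup.normalizer (U : Set G) ⊓
      Subgroup.centralizer (Ω : Set G) := by
    rw [Subgroup.zpowers_le]; exact ⟨hg, hgc⟩
  have hh'c : h' ∈ Subgroup.centralizer (U : Set G) := by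
    apply mem_centralizer_of_odd_of_omega U
      (fun a ha b hb => base_map_comm S ι hinj hrange a b ha hb) hU2 h' (hzle hh').1 hodd
    intro u hu hu2
    have huΩ := mem_four_map_of_sq S ι hinj hrange u hu hu2
    have := (Subgroup.mem_centralizer_iff.mp (hzle hh').2) u huΩ
    rw [← this, mul_inv_cancel_right]
  have hSN : (S : Subgroup G) ≤ Subgroup.normalizer (U : Set G) :=
    le_normalizer_map_of_normal S ι hinj hrange (Wr.base (2 * M))
  obtain ⟨r, hr, hrk⟩ := exists_conj_mem_of_le S _ hSN k (hzle hk).1 ⟨e, hke⟩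
  have hrΩ := normalizer_base_le_normalizer_four S ι hinj hrange hr
  -- `s = r k r⁻¹` centralizes `Ω`
  have hsΩ : ∀ w ∈ Ω, (r * k * r⁻¹) * w = w * (r * k * r⁻¹) := by
    intro w hw
    have h1 : r⁻¹ * w * r ∈ Ω := by
      have := (Subgroup.mem_normalizer_iff.mp hrΩ (r⁻¹ * w * r)).mpr (by
        have e1 : r * (r⁻¹ * w * r) * r⁻¹ = w := by group
        rw [e1]; exact hw)
      exact this
    have h2 := (Subgroup.mem_centralizer_iff.mp (hzle hk).2) _ h1
    calc r * k * r⁻¹ * w = r * (k * (r⁻¹ * w * r)) * r⁻¹ := by group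
      _ = r * ((r⁻¹ * w * r) * k) * r⁻¹ := by rw [h2]
      _ = w * (r * k * r⁻¹) := by group
  rw [← hrange] at hrk
  obtain ⟨p, hp⟩ := hrk
  have hpb : p ∈ Wr.base (2 * M) := by
    apply WrM.mem_base_of_commute_half
    apply hinj
    rw [map_mul, map_mul, hp]
    exact hsΩ _ ⟨_, WrM.half_mem_four, rfl⟩
  have hsU : r * k * r⁻¹ ∈ U := ⟨p, hpb, hp⟩
  have hkc : k ∈ Subgroup.centralizer (U : Set G) := by
    rw [Subgroup.mem_centralizer_iff]
    intro u hu
    have h1 : r * u * r⁻¹ ∈ U := (Subgroup.mem_normalizer_iff.mp hr u).mp hu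
    have h2 := base_map_comm S ι hinj hrange _ _ hsU h1
    calc u * k = r⁻¹ * ((r * u * r⁻¹) * (r * k * r⁻¹)) * r := by group
      _ = r⁻¹ * ((r * k * r⁻¹) * (r * u * r⁻¹)) * r := by rw [h2]
      _ = k * u := by group
  rw [hgk]
  exact Subgroup.mul_mem _ hkc hh'c

/-- the action of `N_G(U)` on the four-group `Ω₁(U)` -/
def baseAct : ↥(Subgroup.normalizer (((Wr.base (2 * M)).map ι : Subgroup G) : Set G)) →*
    MulAut ↥((Wr.four M).map ι) :=
  ((Wr.four M).map ι).normalizerMonoidHom.comp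
    (Subgroup.inclusion (normalizer_base_le_normalizer_four S ι hinj hrange))

theorem baseAct_apply_coe
    (n : ↥(Subgroup.normalizer (((Wr.base (2 * M)).map ι : Subgroup G) : Set G)))
    (w : ↥((Wr.four M).map ι)) :
    ((baseAct S ι hinj hrange n w : ↥((Wr.four M).map ι)) : G) = n * w * (n : G)⁻¹ := by
  unfold baseAct
  rw [MonoidHom.comp_apply, Subgroup.normalizerMonoidHom_apply_apply_coe]
  rfl

theorem baseAct_ker : (baseAct S ι hinj hrange).ker =
    (Subgroup.centralizer (((Wr.base (2 * M)).map ι : Subgroup G) : Set G)).subgroupOf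
      (Subgroup.normalizer (((Wr.base (2 * M)).map ι : Subgroup G) : Set G)) := by
  ext n
  rw [MonoidHom.mem_ker, Subgroup.mem_subgroupOf]
  constructor
  · intro h
    apply mem_centralizer_base_of_four S ι hinj hrange n.1 n.2
    rw [Subgroup.mem_centralizer_iff]
    intro w hw
    have := congrArg (fun β : MulAut ↥((Wr.four M).map ι) => ((β ⟨w, hw⟩ : ↥((Wr.four M).map ι)) : G)) h
    simp only [baseAct_apply_coe, MulAut.one_apply] at this
    calc w * (n : G) = ((n : G) * w * (n : G)⁻¹) * n := by rw [this]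
      _ = n * w := by group
  · intro h
    ext w
    rw [baseAct_apply_coe, MulAut.one_apply]
    have hwU : (w : G) ∈ (Wr.base (2 * M)).map ι := Subgroup.map_mono Wr.four_le_base w.2
    have := (Subgroup.mem_centralizer_iff.mp h) w hwU
    rw [← this, mul_inv_cancel_right]

theorem card_four_map : Nat.card ↥((Wr.four M).map ι) = 4 := by
  rw [← Nat.card_congr ((Wr.four M).equivMapOfInjective ι hinj).toEquiv, Wr.card_four]

/-- `|N_G(U) : C_G(U)|` is `2` or `6` -/
theorem localIdx_base :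
    (Subgroup.centralizer (((Wr.base (2 * M)).map ι : Subgroup G) : Set G)).relIndex
      (Subgroup.normalizer (((Wr.base (2 * M)).map ι : Subgroup G) : Set G)) = 2 ∨
    (Subgroup.centralizer (((Wr.base (2 * M)).map ι : Subgroup G) : Set G)).relIndex
      (Subgroup.normalizer (((Wr.base (2 * M)).map ι : Subgroup G) : Set G)) = 6 := by
  have hdvd : ((Subgroup.centralizer (((Wr.base (2 * M)).map ι : Subgroup G) : Set G)).subgroupOf
      (Subgroup.normalizer (((Wr.base (2 * M)).map ι : Subgroup G) : Set G))).index ∣ 6 := by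
    rw [← baseAct_ker S ι hinj hrange, Subgroup.index_ker]
    exact (Subgroup.card_subgroup_dvd_card _).trans
      (card_mulAut_dvd_six (card_four_map S ι hinj hrange))
  have hKn : ((Subgroup.centralizer (((Wr.base (2 * M)).map ι : Subgroup G) : Set G)).subgroupOf
      (Subgroup.normalizer (((Wr.base (2 * M)).map ι : Subgroup G) : Set G))).Normal := by
    rw [← baseAct_ker S ι hinj hrange]; exact MonoidHom.normal_ker _
  refine eq_two_or_six hdvd ?_
  have hSN := le_normalizer_map_of_normal S ι hinj hrange (Wr.base (2 * M))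
  have hgN := hSN (wr_mem_S S ι hinj hrange ⟨0, 0, true⟩)
  have hgm : (⟨ι ⟨0, 0, true⟩, hgN⟩ :
      ↥(Subgroup.normalizer (((Wr.base (2 * M)).map ι : Subgroup G) : Set G))) ^ 2 ^ 1 = 1 := by
    apply Subtype.ext
    rw [Subgroup.coe_pow, pow_one, pow_two]
    show ι ⟨0, 0, true⟩ * ι ⟨0, 0, true⟩ = 1
    rw [← map_mul]
    have : (⟨0, 0, true⟩ : Wr (2 * M)) * ⟨0, 0, true⟩ = 1 := by
      simp [Wr.ext_iff]
    rw [this, map_one]
  refine two_dvd_index_of_two_elt _ ⟨_, hgN⟩ 1 hgm ?_
  intro h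
  rw [Subgroup.mem_subgroupOf, Subgroup.mem_centralizer_iff] at h
  have h1 := h (ι ⟨1, 0, false⟩) ⟨_, (Wr.mem_base.mpr rfl : (⟨1, 0, false⟩ : Wr (2 * M)) ∈ Wr.base (2 * M)), rfl⟩
  rw [← map_mul, ← map_mul] at h1
  have h2 := hinj h1
  simp only [Wr.mk_mul_mk_true, Wr.mk_mul_mk_false, Wr.mk.injEq, Bool.not_false, and_true] at h2
  have hf : Fact (1 < 2 * M) := ⟨by have := NeZero.pos M; omega⟩
  have : (1 : ZMod (2 * M)) = 0 := by linear_combination h2.1
  exact one_ne_zero this

end coord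

end Cfsg.Agent.Helper20
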