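import Mathlib
import Cfsg.Agent.Lib.Helper20.WrC

set_option autoImplicit false
set_option linter.unusedSectionVars false
set_option linter.unusedSimpArgs false
set_option linter.unusedVariables false

namespace Cfsg.Agent.Helper20

open Cfsg.Agent.Helper98

/-- `T C_G(T)` is the set of products -/
theorem mem_sup_centralizer_iff {G : Type*} [Group G] (T : Subgroup G) (g : G) :
    g ∈ T ⊔ Subgroup.centralizer (T : Set G) ↔
      ∃ t ∈ T, ∃ c ∈ Subgroup.centralizer (T : Set G), t * c = g := by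
  have hTn : T ≤ Subgroup.normalizer ((Subgroup.centralizer (T : Set G) : Subgroup G) : Set G) := by
    intro t ht
    rw [Subgroup.mem_normalizer_iff]
    intro c
    constructor
    · intro hc
      rw [Subgroup.mem_centralizer_iff] at hc ⊢
      intro y hy
      have h2 := hc (t⁻¹ * y * t) (T.mul_mem (T.mul_mem (T.inv_mem ht) hy) ht)
      calc y * (t * c * t⁻¹) = t * ((t⁻¹ * y * t) * c) * t⁻¹ := by group
        _ = t * (c * (t⁻¹ * y * t)) * t⁻¹ := by rw [h2]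
        _ = t * c * t⁻¹ * y := by group
    · intro hc
      rw [Subgroup.mem_centralizer_iff] at hc ⊢
      intro y hy
      have h2 := hc (t * y * t⁻¹) (T.mul_mem (T.mul_mem ht hy) (T.inv_mem ht))
      calc y * c = t⁻¹ * ((t * y * t⁻¹) * (t * c * t⁻¹)) * t := by group
        _ = t⁻¹ * ((t * c * t⁻¹) * (t * y * t⁻¹)) * t := by rw [h2]
        _ = c * y := by group
  constructor
  · intro hg
    have h2 : g ∈ ((T ⊔ Subgroup.centralizer (T : Set G) : Subgroup G) : Set G) := hg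
    rw [Subgroup.coe_mul_of_left_le_normalizer_right _ _ hTn] at h2
    obtain ⟨t, ht, c, hc, htc⟩ := h2
    exact ⟨t, ht, c, hc, htc⟩
  · rintro ⟨t, ht, c, hc, rfl⟩
    exact Subgroup.mul_mem_sup ht hc

namespace WrM
variable {M : ℕ} [NeZero M]

theorem relIndex_diag_Tw (h δ : ZMod (2 * M)) (hh : 2 * h = (M : ZMod (2 * M))) :
    (Wr.diag (2 * M)).relIndex (Tw 2 δ) = 4 := by
  have h1 : (Wr.diag (2 * M)).relIndex (Tw 2 δ ⊓ Wr.base (2 * M)) = 2 := by
    rw [Subgroup.relIndex_eq_two_iff]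
    refine ⟨⟨h, -h, false⟩, ⟨q1_mem_Tw h δ hh, rfl⟩, ?_⟩
    rintro ⟨x, y, e⟩ ⟨hb1', hb2'⟩
    have hb1 : (⟨x, y, e⟩ : Wr (2 * M)) ∈ Tw 2 δ := hb1'
    have hb2 : (⟨x, y, e⟩ : Wr (2 * M)) ∈ Wr.base (2 * M) := hb2'
    clear hb1' hb2'
    rw [Wr.mem_base] at hb2
    simp only at hb2
    subst hb2
    rw [mem_Tw] at hb1
    simp only [Bool.false_eq_true, if_false, sub_zero] at hb1
    rw [Wr.mk_mul_mk_false, Wr.mem_diag, Wr.mem_diag]
    simp only [true_and]
    rcases (two_mul_eq_zero_iff' _).mp hb1 with h2 | h2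
    · right
      refine ⟨sub_eq_zero.mp h2, ?_⟩
      intro h3
      have : (M : ZMod (2 * M)) = 0 := by linear_combination h3 - h2 - hh
      exact zmod_half_ne_zero this
    · left
      refine ⟨?_, ?_⟩
      · linear_combination h2 + hh + half_add_half' (M := M)
      · intro h3
        have : (M : ZMod (2 * M)) = 0 := by linear_combination h2.symm + (sub_eq_zero.mpr h3)
        exact zmod_half_ne_zero this
  have h2 : (Tw 2 δ ⊓ Wr.base (2 * M)).relIndex (Tw 2 δ) = 2 := by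
    rw [Subgroup.relIndex_eq_two_iff]
    refine ⟨⟨δ, 0, true⟩, refl_mem_Tw 2 δ, ?_⟩
    rintro ⟨x, y, e⟩ hb
    cases e
    · right
      refine ⟨⟨hb, rfl⟩, ?_⟩
      rintro ⟨-, h3'⟩
      have h3 : (⟨x, y, false⟩ * ⟨δ, 0, true⟩ : Wr (2 * M)) ∈ Wr.base (2 * M) := h3'
      rw [Wr.mem_base] at h3
      simp at h3
    · left
      refine ⟨⟨(Tw 2 δ).mul_mem hb (refl_mem_Tw 2 δ), rfl⟩, ?_⟩
      rintro ⟨-, h3'⟩
      have h3 : (⟨x, y, true⟩ : Wr (2 * M)) ∈ Wr.base (2 * M) := h3'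
      rw [Wr.mem_base] at h3
      simp at h3
  have h3 := Subgroup.relIndex_mul_relIndex (H := Wr.diag (2 * M))
    (K := Tw 2 δ ⊓ Wr.base (2 * M)) (L := Tw 2 δ)
    (le_inf (diag_le_Tw 2 δ) Wr.diag_le_base) inf_le_left
  rw [h1, h2] at h3
  exact h3.symm

end WrM

/-- a `p`-subgroup is conjugate into any given Sylow `p`-subgroup -/
theorem exists_conj_le_sylow {G : Type*} [Group G] [Finite G] {p : ℕ} [Fact p.Prime]
    (S : Sylow p G) (P : Subgroup G) (hP : IsPGroup p P) :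
    ∃ r : G, ∀ x ∈ P, r * x * r⁻¹ ∈ (S : Subgroup G) := by
  obtain ⟨P', hP'⟩ := hP.exists_le_sylow
  obtain ⟨r, hr⟩ := MulAction.exists_smul_eq G P' S
  refine ⟨r, fun x hx => ?_⟩
  rw [← hr, Cfsg.Agent.Helper2.mem_smul_sylow_iff]
  have : r⁻¹ * (r * x * r⁻¹) * r = x := by group
  rw [this]
  exact hP' hx

section coord
variable {G : Type*} [Group G] [Finite G] (S : Sylow 2 G) {M : ℕ} [NeZero M]
  (ι : Wr (2 * M) →* G) (hinj : Function.Injective ι) (hrange : ι.range = (S : Subgroup G))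
  (h : ZMod (2 * M)) (hh : 2 * h = (M : ZMod (2 * M)))

include hinj hrange

/-- `Z(S)` in coordinates is central in `S` -/
theorem diag_map_central (z : G) (hz : z ∈ (Wr.diag (2 * M)).map ι) (s : G)
    (hs : s ∈ (S : Subgroup G)) : s * z = z * s := by
  obtain ⟨p, hp, rfl⟩ := hz
  rw [← hrange] at hs
  obtain ⟨q, rfl⟩ := hs
  have h2 : 2 ≤ 2 * M := by have := NeZero.pos M; omega
  have hp' : p ∈ Subgroup.center (Wr (2 * M)) := by rw [Wr.center_eq h2]; exact hp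
  rw [Subgroup.mem_center_iff] at hp'
  rw [← map_mul, ← map_mul, hp' q]

theorem diag_map_le_S : (Wr.diag (2 * M)).map ι ≤ (S : Subgroup G) := by
  rintro _ ⟨p, -, rfl⟩
  exact wr_mem_S S ι hinj hrange p

theorem Tw_map_le_S (δ : ZMod (2 * M)) : (WrM.Tw 2 δ).map ι ≤ (S : Subgroup G) := by
  rintro _ ⟨p, -, rfl⟩
  exact wr_mem_S S ι hinj hrange p

theorem card_diag_map : Nat.card ↥((Wr.diag (2 * M)).map ι) = 2 * M := by
  rw [← Nat.card_congr ((Wr.diag (2 * M)).equivMapOfInjective ι hinj).toEquiv, Wr.card_diag]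

theorem isCyclic_diag_map : IsCyclic ↥((Wr.diag (2 * M)).map ι) := by
  have e1 : ↥((Wr.diag (2 * M)).map ι) ≃* Multiplicative (ZMod (2 * M)) :=
    ((Wr.diag (2 * M)).equivMapOfInjective ι hinj).symm.trans (Wr.diagEquiv (2 * M))
  exact isCyclic_of_surjective e1.symm.toMonoidHom e1.symm.surjective

include hh

/-- `Q Z(S)` in coordinates -/
theorem quat_sup_center_eq (Q : Subgroup G) (hQS : Q ≤ S) (eQ : Q ≃* QuaternionGroup 2) :
    ∃ δ : ZMod (2 * M), Q ⊔ (Wr.diag (2 * M)).map ι = (WrM.Tw 2 δ).map ι := by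
  have hQr : Q ≤ ι.range := hrange ▸ hQS
  obtain ⟨δ, hδ⟩ := WrM.quat8_sup_diag (Q.comap ι) ((comapEquiv ι hinj Q hQr).trans eQ) h hh
  refine ⟨δ, ?_⟩
  rw [← hδ, Subgroup.map_sup, Subgroup.map_comap_eq_self hQr]

/-- `C_S(Q) ≤ Z(S)` for a quaternion subgroup `Q` of `S` -/
theorem centralizer_quat_le (Q : Subgroup G) (hQS : Q ≤ S) (eQ : Q ≃* QuaternionGroup 2)
    (g : G) (hgS : g ∈ (S : Subgroup G)) (hg : ∀ q ∈ Q, q * g = g * q) :
    g ∈ (Wr.diag (2 * M)).map ι := by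
  have hQr : Q ≤ ι.range := hrange ▸ hQS
  obtain ⟨hq, c, d, hβ, hcd, hle⟩ :=
    WrM.quat8_struct (Q.comap ι) ((comapEquiv ι hinj Q hQr).trans eQ) h hh
  rw [← hrange] at hgS
  obtain ⟨p, rfl⟩ := hgS
  refine ⟨p, WrM.centralizer_le_diag (Q.comap ι) h hh hq c d hβ ?_, rfl⟩
  rw [Subgroup.mem_centralizer_iff]
  intro y hy
  apply hinj
  rw [map_mul, map_mul]
  exact hg _ hy

/-- conjugates of `Q Z(S)` inside `S` -/
theorem conj_quat_sup_center (Q : Subgroup G) (hQS : Q ≤ S) (eQ : Q ≃* QuaternionGroup 2) (r : G)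
    (hr : ∀ x ∈ Q ⊔ (Wr.diag (2 * M)).map ι, r * x * r⁻¹ ∈ (S : Subgroup G)) :
    ((Wr.diag (2 * M)).map ι).map (MulAut.conj r).toMonoidHom = (Wr.diag (2 * M)).map ι ∧
    ∃ δ' : ZMod (2 * M), (Q ⊔ (Wr.diag (2 * M)).map ι).map (MulAut.conj r).toMonoidHom =
      (WrM.Tw 2 δ').map ι := by
  set Z := (Wr.diag (2 * M)).map ι with hZ
  have hQrS : Q.map (MulAut.conj r).toMonoidHom ≤ (S : Subgroup G) := by
    rintro _ ⟨q, hq, rfl⟩
    exact hr q (Subgroup.mem_sup_left hq)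
  have eQ' : ↥(Q.map (MulAut.conj r).toMonoidHom) ≃* QuaternionGroup 2 :=
    (Q.equivMapOfInjective _ (MulAut.conj r).injective).symm.trans eQ
  have hZr : Z.map (MulAut.conj r).toMonoidHom = Z := by
    apply Subgroup.eq_of_le_of_card_ge
    · rintro _ ⟨z, hz, rfl⟩
      apply centralizer_quat_le S ι hinj hrange h hh _ hQrS eQ'
      · exact hr z (Subgroup.mem_sup_right hz)
      · rintro _ ⟨q, hq, rfl⟩
        have h1 := diag_map_central S ι hinj hrange z hz q (hQS hq)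
        show r * q * r⁻¹ * (r * z * r⁻¹) = r * z * r⁻¹ * (r * q * r⁻¹)
        calc r * q * r⁻¹ * (r * z * r⁻¹) = r * (q * z) * r⁻¹ := by group
          _ = r * (z * q) * r⁻¹ := by rw [h1]
          _ = r * z * r⁻¹ * (r * q * r⁻¹) := by group
    · rw [← Nat.card_congr (Z.equivMapOfInjective _ (MulAut.conj r).injective).toEquiv]
  refine ⟨hZr, ?_⟩
  obtain ⟨δ', hδ'⟩ := quat_sup_center_eq S ι hinj hrange h hh _ hQrS eQ'
  exact ⟨δ', by rw [Subgroup.map_sup, hZr, hδ']⟩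

/-- the centre of `V = Q Z(S)` -/
theorem center_Tw_map (δ : ZMod (2 * M)) (x : G) (hx : x ∈ (WrM.Tw 2 δ).map ι) :
    (∀ y ∈ (WrM.Tw 2 δ).map ι, y * x = x * y) ↔ x ∈ (Wr.diag (2 * M)).map ι := by
  constructor
  · intro hc
    obtain ⟨p, hp, rfl⟩ := hx
    refine ⟨p, WrM.centralizer_Tw_le_diag h δ hh ?_, rfl⟩
    rw [Subgroup.mem_centralizer_iff]
    intro y hy
    apply hinj
    rw [map_mul, map_mul]
    exact hc _ ⟨y, hy, rfl⟩
  · intro hz y hy
    exact diag_map_central S ι hinj hrange x hz y (Tw_map_le_S S ι hinj hrange δ hy)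

theorem center_eq_subgroupOf (δ : ZMod (2 * M)) (V : Subgroup G) (hV : V = (WrM.Tw 2 δ).map ι) :
    Subgroup.center ↥V = ((Wr.diag (2 * M)).map ι).subgroupOf V := by
  subst hV
  ext x
  rw [Subgroup.mem_center_iff, Subgroup.mem_subgroupOf,
    ← center_Tw_map S ι hinj hrange h hh δ x.1 x.2]
  constructor
  · intro hc y hy
    exact congrArg Subtype.val (hc ⟨y, hy⟩)
  · intro hc y
    exact Subtype.ext (hc y.1 y.2)

theorem card_quot_center (δ : ZMod (2 * M)) (V : Subgroup G) (hV : V = (WrM.Tw 2 δ).map ι) :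
    Nat.card (↥V ⧸ Subgroup.center ↥V) = 4 := by
  rw [← Subgroup.index_eq_card, center_eq_subgroupOf S ι hinj hrange h hh δ V hV]
  subst hV
  show ((Wr.diag (2 * M)).map ι).relIndex ((WrM.Tw 2 δ).map ι) = 4
  rw [Subgroup.relIndex_map_map_of_injective _ _ hinj]
  exact WrM.relIndex_diag_Tw h δ hh

end coord

end Cfsg.Agent.Helper20
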