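import Mathlib
import Cfsg.Agent.Lib.Helper20.WrD

set_option autoImplicit false
set_option linter.unusedSectionVars false
set_option linter.unusedSimpArgs false
set_option linter.unusedVariables false

namespace Cfsg.Agent.Helper20

open Cfsg.Agent.Helper98

/-- the centre of a subgroup in coordinates -/
theorem center_map_subtype_eq {A G : Type*} [Group A] [Group G] (S : Subgroup G) (ι : A →* G)
    (hinj : Function.Injective ι) (hrange : ι.range = S) :
    (Subgroup.center ↥S).map S.subtype = (Subgroup.center A).map ι := by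
  apply le_antisymm
  · rintro _ ⟨s, hs, rfl⟩
    have hsS : (s : G) ∈ ι.range := by rw [hrange]; exact s.2
    obtain ⟨p, hp⟩ := hsS
    refine ⟨p, ?_, hp⟩
    rw [SetLike.mem_coe, Subgroup.mem_center_iff]
    intro q
    apply hinj
    rw [map_mul, map_mul, hp]
    have hq : ι q ∈ S := hrange ▸ ⟨q, rfl⟩
    have := (Subgroup.mem_center_iff.mp hs) ⟨ι q, hq⟩
    exact congrArg Subtype.val this
  · rintro _ ⟨p, hp, rfl⟩
    have hz : ι p ∈ S := hrange ▸ ⟨_, rfl⟩
    refine ⟨⟨_, hz⟩, ?_, rfl⟩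
    rw [SetLike.mem_coe, Subgroup.mem_center_iff]
    intro s
    apply Subtype.ext
    have hsS : (s : G) ∈ ι.range := by rw [hrange]; exact s.2
    obtain ⟨q, hq⟩ := hsS
    show (s : G) * ι p = ι p * (s : G)
    rw [← hq, ← map_mul, ← map_mul, (Subgroup.mem_center_iff.mp hp) q]

section coord
variable {G : Type*} [Group G] [Finite G] (S : Sylow 2 G) {M : ℕ} [NeZero M]
  (ι : Wr (2 * M) →* G) (hinj : Function.Injective ι) (hrange : ι.range = (S : Subgroup G))
  (h : ZMod (2 * M)) (hh : 2 * h = (M : ZMod (2 * M)))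

include hinj hrange

theorem center_S_eq :
    (Subgroup.center ↥(S : Subgroup G)).map (S : Subgroup G).subtype = (Wr.diag (2 * M)).map ι := by
  rw [center_map_subtype_eq (S : Subgroup G) ι hinj hrange,
    Wr.center_eq (by have := NeZero.pos M; omega)]

/-- the commutative subgroup of index two in coordinates -/
theorem comm_eq_base_map (hM : 2 ≤ M) (U : Subgroup G) (hUS : U ≤ S) (hUab : IsMulCommutative U)
    (hUcard : Nat.card U = (2 * M) * (2 * M)) : U = (Wr.base (2 * M)).map ι := by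
  have hUr : U ≤ ι.range := hrange ▸ hUS
  have e1 := comapEquiv ι hinj U hUr
  have hc : IsMulCommutative ↥(U.comap ι) := by
    refine ⟨⟨fun a b => ?_⟩⟩
    apply e1.injective
    rw [map_mul, map_mul]
    exact hUab.is_comm.comm _ _
  have h1 := Wr.eq_base_of_comm (N := 2 * M) (by omega) (U.comap ι)
    (by rw [Nat.card_congr e1.toEquiv, hUcard])
  rw [← h1, Subgroup.map_comap_eq_self hUr]

include hh

/-- elements of `N_G(V)` acting trivially on `V / Z(V)` lie in `V C_G(V)`, for `V = Q Z(S)` -/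
theorem ker_le_sup_centralizer (Q : Subgroup G) (hQS : Q ≤ S) (eQ : Q ≃* QuaternionGroup 2)
    (V : Subgroup G) (hVQ : V = Q ⊔ (Wr.diag (2 * M)).map ι) :
    ((autQuot ↥V (Subgroup.center ↥V)).comp V.normalizerMonoidHom).ker ≤
      (V ⊔ Subgroup.centralizer (V : Set G)).subgroupOf (Subgroup.normalizer (V : Set G)) := by
  obtain ⟨δ, hδ⟩ := quat_sup_center_eq S ι hinj hrange h hh Q hQS eQ
  have hVδ : V = (WrM.Tw 2 δ).map ι := hVQ.trans hδ
  set Z := (Wr.diag (2 * M)).map ι with hZ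
  have hZV : Z ≤ V := hVQ ▸ le_sup_right
  have hVS : V ≤ (S : Subgroup G) := hVδ ▸ Tw_map_le_S S ι hinj hrange δ
  have hZ2 : IsPGroup 2 Z := S.isPGroup'.to_le (diag_map_le_S S ι hinj hrange)
  have hV2 : IsPGroup 2 V := S.isPGroup'.to_le hVS
  -- F1
  have F1 : ∀ n ∈ ((autQuot ↥V (Subgroup.center ↥V)).comp V.normalizerMonoidHom).ker,
      ∀ x ∈ V, x⁻¹ * ((n : G) * x * (n : G)⁻¹) ∈ Z := by
    intro n hn x hx
    rw [MonoidHom.mem_ker, MonoidHom.comp_apply] at hn
    have h1 := congrArg (fun ψ : MulAut (↥V ⧸ Subgroup.center ↥V) =>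
      ψ (QuotientGroup.mk (⟨x, hx⟩ : ↥V))) hn
    simp only [autQuot_mk, MulAut.one_apply] at h1
    have h2 := QuotientGroup.eq.mp h1.symm
    rw [center_eq_subgroupOf S ι hinj hrange h hh δ V hVδ, Subgroup.mem_subgroupOf] at h2
    rw [Subgroup.coe_mul, Subgroup.coe_inv, Subgroup.normalizerMonoidHom_apply_apply_coe] at h2
    exact h2
  -- the normalizer of `V` normalizes `Z`
  have hNZ : ∀ g ∈ Subgroup.normalizer (V : Set G), ∀ z ∈ Z, g * z * g⁻¹ ∈ Z := by
    intro g hg z hz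
    have hgz : g * z * g⁻¹ ∈ V := (Subgroup.mem_normalizer_iff.mp hg z).mp (hZV hz)
    rw [hVδ] at hgz
    rw [← center_Tw_map S ι hinj hrange h hh δ _ hgz]
    intro y hy
    rw [← hVδ] at hy
    have hy' : g⁻¹ * y * g ∈ V := by
      have := (Subgroup.mem_normalizer_iff.mp hg (g⁻¹ * y * g)).mpr (by
        have e1 : g * (g⁻¹ * y * g) * g⁻¹ = y := by group
        rw [e1]; exact hy)
      exact this
    have h1 := diag_map_central S ι hinj hrange z hz _ (hVS hy')
    calc y * (g * z * g⁻¹) = g * ((g⁻¹ * y * g) * z) * g⁻¹ := by group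
      _ = g * (z * (g⁻¹ * y * g)) * g⁻¹ := by rw [h1]
      _ = g * z * g⁻¹ * y := by group
  have hNZ' : Subgroup.normalizer (V : Set G) ≤ Subgroup.normalizer (Z : Set G) := by
    intro g hg
    rw [Subgroup.mem_normalizer_iff]
    intro z
    refine ⟨hNZ g hg z, fun hz => ?_⟩
    have := hNZ g⁻¹ (Subgroup.inv_mem _ hg) _ hz
    have e1 : g⁻¹ * (g * z * g⁻¹) * g⁻¹⁻¹ = z := by group
    rwa [e1] at this
  intro n hn
  rw [Subgroup.mem_subgroupOf]
  obtain ⟨k, h', hnk, hk, hh', ⟨e, hke⟩, hodd⟩ := exists_two_odd_decomp (n : G) (orderOf_pos _)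
  have hlift : ∀ g ∈ Subgroup.zpowers (n : G),
      ∃ g' ∈ ((autQuot ↥V (Subgroup.center ↥V)).comp V.normalizerMonoidHom).ker, (g' : G) = g := by
    rintro _ ⟨i, rfl⟩
    exact ⟨n ^ i, Subgroup.zpow_mem _ hn i, by simp⟩
  -- the odd part centralizes `V`
  have hh'c : h' ∈ Subgroup.centralizer (V : Set G) := by
    obtain ⟨g', hg', rfl⟩ := hlift h' hh'
    have hcyc := isCyclic_diag_map S ι hinj hrange
    have hZc : (g' : G) ∈ Subgroup.centralizer (Z : Set G) :=
      mem_centralizer_of_oddAutTrivial Z (oddAutTrivial_of_isCyclic hZ2) _ (hNZ' g'.2) hodd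
    exact mem_centralizer_of_odd_of_chain V Z hZ2 _ hodd hZc (F1 g' hg')
  -- the `2`-part lies in `V`
  have hkV : k ∈ V := by
    obtain ⟨g', hg', rfl⟩ := hlift k hk
    have hz2 : IsPGroup 2 (Subgroup.zpowers (g' : G)) := by
      obtain ⟨j, -, hj⟩ := (Nat.dvd_prime_pow Nat.prime_two).mp (orderOf_dvd_of_pow_eq_one hke)
      apply IsPGroup.of_card (n := j)
      rw [Nat.card_zpowers, hj]
    have hzN : Subgroup.zpowers (g' : G) ≤ Subgroup.normalizer (V : Set G) := by
      rw [Subgroup.zpowers_le]; exact g'.2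
    have hP := IsPGroup.to_sup_of_normal_right' hz2 hV2 hzN
    obtain ⟨r, hr⟩ := exists_conj_le_sylow S _ hP
    have hrV : ∀ x ∈ Q ⊔ (Wr.diag (2 * M)).map ι, r * x * r⁻¹ ∈ (S : Subgroup G) := by
      intro x hx
      rw [← hVQ] at hx
      exact hr x (Subgroup.mem_sup_right hx)
    obtain ⟨hZr, δ', hδ'⟩ := conj_quat_sup_center S ι hinj hrange h hh Q hQS eQ r hrV
    rw [← hVQ] at hδ'
    have hrk := hr (g' : G) (Subgroup.mem_sup_left (Subgroup.mem_zpowers _))
    rw [← hrange] at hrk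
    obtain ⟨p, hp⟩ := hrk
    -- the reflection of `V^r`
    have hb : ι ⟨δ', 0, true⟩ ∈ V.map (MulAut.conj r).toMonoidHom := by
      rw [hδ']; exact ⟨_, WrM.refl_mem_Tw 2 δ', rfl⟩
    obtain ⟨x, hx, hxb⟩ := hb
    have hxb' : r * x * r⁻¹ = ι ⟨δ', 0, true⟩ := hxb
    have h1 := F1 g' hg' x hx
    have h2 : r * (x⁻¹ * ((g' : G) * x * (g' : G)⁻¹)) * r⁻¹ ∈ Z := by
      have hZr' : Z.map (MulAut.conj r).toMonoidHom = Z := hZr
      rw [← hZr']; exact ⟨_, h1, rfl⟩
    have h3 : r * (x⁻¹ * ((g' : G) * x * (g' : G)⁻¹)) * r⁻¹ =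
        ι ((⟨δ', 0, true⟩ : Wr (2 * M))⁻¹ * (p * ⟨δ', 0, true⟩ * p⁻¹)) := by
      rw [map_mul, map_inv, map_mul, map_mul, map_inv, hp, ← hxb']
      group
    rw [h3] at h2
    obtain ⟨w, hw, hwe⟩ := h2
    rw [hinj hwe] at hw
    have hpT := WrM.mem_Tw_of_trivial_mod δ' p hw
    have h4 : r * (g' : G) * r⁻¹ ∈ V.map (MulAut.conj r).toMonoidHom := by
      rw [hδ', ← hp]; exact ⟨p, hpT, rfl⟩
    obtain ⟨y, hy, hye⟩ := h4
    have hye' : r * y * r⁻¹ = r * (g' : G) * r⁻¹ := hye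
    have : y = (g' : G) := by
      have := congrArg (fun t => r⁻¹ * t * r) hye'
      simpa [mul_assoc] using this
    rw [← this]; exact hy
  rw [hnk]
  exact Subgroup.mul_mem_sup hkV hh'c

/-- `|N_G(V) : V C_G(V)|` is `2` or `6` for `V = Q Z(S)` -/
theorem localIdx_quat_center (Q : Subgroup G) (hQS : Q ≤ S) (eQ : Q ≃* QuaternionGroup 2)
    (V : Subgroup G) (hVQ : V = Q ⊔ (Wr.diag (2 * M)).map ι) :
    (V ⊔ Subgroup.centralizer (V : Set G)).relIndex (Subgroup.normalizer (V : Set G)) = 2 ∨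
      (V ⊔ Subgroup.centralizer (V : Set G)).relIndex (Subgroup.normalizer (V : Set G)) = 6 := by
  obtain ⟨δ, hδ⟩ := quat_sup_center_eq S ι hinj hrange h hh Q hQS eQ
  have hVδ : V = (WrM.Tw 2 δ).map ι := hVQ.trans hδ
  have hVS : V ≤ (S : Subgroup G) := hVδ ▸ Tw_map_le_S S ι hinj hrange δ
  have hdvd : ((V ⊔ Subgroup.centralizer (V : Set G)).subgroupOf
      (Subgroup.normalizer (V : Set G))).index ∣ 6 := by
    have h1 := Subgroup.index_dvd_of_le
      (ker_le_sup_centralizer S ι hinj hrange h hh Q hQS eQ V hVQ)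
    rw [Subgroup.index_ker] at h1
    have h2 : Nat.card ((autQuot ↥V (Subgroup.center ↥V)).comp V.normalizerMonoidHom).range ∣
        Nat.card (MulAut (↥V ⧸ Subgroup.center ↥V)) := Subgroup.card_subgroup_dvd_card _
    have h3 : Nat.card (MulAut (↥V ⧸ Subgroup.center ↥V)) ∣ 6 :=
      card_mulAut_dvd_six (card_quot_center S ι hinj hrange h hh δ V hVδ)
    exact h1.trans (h2.trans h3)
  have hKn : ((V ⊔ Subgroup.centralizer (V : Set G)).subgroupOf
      (Subgroup.normalizer (V : Set G))).Normal := by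
    rw [Subgroup.subgroupOf_sup Subgroup.le_normalizer (Subgroup.centralizer_le_normalizer _)]
    have := centralizer_subgroupOf_normal V
    have : (V.subgroupOf (Subgroup.normalizer (V : Set G))).Normal :=
      Subgroup.normal_in_normalizer
    infer_instance
  refine eq_two_or_six hdvd ?_
  -- the quarter element
  have hwS : ι ⟨h, 0, false⟩ ∈ (S : Subgroup G) := wr_mem_S S ι hinj hrange _
  have hwN : ι ⟨h, 0, false⟩ ∈ Subgroup.normalizer (V : Set G) := by
    rw [hVδ]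
    exact Subgroup.le_normalizer_map ι ⟨_, WrM.quarter_mem_normalizer h δ hh, rfl⟩
  obtain ⟨m, hm⟩ := two_elt_of_pgroup (S : Subgroup G) S.isPGroup' _ hwS
  have hgm : (⟨ι ⟨h, 0, false⟩, hwN⟩ : ↥(Subgroup.normalizer (V : Set G))) ^ 2 ^ m = 1 := by
    apply Subtype.ext
    rw [Subgroup.coe_pow]
    exact hm
  refine two_dvd_index_of_two_elt _ ⟨_, hwN⟩ m hgm ?_
  intro hmem
  rw [Subgroup.mem_subgroupOf, mem_sup_centralizer_iff] at hmem
  obtain ⟨t, ht, c, hc, htc⟩ := hmem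
  have hcS : c ∈ (S : Subgroup G) := by
    have : c = t⁻¹ * ι ⟨h, 0, false⟩ := by
      have htc' : t * c = ι ⟨h, 0, false⟩ := htc
      rw [← htc']; group
    rw [this]
    exact Subgroup.mul_mem _ (Subgroup.inv_mem _ (hVS ht)) hwS
  have hcZ : c ∈ (Wr.diag (2 * M)).map ι := by
    apply centralizer_quat_le S ι hinj hrange h hh Q hQS eQ c hcS
    intro q hq
    rw [Subgroup.mem_centralizer_iff] at hc
    exact hc q (hVQ ▸ Subgroup.mem_sup_left hq)
  have hcV : c ∈ V := hVQ ▸ Subgroup.mem_sup_right hcZ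
  have hwV : ι ⟨h, 0, false⟩ ∈ V := by
    have htc' : t * c = ι ⟨h, 0, false⟩ := htc
    rw [← htc']; exact Subgroup.mul_mem _ ht hcV
  rw [hVδ] at hwV
  obtain ⟨p, hp, hpe⟩ := hwV
  rw [hinj hpe] at hp
  exact WrM.quarter_not_mem_Tw h δ hh hp

end coord

end Cfsg.Agent.Helper20
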