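import Mathlib
import Cfsg.Agent.Lib.Helper20.WrE

set_option autoImplicit false
set_option linter.unusedSectionVars false
set_option linter.unusedSimpArgs false
set_option linter.unusedVariables false

namespace Cfsg.Agent.Helper20

open Cfsg.Agent.Helper98

/-- coordinates for a wreathed group of given order -/
theorem exists_wr_coord' {G : Type*} [Group G] (S : Subgroup G) (hS : Cfsg.IsWreathed ↥S) (n : ℕ)
    (hn : Nat.card S = 2 ^ (2 * n + 1)) :
    2 ≤ n ∧ ∃ ι : Wr (2 * 2 ^ (n - 1)) →* G, Function.Injective ι ∧ ι.range = S := by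
  obtain ⟨n', hn', hcard, ι, hinj, hrange⟩ := exists_wr_coord S hS
  rw [hn] at hcard
  have h1 : 2 * n + 1 = 2 * n' + 1 := Nat.pow_right_injective (le_refl 2) hcard
  have h2 : n = n' := by omega
  subst h2
  exact ⟨hn', ι, hinj, hrange⟩

/-- the quarter element -/
theorem exists_quarter (n : ℕ) (hn : 2 ≤ n) :
    ∃ h : ZMod (2 * 2 ^ (n - 1)), 2 * h = ((2 ^ (n - 1) : ℕ) : ZMod (2 * 2 ^ (n - 1))) := by
  refine ⟨((2 ^ (n - 2) : ℕ) : ZMod (2 * 2 ^ (n - 1))), ?_⟩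
  have h1 : 2 * 2 ^ (n - 2) = 2 ^ (n - 1) := by
    have : n - 1 = (n - 2) + 1 := by omega
    rw [this, pow_succ]; ring
  rw [← h1]
  push_cast
  ring

theorem two_le_two_pow_pred (n : ℕ) (hn : 2 ≤ n) : 2 ≤ 2 ^ (n - 1) := by
  have : n - 1 = (n - 2) + 1 := by omega
  rw [this, pow_succ]
  have := Nat.one_le_two_pow (n := n - 2)
  omega

theorem two_pow_sq_eq (n : ℕ) (hn : 2 ≤ n) :
    2 ^ (2 * n) = (2 * 2 ^ (n - 1)) * (2 * 2 ^ (n - 1)) := by
  have h1 : 2 * 2 ^ (n - 1) = 2 ^ n := (two_pow_eq_two_mul (by omega)).symm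
  rw [h1, ← pow_add]
  congr 1
  omega

end Cfsg.Agent.Helper20
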