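import Mathlib
import Cfsg.Agent.Lib.Helper20.WrF
import Cfsg.Agent.Lib.Helper98.WrQuat
import Cfsg.Agent.Lib.Helper98.Transport

set_option autoImplicit false
set_option linter.unusedSectionVars false
set_option linter.unusedSimpArgs false
set_option linter.unusedVariables false

namespace Cfsg.Agent.Helper20

open Cfsg.Agent.Helper98

namespace WrM
variable {M : ℕ} [NeZero M]

theorem isConj_true_of_sq (a b : ZMod (2 * M))
    (hsq : (⟨a, b, true⟩ : Wr (2 * M)) * ⟨a, b, true⟩ = 1) :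
    IsConj (⟨a, b, true⟩ : Wr (2 * M)) ⟨0, 0, true⟩ := by
  simp only [Wr.mk_mul_mk_true, Wr.ext_iff, Wr.one_a, Wr.one_b, Wr.one_e] at hsq
  rw [isConj_comm, isConj_iff]
  refine ⟨⟨a, 0, false⟩, ?_⟩
  have hb : b = -a := eq_neg_of_add_eq_zero_right hsq.1
  simp [Wr.ext_iff, hb]

theorem invol_cases (p : Wr (2 * M)) (ht : orderOf p = 2) :
    IsConj p ⟨M, M, false⟩ ∨ IsConj p ⟨M, 0, false⟩ ∨ IsConj p ⟨0, 0, true⟩ := by
  rcases p with ⟨a, b, e⟩
  rw [Wr.orderOf_eq_two_iff'] at ht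
  obtain ⟨hne, hsq⟩ := ht
  cases e
  · simp only [Wr.mk_mul_mk_false, Wr.ext_iff, Wr.one_a, Wr.one_b, Wr.one_e, and_true] at hsq
    rcases (zmod_add_self_eq_zero_iff a).mp hsq.1 with rfl | rfl <;>
    rcases (zmod_add_self_eq_zero_iff b).mp hsq.2 with rfl | rfl
    · exact absurd rfl hne
    · right; left
      rw [isConj_iff]
      refine ⟨⟨0, 0, true⟩, ?_⟩
      simp [Wr.ext_iff]
    · right; left
      exact IsConj.refl _
    · left
      exact IsConj.refl _
  · right; right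
    exact isConj_true_of_sq a b hsq

theorem odd_of_half_mul (a : ZMod (2 * M)) (ha : (M : ZMod (2 * M)) * a = M) :
    ∃ c : ZMod (2 * M), a = 2 * c + 1 := by
  have h1 : a = ((a.val : ℕ) : ZMod (2 * M)) := (ZMod.natCast_zmod_val a).symm
  have h2 : a.val = 2 * (a.val / 2) + a.val % 2 := (Nat.div_add_mod _ _).symm
  rcases Nat.mod_two_eq_zero_or_one a.val with h3 | h3
  · exfalso
    rw [h3, add_zero] at h2
    have h4 : a = 2 * ((a.val / 2 : ℕ) : ZMod (2 * M)) := by
      conv_lhs => rw [h1, h2]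
      push_cast; ring
    have h5 : (M : ZMod (2 * M)) * a = 0 := by
      rw [h4]
      linear_combination ((a.val / 2 : ℕ) : ZMod (2 * M)) * two_mul_half (M := M)
    rw [h5] at ha
    exact zmod_half_ne_zero ha.symm
  · refine ⟨((a.val / 2 : ℕ) : ZMod (2 * M)), ?_⟩
    rw [h3] at h2
    conv_lhs => rw [h1, h2]
    push_cast; ring

/-- a subgroup of the wreathed group closed under "focal" elements and squares and containing
one suitable element of the base group and a reflection is everything -/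
theorem eq_top_of_focal (H' : Subgroup (Wr (2 * M)))
    (P1 : ∀ p q : Wr (2 * M), p⁻¹ * (q * p * q⁻¹) ∈ H') (P2 : ∀ p : Wr (2 * M), p * p ∈ H')
    (c d : ZMod (2 * M)) (hx : (⟨2 * d, 2 * c + 1, false⟩ : Wr (2 * M)) ∈ H')
    (ht : (⟨0, 0, true⟩ : Wr (2 * M)) ∈ H') : H' = ⊤ := by
  have h1 : (⟨1, -1, false⟩ : Wr (2 * M)) ∈ H' := by
    have := P1 ⟨0, 1, false⟩ ⟨0, 0, true⟩
    simpa using this
  have h2 : (⟨0, 1, false⟩ : Wr (2 * M)) ∈ H' := by
    have h := H'.mul_mem hx (H'.inv_mem (P2 ⟨d, c, false⟩))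
    have e1 : (⟨2 * d, 2 * c + 1, false⟩ : Wr (2 * M)) *
        ((⟨d, c, false⟩ : Wr (2 * M)) * ⟨d, c, false⟩)⁻¹ = ⟨0, 1, false⟩ := by
      simp only [Wr.mk_mul_mk_false, Wr.inv_mk_false, Wr.ext_iff, and_true]
      constructor <;> ring
    rwa [e1] at h
  have h3 : (⟨1, 0, false⟩ : Wr (2 * M)) ∈ H' := by
    have := H'.mul_mem h1 h2
    simpa using this
  have h4 : ∀ a b : ZMod (2 * M), (⟨a, b, false⟩ : Wr (2 * M)) ∈ H' := by
    intro a b
    have := H'.mul_mem (H'.pow_mem h3 a.val) (H'.pow_mem h2 b.val)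
    rw [Wr.mk_false_pow, Wr.mk_false_pow, Wr.mk_mul_mk_false] at this
    simpa using this
  have h5 : ∀ a b : ZMod (2 * M), (⟨a, b, true⟩ : Wr (2 * M)) ∈ H' := by
    intro a b
    have := H'.mul_mem (h4 a b) ht
    simpa using this
  rw [eq_top_iff]
  rintro ⟨a, b, e⟩ -
  cases e
  · exact h4 a b
  · exact h5 a b

end WrM

/-- closure properties of a subgroup of index two -/
theorem focal_of_index_two {G : Type*} [Group G] (H : Subgroup G) (hH : H.index = 2) :
    (∀ x g : G, x⁻¹ * (g * x * g⁻¹) ∈ H) ∧ (∀ x : G, x * x ∈ H) := by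
  have hn : H.Normal := Subgroup.normal_of_index_eq_two hH
  refine ⟨fun x g => ?_, fun x => ?_⟩
  · rw [Subgroup.mul_mem_iff_of_index_two hH, H.inv_mem_iff]
    constructor
    · intro hx
      exact hn.conj_mem x hx g
    · intro hgx
      have := hn.conj_mem _ hgx g⁻¹
      have e1 : g⁻¹ * (g * x * g⁻¹) * g⁻¹⁻¹ = x := by group
      rwa [e1] at this
  · rw [Subgroup.mul_mem_iff_of_index_two hH]

section coord
variable {G : Type*} [Group G] [Finite G] (S : Sylow 2 G) {M : ℕ} [NeZero M]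
  (ι : Wr (2 * M) →* G) (hinj : Function.Injective ι) (hrange : ι.range = (S : Subgroup G))
  (h : ZMod (2 * M)) (hh : 2 * h = (M : ZMod (2 * M)))

include hinj hrange

/-- every involution of `G` is conjugate to one of three involutions of `S` -/
theorem invol_cases_G (t : G) (ht : orderOf t = 2) :
    IsConj t (ι ⟨M, M, false⟩) ∨ IsConj t (ι ⟨M, 0, false⟩) ∨ IsConj t (ι ⟨0, 0, true⟩) := by
  have hz2 : IsPGroup 2 (Subgroup.zpowers t) := by
    apply IsPGroup.of_card (n := 1)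
    rw [Nat.card_zpowers, ht, pow_one]
  obtain ⟨r, hr⟩ := exists_conj_le_sylow S _ hz2
  have hrt := hr t (Subgroup.mem_zpowers t)
  rw [← hrange] at hrt
  obtain ⟨p, hp⟩ := hrt
  have hpo : orderOf p = 2 := by
    rw [← orderOf_injective ι hinj p, hp]
    have := MulEquiv.orderOf_eq (MulAut.conj r) t
    rw [MulAut.conj_apply] at this
    rw [this, ht]
  have hc : IsConj t (ι p) := by
    rw [hp, isConj_iff]; exact ⟨r, rfl⟩
  rcases WrM.invol_cases p hpo with h1 | h1 | h1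
  · left; exact hc.trans (ι.map_isConj h1)
  · right; left; exact hc.trans (ι.map_isConj h1)
  · right; right; exact hc.trans (ι.map_isConj h1)

theorem orderOf_map_eq (p : Wr (2 * M)) : orderOf (ι p) = orderOf p := orderOf_injective ι hinj p

/-- `N_G(U)` is transitive on `Ω₁(U)^#` when `|N_G(U) : C_G(U)| = 6` -/
theorem base_transitive
    (h₁ : (Subgroup.centralizer (((Wr.base (2 * M)).map ι : Subgroup G) : Set G)).relIndex
      (Subgroup.normalizer (((Wr.base (2 * M)).map ι : Subgroup G) : Set G)) = 6)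
    (a b : G) (ha : a ∈ (Wr.four M).map ι) (hb : b ∈ (Wr.four M).map ι) (ha1 : a ≠ 1)
    (hb1 : b ≠ 1) :
    ∃ n ∈ Subgroup.normalizer (((Wr.base (2 * M)).map ι : Subgroup G) : Set G),
      n * a * n⁻¹ = b := by
  have h4 := card_four_map S ι hinj hrange
  have h1 : Nat.card (baseAct S ι hinj hrange).range = 6 := by
    rw [← Subgroup.index_ker, baseAct_ker]; exact h₁
  have h2 : Nat.card (MulAut ↥((Wr.four M).map ι)) = 6 := by
    have h3 := card_mulAut_dvd_six h4
    have h5 := Subgroup.card_subgroup_dvd_card (baseAct S ι hinj hrange).range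
    rw [h1] at h5
    exact Nat.dvd_antisymm h3 h5
  have h3 : (baseAct S ι hinj hrange).range = ⊤ :=
    Subgroup.eq_top_of_card_eq _ (by rw [h1, h2])
  obtain ⟨α, hα⟩ := exists_aut_apply_eq h4 h2 (⟨a, ha⟩ : ↥((Wr.four M).map ι)) ⟨b, hb⟩
    (fun hh => ha1 (congrArg Subtype.val hh)) (fun hh => hb1 (congrArg Subtype.val hh))
  have hα' : α ∈ (baseAct S ι hinj hrange).range := by rw [h3]; exact Subgroup.mem_top _
  obtain ⟨n, rfl⟩ := hα'
  refine ⟨n.1, n.2, ?_⟩
  have := congrArg Subtype.val hα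
  rw [baseAct_apply_coe] at this
  exact this

include hh

/-- `N_G(V)` normalizes `Z(S)` for `V = Q Z(S)` -/
theorem normalizer_Tw_map_le (δ : ZMod (2 * M)) (V : Subgroup G) (hVδ : V = (WrM.Tw 2 δ).map ι) :
    Subgroup.normalizer (V : Set G) ≤
      Subgroup.normalizer (((Wr.diag (2 * M)).map ι : Subgroup G) : Set G) := by
  set Z := (Wr.diag (2 * M)).map ι with hZ
  have hZV : Z ≤ V := hVδ ▸ Subgroup.map_mono (WrM.diag_le_Tw 2 δ)
  have hVS : V ≤ (S : Subgroup G) := hVδ ▸ Tw_map_le_S S ι hinj hrange δ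
  have hNZ : ∀ g ∈ Subgroup.normalizer (V : Set G), ∀ z ∈ Z, g * z * g⁻¹ ∈ Z := by
    intro g hg z hz
    have hgz : g * z * g⁻¹ ∈ V := (Subgroup.mem_normalizer_iff.mp hg z).mp (hZV hz)
    rw [hVδ] at hgz
    rw [← center_Tw_map S ι hinj hrange h hh δ _ hgz]
    intro y hy
    rw [← hVδ] at hy
    have hy' : g⁻¹ * y * g ∈ V := by
      have := (Subgroup.mem_normalizer_iff.mp hg (g⁻¹ * y * g)).mpr (by
        have e1 : g * (g⁻¹ * y * g) * g⁻¹ = y := by group
        rw [e1]; exact hy)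
      exact this
    have h1 := diag_map_central S ι hinj hrange z hz _ (hVS hy')
    calc y * (g * z * g⁻¹) = g * ((g⁻¹ * y * g) * z) * g⁻¹ := by group
      _ = g * (z * (g⁻¹ * y * g)) * g⁻¹ := by rw [h1]
      _ = g * z * g⁻¹ * y := by group
  intro g hg
  rw [Subgroup.mem_normalizer_iff]
  intro z
  refine ⟨hNZ g hg z, fun hz => ?_⟩
  have := hNZ g⁻¹ (Subgroup.inv_mem _ hg) _ hz
  have e1 : g⁻¹ * (g * z * g⁻¹) * g⁻¹⁻¹ = z := by group
  rwa [e1] at this

/-- `N_G(V)` is transitive on `(V / Z(V))^#` when `|N_G(V) : V C_G(V)| = 6` -/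
theorem quat_center_transitive (Q : Subgroup G) (hQS : Q ≤ S) (eQ : Q ≃* QuaternionGroup 2)
    (V : Subgroup G) (hVQ : V = Q ⊔ (Wr.diag (2 * M)).map ι)
    (h₂ : (V ⊔ Subgroup.centralizer (V : Set G)).relIndex (Subgroup.normalizer (V : Set G)) = 6)
    (x y : G) (hx : x ∈ V) (hy : y ∈ V) (hxZ : x ∉ (Wr.diag (2 * M)).map ι)
    (hyZ : y ∉ (Wr.diag (2 * M)).map ι) :
    ∃ n ∈ Subgroup.normalizer (V : Set G), y⁻¹ * (n * x * n⁻¹) ∈ (Wr.diag (2 * M)).map ι := by
  obtain ⟨δ, hδ⟩ := quat_sup_center_eq S ι hinj hrange h hh Q hQS eQ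
  have hVδ : V = (WrM.Tw 2 δ).map ι := hVQ.trans hδ
  set Φ := (autQuot ↥V (Subgroup.center ↥V)).comp V.normalizerMonoidHom with hΦ
  have hker := ker_le_sup_centralizer S ι hinj hrange h hh Q hQS eQ V hVQ
  have h1 : 6 ∣ Nat.card Φ.range := by
    have := Subgroup.index_dvd_of_le hker
    rw [Subgroup.index_ker] at this
    have h' : ((V ⊔ Subgroup.centralizer (V : Set G)).subgroupOf
      (Subgroup.normalizer (V : Set G))).index = 6 := h₂
    rwa [h'] at this
  have hc4 : Nat.card (↥V ⧸ Subgroup.center ↥V) = 4 :=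
    card_quot_center S ι hinj hrange h hh δ V hVδ
  have h2 : Nat.card (MulAut (↥V ⧸ Subgroup.center ↥V)) = 6 := by
    have h3 := card_mulAut_dvd_six hc4
    have h5 := Subgroup.card_subgroup_dvd_card Φ.range
    exact Nat.dvd_antisymm h3 (h1.trans h5)
  have h3 : Φ.range = ⊤ := by
    apply Subgroup.eq_top_of_card_eq
    rw [h2]
    have h5 := Subgroup.card_subgroup_dvd_card Φ.range
    rw [h2] at h5
    exact Nat.dvd_antisymm h5 h1
  have hnc : ∀ w : G, ∀ hw : w ∈ V, w ∉ (Wr.diag (2 * M)).map ι →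
      (QuotientGroup.mk (⟨w, hw⟩ : ↥V) : ↥V ⧸ Subgroup.center ↥V) ≠ 1 := by
    intro w hw hwZ hh'
    rw [QuotientGroup.eq_one_iff, center_eq_subgroupOf S ι hinj hrange h hh δ V hVδ,
      Subgroup.mem_subgroupOf] at hh'
    exact hwZ hh'
  obtain ⟨α, hα⟩ := exists_aut_apply_eq hc4 h2 _ _ (hnc x hx hxZ) (hnc y hy hyZ)
  have hα' : α ∈ Φ.range := by rw [h3]; exact Subgroup.mem_top _
  obtain ⟨n, rfl⟩ := hα'
  refine ⟨n.1, n.2, ?_⟩
  rw [hΦ, MonoidHom.comp_apply, autQuot_mk] at hα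
  have h6 := QuotientGroup.eq.mp hα.symm
  rw [center_eq_subgroupOf S ι hinj hrange h hh δ V hVδ, Subgroup.mem_subgroupOf,
    Subgroup.coe_mul, Subgroup.coe_inv, Subgroup.normalizerMonoidHom_apply_apply_coe] at h6
  exact h6

end coord

end Cfsg.Agent.Helper20
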