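import Mathlib
import Cfsg.Agent.Lib.Helper20.WrG

set_option autoImplicit false
set_option linter.unusedSectionVars false
set_option linter.unusedSimpArgs false
set_option linter.unusedVariables false

namespace Cfsg.Agent.Helper20

open Cfsg.Agent.Helper98

section coord
variable {G : Type*} [Group G] [Finite G] (S : Sylow 2 G) {M : ℕ} [NeZero M]
  (ι : Wr (2 * M) →* G) (hinj : Function.Injective ι) (hrange : ι.range = (S : Subgroup G))
  (h : ZMod (2 * M)) (hh : 2 * h = (M : ZMod (2 * M)))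

include hinj hrange

theorem map_ne_one_of_a_ne (a b : ZMod (2 * M)) (e : Bool) (ha : a ≠ 0) :
    ι ⟨a, b, e⟩ ≠ 1 := by
  intro h1
  rw [← map_one ι] at h1
  exact ha (congrArg Wr.a (hinj h1))

theorem z0_mem_four_map : ι ⟨M, M, false⟩ ∈ (Wr.four M).map ι := by
  refine ⟨_, ?_, rfl⟩
  rw [SetLike.mem_coe, Wr.mem_four]
  exact ⟨rfl, WrM.half_add_half', WrM.half_add_half'⟩

theorem w1_mem_four_map : ι ⟨M, 0, false⟩ ∈ (Wr.four M).map ι := ⟨_, WrM.half_mem_four, rfl⟩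

theorem orderOf_z0 : orderOf (ι ⟨M, M, false⟩) = 2 := by
  rw [orderOf_map_eq S ι hinj hrange, Wr.orderOf_eq_two_iff']
  refine ⟨fun h1 => zmod_half_ne_zero (congrArg Wr.a h1), ?_⟩
  rw [Wr.mk_mul_mk_false, WrM.half_add_half']; rfl

theorem orderOf_w1 : orderOf (ι ⟨M, 0, false⟩) = 2 := by
  rw [orderOf_map_eq S ι hinj hrange, Wr.orderOf_eq_two_iff']
  refine ⟨fun h1 => zmod_half_ne_zero (congrArg Wr.a h1), ?_⟩
  rw [Wr.mk_mul_mk_false, WrM.half_add_half', add_zero]; rfl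

theorem orderOf_t0 : orderOf (ι ⟨0, 0, true⟩) = 2 := by
  rw [orderOf_map_eq S ι hinj hrange, Wr.orderOf_eq_two_iff']
  refine ⟨fun h1 => ?_, ?_⟩
  · have := congrArg Wr.e h1
    simp at this
  · rw [Wr.mk_mul_mk_true, add_zero]; rfl

/-- fusion of the two classes of involutions of `U` -/
theorem exists_conj_w1_z0
    (h₁ : (Subgroup.centralizer (((Wr.base (2 * M)).map ι : Subgroup G) : Set G)).relIndex
      (Subgroup.normalizer (((Wr.base (2 * M)).map ι : Subgroup G) : Set G)) = 6) :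
    ∃ n ∈ Subgroup.normalizer (((Wr.base (2 * M)).map ι : Subgroup G) : Set G),
      n * ι ⟨M, 0, false⟩ * n⁻¹ = ι ⟨M, M, false⟩ :=
  base_transitive S ι hinj hrange h₁ _ _ (w1_mem_four_map S ι hinj hrange)
    (z0_mem_four_map S ι hinj hrange)
    (map_ne_one_of_a_ne S ι hinj hrange _ _ _ zmod_half_ne_zero)
    (map_ne_one_of_a_ne S ι hinj hrange _ _ _ zmod_half_ne_zero)

/-- no subgroup of index two -/
theorem no_index_two (hzt : IsConj (ι ⟨M, M, false⟩) (ι ⟨0, 0, true⟩)) (n : G)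
    (hn : n ∈ Subgroup.normalizer (((Wr.base (2 * M)).map ι : Subgroup G) : Set G))
    (hnw : n * ι ⟨M, 0, false⟩ * n⁻¹ = ι ⟨M, M, false⟩) (H : Subgroup G) : H.index ≠ 2 := by
  intro hH
  obtain ⟨P1, P2⟩ := focal_of_index_two H hH
  have hHn : H.Normal := Subgroup.normal_of_index_eq_two hH
  have P1' : ∀ p q : Wr (2 * M), p⁻¹ * (q * p * q⁻¹) ∈ H.comap ι := by
    intro p q
    rw [Subgroup.mem_comap]
    simp only [map_mul, map_inv]
    exact P1 _ _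
  have P2' : ∀ p : Wr (2 * M), p * p ∈ H.comap ι := by
    intro p
    rw [Subgroup.mem_comap, map_mul]
    exact P2 _
  have hu1 : n * ι ⟨1, 0, false⟩ * n⁻¹ ∈ (Wr.base (2 * M)).map ι :=
    (Subgroup.mem_normalizer_iff.mp hn _).mp ⟨_, (Wr.mem_base.mpr rfl), rfl⟩
  obtain ⟨⟨a, b, e⟩, hpb, hp⟩ := hu1
  rw [SetLike.mem_coe, Wr.mem_base] at hpb
  simp only at hpb
  subst hpb
  have hpow : (⟨a, b, false⟩ : Wr (2 * M)) ^ M = ⟨M, M, false⟩ := by
    apply hinj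
    rw [map_pow, hp, conj_pow, ← map_pow, Wr.mk_false_pow, ← hnw]
    simp
  rw [Wr.mk_false_pow, Wr.mk.injEq, nsmul_eq_mul, nsmul_eq_mul] at hpow
  obtain ⟨d, rfl⟩ := WrM.odd_of_half_mul a hpow.1
  obtain ⟨c, rfl⟩ := WrM.odd_of_half_mul b hpow.2.1
  have hx : (⟨2 * d, 2 * c + 1, false⟩ : Wr (2 * M)) ∈ H.comap ι := by
    have h1 : (⟨2 * d, 2 * c + 1, false⟩ : Wr (2 * M)) =
        (⟨1, 0, false⟩ : Wr (2 * M))⁻¹ * ⟨2 * d + 1, 2 * c + 1, false⟩ := by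
      simp only [Wr.inv_mk_false, Wr.mk_mul_mk_false, Wr.mk.injEq, and_true]
      constructor <;> ring
    rw [h1, Subgroup.mem_comap, map_mul, map_inv, hp]
    exact P1 _ _
  have hz0 : (⟨M, M, false⟩ : Wr (2 * M)) ∈ H.comap ι := by
    have := P1' ⟨M, 0, false⟩ ⟨0, 0, true⟩
    simp only [Wr.inv_mk_false, Wr.mk_mul_mk_true, Wr.inv_mk_true, Wr.mk_mul_mk_false, neg_zero,
      zero_add, add_zero, Bool.not_false, Bool.not_true, Wr.neg_half] at this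
    exact this
  have ht : (⟨0, 0, true⟩ : Wr (2 * M)) ∈ H.comap ι := by
    rw [Subgroup.mem_comap]
    obtain ⟨g, hg⟩ := isConj_iff.mp hzt
    rw [← hg]
    exact hHn.conj_mem _ hz0 g
  have htop := WrM.eq_top_of_focal (H.comap ι) P1' P2' c d hx ht
  have hSH : (S : Subgroup G) ≤ H := by
    intro s hs
    rw [← hrange] at hs
    obtain ⟨p, rfl⟩ := hs
    have : p ∈ H.comap ι := by rw [htop]; exact Subgroup.mem_top _
    exact this
  have h1 := Subgroup.index_dvd_of_le hSH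
  rw [hH] at h1
  exact S.not_dvd_index h1

include hh

/-- fusion of an involution of `U` with a reflection, via `N_G(V)` -/
theorem isConj_w1_t0 (Q : Subgroup G) (hQS : Q ≤ S) (eQ : Q ≃* QuaternionGroup 2)
    (V : Subgroup G) (hVQ : V = Q ⊔ (Wr.diag (2 * M)).map ι)
    (h₂ : (V ⊔ Subgroup.centralizer (V : Set G)).relIndex (Subgroup.normalizer (V : Set G)) = 6) :
    IsConj (ι ⟨M, 0, false⟩) (ι ⟨0, 0, true⟩) := by
  obtain ⟨δ, hδ⟩ := quat_sup_center_eq S ι hinj hrange h hh Q hQS eQ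
  have hVδ : V = (WrM.Tw 2 δ).map ι := hVQ.trans hδ
  have hx : ι ⟨h, -h, false⟩ ∈ V := hVδ ▸ ⟨_, WrM.q1_mem_Tw h δ hh, rfl⟩
  have hy : ι ⟨δ, 0, true⟩ ∈ V := hVδ ▸ ⟨_, WrM.refl_mem_Tw 2 δ, rfl⟩
  have hxZ : ι ⟨h, -h, false⟩ ∉ (Wr.diag (2 * M)).map ι := by
    rintro ⟨p, hp, hpe⟩
    rw [hinj hpe, SetLike.mem_coe, Wr.mem_diag] at hp
    have h1 : h = -h := hp.2
    have : (M : ZMod (2 * M)) = 0 := by linear_combination h1 - hh
    exact zmod_half_ne_zero this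
  have hyZ : ι ⟨δ, 0, true⟩ ∉ (Wr.diag (2 * M)).map ι := by
    rintro ⟨p, hp, hpe⟩
    rw [hinj hpe, SetLike.mem_coe, Wr.mem_diag] at hp
    simp at hp
  obtain ⟨n, hn, hmem⟩ := quat_center_transitive S ι hinj hrange h hh Q hQS eQ V hVQ h₂ _ _
    hx hy hxZ hyZ
  have hc : ι ⟨h, h, false⟩ ∈ (Wr.diag (2 * M)).map ι := ⟨_, ⟨rfl, rfl⟩, rfl⟩
  have hnZ := normalizer_Tw_map_le S ι hinj hrange h hh δ V hVδ hn
  have hnc : n * ι ⟨h, h, false⟩ * n⁻¹ ∈ (Wr.diag (2 * M)).map ι :=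
    (Subgroup.mem_normalizer_iff.mp hnZ _).mp hc
  have hw : ι ⟨M, 0, false⟩ = ι ⟨h, -h, false⟩ * ι ⟨h, h, false⟩ := by
    rw [← map_mul, Wr.mk_mul_mk_false]
    congr 2
    · linear_combination -hh
    · ring
  have h1 : n * ι ⟨M, 0, false⟩ * n⁻¹ = ι ⟨δ, 0, true⟩ *
      ((ι ⟨δ, 0, true⟩)⁻¹ * (n * ι ⟨h, -h, false⟩ * n⁻¹) * (n * ι ⟨h, h, false⟩ * n⁻¹)) := by
    rw [hw]; group
  obtain ⟨p', hp', hp'e⟩ := Subgroup.mul_mem _ hmem hnc
  rw [← hp'e, ← map_mul] at h1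
  have he : ((⟨δ, 0, true⟩ : Wr (2 * M)) * p').e = true := by
    rw [Wr.mul_e, hp'.1]; rfl
  have hsq : ((⟨δ, 0, true⟩ : Wr (2 * M)) * p') * ((⟨δ, 0, true⟩ : Wr (2 * M)) * p') = 1 := by
    apply hinj
    rw [map_mul, ← h1, map_one]
    have : ι ⟨M, 0, false⟩ * ι ⟨M, 0, false⟩ = 1 := by
      rw [← map_mul, Wr.mk_mul_mk_false, WrM.half_add_half', add_zero]
      exact map_one ι
    calc n * ι ⟨M, 0, false⟩ * n⁻¹ * (n * ι ⟨M, 0, false⟩ * n⁻¹)
        = n * (ι ⟨M, 0, false⟩ * ι ⟨M, 0, false⟩) * n⁻¹ := by group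
      _ = 1 := by rw [this]; group
  have hc1 : IsConj (ι ⟨M, 0, false⟩) (ι ((⟨δ, 0, true⟩ : Wr (2 * M)) * p')) := by
    rw [← h1, isConj_iff]; exact ⟨n, rfl⟩
  generalize (⟨δ, 0, true⟩ : Wr (2 * M)) * p' = q at he hsq hc1
  rcases q with ⟨a, b, e⟩
  simp only at he
  subst he
  exact hc1.trans (ι.map_isConj (WrM.isConj_true_of_sq a b hsq))

/-- the case `(6, 6)` -/
theorem wreathed_six_six (Q : Subgroup G) (hQS : Q ≤ S) (eQ : Q ≃* QuaternionGroup 2)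
    (h₁ : (Subgroup.centralizer (((Wr.base (2 * M)).map ι : Subgroup G) : Set G)).relIndex
      (Subgroup.normalizer (((Wr.base (2 * M)).map ι : Subgroup G) : Set G)) = 6)
    (h₂ : ((Q ⊔ (Wr.diag (2 * M)).map ι) ⊔ Subgroup.centralizer
      ((Q ⊔ (Wr.diag (2 * M)).map ι : Subgroup G) : Set G)).relIndex
      (Subgroup.normalizer ((Q ⊔ (Wr.diag (2 * M)).map ι : Subgroup G) : Set G)) = 6) :
    (∀ H : Subgroup G, H.index ≠ 2) ∧
      Nat.card {C : ConjClasses G // ∃ t : G, orderOf t = 2 ∧ ConjClasses.mk t = C} = 1 := by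
  obtain ⟨g, hg, hgw⟩ := exists_conj_w1_z0 S ι hinj hrange h₁
  have hwt := isConj_w1_t0 S ι hinj hrange h hh Q hQS eQ _ rfl h₂
  have hwz : IsConj (ι ⟨M, 0, false⟩) (ι ⟨M, M, false⟩) := by
    rw [← hgw, isConj_iff]; exact ⟨g, rfl⟩
  have hzt := hwz.symm.trans hwt
  refine ⟨no_index_two S ι hinj hrange hzt g hg hgw, ?_⟩
  apply card_classes_eq_one 2 (ι ⟨M, M, false⟩) (orderOf_z0 S ι hinj hrange)
  intro t ht
  rcases invol_cases_G S ι hinj hrange t ht with h1 | h1 | h1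
  · exact h1
  · exact h1.trans hwz
  · exact h1.trans hzt.symm

end coord

end Cfsg.Agent.Helper20
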