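import Mathlib
import Cfsg.Agent.Lib.Helper20.WrH
import Cfsg.Agent.Lib.Helper20.AlpTools
import Cfsg.Agent.Lib.Helper98.WrSelfCent

set_option autoImplicit false
set_option linter.unusedSectionVars false
set_option linter.unusedSimpArgs false
set_option linter.unusedVariables false

namespace Cfsg.Agent.Helper20

open Cfsg.Agent.Helper98 Cfsg.Agent.Helper33

namespace WrM
variable {M : ℕ} [NeZero M]

theorem Tw_half_eq_good : Tw 2 (M : ZMod (2 * M)) = Wr.good M := by
  ext ⟨a, b, e⟩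
  rw [mem_Tw, Wr.mem_good]
  cases e
  · simp only [Bool.false_eq_true, if_false, sub_zero]
    constructor <;> intro h <;> linear_combination h
  · simp only [if_true]
    constructor
    · intro h; linear_combination h + two_mul_half (M := M)
    · intro h; linear_combination h - two_mul_half (M := M)

theorem Tw_conj (δ c : ZMod (2 * M)) :
    (Tw 2 δ).map (MulAut.conj (⟨c, 0, false⟩ : Wr (2 * M))).toMonoidHom = Tw 2 (δ + 2 * c) := by
  ext ⟨a, b, e⟩
  rw [mem_map_equiv', MulAut.conj_symm_apply, mem_Tw, mem_Tw]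
  cases e
  · simp only [Wr.inv_mk_false, Wr.mk_mul_mk_false, Bool.false_eq_true, if_false, sub_zero]
    constructor <;> intro h <;> linear_combination h
  · simp only [Wr.inv_mk_false, Wr.mk_mul_mk_false, Wr.mk_mul_mk_true, if_true, Bool.not_false]
    constructor <;> intro h <;> linear_combination h

/-- `Q Z` is conjugate to the model subgroup -/
theorem quat8_sup_diag_conj (Q : Subgroup (Wr (2 * M))) (ψ : Q ≃* QuaternionGroup 2)
    (h : ZMod (2 * M)) (hh : 2 * h = (M : ZMod (2 * M))) :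
    ∃ g : Wr (2 * M), Q ⊔ Wr.diag (2 * M) = (Wr.good M).map (MulAut.conj g).toMonoidHom := by
  obtain ⟨hq, c, d, hβ, hcd, hle⟩ := quat8_struct Q ψ h hh
  have h1 : Q ⊔ Wr.diag (2 * M) = Tw 2 (c - d) :=
    le_antisymm (sup_le hle (diag_le_Tw _ _))
      (Tw_two_le _ h hh c d (Subgroup.mem_sup_left hq) (Subgroup.mem_sup_left hβ) le_sup_right)
  refine ⟨⟨-d, 0, false⟩, ?_⟩
  rw [h1, ← Tw_half_eq_good, Tw_conj]
  congr 1
  linear_combination hcd

end WrM

section coord
variable {G : Type*} [Group G] [Finite G] (S : Sylow 2 G) {M : ℕ} [NeZero M]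
  (ι : Wr (2 * M) →* G) (hinj : Function.Injective ι) (hrange : ι.range = (S : Subgroup G))
  (h : ZMod (2 * M)) (hh : 2 * h = (M : ZMod (2 * M)))

include hinj hrange

/-- the fully normalized centric subgroups of a wreathed Sylow `2`-subgroup with an automorphism of
odd order -/
theorem local_cases (n : ℕ) (hN : 2 * M = 2 ^ n) (K : ℕ) (hK : M = 2 * K)
    (T : Subgroup G) (hT : T ∈ centricFN S) :
    IsPGroup 2 (MulAut ↥T) ∨ T = (Wr.base (2 * M)).map ι ∨
      ∃ g : Wr (2 * M), T = ((Wr.good M).map ι).map (MulAut.conj (ι g)).toMonoidHom := by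
  by_cases hA : IsPGroup 2 (MulAut ↥T)
  · left; exact hA
  right
  obtain ⟨⟨hTS, hsyl⟩, hcen⟩ := hT
  have hTr : T ≤ ι.range := hrange ▸ hTS
  have e1 := comapEquiv ι hinj T hTr
  have hA' : ¬ IsPGroup 2 (MulAut ↥(T.comap ι)) := by
    intro h1
    exact hA (h1.of_equiv (MulAut.congr e1))
  have hC : Subgroup.centralizer ((T.comap ι : Subgroup (Wr (2 * M))) : Set (Wr (2 * M))) ≤
      T.comap ι := by
    intro p hp
    rw [Subgroup.mem_comap]
    apply hcen
    · rw [Subgroup.mem_centralizer_iff]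
      intro t ht
      obtain ⟨q, rfl⟩ := hTr ht
      rw [← map_mul, ← map_mul]
      congr 1
      exact (Subgroup.mem_centralizer_iff.mp hp) q ht
    · exact isPElem_of_mem S.isPGroup' (wr_mem_S S ι hinj hrange p)
  rcases Wr.classify n hN K hK (T.comap ι) hC hA' with h1 | ⟨g, hg⟩
  · left
    rw [← h1, Subgroup.map_comap_eq_self hTr]
  · right
    refine ⟨g, ?_⟩
    rw [← map_conj_map_hom, hg, Subgroup.map_comap_eq_self hTr]

/-- transport of the local control property along conjugation by an element of `S` -/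
theorem local_transport (V : Subgroup G) (s : G) (hs : s ∈ (S : Subgroup G))
    (hV : ∀ x ∈ Subgroup.normalizer (V : Set G),
      ∃ s' ∈ (S : Subgroup G), ∀ b ∈ V, s'⁻¹ * b * s' = x⁻¹ * b * x)
    (x : G) (hx : x ∈ Subgroup.normalizer ((V.map (MulAut.conj s).toMonoidHom : Subgroup G) : Set G)) :
    ∃ s' ∈ (S : Subgroup G), ∀ b ∈ V.map (MulAut.conj s).toMonoidHom,
      s'⁻¹ * b * s' = x⁻¹ * b * x := by
  have hx' : s⁻¹ * x * s ∈ Subgroup.normalizer (V : Set G) := by
    rw [← map_normalizer_equiv, mem_map_equiv', MulAut.conj_symm_apply] at hx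
    exact hx
  obtain ⟨s', hs', h1⟩ := hV _ hx'
  refine ⟨s * s' * s⁻¹, Subgroup.mul_mem _ (Subgroup.mul_mem _ hs hs') (Subgroup.inv_mem _ hs), ?_⟩
  rintro _ ⟨b₀, hb₀, rfl⟩
  have h2 := h1 b₀ hb₀
  show (s * s' * s⁻¹)⁻¹ * (s * b₀ * s⁻¹) * (s * s' * s⁻¹) = x⁻¹ * (s * b₀ * s⁻¹) * x
  calc (s * s' * s⁻¹)⁻¹ * (s * b₀ * s⁻¹) * (s * s' * s⁻¹) = s * (s'⁻¹ * b₀ * s') * s⁻¹ := by group
    _ = s * ((s⁻¹ * x * s)⁻¹ * b₀ * (s⁻¹ * x * s)) * s⁻¹ := by rw [h2]
    _ = x⁻¹ * (s * b₀ * s⁻¹) * x := by group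

include hh

/-- `Q Z(S)` is conjugate in `S` to the model subgroup -/
theorem quat_center_eq_conj_good (Q : Subgroup G) (hQS : Q ≤ S) (eQ : Q ≃* QuaternionGroup 2) :
    ∃ g : Wr (2 * M), Q ⊔ (Wr.diag (2 * M)).map ι =
      ((Wr.good M).map ι).map (MulAut.conj (ι g)).toMonoidHom := by
  have hQr : Q ≤ ι.range := hrange ▸ hQS
  obtain ⟨g, hg⟩ := WrM.quat8_sup_diag_conj (Q.comap ι) ((comapEquiv ι hinj Q hQr).trans eQ) h hh
  refine ⟨g, ?_⟩
  rw [← map_conj_map_hom, ← hg, Subgroup.map_sup, Subgroup.map_comap_eq_self hQr]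

/-- every conjugate of the model subgroup in `S` is a conjugate of `V = Q Z(S)` -/
theorem conj_good_eq_conj (Q : Subgroup G) (hQS : Q ≤ S) (eQ : Q ≃* QuaternionGroup 2)
    (g : Wr (2 * M)) :
    ∃ s ∈ (S : Subgroup G), ((Wr.good M).map ι).map (MulAut.conj (ι g)).toMonoidHom =
      (Q ⊔ (Wr.diag (2 * M)).map ι).map (MulAut.conj s).toMonoidHom := by
  obtain ⟨g₀, hg₀⟩ := quat_center_eq_conj_good S ι hinj hrange h hh Q hQS eQ
  refine ⟨ι (g * g₀⁻¹), wr_mem_S S ι hinj hrange _, ?_⟩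
  rw [hg₀, Subgroup.map_map]
  ext y
  simp [MulAut.conj_apply, mul_assoc]

end coord

end Cfsg.Agent.Helper20
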