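import Mathlib
import Cfsg.Agent.Lib.Helper20.WrI

set_option autoImplicit false
set_option linter.unusedSectionVars false
set_option linter.unusedSimpArgs false
set_option linter.unusedVariables false

namespace Cfsg.Agent.Helper20

open Cfsg.Agent.Helper98 Cfsg.Agent.Helper33

section coord
variable {G : Type*} [Group G] [Finite G] (S : Sylow 2 G) {M : ℕ} [NeZero M]
  (ι : Wr (2 * M) →* G) (hinj : Function.Injective ι) (hrange : ι.range = (S : Subgroup G))
  (h : ZMod (2 * M)) (hh : 2 * h = (M : ZMod (2 * M)))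

include hinj hrange

theorem base_map_le_S : (Wr.base (2 * M)).map ι ≤ (S : Subgroup G) := by
  rintro _ ⟨p, -, rfl⟩
  exact wr_mem_S S ι hinj hrange p

theorem t0_not_mem_centralizer_base :
    ι ⟨0, 0, true⟩ ∉ Subgroup.centralizer (((Wr.base (2 * M)).map ι : Subgroup G) : Set G) := by
  intro h
  rw [Subgroup.mem_centralizer_iff] at h
  have h1 := h (ι ⟨1, 0, false⟩)
    ⟨_, (Wr.mem_base.mpr rfl : (⟨1, 0, false⟩ : Wr (2 * M)) ∈ Wr.base (2 * M)), rfl⟩
  rw [← map_mul, ← map_mul] at h1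
  have h2 := hinj h1
  simp only [Wr.mk_mul_mk_true, Wr.mk_mul_mk_false, Wr.mk.injEq, Bool.not_false, and_true] at h2
  have hf : Fact (1 < 2 * M) := ⟨by have := NeZero.pos M; omega⟩
  have : (1 : ZMod (2 * M)) = 0 := by linear_combination h2.1
  exact one_ne_zero this

theorem base_le_centralizer_base :
    (Wr.base (2 * M)).map ι ≤
      Subgroup.centralizer (((Wr.base (2 * M)).map ι : Subgroup G) : Set G) := by
  intro a ha
  rw [Subgroup.mem_centralizer_iff]
  intro b hb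
  exact base_map_comm S ι hinj hrange b a hb ha

/-- `N_G(U)` acts on `U` as `S` does when `|N_G(U) : C_G(U)| = 2` -/
theorem local_base_two
    (h₁ : (Subgroup.centralizer (((Wr.base (2 * M)).map ι : Subgroup G) : Set G)).relIndex
      (Subgroup.normalizer (((Wr.base (2 * M)).map ι : Subgroup G) : Set G)) = 2)
    (x : G) (hx : x ∈ Subgroup.normalizer (((Wr.base (2 * M)).map ι : Subgroup G) : Set G)) :
    ∃ s ∈ (S : Subgroup G), ∀ b ∈ (Wr.base (2 * M)).map ι, s⁻¹ * b * s = x⁻¹ * b * x := by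
  have hsup : (Wr.base (2 * M)).map ι ⊔
      Subgroup.centralizer (((Wr.base (2 * M)).map ι : Subgroup G) : Set G) =
      Subgroup.centralizer (((Wr.base (2 * M)).map ι : Subgroup G) : Set G) :=
    sup_eq_right.mpr (base_le_centralizer_base S ι hinj hrange)
  apply local_of_relIndex_two (S : Subgroup G) _ (base_map_le_S S ι hinj hrange)
    (by rw [hsup]; exact h₁) (ι ⟨0, 0, true⟩) (wr_mem_S S ι hinj hrange _)
    (le_normalizer_map_of_normal S ι hinj hrange (Wr.base (2 * M))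
      (wr_mem_S S ι hinj hrange _))
    (by rw [hsup]; exact t0_not_mem_centralizer_base S ι hinj hrange) x hx

include hh

theorem quarter_map_mem_normalizer (δ : ZMod (2 * M)) (V : Subgroup G)
    (hVδ : V = (WrM.Tw 2 δ).map ι) : ι ⟨h, 0, false⟩ ∈ Subgroup.normalizer (V : Set G) := by
  rw [hVδ]
  exact Subgroup.le_normalizer_map ι ⟨_, WrM.quarter_mem_normalizer h δ hh, rfl⟩

theorem quarter_map_not_mem (Q : Subgroup G) (hQS : Q ≤ S) (eQ : Q ≃* QuaternionGroup 2)
    (V : Subgroup G) (hVQ : V = Q ⊔ (Wr.diag (2 * M)).map ι) :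
    ι ⟨h, 0, false⟩ ∉ V ⊔ Subgroup.centralizer (V : Set G) := by
  obtain ⟨δ, hδ⟩ := quat_sup_center_eq S ι hinj hrange h hh Q hQS eQ
  have hVδ : V = (WrM.Tw 2 δ).map ι := hVQ.trans hδ
  have hVS : V ≤ (S : Subgroup G) := hVδ ▸ Tw_map_le_S S ι hinj hrange δ
  have hwS : ι ⟨h, 0, false⟩ ∈ (S : Subgroup G) := wr_mem_S S ι hinj hrange _
  intro hmem
  rw [mem_sup_centralizer_iff] at hmem
  obtain ⟨t, ht, c, hc, htc⟩ := hmem
  have hcS : c ∈ (S : Subgroup G) := by
    have : c = t⁻¹ * ι ⟨h, 0, false⟩ := by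
      rw [← htc]; group
    rw [this]
    exact Subgroup.mul_mem _ (Subgroup.inv_mem _ (hVS ht)) hwS
  have hcZ : c ∈ (Wr.diag (2 * M)).map ι := by
    apply centralizer_quat_le S ι hinj hrange h hh Q hQS eQ c hcS
    intro q hq
    rw [Subgroup.mem_centralizer_iff] at hc
    exact hc q (hVQ ▸ Subgroup.mem_sup_left hq)
  have hcV : c ∈ V := hVQ ▸ Subgroup.mem_sup_right hcZ
  have hwV : ι ⟨h, 0, false⟩ ∈ V := by
    rw [← htc]; exact Subgroup.mul_mem _ ht hcV
  rw [hVδ] at hwV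
  obtain ⟨p, hp, hpe⟩ := hwV
  rw [hinj hpe] at hp
  exact WrM.quarter_not_mem_Tw h δ hh hp

/-- `N_G(V)` acts on `V = Q Z(S)` as `S` does when `|N_G(V) : V C_G(V)| = 2` -/
theorem local_quat_two (Q : Subgroup G) (hQS : Q ≤ S) (eQ : Q ≃* QuaternionGroup 2)
    (V : Subgroup G) (hVQ : V = Q ⊔ (Wr.diag (2 * M)).map ι)
    (h₂ : (V ⊔ Subgroup.centralizer (V : Set G)).relIndex (Subgroup.normalizer (V : Set G)) = 2)
    (x : G) (hx : x ∈ Subgroup.normalizer (V : Set G)) :
    ∃ s ∈ (S : Subgroup G), ∀ b ∈ V, s⁻¹ * b * s = x⁻¹ * b * x := by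
  obtain ⟨δ, hδ⟩ := quat_sup_center_eq S ι hinj hrange h hh Q hQS eQ
  have hVδ : V = (WrM.Tw 2 δ).map ι := hVQ.trans hδ
  have hVS : V ≤ (S : Subgroup G) := hVδ ▸ Tw_map_le_S S ι hinj hrange δ
  exact local_of_relIndex_two (S : Subgroup G) V hVS h₂ (ι ⟨h, 0, false⟩)
    (wr_mem_S S ι hinj hrange _) (quarter_map_mem_normalizer S ι hinj hrange h hh δ V hVδ)
    (quarter_map_not_mem S ι hinj hrange h hh Q hQS eQ V hVQ) x hx

/-- the case `(2, 2)`: Frobenius' condition -/
theorem wreathed_two_two_frob (n : ℕ) (hN : 2 * M = 2 ^ n) (K : ℕ) (hK : M = 2 * K)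
    (Q : Subgroup G) (hQS : Q ≤ S) (eQ : Q ≃* QuaternionGroup 2)
    (h₁ : (Subgroup.centralizer (((Wr.base (2 * M)).map ι : Subgroup G) : Set G)).relIndex
      (Subgroup.normalizer (((Wr.base (2 * M)).map ι : Subgroup G) : Set G)) = 2)
    (h₂ : ((Q ⊔ (Wr.diag (2 * M)).map ι) ⊔ Subgroup.centralizer
      ((Q ⊔ (Wr.diag (2 * M)).map ι : Subgroup G) : Set G)).relIndex
      (Subgroup.normalizer ((Q ⊔ (Wr.diag (2 * M)).map ι : Subgroup G) : Set G)) = 2) :
    Cfsg.Agent.Helper2.FrobCond 2 G := by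
  apply frobCond_of_controls S
  apply alperin_controls S
  intro T hT x hx
  rcases local_cases S ι hinj hrange n hN K hK T hT with h1 | h1 | ⟨g, hg⟩
  · exact local_of_aut_pgroup S T hT.1.2 h1 x hx
  · subst h1
    exact local_base_two S ι hinj hrange h₁ x hx
  · obtain ⟨s, hs, hsV⟩ := conj_good_eq_conj S ι hinj hrange h hh Q hQS eQ g
    rw [hsV] at hg
    subst hg
    exact local_transport S ι hinj hrange _ s hs
      (local_quat_two S ι hinj hrange h hh Q hQS eQ _ rfl h₂) x hx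

end coord

end Cfsg.Agent.Helper20
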