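import Mathlib
import Cfsg.Agent.Lib.Helper20.WrJ
import Cfsg.Agent.Lib.Helper20.TransferTools

set_option autoImplicit false
set_option linter.unusedSectionVars false
set_option linter.unusedSimpArgs false
set_option linter.unusedVariables false

namespace Cfsg.Agent.Helper20

open Cfsg.Agent.Helper98 Cfsg.Agent.Helper33

/-- an element of odd order commuting with its square's commutant: if `σ ^ 2` commutes with `x`
and `σ` has odd order, then `σ` commutes with `x` -/
theorem commute_of_sq_commute_of_odd {G : Type*} [Group G] (σ x : G)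
    (hodd : (orderOf σ).Coprime 2) (h : Commute (σ ^ 2) x) : Commute σ x := by
  obtain ⟨k, hk⟩ := Nat.coprime_two_right.mp hodd
  have h1 : (σ ^ 2) ^ (k + 1) = σ := by
    rw [← pow_mul]
    have : 2 * (k + 1) = orderOf σ + 1 := by omega
    rw [this, pow_succ, pow_orderOf_eq_one, one_mul]
  rw [← h1]
  exact h.pow_left _

/-- an element of odd order normalizing a four-group and fixing one of its involutions centralizes
it -/
theorem klein_fixed_all {G : Type*} [Group G] (Ω : Subgroup G) (h4 : Nat.card Ω = 4)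
    (hsq : ∀ x ∈ Ω, x * x = 1) (σ : G) (hσ : σ ∈ Subgroup.normalizer (Ω : Set G))
    (hodd : (orderOf σ).Coprime 2) (w : G) (hw : w ∈ Ω) (hw1 : w ≠ 1)
    (hfix : σ * w * σ⁻¹ = w) : ∀ x ∈ Ω, σ * x * σ⁻¹ = x := by
  classical
  have hfin : Finite Ω := Nat.finite_of_card_ne_zero (by omega)
  have hft : Fintype Ω := Fintype.ofFinite Ω
  intro x hx
  by_cases hx1 : x = 1
  · rw [hx1]; group
  by_cases hxw : x = w
  · rw [hxw]; exact hfix
  have hy : σ * x * σ⁻¹ ∈ Ω := (Subgroup.mem_normalizer_iff.mp hσ x).mp hx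
  have hy1 : σ * x * σ⁻¹ ≠ 1 := by
    intro h
    apply hx1
    have : x = σ⁻¹ * (σ * x * σ⁻¹) * σ := by group
    rw [this, h]; group
  have hyw : σ * x * σ⁻¹ ≠ w := by
    intro h
    apply hxw
    have : x = σ⁻¹ * (σ * x * σ⁻¹) * σ := by group
    have e2 : σ⁻¹ * w * σ = w := by
      nth_rewrite 1 [← hfix]; group
    rw [this, h, e2]
  have hwx : w * x ∈ Ω := Ω.mul_mem hw hx
  -- the four elements
  have hcard : ({(1 : Ω), ⟨w, hw⟩, ⟨x, hx⟩, ⟨w * x, hwx⟩} : Finset Ω).card = 4 := by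
    rw [Finset.card_insert_of_notMem, Finset.card_insert_of_notMem, Finset.card_insert_of_notMem,
      Finset.card_singleton]
    · simp only [Finset.mem_singleton, Subtype.mk.injEq]
      intro h
      apply hw1
      have : w = (w * x) * x⁻¹ := by group
      rw [this, ← h]; group
    · simp only [Finset.mem_insert, Finset.mem_singleton, Subtype.mk.injEq, not_or]
      refine ⟨fun h => hxw h.symm, fun h => ?_⟩
      apply hx1
      have : x = w⁻¹ * (w * x) := by group
      rw [this, ← h]; group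
    · simp only [Finset.mem_insert, Finset.mem_singleton, not_or]
      refine ⟨fun h => hw1 (congrArg Subtype.val h).symm, fun h => hx1 (congrArg Subtype.val h).symm,
        fun h => ?_⟩
      have h' : (1 : G) = w * x := congrArg Subtype.val h
      apply hxw
      have h2 := hsq w hw
      have : x = w⁻¹ * (w * x) := by group
      rw [this, ← h', mul_one]
      exact (inv_eq_of_mul_eq_one_left h2)
  have huniv : ({(1 : Ω), ⟨w, hw⟩, ⟨x, hx⟩, ⟨w * x, hwx⟩} : Finset Ω) = Finset.univ := by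
    apply Finset.eq_univ_of_card
    rw [hcard, ← Nat.card_eq_fintype_card, h4]
  have hmem : (⟨σ * x * σ⁻¹, hy⟩ : Ω) ∈
      ({(1 : Ω), ⟨w, hw⟩, ⟨x, hx⟩, ⟨w * x, hwx⟩} : Finset Ω) := by
    rw [huniv]; exact Finset.mem_univ _
  simp only [Finset.mem_insert, Finset.mem_singleton, Subtype.mk.injEq] at hmem
  rcases hmem with h | h | h | h
  · exact absurd (congrArg Subtype.val h) hy1
  · exact absurd h hyw
  · exact h
  · -- `σ² ` commutes with `x`
    have h2 : σ ^ 2 * x * (σ ^ 2)⁻¹ = x := by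
      calc σ ^ 2 * x * (σ ^ 2)⁻¹ = σ * (σ * x * σ⁻¹) * σ⁻¹ := by rw [pow_two]; group
        _ = σ * (w * x) * σ⁻¹ := by rw [h]
        _ = (σ * w * σ⁻¹) * (σ * x * σ⁻¹) := by group
        _ = w * (w * x) := by rw [hfix, h]
        _ = (w * w) * x := by group
        _ = x := by rw [hsq w hw, one_mul]
    have hc : Commute (σ ^ 2) x := by
      show σ ^ 2 * x = x * σ ^ 2
      calc σ ^ 2 * x = (σ ^ 2 * x * (σ ^ 2)⁻¹) * σ ^ 2 := by group
        _ = x * σ ^ 2 := by rw [h2]
    have hc' := commute_of_sq_commute_of_odd σ x hodd hc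
    calc σ * x * σ⁻¹ = (x * σ) * σ⁻¹ := by rw [hc'.eq]
      _ = x := by group

/-- if `|N : C| = 6` for a normal subgroup `C` of `N`, some element of odd order of `N` lies
outside `C` -/
theorem exists_odd_not_mem_of_relIndex_six {G : Type*} [Group G] [Finite G] (C N : Subgroup G)
    (hn : (C.subgroupOf N).Normal) (h6 : C.relIndex N = 6) :
    ∃ σ ∈ N, (orderOf σ).Coprime 2 ∧ σ ∉ C := by
  have hcard : Nat.card (↥N ⧸ C.subgroupOf N) = 6 := by
    rw [← Subgroup.index_eq_card]; exact h6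
  have : Fact (Nat.Prime 3) := ⟨by norm_num⟩
  obtain ⟨xbar, hx3⟩ := exists_prime_orderOf_dvd_card' (G := ↥N ⧸ C.subgroupOf N) 3
    (by rw [hcard]; norm_num)
  obtain ⟨x, rfl⟩ := QuotientGroup.mk_surjective xbar
  obtain ⟨k, h', hxk, hk, hh', ⟨e, hke⟩, hodd⟩ := exists_two_odd_decomp x (orderOf_pos x)
  refine ⟨(h' : G), h'.2, by rwa [Subgroup.orderOf_coe], ?_⟩
  intro hC
  have h1 : (QuotientGroup.mk h' : ↥N ⧸ C.subgroupOf N) = 1 := by
    rw [QuotientGroup.eq_one_iff, Subgroup.mem_subgroupOf]; exact hC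
  have h2 : (QuotientGroup.mk x : ↥N ⧸ C.subgroupOf N) = QuotientGroup.mk k := by
    rw [hxk, QuotientGroup.mk_mul, h1, mul_one]
  have h3 : (QuotientGroup.mk x : ↥N ⧸ C.subgroupOf N) ^ 2 ^ e = 1 := by
    rw [h2, ← QuotientGroup.mk_pow, hke]; rfl
  have h4 := orderOf_dvd_of_pow_eq_one h3
  rw [hx3] at h4
  have h5 : (3 : ℕ) ∣ 2 := (Nat.Prime.dvd_of_dvd_pow Nat.prime_three h4)
  omega

end Cfsg.Agent.Helper20
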