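import Mathlib
import Cfsg.Agent.Lib.Helper20.WrK
import Cfsg.Agent.Lib.Helper53.Thompson

set_option autoImplicit false
set_option linter.unusedSectionVars false
set_option linter.unusedSimpArgs false
set_option linter.unusedVariables false

namespace Cfsg.Agent.Helper20

open Cfsg.Agent.Helper98 Cfsg.Agent.Helper33

section coord
variable {G : Type*} [Group G] [Finite G] (S : Sylow 2 G) {M : ℕ} [NeZero M]
  (ι : Wr (2 * M) →* G) (hinj : Function.Injective ι) (hrange : ι.range = (S : Subgroup G))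
  (h : ZMod (2 * M)) (hh : 2 * h = (M : ZMod (2 * M)))

include hinj hrange

theorem conj_mem_base_of_S (s : G) (hs : s ∈ (S : Subgroup G)) (a : G)
    (ha : a ∈ (Wr.base (2 * M)).map ι) : s⁻¹ * a * s ∈ (Wr.base (2 * M)).map ι := by
  have hsN := le_normalizer_map_of_normal S ι hinj hrange (Wr.base (2 * M))
    (Subgroup.inv_mem _ hs)
  have := (Subgroup.mem_normalizer_iff.mp hsN a).mp ha
  simpa using this

theorem relIndex_base_map : ((Wr.base (2 * M)).map ι).relIndex (S : Subgroup G) = 2 := by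
  rw [← hrange, MonoidHom.range_eq_map, Subgroup.relIndex_map_map_of_injective _ _ hinj,
    Subgroup.relIndex_top_right, Wr.index_base]

/-- if `U` is closed under fusion in `S` there is a normal subgroup of index two meeting `S` in
`U` -/
theorem exists_index_two_of_base_closed
    (hcl : ∀ a ∈ (Wr.base (2 * M)).map ι, ∀ g : G, g⁻¹ * a * g ∈ (S : Subgroup G) →
      g⁻¹ * a * g ∈ (Wr.base (2 * M)).map ι) :
    ∃ K : Subgroup G, K.Normal ∧ K.index = 2 ∧ (Wr.base (2 * M)).map ι ≤ K ∧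
      ι ⟨0, 0, true⟩ ∉ K := by
  have hU2 := relIndex_base_map S ι hinj hrange
  set U := (Wr.base (2 * M)).map ι with hU
  have hUS : U ≤ (S : Subgroup G) := base_map_le_S S ι hinj hrange
  set ϕ : ↥(S : Subgroup G) →* ℤˣ := Cfsg.Agent.Helper53.signHom (S : Subgroup G) U hU2 with hϕ
  have hinv : ∀ (a : ↥(S : Subgroup G)) (g : G) (hg : g⁻¹ * (a : G) * g ∈ (S : Subgroup G)),
      ϕ ⟨g⁻¹ * a * g, hg⟩ = ϕ a := by
    intro a g hg
    by_cases ha : (a : G) ∈ U
    · rw [hϕ, Cfsg.Agent.Helper53.signHom_apply_of_mem _ _ _ _ ha,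
        Cfsg.Agent.Helper53.signHom_apply_of_mem _ _ _ _ (hcl _ ha g hg)]
    · have hna : g⁻¹ * (a : G) * g ∉ U := by
        intro hc
        apply ha
        have h1 := hcl _ hc g⁻¹ (by
          have : g⁻¹⁻¹ * (g⁻¹ * (a : G) * g) * g⁻¹ = a := by group
          rw [this]; exact a.2)
        have : g⁻¹⁻¹ * (g⁻¹ * (a : G) * g) * g⁻¹ = a := by group
        rwa [this] at h1
      rw [hϕ, Cfsg.Agent.Helper53.signHom_apply_of_not_mem _ _ _ _ ha,
        Cfsg.Agent.Helper53.signHom_apply_of_not_mem _ _ _ _ hna]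
  have hodd : Odd (S : Subgroup G).index := by
    rw [← Nat.not_even_iff_odd, even_iff_two_dvd]
    exact S.not_dvd_index
  have htr : ∀ s : ↥(S : Subgroup G), MonoidHom.transfer ϕ (s : G) = ϕ s := by
    intro s
    rw [transfer_eq_pow_of_invariant (S : Subgroup G) ϕ hinv s]
    rcases Int.units_eq_one_or (ϕ s) with h1 | h1
    · rw [h1, one_pow]
    · rw [h1, hodd.neg_one_pow]
  have ht0S : ι ⟨0, 0, true⟩ ∈ (S : Subgroup G) := wr_mem_S S ι hinj hrange _
  have ht0U : ι ⟨0, 0, true⟩ ∉ U := by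
    rintro ⟨p, hp, hpe⟩
    rw [hinj hpe, SetLike.mem_coe, Wr.mem_base] at hp
    simp at hp
  have key : MonoidHom.transfer ϕ (ι ⟨0, 0, true⟩) = -1 := by
    have := htr ⟨_, ht0S⟩
    rw [this, hϕ, Cfsg.Agent.Helper53.signHom_apply_of_not_mem _ _ _ _ ht0U]
  refine ⟨(MonoidHom.transfer ϕ).ker, MonoidHom.normal_ker _, ?_, ?_, ?_⟩
  · rw [Subgroup.index_ker]
    have hsurj : Function.Surjective (MonoidHom.transfer ϕ) := by
      intro u
      rcases Int.units_eq_one_or u with h1 | h1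
      · exact ⟨1, by rw [map_one, h1]⟩
      · exact ⟨ι ⟨0, 0, true⟩, by rw [key, h1]⟩
    rw [MonoidHom.range_eq_top.mpr hsurj]
    simp
  · intro u hu
    rw [MonoidHom.mem_ker]
    have := htr ⟨u, hUS hu⟩
    rw [this, hϕ, Cfsg.Agent.Helper53.signHom_apply_of_mem _ _ _ _ hu]
  · rw [MonoidHom.mem_ker, key]
    decide

/-- an element of odd order of `N_G(U)` outside `C_G(U)` is fixed-point-free on `U` -/
theorem fpf_of_odd_not_centralizing (σ : G)
    (hσN : σ ∈ Subgroup.normalizer (((Wr.base (2 * M)).map ι : Subgroup G) : Set G))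
    (hodd : (orderOf σ).Coprime 2)
    (hσC : σ ∉ Subgroup.centralizer (((Wr.base (2 * M)).map ι : Subgroup G) : Set G))
    (u : G) (hu : u ∈ (Wr.base (2 * M)).map ι) (hfix : σ * u * σ⁻¹ = u) : u = 1 := by
  by_contra hu1
  set U := (Wr.base (2 * M)).map ι with hU
  have hU2 : IsPGroup 2 U := S.isPGroup'.to_le (base_map_le_S S ι hinj hrange)
  obtain ⟨k, hk⟩ := (IsPGroup.iff_orderOf.mp hU2) ⟨u, hu⟩
  rw [Subgroup.orderOf_mk] at hk
  have hk1 : 1 ≤ k := by
    by_contra hlt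
    have : k = 0 := by omega
    rw [this, pow_zero, orderOf_eq_one_iff] at hk
    exact hu1 hk
  set w := u ^ 2 ^ (k - 1) with hw
  have hwU : w ∈ U := Subgroup.pow_mem _ hu _
  have hw1 : w ≠ 1 := by
    apply pow_ne_one_of_lt_orderOf (by positivity)
    rw [hk]
    exact Nat.pow_lt_pow_right (by norm_num) (by omega)
  have hw2 : w ^ 2 = 1 := by
    rw [hw, ← pow_mul, ← pow_succ]
    have : k - 1 + 1 = k := by omega
    rw [this, ← hk, pow_orderOf_eq_one]
  have hwfix : σ * w * σ⁻¹ = w := by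
    rw [hw, ← conj_pow, hfix]
  have hwΩ := mem_four_map_of_sq S ι hinj hrange w hwU hw2
  have hσΩ := normalizer_base_le_normalizer_four S ι hinj hrange hσN
  have hall := klein_fixed_all ((Wr.four M).map ι) (card_four_map S ι hinj hrange)
    (by
      rintro _ ⟨p, hp, rfl⟩
      rw [← map_mul, Wr.four_sq hp, map_one])
    σ hσΩ hodd w hwΩ hw1 hwfix
  apply hσC
  apply mem_centralizer_of_odd_of_omega U
    (fun a ha b hb => base_map_comm S ι hinj hrange a b ha hb) hU2 σ hσN hodd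
  intro v hv hv2
  exact hall v (mem_four_map_of_sq S ι hinj hrange v hv hv2)

/-- if `|N_G(U) : C_G(U)| = 6`, a normal subgroup of index two containing `U` has no subgroup of
index two -/
theorem no_index_two_sub
    (h₁ : (Subgroup.centralizer (((Wr.base (2 * M)).map ι : Subgroup G) : Set G)).relIndex
      (Subgroup.normalizer (((Wr.base (2 * M)).map ι : Subgroup G) : Set G)) = 6)
    (K : Subgroup G) (hKn : K.Normal) (hK2 : K.index = 2)
    (hUK : (Wr.base (2 * M)).map ι ≤ K) (H : Subgroup ↥K) : H.index ≠ 2 := by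
  intro hH
  set U := (Wr.base (2 * M)).map ι with hU
  obtain ⟨σ, hσN, hσodd, hσC⟩ := exists_odd_not_mem_of_relIndex_six _ _
    (centralizer_subgroupOf_normal U) h₁
  have hσK : σ ∈ K := mem_of_index_two_of_odd K hK2 σ hσodd
  obtain ⟨P1, -⟩ := focal_of_index_two H hH
  have hfpf := fpf_of_odd_not_centralizing S ι hinj hrange σ hσN hσodd hσC
  -- the map `u ↦ u⁻¹ σ u σ⁻¹`
  have hmem : ∀ u : ↥U, (u : G)⁻¹ * (σ * u * σ⁻¹) ∈ U := fun u =>
    U.mul_mem (U.inv_mem u.2) ((Subgroup.mem_normalizer_iff.mp hσN u).mp u.2)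
  set f : ↥U → ↥U := fun u => ⟨(u : G)⁻¹ * (σ * u * σ⁻¹), hmem u⟩ with hf
  have hfinj : Function.Injective f := by
    intro u v huv
    have h1 : (u : G)⁻¹ * (σ * u * σ⁻¹) = (v : G)⁻¹ * (σ * v * σ⁻¹) := congrArg Subtype.val huv
    have hcomm := base_map_comm S ι hinj hrange
    have hσu : σ * u * σ⁻¹ ∈ U := (Subgroup.mem_normalizer_iff.mp hσN u).mp u.2
    have hσv : σ * v * σ⁻¹ ∈ U := (Subgroup.mem_normalizer_iff.mp hσN v).mp v.2
    have h2 : σ * ((v : G) * (u : G)⁻¹) * σ⁻¹ = (v : G) * (u : G)⁻¹ := by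
      have e1 : σ * ((v : G) * (u : G)⁻¹) * σ⁻¹ = (σ * v * σ⁻¹) * (σ * u * σ⁻¹)⁻¹ := by group
      rw [e1]
      have e2 : σ * u * σ⁻¹ = (u : G) * ((v : G)⁻¹ * (σ * v * σ⁻¹)) := by rw [← h1]; group
      rw [e2]
      have e3 := hcomm (v : G)⁻¹ (σ * v * σ⁻¹) (U.inv_mem v.2) hσv
      have e4 := hcomm (u : G) (σ * v * σ⁻¹) u.2 hσv
      calc σ * ↑v * σ⁻¹ * (↑u * ((v : G)⁻¹ * (σ * ↑v * σ⁻¹)))⁻¹
          = σ * ↑v * σ⁻¹ * ((σ * ↑v * σ⁻¹)⁻¹ * (v : G) * (u : G)⁻¹) := by group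
        _ = (v : G) * (u : G)⁻¹ := by group
    have h3 := hfpf _ (U.mul_mem v.2 (U.inv_mem u.2)) h2
    apply Subtype.ext
    have : (v : G) = (u : G) := by
      have := mul_inv_eq_one.mp h3
      exact this
    exact this.symm
  have hfsurj : Function.Surjective f := Finite.injective_iff_surjective.mp hfinj
  have hUH : U.subgroupOf K ≤ H := by
    intro v hv
    rw [Subgroup.mem_subgroupOf] at hv
    obtain ⟨u, hu⟩ := hfsurj ⟨v, hv⟩
    have h1 := P1 ⟨u, hUK u.2⟩ ⟨σ, hσK⟩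
    have h2 : (⟨u, hUK u.2⟩ : ↥K)⁻¹ * (⟨σ, hσK⟩ * ⟨u, hUK u.2⟩ * (⟨σ, hσK⟩ : ↥K)⁻¹) = v := by
      apply Subtype.ext
      have := congrArg Subtype.val hu
      simpa [hf] using this
    rwa [h2] at h1
  -- counting
  have c1 := Subgroup.card_dvd_of_le hUH
  rw [Nat.card_congr (Subgroup.subgroupOfEquivOfLe hUK).toEquiv] at c1
  have c2 := H.card_mul_index
  rw [hH] at c2
  have c3 := K.card_mul_index
  rw [hK2] at c3
  have c4 := (S : Subgroup G).card_mul_index
  have c5 : Nat.card U * 2 = Nat.card (S : Subgroup G) := by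
    have h5 := Subgroup.card_mul_index (U.subgroupOf (S : Subgroup G))
    have h6 : (U.subgroupOf (S : Subgroup G)).index = 2 := relIndex_base_map S ι hinj hrange
    rw [h6, Nat.card_congr (Subgroup.subgroupOfEquivOfLe (base_map_le_S S ι hinj hrange)).toEquiv]
      at h5
    exact h5
  obtain ⟨c, hc⟩ := c1
  have hUpos : 0 < Nat.card U := Nat.card_pos
  have h7 : Nat.card U * (2 * (S : Subgroup G).index) = Nat.card U * (4 * c) := by
    calc Nat.card U * (2 * (S : Subgroup G).index) = Nat.card (S : Subgroup G) * (S : Subgroup G).index := by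
          rw [← c5]; ring
      _ = Nat.card G := c4
      _ = Nat.card ↥K * 2 := c3.symm
      _ = Nat.card ↥H * 2 * 2 := by rw [c2]
      _ = Nat.card U * (4 * c) := by rw [hc]; ring
  have h8 : 2 * (S : Subgroup G).index = 4 * c := Nat.eq_of_mul_eq_mul_left hUpos h7
  have h9 : 2 ∣ (S : Subgroup G).index := ⟨c, by omega⟩
  exact S.not_dvd_index h9

include hh

/-- if `|N_G(V) : V C_G(V)| = 2` then `U` is closed under fusion in `S` -/
theorem base_closed_of_quat_two (n : ℕ) (hN : 2 * M = 2 ^ n) (K : ℕ) (hK : M = 2 * K)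
    (Q : Subgroup G) (hQS : Q ≤ S) (eQ : Q ≃* QuaternionGroup 2)
    (h₂ : ((Q ⊔ (Wr.diag (2 * M)).map ι) ⊔ Subgroup.centralizer
      ((Q ⊔ (Wr.diag (2 * M)).map ι : Subgroup G) : Set G)).relIndex
      (Subgroup.normalizer ((Q ⊔ (Wr.diag (2 * M)).map ι : Subgroup G) : Set G)) = 2)
    (a : G) (ha : a ∈ (Wr.base (2 * M)).map ι) (g : G) (hg : g⁻¹ * a * g ∈ (S : Subgroup G)) :
    g⁻¹ * a * g ∈ (Wr.base (2 * M)).map ι := by
  have haS : a ∈ (S : Subgroup G) := base_map_le_S S ι hinj hrange ha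
  refine alperin_preorder S
    (fun a b => a ∈ (Wr.base (2 * M)).map ι → b ∈ (Wr.base (2 * M)).map ι)
    (fun a h => h) (fun a b c h1 h2 h => h2 (h1 h)) ?_ a haS g hg ha
  intro T hT x hx b hb hbU
  rcases local_cases S ι hinj hrange n hN K hK T hT with h1 | h1 | ⟨g', hg'⟩
  · obtain ⟨s, hs, hsx⟩ := local_of_aut_pgroup S T hT.1.2 h1 x hx
    rw [← hsx b hb]
    exact conj_mem_base_of_S S ι hinj hrange s hs b hbU
  · subst h1
    have := (Subgroup.mem_normalizer_iff.mp (Subgroup.inv_mem _ hx) b).mp hb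
    simpa using this
  · obtain ⟨s, hs, hsV⟩ := conj_good_eq_conj S ι hinj hrange h hh Q hQS eQ g'
    rw [hsV] at hg'
    subst hg'
    obtain ⟨s', hs', hsx⟩ := local_transport S ι hinj hrange _ s hs
      (local_quat_two S ι hinj hrange h hh Q hQS eQ _ rfl h₂) x hx
    rw [← hsx b hb]
    exact conj_mem_base_of_S S ι hinj hrange s' hs' b hbU

/-- the case `(6, 2)` -/
theorem wreathed_six_two (n : ℕ) (hN : 2 * M = 2 ^ n) (K₀ : ℕ) (hK₀ : M = 2 * K₀)
    (Q : Subgroup G) (hQS : Q ≤ S) (eQ : Q ≃* QuaternionGroup 2)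
    (h₁ : (Subgroup.centralizer (((Wr.base (2 * M)).map ι : Subgroup G) : Set G)).relIndex
      (Subgroup.normalizer (((Wr.base (2 * M)).map ι : Subgroup G) : Set G)) = 6)
    (h₂ : ((Q ⊔ (Wr.diag (2 * M)).map ι) ⊔ Subgroup.centralizer
      ((Q ⊔ (Wr.diag (2 * M)).map ι : Subgroup G) : Set G)).relIndex
      (Subgroup.normalizer ((Q ⊔ (Wr.diag (2 * M)).map ι : Subgroup G) : Set G)) = 2) :
    (∃ K : Subgroup G, K.Normal ∧ K.index = 2 ∧ (Wr.base (2 * M)).map ι ≤ K ∧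
      (∀ H : Subgroup ↥K, H.index ≠ 2)) ∧
    Nat.card {C : ConjClasses G // ∃ t : G, orderOf t = 2 ∧ ConjClasses.mk t = C} = 2 := by
  have hcl := base_closed_of_quat_two S ι hinj hrange h hh n hN K₀ hK₀ Q hQS eQ h₂
  obtain ⟨K, hKn, hK2, hUK, -⟩ := exists_index_two_of_base_closed S ι hinj hrange hcl
  refine ⟨⟨K, hKn, hK2, hUK, no_index_two_sub S ι hinj hrange h₁ K hKn hK2 hUK⟩, ?_⟩
  obtain ⟨g, hg, hgw⟩ := exists_conj_w1_z0 S ι hinj hrange h₁
  have hwz : IsConj (ι ⟨M, 0, false⟩) (ι ⟨M, M, false⟩) := by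
    rw [← hgw, isConj_iff]; exact ⟨g, rfl⟩
  apply card_classes_eq_two 2 (ι ⟨M, M, false⟩) (ι ⟨0, 0, true⟩) (orderOf_z0 S ι hinj hrange)
    (orderOf_t0 S ι hinj hrange)
  · intro hc
    obtain ⟨c, hc⟩ := isConj_iff.mp hc
    have hz0U : ι ⟨M, M, false⟩ ∈ (Wr.base (2 * M)).map ι := ⟨_, Wr.mem_base.mpr rfl, rfl⟩
    have h1 := hcl _ hz0U c⁻¹ (by
      rw [inv_inv, hc]; exact wr_mem_S S ι hinj hrange _)
    rw [inv_inv, hc] at h1
    obtain ⟨p, hp, hpe⟩ := h1
    rw [hinj hpe, SetLike.mem_coe, Wr.mem_base] at hp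
    simp at hp
  · intro t ht
    rcases invol_cases_G S ι hinj hrange t ht with h1 | h1 | h1
    · left; exact h1
    · left; exact h1.trans hwz
    · right; exact h1

end coord

end Cfsg.Agent.Helper20
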