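import Mathlib
import Cfsg.Agent.Lib.Helper20.WrL
import Cfsg.Agent.Lib.Helper98.WrQuat

set_option autoImplicit false
set_option linter.unusedSectionVars false
set_option linter.unusedSimpArgs false
set_option linter.unusedVariables false

namespace Cfsg.Agent.Helper20

open Cfsg.Agent.Helper98 Cfsg.Agent.Helper33

namespace WrM
variable {M : ℕ} [NeZero M]

/-- non-central elements of order four of `Q Z(S)` lie in the generalized quaternion subgroup -/
theorem sigVal_eq_zero_of_order_four (δ : ZMod (2 * M)) (p : Wr (2 * M)) (hp : p ∈ Tw 2 δ)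
    (hd : p ∉ Wr.diag (2 * M)) (h4 : (p * p) * (p * p) = 1) (h2 : p * p ≠ 1) :
    Wr.sigVal M p = 0 := by
  rcases p with ⟨a, b, e⟩
  have hMM := half_add_half' (M := M)
  cases e
  · rw [mem_Tw] at hp
    simp only [Bool.false_eq_true, if_false, sub_zero] at hp
    simp only [Wr.mk_mul_mk_false, Wr.ext_iff, Wr.one_a, Wr.one_b, Wr.one_e, and_true] at h4
    rw [Wr.mem_diag] at hd
    simp only [true_and] at hd
    have hab : a - b = (M : ZMod (2 * M)) := by
      rcases (two_mul_eq_zero_iff' _).mp hp with h | h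
      · exact absurd (sub_eq_zero.mp h) hd
      · exact h
    have h2b : 2 * (2 * b) = 0 := by linear_combination h4.2
    have hb : 2 * b = (M : ZMod (2 * M)) := by
      rcases (two_mul_eq_zero_iff' _).mp h2b with h | h
      · exfalso
        apply h2
        simp only [Wr.mk_mul_mk_false, Wr.ext_iff, Wr.one_a, Wr.one_b, Wr.one_e, and_true]
        constructor
        · linear_combination 2 * hab + h + two_mul_half (M := M)
        · linear_combination h
      · exact h
    simp only [Wr.sigVal, Bool.false_eq_true, if_false, add_zero]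
    linear_combination hab + hb + hMM
  · simp only [Wr.mk_mul_mk_true, Wr.mk_mul_mk_false, Wr.ext_iff, Wr.one_a, Wr.one_b, Wr.one_e,
      Bool.not_true, and_true] at h4
    have h2ab : 2 * (a + b) = 0 := by linear_combination h4.1
    have hab : a + b = (M : ZMod (2 * M)) := by
      rcases (two_mul_eq_zero_iff' _).mp h2ab with h | h
      · exfalso
        apply h2
        simp only [Wr.mk_mul_mk_true, Wr.ext_iff, Wr.one_a, Wr.one_b, Wr.one_e, Bool.not_true,
          and_true]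
        constructor
        · exact h
        · linear_combination h
      · exact h
    simp only [Wr.sigVal, if_true]
    linear_combination hab + hMM

end WrM

section coord
variable {G : Type*} [Group G] [Finite G] (S : Sylow 2 G) {M : ℕ} [NeZero M]
  (ι : Wr (2 * M) →* G) (hinj : Function.Injective ι) (hrange : ι.range = (S : Subgroup G))
  (h : ZMod (2 * M)) (hh : 2 * h = (M : ZMod (2 * M)))

/-- the coordinate isomorphism -/
noncomputable def wrEquiv : Wr (2 * M) ≃* ↥(S : Subgroup G) :=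
  (MonoidHom.ofInjective hinj).trans (MulEquiv.subgroupCongr hrange)

theorem wrEquiv_apply_coe (p : Wr (2 * M)) : ((wrEquiv S ι hinj hrange p : ↥(S : Subgroup G)) : G) = ι p :=
  rfl

/-- the character of `S` with kernel the generalized quaternion subgroup -/
noncomputable def sigS : ↥(S : Subgroup G) →* Multiplicative (ZMod (2 * M)) :=
  (Wr.sig M).comp (wrEquiv S ι hinj hrange).symm.toMonoidHom

theorem sigS_apply (p : Wr (2 * M)) (hp : ι p ∈ (S : Subgroup G)) :
    sigS S ι hinj hrange ⟨ι p, hp⟩ = Wr.sig M p := by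
  unfold sigS
  rw [MonoidHom.comp_apply]
  congr 1
  show (wrEquiv S ι hinj hrange).symm ⟨ι p, hp⟩ = p
  rw [MulEquiv.symm_apply_eq]
  apply Subtype.ext
  rfl

open Classical in
/-- the character extended by `1` to `G` -/
noncomputable def sigG (x : G) : Multiplicative (ZMod (2 * M)) :=
  if hx : x ∈ (S : Subgroup G) then sigS S ι hinj hrange ⟨x, hx⟩ else 1

theorem sigG_of_mem (x : G) (hx : x ∈ (S : Subgroup G)) :
    sigG S ι hinj hrange x = sigS S ι hinj hrange ⟨x, hx⟩ := by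
  unfold sigG
  rw [dif_pos hx]

theorem sigG_map (p : Wr (2 * M)) : sigG S ι hinj hrange (ι p) = Wr.sig M p := by
  rw [sigG_of_mem S ι hinj hrange _ (wr_mem_S S ι hinj hrange p), sigS_apply]

theorem sigG_mul (x y : G) (hx : x ∈ (S : Subgroup G)) (hy : y ∈ (S : Subgroup G)) :
    sigG S ι hinj hrange (x * y) = sigG S ι hinj hrange x * sigG S ι hinj hrange y := by
  rw [sigG_of_mem _ _ _ _ _ hx, sigG_of_mem _ _ _ _ _ hy,
    sigG_of_mem _ _ _ _ _ (Subgroup.mul_mem _ hx hy), ← map_mul]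
  rfl

theorem sigG_conj_S (s x : G) (hs : s ∈ (S : Subgroup G)) (hx : x ∈ (S : Subgroup G)) :
    sigG S ι hinj hrange (s⁻¹ * x * s) = sigG S ι hinj hrange x := by
  have hs' := Subgroup.inv_mem _ hs
  rw [sigG_mul _ _ _ _ _ _ (Subgroup.mul_mem _ hs' hx) hs, sigG_mul _ _ _ _ _ _ hs' hx,
    sigG_of_mem _ _ _ _ _ hs', sigG_of_mem _ _ _ _ _ hs, sigG_of_mem _ _ _ _ _ hx]
  have : (⟨s⁻¹, hs'⟩ : ↥(S : Subgroup G)) = (⟨s, hs⟩ : ↥(S : Subgroup G))⁻¹ := rfl
  rw [this, map_inv, mul_right_comm, inv_mul_cancel, one_mul]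

theorem q8_pow_four : ∀ w : QuaternionGroup 2, w ^ 4 = 1 := by decide

theorem q8_sq_eq_one : ∀ w : QuaternionGroup 2, w ^ 2 = 1 → w = 1 ∨ w = QuaternionGroup.a 2 := by
  decide

include hinj hrange hh

/-- `N_G(V)` centralizes `Z(S)` for `V = Q Z(S)` -/
theorem normalizer_quat_centralizes_center (Q : Subgroup G) (hQS : Q ≤ S)
    (eQ : Q ≃* QuaternionGroup 2) (V : Subgroup G) (hVQ : V = Q ⊔ (Wr.diag (2 * M)).map ι)
    (x : G) (hx : x ∈ Subgroup.normalizer (V : Set G)) (z : G)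
    (hz : z ∈ (Wr.diag (2 * M)).map ι) : x * z * x⁻¹ = z := by
  obtain ⟨δ, hδ⟩ := quat_sup_center_eq S ι hinj hrange h hh Q hQS eQ
  have hVδ : V = (WrM.Tw 2 δ).map ι := hVQ.trans hδ
  set Z := (Wr.diag (2 * M)).map ι with hZ
  have hVS : V ≤ (S : Subgroup G) := hVδ ▸ Tw_map_le_S S ι hinj hrange δ
  have hZ2 : IsPGroup 2 Z := S.isPGroup'.to_le (diag_map_le_S S ι hinj hrange)
  have hV2 : IsPGroup 2 V := S.isPGroup'.to_le hVS
  have hNZ := normalizer_Tw_map_le S ι hinj hrange h hh δ V hVδ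
  obtain ⟨k, h', hxk, hk, hh', ⟨e, hke⟩, hodd⟩ := exists_two_odd_decomp x (orderOf_pos _)
  have hzp : Subgroup.zpowers x ≤ Subgroup.normalizer (V : Set G) := by
    rw [Subgroup.zpowers_le]; exact hx
  have hcyc := isCyclic_diag_map S ι hinj hrange
  have hh'c : h' ∈ Subgroup.centralizer (Z : Set G) :=
    mem_centralizer_of_oddAutTrivial Z (oddAutTrivial_of_isCyclic hZ2) _ (hNZ (hzp hh')) hodd
  have hkc : k * z = z * k := by
    have hz2 : IsPGroup 2 (Subgroup.zpowers k) := by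
      obtain ⟨j, -, hj⟩ := (Nat.dvd_prime_pow Nat.prime_two).mp (orderOf_dvd_of_pow_eq_one hke)
      apply IsPGroup.of_card (n := j)
      rw [Nat.card_zpowers, hj]
    have hzN : Subgroup.zpowers k ≤ Subgroup.normalizer (V : Set G) := by
      rw [Subgroup.zpowers_le]; exact hzp hk
    have hP := IsPGroup.to_sup_of_normal_right' hz2 hV2 hzN
    obtain ⟨r, hr⟩ := exists_conj_le_sylow S _ hP
    have hrV : ∀ y ∈ Q ⊔ (Wr.diag (2 * M)).map ι, r * y * r⁻¹ ∈ (S : Subgroup G) := by
      intro y hy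
      rw [← hVQ] at hy
      exact hr y (Subgroup.mem_sup_right hy)
    obtain ⟨hZr, -⟩ := conj_quat_sup_center S ι hinj hrange h hh Q hQS eQ r hrV
    have hrz : r * z * r⁻¹ ∈ (Wr.diag (2 * M)).map ι := by
      rw [← hZr]; exact ⟨z, hz, rfl⟩
    have hrk := hr k (Subgroup.mem_sup_left (Subgroup.mem_zpowers _))
    have h1 := diag_map_central S ι hinj hrange _ hrz _ hrk
    calc k * z = r⁻¹ * ((r * k * r⁻¹) * (r * z * r⁻¹)) * r := by group
      _ = r⁻¹ * ((r * z * r⁻¹) * (r * k * r⁻¹)) * r := by rw [h1]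
      _ = z * k := by group
  have hh'z : h' * z = z * h' := ((Subgroup.mem_centralizer_iff.mp hh'c) z hz).symm
  rw [hxk]
  calc k * h' * z * (k * h')⁻¹ = k * (h' * z) * h'⁻¹ * k⁻¹ := by group
    _ = k * (z * h') * h'⁻¹ * k⁻¹ := by rw [hh'z]
    _ = (k * z) * k⁻¹ := by group
    _ = z * k * k⁻¹ := by rw [hkc]
    _ = z := by group

/-- involutions of `Q` are central in `S` -/
theorem quat_sq_one_mem_center (Q : Subgroup G) (hQS : Q ≤ S) (eQ : Q ≃* QuaternionGroup 2)
    (q : G) (hq : q ∈ Q) (hq2 : q ^ 2 = 1) : q ∈ (Wr.diag (2 * M)).map ι := by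
  have hQr : Q ≤ ι.range := hrange ▸ hQS
  obtain ⟨hq1, c, d, hβ, hcd, hle⟩ :=
    WrM.quat8_struct (Q.comap ι) ((comapEquiv ι hinj Q hQr).trans eQ) h hh
  have hq1Q : ι ⟨h, -h, false⟩ ∈ Q := hq1
  have hw2 : (eQ ⟨q, hq⟩) ^ 2 = 1 := by
    rw [← map_pow]
    have : (⟨q, hq⟩ : ↥Q) ^ 2 = 1 := Subtype.ext (by rw [Subgroup.coe_pow]; exact hq2)
    rw [this, map_one]
  rcases q8_sq_eq_one _ hw2 with h1 | h1
  · have : (⟨q, hq⟩ : ↥Q) = 1 := by
      rw [← map_eq_one_iff eQ eQ.injective]; exact h1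
    have hq1' : q = 1 := congrArg Subtype.val this
    rw [hq1']; exact Subgroup.one_mem _
  · -- `q` is the square of `ι q₁`
    have hsq : (ι ⟨h, -h, false⟩) ^ 2 = ι ⟨M, M, false⟩ := by
      rw [← map_pow, Wr.mk_false_pow]
      congr 2
      · rw [nsmul_eq_mul]; push_cast; exact hh
      · rw [nsmul_eq_mul]; push_cast
        linear_combination -hh - WrM.half_add_half' (M := M)
    have h4 : (eQ ⟨_, hq1Q⟩) ^ 4 = 1 := q8_pow_four _
    have h2 : (eQ ⟨_, hq1Q⟩) ^ 2 ≠ 1 := by
      intro hc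
      rw [← map_pow, map_eq_one_iff eQ eQ.injective] at hc
      have := congrArg Subtype.val hc
      rw [Subgroup.coe_pow] at this
      simp only at this
      rw [hsq] at this
      exact map_ne_one_of_a_ne S ι hinj hrange _ _ _ zmod_half_ne_zero this
    have h5 := q8_sq_of_order_four _ h4 h2
    have h6 : eQ ⟨q, hq⟩ = eQ (⟨_, hq1Q⟩ ^ 2) := by rw [map_pow, h5, h1]
    have h7 := congrArg Subtype.val (eQ.injective h6)
    rw [Subgroup.coe_pow] at h7
    simp only at h7
    rw [h7, hsq]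
    exact ⟨_, ⟨rfl, rfl⟩, rfl⟩

/-- non-central elements of order four of `V` are killed by the character -/
theorem sigG_eq_one_of_order_four (δ : ZMod (2 * M)) (V : Subgroup G)
    (hVδ : V = (WrM.Tw 2 δ).map ι) (y : G) (hy : y ∈ V) (hyZ : y ∉ (Wr.diag (2 * M)).map ι)
    (h4 : y ^ 4 = 1) (h2 : y ^ 2 ≠ 1) : sigG S ι hinj hrange y = 1 := by
  rw [hVδ] at hy
  obtain ⟨p, hp, rfl⟩ := hy
  rw [sigG_map]
  have hpd : p ∉ Wr.diag (2 * M) := fun hc => hyZ ⟨p, hc, rfl⟩
  have hp4 : (p * p) * (p * p) = 1 := by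
    apply hinj
    rw [map_one, ← h4]
    simp only [map_mul]
    rw [pow_succ, pow_succ, pow_succ, pow_one]
    group
  have hp2 : p * p ≠ 1 := by
    intro hc
    apply h2
    rw [pow_two, ← map_mul, hc, map_one]
  have := WrM.sigVal_eq_zero_of_order_four δ p hp hpd hp4 hp2
  show Multiplicative.ofAdd (Wr.sigVal M p) = 1
  rw [this]; rfl

end coord

end Cfsg.Agent.Helper20
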