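import Mathlib
import Cfsg.Agent.Lib.Helper20.WrN

set_option autoImplicit false
set_option linter.unusedSectionVars false
set_option linter.unusedSimpArgs false
set_option linter.unusedVariables false

namespace Cfsg.Agent.Helper20

open Cfsg.Agent.Helper98 Cfsg.Agent.Helper33

section coord
variable {G : Type*} [Group G] [Finite G] (S : Sylow 2 G) {M : ℕ} [NeZero M]
  (ι : Wr (2 * M) →* G) (hinj : Function.Injective ι) (hrange : ι.range = (S : Subgroup G))
  (h : ZMod (2 * M)) (hh : 2 * h = (M : ZMod (2 * M)))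

include hinj hrange hh

/-- the character is invariant under `N_G(V)` on `V = Q Z(S)` -/
theorem sigG_conj_normalizer_quat (Q : Subgroup G) (hQS : Q ≤ S)
    (eQ : Q ≃* QuaternionGroup 2) (V : Subgroup G) (hVQ : V = Q ⊔ (Wr.diag (2 * M)).map ι)
    (x : G) (hx : x ∈ Subgroup.normalizer (V : Set G)) (a : G) (ha : a ∈ V) :
    sigG S ι hinj hrange (x⁻¹ * a * x) = sigG S ι hinj hrange a := by
  obtain ⟨δ, hδ⟩ := quat_sup_center_eq S ι hinj hrange h hh Q hQS eQ
  have hVδ : V = (WrM.Tw 2 δ).map ι := hVQ.trans hδ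
  set Z := (Wr.diag (2 * M)).map ι with hZ
  have hVS : V ≤ (S : Subgroup G) := hVδ ▸ Tw_map_le_S S ι hinj hrange δ
  have hZS : Z ≤ (S : Subgroup G) := diag_map_le_S S ι hinj hrange
  have hQV : Q ≤ V := hVQ ▸ le_sup_left
  have hx' : x⁻¹ ∈ Subgroup.normalizer (V : Set G) := Subgroup.inv_mem _ hx
  have hconjV : ∀ y ∈ V, x⁻¹ * y * x ∈ V := by
    intro y hy
    have := (Subgroup.mem_normalizer_iff.mp hx' y).mp hy
    simpa using this
  have hcz : ∀ z ∈ Z, x⁻¹ * z * x = z := by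
    intro z hz
    have := normalizer_quat_centralizes_center S ι hinj hrange h hh Q hQS eQ V hVQ x⁻¹ hx' z hz
    simpa using this
  -- elements of `Q`
  have hQ : ∀ q ∈ Q, sigG S ι hinj hrange (x⁻¹ * q * x) = sigG S ι hinj hrange q := by
    intro q hq
    by_cases hqZ : q ∈ Z
    · rw [hcz q hqZ]
    · have hq4 : q ^ 4 = 1 := by
        have h1 : (eQ ⟨q, hq⟩) ^ 4 = 1 := q8_pow_four _
        rw [← map_pow, map_eq_one_iff eQ eQ.injective] at h1
        have := congrArg Subtype.val h1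
        rwa [Subgroup.coe_pow] at this
      have hq2 : q ^ 2 ≠ 1 := fun hc =>
        hqZ (quat_sq_one_mem_center S ι hinj hrange h hh Q hQS eQ q hq hc)
      rw [sigG_eq_one_of_order_four S ι hinj hrange h hh δ V hVδ q (hQV hq) hqZ hq4 hq2]
      have e1 : ∀ k : ℕ, (x⁻¹ * q * x) ^ k = x⁻¹ * q ^ k * x := by
        intro k
        have := conj_pow (a := x⁻¹) (b := q) (i := k)
        rw [inv_inv] at this
        exact this
      apply sigG_eq_one_of_order_four S ι hinj hrange h hh δ V hVδ _ (hconjV q (hQV hq))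
      · intro hc
        apply hqZ
        have h1 := normalizer_quat_centralizes_center S ι hinj hrange h hh Q hQS eQ V hVQ x hx _ hc
        have e2 : x * (x⁻¹ * q * x) * x⁻¹ = q := by group
        rw [e2] at h1
        rw [h1]; exact hc
      · rw [e1, hq4]; group
      · intro hc
        rw [e1] at hc
        apply hq2
        have : q ^ 2 = x * (x⁻¹ * q ^ 2 * x) * x⁻¹ := by group
        rw [this, hc]; group
  -- decompose `a`
  have hQN : Q ≤ Subgroup.normalizer (Z : Set G) := by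
    intro q hq
    rw [Subgroup.mem_normalizer_iff]
    intro z
    have hqS := hQS hq
    constructor
    · intro hz
      have := diag_map_central S ι hinj hrange z hz q hqS
      have e : q * z * q⁻¹ = z := by rw [this]; group
      rw [e]; exact hz
    · intro hz
      have := diag_map_central S ι hinj hrange _ hz q⁻¹ (Subgroup.inv_mem _ hqS)
      have e : z = q⁻¹ * (q * z * q⁻¹) * q := by group
      rw [e, this]
      have e2 : q * z * q⁻¹ * q⁻¹ * q = q * z * q⁻¹ := by group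
      rw [e2]; exact hz
  have ha' : a ∈ ((Q ⊔ Z : Subgroup G) : Set G) := by rw [← hVQ]; exact ha
  rw [Subgroup.coe_mul_of_left_le_normalizer_right Q Z hQN] at ha'
  obtain ⟨q, hq, z, hz, rfl⟩ := ha'
  have e3 : x⁻¹ * (q * z) * x = (x⁻¹ * q * x) * (x⁻¹ * z * x) := by group
  rw [e3, hcz z hz, sigG_mul S ι hinj hrange _ _ (hVS (hconjV q (hQV hq))) (hZS hz),
    sigG_mul S ι hinj hrange _ _ (hQS hq) (hZS hz), hQ q hq]

/-- in the case `(2, ·)` the character is invariant under fusion -/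
theorem sigG_invariant (n : ℕ) (hN : 2 * M = 2 ^ n) (K : ℕ) (hK : M = 2 * K)
    (Q : Subgroup G) (hQS : Q ≤ S) (eQ : Q ≃* QuaternionGroup 2)
    (h₁ : (Subgroup.centralizer (((Wr.base (2 * M)).map ι : Subgroup G) : Set G)).relIndex
      (Subgroup.normalizer (((Wr.base (2 * M)).map ι : Subgroup G) : Set G)) = 2)
    (a : G) (ha : a ∈ (S : Subgroup G)) (g : G) (hg : g⁻¹ * a * g ∈ (S : Subgroup G)) :
    sigG S ι hinj hrange (g⁻¹ * a * g) = sigG S ι hinj hrange a := by
  refine (alperin_preorder S (fun a b => sigG S ι hinj hrange a = sigG S ι hinj hrange b)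
    (fun a => rfl) (fun a b c h1 h2 => h1.trans h2) ?_ a ha g hg).symm
  intro T hT x hx b hb
  have hTS : T ≤ (S : Subgroup G) := hT.1.1
  rcases local_cases S ι hinj hrange n hN K hK T hT with h1 | h1 | ⟨g', hg'⟩
  · obtain ⟨s, hs, hsx⟩ := local_of_aut_pgroup S T hT.1.2 h1 x hx
    rw [← hsx b hb, sigG_conj_S S ι hinj hrange s b hs (hTS hb)]
  · subst h1
    obtain ⟨s, hs, hsx⟩ := local_base_two S ι hinj hrange h₁ x hx
    rw [← hsx b hb, sigG_conj_S S ι hinj hrange s b hs (hTS hb)]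
  · obtain ⟨s, hs, hsV⟩ := conj_good_eq_conj S ι hinj hrange h hh Q hQS eQ g'
    rw [hsV] at hg'
    subst hg'
    obtain ⟨b₀, hb₀, rfl⟩ := hb
    have hx' : s⁻¹ * x * s ∈ Subgroup.normalizer
        ((Q ⊔ (Wr.diag (2 * M)).map ι : Subgroup G) : Set G) := by
      rw [← map_normalizer_equiv, mem_map_equiv', MulAut.conj_symm_apply] at hx
      exact hx
    have h1 := sigG_conj_normalizer_quat S ι hinj hrange h hh Q hQS eQ _ rfl _ hx' b₀ hb₀
    have hVS : Q ⊔ (Wr.diag (2 * M)).map ι ≤ (S : Subgroup G) :=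
      sup_le hQS (diag_map_le_S S ι hinj hrange)
    have hb₀S := hVS hb₀
    have hcS : (s⁻¹ * x * s)⁻¹ * b₀ * (s⁻¹ * x * s) ∈ (S : Subgroup G) := by
      have := (Subgroup.mem_normalizer_iff.mp (Subgroup.inv_mem _ hx') b₀).mp hb₀
      rw [inv_inv] at this
      exact hVS this
    have hs' := Subgroup.inv_mem _ hs
    show sigG S ι hinj hrange (s * b₀ * s⁻¹) =
      sigG S ι hinj hrange (x⁻¹ * (s * b₀ * s⁻¹) * x)
    have e1 : x⁻¹ * (s * b₀ * s⁻¹) * x =
        s⁻¹⁻¹ * ((s⁻¹ * x * s)⁻¹ * b₀ * (s⁻¹ * x * s)) * s⁻¹ := by group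
    have e2 : s * b₀ * s⁻¹ = s⁻¹⁻¹ * b₀ * s⁻¹ := by group
    rw [e1, e2, sigG_conj_S S ι hinj hrange s⁻¹ _ hs' hcS,
      sigG_conj_S S ι hinj hrange s⁻¹ _ hs' hb₀S, h1]

/-- in the case `(2, ·)` the elements of `Z(S)` are isolated: a conjugate of `z ∈ Z(S)` in `S`
equals `z` -/
theorem center_isolated (n : ℕ) (hN : 2 * M = 2 ^ n) (K : ℕ) (hK : M = 2 * K)
    (Q : Subgroup G) (hQS : Q ≤ S) (eQ : Q ≃* QuaternionGroup 2)
    (h₁ : (Subgroup.centralizer (((Wr.base (2 * M)).map ι : Subgroup G) : Set G)).relIndex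
      (Subgroup.normalizer (((Wr.base (2 * M)).map ι : Subgroup G) : Set G)) = 2)
    (z : G) (hz : z ∈ (Wr.diag (2 * M)).map ι) (g : G) (hg : g⁻¹ * z * g ∈ (S : Subgroup G)) :
    g⁻¹ * z * g = z := by
  have hzS : z ∈ (S : Subgroup G) := diag_map_le_S S ι hinj hrange hz
  refine alperin_preorder S (fun a b => a ∈ (Wr.diag (2 * M)).map ι → b = a)
    (fun a _ => rfl) (fun a b c h1 h2 ha => by
      have hb := h1 ha
      rw [hb] at h2
      exact h2 ha) ?_ z hzS g hg hz
  intro T hT x hx b hb hbZ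
  have hTS : T ≤ (S : Subgroup G) := hT.1.1
  have hcen : ∀ s ∈ (S : Subgroup G), s⁻¹ * b * s = b := by
    intro s hs
    have := diag_map_central S ι hinj hrange b hbZ s hs
    calc s⁻¹ * b * s = s⁻¹ * (b * s) := by group
      _ = s⁻¹ * (s * b) := by rw [this]
      _ = b := by group
  rcases local_cases S ι hinj hrange n hN K hK T hT with h1 | h1 | ⟨g', hg'⟩
  · obtain ⟨s, hs, hsx⟩ := local_of_aut_pgroup S T hT.1.2 h1 x hx
    rw [← hsx b hb, hcen s hs]
  · subst h1
    obtain ⟨s, hs, hsx⟩ := local_base_two S ι hinj hrange h₁ x hx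
    rw [← hsx b hb, hcen s hs]
  · obtain ⟨s, hs, hsV⟩ := conj_good_eq_conj S ι hinj hrange h hh Q hQS eQ g'
    rw [hsV] at hg'
    subst hg'
    have hx' : s⁻¹ * x⁻¹ * s ∈ Subgroup.normalizer
        ((Q ⊔ (Wr.diag (2 * M)).map ι : Subgroup G) : Set G) := by
      have hxi := Subgroup.inv_mem _ hx
      rw [← map_normalizer_equiv, mem_map_equiv', MulAut.conj_symm_apply] at hxi
      exact hxi
    have h1 := normalizer_quat_centralizes_center S ι hinj hrange h hh Q hQS eQ _ rfl _ hx' b hbZ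
    have h2 := hcen s hs
    have h3 := hcen s⁻¹ (Subgroup.inv_mem _ hs)
    rw [inv_inv] at h3
    calc x⁻¹ * b * x = s * ((s⁻¹ * x⁻¹ * s) * (s⁻¹ * b * s) * (s⁻¹ * x⁻¹ * s)⁻¹) * s⁻¹ := by group
      _ = s * ((s⁻¹ * x⁻¹ * s) * b * (s⁻¹ * x⁻¹ * s)⁻¹) * s⁻¹ := by rw [h2]
      _ = s * b * s⁻¹ := by rw [h1]
      _ = b := h3

end coord

end Cfsg.Agent.Helper20
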