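import Mathlib
import Cfsg.Agent.Lib.Helper20.WrO
import Cfsg.Agent.Lib.Helper20.QDFus3

set_option autoImplicit false
set_option linter.unusedSectionVars false
set_option linter.unusedSimpArgs false
set_option linter.unusedVariables false

namespace Cfsg.Agent.Helper20

open Cfsg.Agent.Helper98 Cfsg.Agent.Helper33

/-- an element of odd order lies in every normal subgroup of `2`-power index -/
theorem mem_of_index_two_pow_of_odd {N : Type*} [Group N] (K : Subgroup N) [K.Normal] (n : ℕ)
    (hK : K.index = 2 ^ n) (g : N) (hodd : (orderOf g).Coprime 2) : g ∈ K := by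
  have h1 : orderOf (QuotientGroup.mk' K g) ∣ orderOf g := orderOf_map_dvd _ g
  have h2 : orderOf (QuotientGroup.mk' K g) ∣ 2 ^ n := by
    have := orderOf_dvd_natCard (QuotientGroup.mk' K g)
    rwa [← Subgroup.index_eq_card, hK] at this
  have h3 : orderOf (QuotientGroup.mk' K g) = 1 :=
    Nat.Coprime.eq_one_of_dvd (Nat.Coprime.pow_right n (Nat.Coprime.coprime_dvd_left h1 hodd)) h2
  have h4 : QuotientGroup.mk' K g = 1 := orderOf_eq_one_iff.mp h3
  exact (QuotientGroup.eq_one_iff g).mp h4

/-- an automorphism of odd order of a four-group fixing a non-identity element is trivial -/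
theorem klein_aut_fixed {W : Type*} [Group W] (h4 : Nat.card W = 4) (hsq : ∀ x : W, x * x = 1)
    (β : MulAut W) (hodd : (orderOf β).Coprime 2) (w : W) (hw1 : w ≠ 1) (hfix : β w = w) :
    β = 1 := by
  classical
  have hfin : Finite W := Nat.finite_of_card_ne_zero (by omega)
  have hft : Fintype W := Fintype.ofFinite W
  ext x
  rw [MulAut.one_apply]
  by_cases hx1 : x = 1
  · rw [hx1, map_one]
  by_cases hxw : x = w
  · rw [hxw]; exact hfix
  have hy1 : β x ≠ 1 := fun h => hx1 ((map_eq_one_iff β β.injective).mp h)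
  have hyw : β x ≠ w := by
    intro h
    apply hxw
    rw [← hfix] at h
    exact β.injective h
  have hcard : ({(1 : W), w, x, w * x} : Finset W).card = 4 := by
    rw [Finset.card_insert_of_notMem, Finset.card_insert_of_notMem, Finset.card_insert_of_notMem,
      Finset.card_singleton]
    · simp only [Finset.mem_singleton]
      intro h
      apply hw1
      have : w = (w * x) * x⁻¹ := by group
      rw [this, ← h]; group
    · simp only [Finset.mem_insert, Finset.mem_singleton, not_or]
      refine ⟨fun h => hxw h.symm, fun h => ?_⟩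
      apply hx1
      have : x = w⁻¹ * (w * x) := by group
      rw [this, ← h]; group
    · simp only [Finset.mem_insert, Finset.mem_singleton, not_or]
      refine ⟨fun h => hw1 h.symm, fun h => hx1 h.symm, fun h => ?_⟩
      apply hxw
      have h2 := hsq w
      have : x = w⁻¹ * (w * x) := by group
      rw [this, ← h, mul_one]
      exact (inv_eq_of_mul_eq_one_left h2)
  have huniv : ({(1 : W), w, x, w * x} : Finset W) = Finset.univ := by
    apply Finset.eq_univ_of_card
    rw [hcard, ← Nat.card_eq_fintype_card, h4]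
  have hmem : β x ∈ ({(1 : W), w, x, w * x} : Finset W) := by
    rw [huniv]; exact Finset.mem_univ _
  simp only [Finset.mem_insert, Finset.mem_singleton] at hmem
  rcases hmem with h | h | h | h
  · exact absurd h hy1
  · exact absurd h hyw
  · exact h
  · have h2 : (β ^ 2) x = x := by
      rw [pow_two, MulAut.mul_apply, h, map_mul, hfix, h, ← mul_assoc, hsq w, one_mul]
    obtain ⟨k, hk⟩ := Nat.coprime_two_right.mp hodd
    have h1 : (β ^ 2) ^ (k + 1) = β := by
      rw [← pow_mul]
      have : 2 * (k + 1) = orderOf β + 1 := by omega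
      rw [this, pow_succ, pow_orderOf_eq_one, one_mul]
    have h3 : ∀ j : ℕ, ((β ^ 2) ^ j) x = x := by
      intro j
      induction j with
      | zero => simp
      | succ j ih => rw [pow_succ, MulAut.mul_apply, h2, ih]
    rw [← h1]
    exact h3 (k + 1)

section coord
variable {G : Type*} [Group G] [Finite G] (S : Sylow 2 G) {M : ℕ} [NeZero M]
  (ι : Wr (2 * M) →* G) (hinj : Function.Injective ι) (hrange : ι.range = (S : Subgroup G))
  (h : ZMod (2 * M)) (hh : 2 * h = (M : ZMod (2 * M)))

include hinj hrange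

/-- if the character of `S` is invariant under fusion, its transfer has a kernel of index `2M`
meeting `S` in the generalized quaternion subgroup -/
theorem exists_normal_of_sig_invariant (n : ℕ) (hN : 2 * M = 2 ^ n)
    (hinvS : ∀ a ∈ (S : Subgroup G), ∀ g : G, g⁻¹ * a * g ∈ (S : Subgroup G) →
      sigG S ι hinj hrange (g⁻¹ * a * g) = sigG S ι hinj hrange a) :
    ∃ K : Subgroup G, K.Normal ∧ K.index = 2 * M ∧
      ∀ s ∈ (S : Subgroup G), s ∈ K ↔ sigG S ι hinj hrange s = 1 := by
  set ϕ := sigS S ι hinj hrange with hϕ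
  have hinv : ∀ (a : ↥(S : Subgroup G)) (g : G) (hg : g⁻¹ * (a : G) * g ∈ (S : Subgroup G)),
      ϕ ⟨g⁻¹ * a * g, hg⟩ = ϕ a := by
    intro a g hg
    have := hinvS a a.2 g hg
    rw [sigG_of_mem S ι hinj hrange _ hg, sigG_of_mem S ι hinj hrange _ a.2] at this
    exact this
  have htr := transfer_eq_pow_of_invariant (S : Subgroup G) ϕ hinv
  have hidx : Nat.Coprime (S : Subgroup G).index (2 * M) := by
    rw [hN]
    apply Nat.Coprime.pow_right
    rw [Nat.coprime_comm, Nat.Prime.coprime_iff_not_dvd Nat.prime_two]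
    exact S.not_dvd_index
  have hcardA : Nat.card (Multiplicative (ZMod (2 * M))) = 2 * M := by
    rw [Nat.card_eq_fintype_card, Fintype.card_multiplicative, ZMod.card]
  have h2M : 1 < 2 * M := by have := NeZero.pos M; omega
  obtain ⟨c, -, hc⟩ := Nat.exists_mul_mod_eq_one_of_coprime hidx h2M
  have hpow : ∀ y : Multiplicative (ZMod (2 * M)), (y ^ c) ^ (S : Subgroup G).index = y := by
    intro y
    have e : c * (S : Subgroup G).index = (S : Subgroup G).index * c := Nat.mul_comm _ _
    rw [← pow_mul, e, ← pow_mod_natCard, hcardA, hc, pow_one]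
  refine ⟨(MonoidHom.transfer ϕ).ker, MonoidHom.normal_ker _, ?_, ?_⟩
  · rw [Subgroup.index_ker]
    have hsurj : Function.Surjective (MonoidHom.transfer ϕ) := by
      intro y
      obtain ⟨p, hp⟩ := Wr.sig_surjective (M := M) (y ^ c)
      refine ⟨ι p, ?_⟩
      have h1 := htr ⟨ι p, wr_mem_S S ι hinj hrange p⟩
      rw [h1, hϕ, sigS_apply, hp, hpow]
    rw [MonoidHom.range_eq_top.mpr hsurj, Subgroup.card_top, hcardA]
  · intro s hs
    rw [MonoidHom.mem_ker, sigG_of_mem S ι hinj hrange s hs]
    have h1 := htr ⟨s, hs⟩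
    rw [h1]
    constructor
    · intro h2
      have := hpow (ϕ ⟨s, hs⟩)
      have e : c * (S : Subgroup G).index = (S : Subgroup G).index * c := Nat.mul_comm _ _
      rw [← pow_mul, e, pow_mul, h2, one_pow] at this
      exact this.symm
    · intro h2
      rw [← hϕ] at h2
      rw [h2, one_pow]

/-- the Sylow `2`-subgroups of such a kernel are generalized quaternion -/
theorem sylow_quat_of_kernel (K : Subgroup G) (hKn : K.Normal)
    (hK : ∀ s ∈ (S : Subgroup G), s ∈ K ↔ sigG S ι hinj hrange s = 1) (P : Sylow 2 ↥K) :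
    Nonempty (↥(P : Subgroup ↥K) ≃* QuaternionGroup M) := by
  obtain ⟨e1⟩ := sylow_equiv_inf_normal S K P
  have heq : (S : Subgroup G) ⊓ K = (Wr.quat M).map ι := by
    ext x
    constructor
    · rintro ⟨hxS, hxK⟩
      have hxS' : x ∈ (S : Subgroup G) := hxS
      have h1 := (hK x hxS').mp hxK
      rw [← hrange] at hxS'
      obtain ⟨p, rfl⟩ := hxS'
      rw [sigG_map] at h1
      exact ⟨p, MonoidHom.mem_ker.mpr h1, rfl⟩
    · rintro ⟨p, hp, rfl⟩
      have hS := wr_mem_S S ι hinj hrange p
      refine ⟨hS, (hK _ hS).mpr ?_⟩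
      rw [sigG_map]
      exact MonoidHom.mem_ker.mp hp
  obtain ⟨e3⟩ := Wr.quat_iso (M := M)
  exact ⟨e1.trans ((MulEquiv.subgroupCongr heq).trans
    (((Wr.quat M).equivMapOfInjective ι hinj).symm.trans e3))⟩

end coord

end Cfsg.Agent.Helper20
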