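import Mathlib
import Cfsg.Agent.Lib.Helper20.WrP

set_option autoImplicit false
set_option linter.unusedSectionVars false
set_option linter.unusedSimpArgs false
set_option linter.unusedVariables false

namespace Cfsg.Agent.Helper20

open Cfsg.Agent.Helper98 Cfsg.Agent.Helper33

namespace WrM
variable {M : ℕ} [NeZero M]

theorem Tw_sq_mem_diag (δ : ZMod (2 * M)) (p : Wr (2 * M)) (hp : p ∈ Tw 2 δ) :
    p * p ∈ Wr.diag (2 * M) := by
  rcases p with ⟨a, b, e⟩
  rw [mem_Tw] at hp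
  cases e
  · simp only [Bool.false_eq_true, if_false, sub_zero] at hp
    rw [Wr.mk_mul_mk_false, Wr.mem_diag]
    refine ⟨rfl, ?_⟩
    show a + a = b + b
    linear_combination hp
  · rw [Wr.mk_mul_mk_true, Wr.mem_diag]
    refine ⟨rfl, ?_⟩
    show a + b = b + a
    ring

end WrM

theorem sup_centralizer_subgroupOf_normal {G : Type*} [Group G] [Finite G] (V : Subgroup G) :
    ((V ⊔ Subgroup.centralizer (V : Set G)).subgroupOf (Subgroup.normalizer (V : Set G))).Normal := by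
  rw [Subgroup.subgroupOf_sup Subgroup.le_normalizer (Subgroup.centralizer_le_normalizer _)]
  have := centralizer_subgroupOf_normal V
  have : (V.subgroupOf (Subgroup.normalizer (V : Set G))).Normal :=
    Subgroup.normal_in_normalizer
  infer_instance

/-- in a group all of whose squares are trivial, an automorphism without non-trivial fixed points
has `x ↦ x⁻¹ β(x)` surjective -/
theorem surjective_of_fpf {W : Type*} [Group W] [Finite W] (hsq : ∀ x : W, x * x = 1)
    (β : MulAut W) (hfpf : ∀ w : W, β w = w → w = 1) :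
    Function.Surjective (fun x : W => x⁻¹ * β x) := by
  have hinv : ∀ x : W, x⁻¹ = x := fun x => inv_eq_of_mul_eq_one_left (hsq x)
  have hcomm : ∀ x y : W, x * y = y * x := by
    intro x y
    have h1 := hsq (x * y)
    have h2 : x * y = (x * y)⁻¹ := (hinv _).symm
    rw [h2, mul_inv_rev, hinv, hinv]
  apply Finite.injective_iff_surjective.mp
  intro x y hxy
  have hxy' : x⁻¹ * β x = y⁻¹ * β y := hxy
  have h1 : β (x * y⁻¹) = x * y⁻¹ := by
    rw [map_mul, map_inv]
    have h2 : β x = x * (y⁻¹ * β y) := by rw [← hxy']; group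
    rw [h2]
    group
  have h3 := hfpf _ h1
  exact mul_inv_eq_one.mp h3

section coord
variable {G : Type*} [Group G] [Finite G] (S : Sylow 2 G) {M : ℕ} [NeZero M]
  (ι : Wr (2 * M) →* G) (hinj : Function.Injective ι) (hrange : ι.range = (S : Subgroup G))
  (h : ZMod (2 * M)) (hh : 2 * h = (M : ZMod (2 * M)))

include hinj hrange

/-- elements of `Z(S)` killed by the character -/
theorem center_sig_one_cases (z : G) (hz : z ∈ (Wr.diag (2 * M)).map ι)
    (hs : sigG S ι hinj hrange z = 1) : z = 1 ∨ z = ι ⟨M, M, false⟩ := by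
  obtain ⟨⟨a, b, e⟩, hp, rfl⟩ := hz
  rw [SetLike.mem_coe, Wr.mem_diag] at hp
  obtain ⟨he, hab⟩ := hp
  simp only at he hab
  subst he hab
  rw [sigG_map] at hs
  have h1 : Wr.sigVal M (⟨a, a, false⟩ : Wr (2 * M)) = 0 := hs
  simp only [Wr.sigVal, Bool.false_eq_true, if_false, add_zero] at h1
  rcases (zmod_add_self_eq_zero_iff a).mp h1 with h2 | h2
  · left; rw [h2]; exact map_one ι
  · right; rw [h2]

include hh

/-- quaternion subgroups of order eight lie in the kernel of the character -/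
theorem quat_sig_one (Q : Subgroup G) (hQS : Q ≤ S) (eQ : Q ≃* QuaternionGroup 2) (q : G)
    (hq : q ∈ Q) : sigG S ι hinj hrange q = 1 := by
  obtain ⟨δ, hδ⟩ := quat_sup_center_eq S ι hinj hrange h hh Q hQS eQ
  have hq4 : q ^ 4 = 1 := by
    have h1 : (eQ ⟨q, hq⟩) ^ 4 = 1 := q8_pow_four _
    rw [← map_pow, map_eq_one_iff eQ eQ.injective] at h1
    have := congrArg Subtype.val h1
    rwa [Subgroup.coe_pow] at this
  by_cases hq2 : q ^ 2 = 1
  · have hqZ := quat_sq_one_mem_center S ι hinj hrange h hh Q hQS eQ q hq hq2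
    obtain ⟨⟨a, b, e⟩, hp, rfl⟩ := hqZ
    rw [SetLike.mem_coe, Wr.mem_diag] at hp
    obtain ⟨he, hab⟩ := hp
    simp only at he hab
    subst he hab
    rw [sigG_map]
    have h1 : (⟨a, a, false⟩ : Wr (2 * M)) * ⟨a, a, false⟩ = 1 := by
      apply hinj
      rw [map_mul, ← pow_two, hq2, map_one]
    simp only [Wr.mk_mul_mk_false, Wr.ext_iff, Wr.one_a, Wr.one_b, Wr.one_e, and_true] at h1
    show Multiplicative.ofAdd (Wr.sigVal M (⟨a, a, false⟩ : Wr (2 * M))) = 1
    simp only [Wr.sigVal, Bool.false_eq_true, if_false, add_zero]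
    rw [h1.1]; rfl
  · have hqZ : q ∉ (Wr.diag (2 * M)).map ι := by
      intro hc
      -- a central element of `Q` squares to one
      have hcen : (⟨q, hq⟩ : ↥Q) ∈ Subgroup.center ↥Q := by
        rw [Subgroup.mem_center_iff]
        intro y
        apply Subtype.ext
        exact diag_map_central S ι hinj hrange q hc y (hQS y.2)
      rcases quat_center_cases eQ _ hcen with h1 | h1
      · apply hq2
        have := congrArg Subtype.val h1
        simp only at this
        rw [this]; simp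
      · apply hq2
        have h2 : (⟨q, hq⟩ : ↥Q) ^ 2 = 1 := by
          rw [h1, ← map_pow, q8_a2_sq, map_one]
        have := congrArg Subtype.val h2
        rwa [Subgroup.coe_pow] at this
    exact sigG_eq_one_of_order_four S ι hinj hrange h hh δ _ hδ q (Subgroup.mem_sup_left hq)
      hqZ hq4 hq2

omit hh in
theorem quat_le_normalizer_center (Q : Subgroup G) (hQS : Q ≤ S) :
    Q ≤ Subgroup.normalizer (((Wr.diag (2 * M)).map ι : Subgroup G) : Set G) := by
  intro q hq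
  rw [Subgroup.mem_normalizer_iff]
  intro z
  have hqS := hQS hq
  constructor
  · intro hz
    have := diag_map_central S ι hinj hrange z hz q hqS
    have e : q * z * q⁻¹ = z := by rw [this]; group
    rw [e]; exact hz
  · intro hz
    have := diag_map_central S ι hinj hrange _ hz q⁻¹ (Subgroup.inv_mem _ hqS)
    have e : z = q⁻¹ * (q * z * q⁻¹) * q := by group
    rw [e, this]
    have e2 : q * z * q⁻¹ * q⁻¹ * q = q * z * q⁻¹ := by group
    rw [e2]; exact hz

/-- a subgroup of index two of the kernel `K` of the transfer contains every quaternion subgroup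
`Q` of `S` with `|N_G(Q Z(S)) : Q Z(S) C_G(Q Z(S))| = 6` -/
theorem quat_le_of_index_two (Q : Subgroup G) (hQS : Q ≤ S) (eQ : Q ≃* QuaternionGroup 2)
    (V : Subgroup G) (hVQ : V = Q ⊔ (Wr.diag (2 * M)).map ι)
    (h₂ : (V ⊔ Subgroup.centralizer (V : Set G)).relIndex (Subgroup.normalizer (V : Set G)) = 6)
    (K : Subgroup G) (hKn : K.Normal) (n : ℕ) (hKi : K.index = 2 ^ n)
    (hK : ∀ s ∈ (S : Subgroup G), s ∈ K ↔ sigG S ι hinj hrange s = 1)
    (H : Subgroup ↥K) (hH : H.index = 2) : Q ≤ H.map K.subtype := by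
  obtain ⟨δ, hδ⟩ := quat_sup_center_eq S ι hinj hrange h hh Q hQS eQ
  have hVδ : V = (WrM.Tw 2 δ).map ι := hVQ.trans hδ
  set Z := (Wr.diag (2 * M)).map ι with hZ
  have hVS : V ≤ (S : Subgroup G) := hVδ ▸ Tw_map_le_S S ι hinj hrange δ
  have hZS : Z ≤ (S : Subgroup G) := diag_map_le_S S ι hinj hrange
  have hQV : Q ≤ V := hVQ ▸ le_sup_left
  have hQK : Q ≤ K := fun q hq =>
    (hK q (hQS hq)).mpr (quat_sig_one S ι hinj hrange h hh Q hQS eQ q hq)
  obtain ⟨σ, hσN, hσodd, hσC⟩ := exists_odd_not_mem_of_relIndex_six _ _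
    (sup_centralizer_subgroupOf_normal V) h₂
  have hσK : σ ∈ K := mem_of_index_two_pow_of_odd K n hKi σ hσodd
  haveI := Subgroup.normal_of_index_eq_two hH
  obtain ⟨P1, -⟩ := focal_of_index_two H hH
  set Φ := (autQuot ↥V (Subgroup.center ↥V)).comp V.normalizerMonoidHom with hΦ
  set β := Φ ⟨σ, hσN⟩ with hβ
  have hβ1 : β ≠ 1 := by
    intro hc
    have h1 : (⟨σ, hσN⟩ : ↥(Subgroup.normalizer (V : Set G))) ∈ Φ.ker := hc
    have h2 := ker_le_sup_centralizer S ι hinj hrange h hh Q hQS eQ V hVQ h1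
    exact hσC (Subgroup.mem_subgroupOf.mp h2)
  have hβodd : (orderOf β).Coprime 2 := by
    have h1 : orderOf β ∣ orderOf (⟨σ, hσN⟩ : ↥(Subgroup.normalizer (V : Set G))) :=
      orderOf_map_dvd Φ _
    rw [Subgroup.orderOf_mk] at h1
    exact Nat.Coprime.coprime_dvd_left h1 hσodd
  have hc4 := card_quot_center S ι hinj hrange h hh δ V hVδ
  have hcen := center_eq_subgroupOf S ι hinj hrange h hh δ V hVδ
  have hsq : ∀ x : ↥V ⧸ Subgroup.center ↥V, x * x = 1 := by
    intro x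
    induction x using QuotientGroup.induction_on with
    | H x =>
      rw [← QuotientGroup.mk_mul, QuotientGroup.eq_one_iff, hcen, Subgroup.mem_subgroupOf]
      have hx : (x : G) ∈ (WrM.Tw 2 δ).map ι := hVδ ▸ x.2
      obtain ⟨p, hp, hpe⟩ := hx
      rw [Subgroup.coe_mul, ← hpe, ← map_mul]
      exact ⟨_, WrM.Tw_sq_mem_diag δ p hp, rfl⟩
  have hfin : Finite (↥V ⧸ Subgroup.center ↥V) := Nat.finite_of_card_ne_zero (by omega)
  have hfpf : ∀ w : ↥V ⧸ Subgroup.center ↥V, β w = w → w = 1 := by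
    intro w hw
    by_contra hw1
    exact hβ1 (klein_aut_fixed hc4 hsq β hβodd w hw1 hw)
  have hsurj := surjective_of_fpf hsq β hfpf
  have hσZ : ∀ z ∈ Z, σ * z * σ⁻¹ = z := fun z hz =>
    normalizer_quat_centralizes_center S ι hinj hrange h hh Q hQS eQ V hVQ σ hσN z hz
  have hσV : ∀ v ∈ V, σ * v * σ⁻¹ ∈ V := fun v hv =>
    (Subgroup.mem_normalizer_iff.mp hσN v).mp hv
  have hH'K : H.map K.subtype ≤ K := Subgroup.map_subtype_le _
  -- key
  have key : ∀ q ∈ Q, ∃ z ∈ Z, sigG S ι hinj hrange z = 1 ∧ q * z ∈ H.map K.subtype := by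
    intro q hq
    obtain ⟨pbar, hp⟩ := hsurj (QuotientGroup.mk ⟨q, hQV hq⟩)
    obtain ⟨p, rfl⟩ := QuotientGroup.mk_surjective pbar
    have hp' : (QuotientGroup.mk (⟨q, hQV hq⟩ : ↥V) : ↥V ⧸ Subgroup.center ↥V) =
        QuotientGroup.mk (p⁻¹ * (V.normalizerMonoidHom ⟨σ, hσN⟩) p) := by
      rw [← hp]
      show _ = (QuotientGroup.mk p : ↥V ⧸ Subgroup.center ↥V)⁻¹ * β (QuotientGroup.mk p)
      rw [hβ, hΦ, MonoidHom.comp_apply, autQuot_mk]
      rfl
    have h1 := QuotientGroup.eq.mp hp'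
    rw [hcen, Subgroup.mem_subgroupOf, Subgroup.coe_mul, Subgroup.coe_inv, Subgroup.coe_mul,
      Subgroup.coe_inv, Subgroup.normalizerMonoidHom_apply_apply_coe] at h1
    -- decompose `p`
    have hpV : (p : G) ∈ ((Q ⊔ Z : Subgroup G) : Set G) := by rw [← hVQ]; exact p.2
    rw [Subgroup.coe_mul_of_left_le_normalizer_right Q Z
      (quat_le_normalizer_center S ι hinj hrange Q hQS)] at hpV
    obtain ⟨q', hq', z', hz', hpq⟩ := hpV
    have hpq' : (p : G) = q' * z' := hpq.symm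
    have hγV : q'⁻¹ * (σ * q' * σ⁻¹) ∈ V :=
      V.mul_mem (V.inv_mem (hQV hq')) (hσV _ (hQV hq'))
    have e1 : (p : G)⁻¹ * (σ * (p : G) * σ⁻¹) = q'⁻¹ * (σ * q' * σ⁻¹) := by
      rw [hpq']
      have hz'c := diag_map_central S ι hinj hrange z' hz' _ (hVS hγV)
      calc (q' * z')⁻¹ * (σ * (q' * z') * σ⁻¹)
          = z'⁻¹ * (q'⁻¹ * (σ * q' * σ⁻¹)) * (σ * z' * σ⁻¹) := by group
        _ = z'⁻¹ * (q'⁻¹ * (σ * q' * σ⁻¹)) * z' := by rw [hσZ z' hz']
        _ = z'⁻¹ * ((q'⁻¹ * (σ * q' * σ⁻¹)) * z') := by group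
        _ = z'⁻¹ * (z' * (q'⁻¹ * (σ * q' * σ⁻¹))) := by rw [hz'c]
        _ = q'⁻¹ * (σ * q' * σ⁻¹) := by group
    simp only at h1
    rw [e1] at h1
    have hγH : q'⁻¹ * (σ * q' * σ⁻¹) ∈ H.map K.subtype := by
      have := P1 ⟨q', hQK hq'⟩ ⟨σ, hσK⟩
      exact ⟨_, this, rfl⟩
    refine ⟨q⁻¹ * (q'⁻¹ * (σ * q' * σ⁻¹)), h1, ?_, ?_⟩
    · have hγS := hVS hγV
      have hγsig : sigG S ι hinj hrange (q'⁻¹ * (σ * q' * σ⁻¹)) = 1 :=
        (hK _ hγS).mp (hH'K hγH)
      have hqS := hQS hq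
      have hqsig := quat_sig_one S ι hinj hrange h hh Q hQS eQ q⁻¹ (Q.inv_mem hq)
      rw [sigG_mul S ι hinj hrange _ _ (Subgroup.inv_mem _ hqS) hγS, hqsig, hγsig, one_mul]
    · have : q * (q⁻¹ * (q'⁻¹ * (σ * q' * σ⁻¹))) = q'⁻¹ * (σ * q' * σ⁻¹) := by group
      rw [this]; exact hγH
  -- the central involution lies in `H`
  have hQr : Q ≤ ι.range := hrange ▸ hQS
  obtain ⟨hq1, -⟩ := WrM.quat8_struct (Q.comap ι) ((comapEquiv ι hinj Q hQr).trans eQ) h hh
  have hq1Q : ι ⟨h, -h, false⟩ ∈ Q := hq1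
  have hz0one : ι ⟨M, M, false⟩ * ι ⟨M, M, false⟩ = 1 := by
    rw [← map_mul, Wr.mk_mul_mk_false, WrM.half_add_half']
    exact map_one ι
  have hz0H : ι ⟨M, M, false⟩ ∈ H.map K.subtype := by
    obtain ⟨z, hz, hzs, hqz⟩ := key _ hq1Q
    have hzz : z * z = 1 := by
      rcases center_sig_one_cases S ι hinj hrange z hz hzs with h1 | h1
      · rw [h1, one_mul]
      · rw [h1]; exact hz0one
    have hzc := diag_map_central S ι hinj hrange z hz _ (hQS hq1Q)
    have hsq' : ι ⟨h, -h, false⟩ * ι ⟨h, -h, false⟩ = ι ⟨M, M, false⟩ := by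
      rw [← map_mul, Wr.mk_mul_mk_false]
      congr 2
      · linear_combination hh
      · linear_combination -hh - WrM.half_add_half' (M := M)
    have e2 : (ι ⟨h, -h, false⟩ * z) * (ι ⟨h, -h, false⟩ * z) = ι ⟨M, M, false⟩ := by
      calc (ι ⟨h, -h, false⟩ * z) * (ι ⟨h, -h, false⟩ * z)
          = ι ⟨h, -h, false⟩ * (z * ι ⟨h, -h, false⟩) * z := by group
        _ = ι ⟨h, -h, false⟩ * (ι ⟨h, -h, false⟩ * z) * z := by rw [← hzc]
        _ = (ι ⟨h, -h, false⟩ * ι ⟨h, -h, false⟩) * (z * z) := by group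
        _ = ι ⟨M, M, false⟩ := by rw [hzz, hsq', mul_one]
    rw [← e2]
    exact Subgroup.mul_mem _ hqz hqz
  intro q hq
  obtain ⟨z, hz, hzs, hqz⟩ := key q hq
  have hzH : z ∈ H.map K.subtype := by
    rcases center_sig_one_cases S ι hinj hrange z hz hzs with h1 | h1
    · rw [h1]; exact Subgroup.one_mem _
    · rw [h1]; exact hz0H
  have : q = (q * z) * z⁻¹ := by group
  rw [this]
  exact Subgroup.mul_mem _ hqz (Subgroup.inv_mem _ hzH)

end coord

end Cfsg.Agent.Helper20
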