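import Mathlib
import Cfsg.Agent.Lib.Helper20.WrQ

set_option autoImplicit false
set_option linter.unusedSectionVars false
set_option linter.unusedSimpArgs false
set_option linter.unusedVariables false

namespace Cfsg.Agent.Helper20

open Cfsg.Agent.Helper98 Cfsg.Agent.Helper33

namespace WrM
variable {M : ℕ} [NeZero M]

/-- a subgroup containing a quaternion subgroup with a "reflection" `(c, d, true)`, `c + d = M`,
together with its conjugate under `(1, 0, false)`, contains the generalized quaternion subgroup -/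
theorem quat_le_of_conj (Q0 H0 : Subgroup (Wr (2 * M))) (c d : ZMod (2 * M))
    (hβ : (⟨c, d, true⟩ : Wr (2 * M)) ∈ Q0) (hcd : c + d = (M : ZMod (2 * M))) (hQ : Q0 ≤ H0)
    (hQs : ∀ q ∈ Q0, (⟨1, 0, false⟩ : Wr (2 * M)) * q * (⟨1, 0, false⟩ : Wr (2 * M))⁻¹ ∈ H0) :
    Wr.quat M ≤ H0 := by
  have hα : (⟨1, -1, false⟩ : Wr (2 * M)) ∈ H0 := by
    have h1 := hQs _ hβ
    have h2 := H0.mul_mem h1 (H0.inv_mem (hQ hβ))
    have e : (⟨1, 0, false⟩ : Wr (2 * M)) * ⟨c, d, true⟩ * (⟨1, 0, false⟩ : Wr (2 * M))⁻¹ *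
        (⟨c, d, true⟩ : Wr (2 * M))⁻¹ = ⟨1, -1, false⟩ := by
      simp only [Wr.inv_mk_false, Wr.inv_mk_true, Wr.mk_mul_mk_false, Wr.mk_mul_mk_true,
        Bool.not_false, Bool.not_true, Wr.mk.injEq, and_true]
      constructor <;> ring
    rwa [e] at h2
  have hpow : ∀ a : ZMod (2 * M), (⟨a, -a, false⟩ : Wr (2 * M)) ∈ H0 := by
    intro a
    have h1 := H0.pow_mem hα a.val
    rw [Wr.mk_false_pow] at h1
    have e1 : a.val • (1 : ZMod (2 * M)) = a := by
      rw [nsmul_eq_mul, mul_one, ZMod.natCast_zmod_val]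
    have e2 : a.val • (-1 : ZMod (2 * M)) = -a := by
      rw [nsmul_eq_mul, mul_neg, mul_one, ZMod.natCast_zmod_val]
    rwa [e1, e2] at h1
  rintro ⟨a, b, e⟩ hp
  cases e
  · rw [Wr.mem_quat_false] at hp
    have : b = -a := by linear_combination hp
    rw [this]; exact hpow a
  · rw [Wr.mem_quat_true] at hp
    have e : (⟨a, b, true⟩ : Wr (2 * M)) = ⟨a - c, -(a - c), false⟩ * ⟨c, d, true⟩ := by
      rw [Wr.mk_mul_mk_false]
      congr 1
      · ring
      · linear_combination hp - hcd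
    rw [e]; exact H0.mul_mem (hpow _) (hQ hβ)

end WrM

theorem relIndex_sup_centralizer_map {G H : Type*} [Group G] [Group H] (φ : G ≃* H)
    (V : Subgroup G) :
    ((V.map φ.toMonoidHom) ⊔ Subgroup.centralizer ((V.map φ.toMonoidHom : Subgroup H) : Set H)).relIndex
      (Subgroup.normalizer ((V.map φ.toMonoidHom : Subgroup H) : Set H)) =
    (V ⊔ Subgroup.centralizer (V : Set G)).relIndex (Subgroup.normalizer (V : Set G)) := by
  rw [← map_centralizer_equiv, ← map_normalizer_equiv, ← Subgroup.map_sup,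
    Subgroup.relIndex_map_map_of_injective _ _ φ.injective]

section coord
variable {G : Type*} [Group G] [Finite G] (S : Sylow 2 G) {M : ℕ} [NeZero M]
  (ι : Wr (2 * M) →* G) (hinj : Function.Injective ι) (hrange : ι.range = (S : Subgroup G))
  (h : ZMod (2 * M)) (hh : 2 * h = (M : ZMod (2 * M)))

include hinj hrange

theorem inf_kernel_eq (K : Subgroup G)
    (hK : ∀ s ∈ (S : Subgroup G), s ∈ K ↔ sigG S ι hinj hrange s = 1) :
    (S : Subgroup G) ⊓ K = (Wr.quat M).map ι := by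
  ext x
  constructor
  · rintro ⟨hxS, hxK⟩
    have hxS' : x ∈ (S : Subgroup G) := hxS
    have h1 := (hK x hxS').mp hxK
    rw [← hrange] at hxS'
    obtain ⟨p, rfl⟩ := hxS'
    rw [sigG_map] at h1
    exact ⟨p, MonoidHom.mem_ker.mpr h1, rfl⟩
  · rintro ⟨p, hp, rfl⟩
    have hS := wr_mem_S S ι hinj hrange p
    refine ⟨hS, (hK _ hS).mpr ?_⟩
    rw [sigG_map]
    exact MonoidHom.mem_ker.mp hp

/-- conjugation by an element of `S` fixes `Z(S)` -/
theorem center_map_conj (s : G) (hs : s ∈ (S : Subgroup G)) :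
    ((Wr.diag (2 * M)).map ι).map (MulAut.conj s).toMonoidHom = (Wr.diag (2 * M)).map ι := by
  ext x
  constructor
  · rintro ⟨z, hz, rfl⟩
    have h1 := diag_map_central S ι hinj hrange z hz s hs
    show s * z * s⁻¹ ∈ _
    have e : s * z * s⁻¹ = z := by rw [h1]; group
    rw [e]; exact hz
  · intro hx
    refine ⟨x, hx, ?_⟩
    have h1 := diag_map_central S ι hinj hrange x hx s hs
    show s * x * s⁻¹ = x
    rw [h1]; group

include hh

/-- the kernel of the transfer has no subgroup of index two -/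
theorem kernel_no_index_two (Q : Subgroup G) (hQS : Q ≤ S) (eQ : Q ≃* QuaternionGroup 2)
    (h₂ : ((Q ⊔ (Wr.diag (2 * M)).map ι) ⊔ Subgroup.centralizer
      ((Q ⊔ (Wr.diag (2 * M)).map ι : Subgroup G) : Set G)).relIndex
      (Subgroup.normalizer ((Q ⊔ (Wr.diag (2 * M)).map ι : Subgroup G) : Set G)) = 6)
    (K : Subgroup G) (hKn : K.Normal) (n : ℕ) (hKi : K.index = 2 ^ n)
    (hK : ∀ s ∈ (S : Subgroup G), s ∈ K ↔ sigG S ι hinj hrange s = 1)
    (H : Subgroup ↥K) : H.index ≠ 2 := by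
  intro hH
  set Z := (Wr.diag (2 * M)).map ι with hZ
  have hQH := quat_le_of_index_two S ι hinj hrange h hh Q hQS eQ (Q ⊔ Z) rfl h₂ K hKn n hKi hK H hH
  set s := ι ⟨1, 0, false⟩ with hs
  have hsS : s ∈ (S : Subgroup G) := wr_mem_S S ι hinj hrange _
  set Q' := Q.map (MulAut.conj s).toMonoidHom with hQ'
  have hQ'S : Q' ≤ (S : Subgroup G) := by
    rintro _ ⟨q, hq, rfl⟩
    exact Subgroup.mul_mem _ (Subgroup.mul_mem _ hsS (hQS hq)) (Subgroup.inv_mem _ hsS)
  have eQ' : ↥Q' ≃* QuaternionGroup 2 :=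
    (Q.equivMapOfInjective _ (MulAut.conj s).injective).symm.trans eQ
  have hV' : Q' ⊔ Z = (Q ⊔ Z).map (MulAut.conj s).toMonoidHom := by
    rw [Subgroup.map_sup, center_map_conj S ι hinj hrange s hsS]
  have h₂' : ((Q' ⊔ Z) ⊔ Subgroup.centralizer ((Q' ⊔ Z : Subgroup G) : Set G)).relIndex
      (Subgroup.normalizer ((Q' ⊔ Z : Subgroup G) : Set G)) = 6 := by
    rw [hV']
    have := relIndex_sup_centralizer_map (MulAut.conj s) (Q ⊔ Z)
    rw [← h₂]
    exact this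
  have hQ'H := quat_le_of_index_two S ι hinj hrange h hh Q' hQ'S eQ' (Q' ⊔ Z) rfl h₂' K hKn n hKi
    hK H hH
  have hQr : Q ≤ ι.range := hrange ▸ hQS
  obtain ⟨-, c, d, hβ, hcd, -⟩ :=
    WrM.quat8_struct (Q.comap ι) ((comapEquiv ι hinj Q hQr).trans eQ) h hh
  have hquat : Wr.quat M ≤ (H.map K.subtype).comap ι := by
    apply WrM.quat_le_of_conj (Q.comap ι) _ c d hβ hcd
    · intro q hq
      exact hQH hq
    · intro q hq
      rw [Subgroup.mem_comap, map_mul, map_mul, map_inv]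
      apply hQ'H
      exact ⟨ι q, hq, rfl⟩
  haveI := hKn
  apply not_inf_le_of_index_prime S K H hH
  intro x hx
  rw [Subgroup.mem_subgroupOf, inf_kernel_eq S ι hinj hrange K hK] at hx
  obtain ⟨p, hp, hpe⟩ := hx
  have h1 := hquat hp
  rw [Subgroup.mem_comap, hpe] at h1
  obtain ⟨y, hy, hye⟩ := h1
  have : y = x := Subtype.ext hye
  rw [← this]; exact hy

/-- every subgroup of `Z(S)` is weakly closed in `S` -/
theorem center_weakly_closed (n : ℕ) (hN : 2 * M = 2 ^ n) (K : ℕ) (hK : M = 2 * K)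
    (Q : Subgroup G) (hQS : Q ≤ S) (eQ : Q ≃* QuaternionGroup 2)
    (h₁ : (Subgroup.centralizer (((Wr.base (2 * M)).map ι : Subgroup G) : Set G)).relIndex
      (Subgroup.normalizer (((Wr.base (2 * M)).map ι : Subgroup G) : Set G)) = 2)
    (Z₀ : Subgroup G) (hZ₀ : Z₀ ≤ (Wr.diag (2 * M)).map ι) :
    Cfsg.IsWeaklyClosed Z₀ (S : Subgroup G) := by
  refine ⟨hZ₀.trans (diag_map_le_S S ι hinj hrange), ?_⟩
  intro g hg
  have key : ∀ z ∈ Z₀, g * z * g⁻¹ = z := by
    intro z hz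
    have h1 : g * z * g⁻¹ ∈ (S : Subgroup G) := hg ⟨z, hz, rfl⟩
    have h2 := center_isolated S ι hinj hrange h hh n hN K hK Q hQS eQ h₁ z (hZ₀ hz) g⁻¹
      (by rw [inv_inv]; exact h1)
    rwa [inv_inv] at h2
  ext x
  constructor
  · rintro ⟨z, hz, rfl⟩
    show g * z * g⁻¹ ∈ Z₀
    rw [key z hz]; exact hz
  · intro hx
    exact ⟨x, hx, key x hx⟩

/-- the fusion pattern `(2, 6)` -/
theorem wreathed_two_six (n : ℕ) (hN : 2 * M = 2 ^ n) (K₀ : ℕ) (hK₀ : M = 2 * K₀)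
    (Q : Subgroup G) (hQS : Q ≤ S) (eQ : Q ≃* QuaternionGroup 2)
    (h₁ : (Subgroup.centralizer (((Wr.base (2 * M)).map ι : Subgroup G) : Set G)).relIndex
      (Subgroup.normalizer (((Wr.base (2 * M)).map ι : Subgroup G) : Set G)) = 2)
    (h₂ : ((Q ⊔ (Wr.diag (2 * M)).map ι) ⊔ Subgroup.centralizer
      ((Q ⊔ (Wr.diag (2 * M)).map ι : Subgroup G) : Set G)).relIndex
      (Subgroup.normalizer ((Q ⊔ (Wr.diag (2 * M)).map ι : Subgroup G) : Set G)) = 6) :
    (∃ K : Subgroup G, K.Normal ∧ K.index = 2 * M ∧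
      (∀ P : Sylow 2 ↥K, Nonempty ((P : Subgroup ↥K) ≃* QuaternionGroup M)) ∧
      (∀ H : Subgroup ↥K, H.index ≠ 2)) ∧
    (∀ Z₀ : Subgroup G, Z₀ ≤ (Wr.diag (2 * M)).map ι → Cfsg.IsWeaklyClosed Z₀ (S : Subgroup G)) ∧
    Nat.card {C : ConjClasses G // ∃ t : G, orderOf t = 2 ∧ ConjClasses.mk t = C} = 2 := by
  have hinvS := sigG_invariant S ι hinj hrange h hh n hN K₀ hK₀ Q hQS eQ h₁
  obtain ⟨K, hKn, hKi, hK⟩ := exists_normal_of_sig_invariant S ι hinj hrange n hN hinvS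
  refine ⟨⟨K, hKn, hKi, fun P => sylow_quat_of_kernel S ι hinj hrange K hKn hK P,
    kernel_no_index_two S ι hinj hrange h hh Q hQS eQ h₂ K hKn n (hKi.trans hN) hK⟩,
    fun Z₀ hZ₀ => center_weakly_closed S ι hinj hrange h hh n hN K₀ hK₀ Q hQS eQ h₁ Z₀ hZ₀, ?_⟩
  have hwt := isConj_w1_t0 S ι hinj hrange h hh Q hQS eQ _ rfl h₂
  apply card_classes_eq_two 2 (ι ⟨M, M, false⟩) (ι ⟨M, 0, false⟩) (orderOf_z0 S ι hinj hrange)
    (orderOf_w1 S ι hinj hrange)
  · intro hc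
    obtain ⟨c, hc⟩ := isConj_iff.mp hc
    have hz0Z : ι ⟨M, M, false⟩ ∈ (Wr.diag (2 * M)).map ι := ⟨_, Wr.mem_diag.mpr ⟨rfl, rfl⟩, rfl⟩
    have h1 := center_isolated S ι hinj hrange h hh n hN K₀ hK₀ Q hQS eQ h₁ _ hz0Z c⁻¹ (by
      rw [inv_inv, hc]; exact wr_mem_S S ι hinj hrange _)
    rw [inv_inv, hc] at h1
    have h2 := congrArg Wr.b (hinj h1)
    simp only at h2
    exact zmod_half_ne_zero h2.symm
  · intro t ht
    rcases invol_cases_G S ι hinj hrange t ht with h1 | h1 | h1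
    · left; exact h1
    · right; exact h1
    · right; exact h1.trans hwt.symm

end coord

end Cfsg.Agent.Helper20
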