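import Mathlib
import Cfsg.Agent.Lib.Helper20.CentA
import Cfsg.Agent.Lib.Helper20.WrR

set_option autoImplicit false
set_option linter.unusedSectionVars false
set_option linter.unusedSimpArgs false
set_option linter.unusedVariables false

namespace Cfsg.Agent.Helper20

open Cfsg.Agent.Helper98 Cfsg.Agent.Helper33
open scoped Pointwise

theorem map_codRestrict_eq {A G : Type*} [Group A] [Group G] (C : Subgroup G) (ι : A →* G)
    (hι : ∀ a, ι a ∈ C) (X : Subgroup A) :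
    X.map (ι.codRestrict C hι) = (X.map ι).subgroupOf C := by
  ext c
  rw [Subgroup.mem_subgroupOf]
  constructor
  · rintro ⟨a, ha, rfl⟩; exact ⟨a, ha, rfl⟩
  · rintro ⟨a, ha, hac⟩; exact ⟨a, ha, Subtype.ext hac⟩

section coord
variable {G : Type*} [Group G] [Finite G] (S : Sylow 2 G) {M : ℕ} [NeZero M]
  (ι : Wr (2 * M) →* G) (hinj : Function.Injective ι) (hrange : ι.range = (S : Subgroup G))
  (h : ZMod (2 * M)) (hh : 2 * h = (M : ZMod (2 * M)))

include hinj hrange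

theorem exists_quat_in_S (K₀ : ℕ) (hK₀ : M = 2 * K₀) :
    ∃ Q : Subgroup G, Q ≤ S ∧ Nonempty (Q ≃* QuaternionGroup 2) := by
  obtain ⟨Q, ⟨eQ⟩, -⟩ := Wr.good_eq_sup (M := M) K₀ hK₀
  exact ⟨Q.map ι, by rw [← hrange]; exact Subgroup.map_le_range _ _,
    ⟨(Q.equivMapOfInjective ι hinj).symm.trans eQ⟩⟩

theorem card_S_ne_one : Nat.card (S : Subgroup G) ≠ 1 := by
  intro hc
  have h1 : (S : Subgroup G) = ⊥ := Subgroup.card_eq_one.mp hc
  have h2 : ι ⟨M, M, false⟩ ∈ (S : Subgroup G) := wr_mem_S S ι hinj hrange _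
  rw [h1, Subgroup.mem_bot] at h2
  have h3 := orderOf_z0 S ι hinj hrange
  rw [h2, orderOf_one] at h3
  omega

/-- a central involution of `S` is the image of the central involution of the model -/
theorem eq_z0_of_central (x : G) (hx : orderOf x = 2) (hxS : x ∈ (S : Subgroup G))
    (hxc : ∀ s ∈ (S : Subgroup G), s * x = x * s) : x = ι ⟨M, M, false⟩ := by
  have h1 : x ∈ (Subgroup.center ↥(S : Subgroup G)).map (S : Subgroup G).subtype := by
    refine ⟨⟨x, hxS⟩, ?_, rfl⟩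
    rw [SetLike.mem_coe, Subgroup.mem_center_iff]
    intro s
    exact Subtype.ext (hxc s.1 s.2)
  rw [center_S_eq S ι hinj hrange] at h1
  obtain ⟨p, hp, rfl⟩ := h1
  have hp2 : p * p = 1 := by
    apply hinj
    have h3 := pow_orderOf_eq_one (ι p)
    rw [hx] at h3
    rw [map_mul, map_one, ← pow_two]
    exact h3
  rcases Wr.diag_invol hp hp2 with h | h
  · rw [h, map_one, orderOf_one] at hx; omega
  · rw [h]; rfl

include hh

/-- without subgroups of index two both local indices are six -/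
theorem wr_six_six_of_no_index_two (hG : ∀ H : Subgroup G, H.index ≠ 2)
    (n : ℕ) (hN : 2 * M = 2 ^ n) (K₀ : ℕ) (hK₀ : M = 2 * K₀)
    (Q : Subgroup G) (hQS : Q ≤ S) (eQ : Q ≃* QuaternionGroup 2) :
    (Subgroup.centralizer (((Wr.base (2 * M)).map ι : Subgroup G) : Set G)).relIndex
      (Subgroup.normalizer (((Wr.base (2 * M)).map ι : Subgroup G) : Set G)) = 6 ∧
    ((Q ⊔ (Wr.diag (2 * M)).map ι) ⊔ Subgroup.centralizer
      ((Q ⊔ (Wr.diag (2 * M)).map ι : Subgroup G) : Set G)).relIndex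
      (Subgroup.normalizer ((Q ⊔ (Wr.diag (2 * M)).map ι : Subgroup G) : Set G)) = 6 := by
  rcases localIdx_base S ι hinj hrange with h1 | h1 <;>
    rcases localIdx_quat_center S ι hinj hrange h hh Q hQS eQ _ rfl with h2 | h2
  · exfalso
    have hF := wreathed_two_two_frob S ι hinj hrange h hh n hN K₀ hK₀ Q hQS eQ h1 h2
    haveI : Fact (Nat.Prime 2) := ⟨Nat.prime_two⟩
    exact not_hasNormalPComplement_of_no_index_two hG S (card_S_ne_one S ι hinj hrange)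
      (Cfsg.Agent.Helper2.frobenius 2 hF)
  · exfalso
    obtain ⟨⟨K, hKn, hKi, -⟩, -⟩ :=
      wreathed_two_six S ι hinj hrange h hh n hN K₀ hK₀ Q hQS eQ h1 h2
    haveI := hKn
    have h0 := pow_index_eq_zero_of_no_index_two hG K n (hKi.trans hN)
    rw [h0, pow_zero] at hN
    omega
  · exfalso
    obtain ⟨⟨K, -, hK2, -⟩, -⟩ :=
      wreathed_six_two S ι hinj hrange h hh n hN K₀ hK₀ Q hQS eQ h1 h2
    exact hG K hK2
  · exact ⟨h1, h2⟩

/-- with both local indices six every involution is conjugate to the central one -/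
theorem isConj_z0_of_six_six (Q : Subgroup G) (hQS : Q ≤ S) (eQ : Q ≃* QuaternionGroup 2)
    (h₁ : (Subgroup.centralizer (((Wr.base (2 * M)).map ι : Subgroup G) : Set G)).relIndex
      (Subgroup.normalizer (((Wr.base (2 * M)).map ι : Subgroup G) : Set G)) = 6)
    (h₂ : ((Q ⊔ (Wr.diag (2 * M)).map ι) ⊔ Subgroup.centralizer
      ((Q ⊔ (Wr.diag (2 * M)).map ι : Subgroup G) : Set G)).relIndex
      (Subgroup.normalizer ((Q ⊔ (Wr.diag (2 * M)).map ι : Subgroup G) : Set G)) = 6)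
    (t : G) (ht : orderOf t = 2) : IsConj t (ι ⟨M, M, false⟩) := by
  obtain ⟨g, hg, hgw⟩ := exists_conj_w1_z0 S ι hinj hrange h₁
  have hwt := isConj_w1_t0 S ι hinj hrange h hh Q hQS eQ _ rfl h₂
  have hwz : IsConj (ι ⟨M, 0, false⟩) (ι ⟨M, M, false⟩) := by
    rw [← hgw, isConj_iff]; exact ⟨g, rfl⟩
  have hzt := hwz.symm.trans hwt
  rcases invol_cases_G S ι hinj hrange t ht with h1 | h1 | h1
  · exact h1
  · exact h1.trans hwz
  · exact h1.trans hzt.symm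

end coord

section main
variable {G : Type*} [Group G] [Finite G]

/-- the centralizer of the central involution -/
theorem wr_centralizer_aux (S : Sylow 2 G) (hS : Cfsg.IsWreathed (S : Subgroup G))
    (hG : ∀ H : Subgroup G, H.index ≠ 2) (x : G) (hx : orderOf x = 2)
    (hxS : x ∈ (S : Subgroup G)) (hxc : ∀ s ∈ (S : Subgroup G), s * x = x * s) :
    ∃ R : Sylow 2 ↥(Subgroup.centralizer ({x} : Set G)), Nat.card R = Nat.card S ∧
      (∃ K : Subgroup ↥(Subgroup.centralizer ({x} : Set G)), K.Normal ∧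
        (∃ a : ℕ, K.index = 2 ^ a) ∧ (∀ H : Subgroup ↥K, H.index ≠ 2) ∧
        (∀ P : Sylow 2 ↥K, ∃ m : ℕ, 1 ≤ m ∧
          Nonempty ((P : Subgroup ↥K) ≃* QuaternionGroup (2 ^ m)))) ∧
      (∀ Z₀ : Subgroup ↥(Subgroup.centralizer ({x} : Set G)),
        Z₀ ≤ ((Subgroup.center (R : Subgroup ↥(Subgroup.centralizer ({x} : Set G)))).map
          (R : Subgroup ↥(Subgroup.centralizer ({x} : Set G))).subtype) →
        Cfsg.IsWeaklyClosed Z₀ (R : Subgroup ↥(Subgroup.centralizer ({x} : Set G)))) := by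
  obtain ⟨n, -, hn, -⟩ := id hS
  obtain ⟨hn2, ι, hinj, hrange⟩ := exists_wr_coord' (S : Subgroup G) hS n hn
  obtain ⟨h, hh⟩ := exists_quarter n hn2
  have hN : 2 * 2 ^ (n - 1) = 2 ^ n := (Cfsg.Agent.Helper98.two_pow_eq_two_mul (by omega)).symm
  have hK : 2 ^ (n - 1) = 2 * 2 ^ (n - 2) := by
    have : n - 1 = (n - 2) + 1 := by omega
    rw [this, pow_succ]; ring
  set C := Subgroup.centralizer ({x} : Set G) with hC
  have hmemC : ∀ g : G, g ∈ C ↔ x * g = g * x := by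
    intro g
    rw [hC, Subgroup.mem_centralizer_iff]
    constructor
    · intro h; exact h x rfl
    · intro h y hy
      rw [Set.mem_singleton_iff] at hy
      rw [hy]; exact h
  have hSC : (S : Subgroup G) ≤ C := fun s hs => (hmemC s).mpr (hxc s hs).symm
  have hxz := eq_z0_of_central S ι hinj hrange x hx hxS hxc
  obtain ⟨Q, hQS, ⟨eQ⟩⟩ := exists_quat_in_S S ι hinj hrange (2 ^ (n - 2)) hK
  obtain ⟨-, h₂⟩ := wr_six_six_of_no_index_two S ι hinj hrange h hh hG n hN (2 ^ (n - 2)) hK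
    Q hQS eQ
  -- the Sylow subgroup of the centralizer and its coordinates
  set R : Sylow 2 ↥C := S.subtype hSC with hRdef
  have hRcoe : (R : Subgroup ↥C) = (S : Subgroup G).subgroupOf C := Sylow.coe_subtype S hSC
  have eR : ↥(R : Subgroup ↥C) ≃* ↥(S : Subgroup G) :=
    (MulEquiv.subgroupCongr hRcoe).trans (Subgroup.subgroupOfEquivOfLe hSC)
  have hcard : Nat.card (R : Subgroup ↥C) = Nat.card (S : Subgroup G) := Nat.card_congr eR.toEquiv
  have hιC : ∀ p, ι p ∈ C := fun p => hSC (wr_mem_S S ι hinj hrange p)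
  set ι' : Wr (2 * 2 ^ (n - 1)) →* ↥C := ι.codRestrict C hιC with hι'
  have hinj' : Function.Injective ι' := by
    intro p q hpq
    apply hinj
    exact congrArg Subtype.val hpq
  have hrange' : ι'.range = (R : Subgroup ↥C) := by
    rw [hRcoe, MonoidHom.range_eq_map, hι', map_codRestrict_eq, ← MonoidHom.range_eq_map, hrange]
  -- the quaternion subgroup
  have hQC : Q ≤ C := hQS.trans hSC
  set Q' := Q.subgroupOf C with hQ'def
  have eQ' : ↥Q' ≃* QuaternionGroup 2 := (Subgroup.subgroupOfEquivOfLe hQC).trans eQ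
  have hQ'R : Q' ≤ (R : Subgroup ↥C) := by
    rw [hRcoe]
    intro c hc
    exact Subgroup.mem_subgroupOf.mpr (hQS (Subgroup.mem_subgroupOf.mp hc))
  -- the local index of `V'`
  have hZS : (Wr.diag (2 * 2 ^ (n - 1))).map ι ≤ (S : Subgroup G) := diag_map_le_S S ι hinj hrange
  have hxZ : x ∈ (Wr.diag (2 * 2 ^ (n - 1))).map ι := by
    rw [hxz]; exact ⟨_, Wr.mem_diag.mpr ⟨rfl, rfl⟩, rfl⟩
  have hNV : Subgroup.normalizer ((Q ⊔ (Wr.diag (2 * 2 ^ (n - 1))).map ι : Subgroup G) : Set G) ≤ C := by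
    intro g hg
    have h1 := normalizer_quat_centralizes_center S ι hinj hrange h hh Q hQS eQ _ rfl g hg x hxZ
    rw [hmemC]
    calc x * g = (g * x * g⁻¹) * g := by rw [h1]
      _ = g * x := by group
  have hsup : (Q ⊔ (Wr.diag (2 * 2 ^ (n - 1))).map ι).subgroupOf C =
      Q' ⊔ (Wr.diag (2 * 2 ^ (n - 1))).map ι' := by
    rw [Subgroup.subgroupOf_sup hQC (hZS.trans hSC), hι', map_codRestrict_eq]
  have h₂' : ((Q' ⊔ (Wr.diag (2 * 2 ^ (n - 1))).map ι') ⊔ Subgroup.centralizer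
      ((Q' ⊔ (Wr.diag (2 * 2 ^ (n - 1))).map ι' : Subgroup ↥C) : Set ↥C)).relIndex
      (Subgroup.normalizer ((Q' ⊔ (Wr.diag (2 * 2 ^ (n - 1))).map ι' : Subgroup ↥C) : Set ↥C)) = 6 := by
    rw [← hsup, relIndex_sup_centralizer_subgroupOf C _ hNV]; exact h₂
  -- the local index of `U'`
  have hz0' : ∀ c : ↥C, c * ι' ⟨(2 ^ (n - 1) : ℕ), (2 ^ (n - 1) : ℕ), false⟩ =
      ι' ⟨(2 ^ (n - 1) : ℕ), (2 ^ (n - 1) : ℕ), false⟩ * c := by
    intro c
    apply Subtype.ext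
    show (c : G) * ι ⟨(2 ^ (n - 1) : ℕ), (2 ^ (n - 1) : ℕ), false⟩ =
      ι ⟨(2 ^ (n - 1) : ℕ), (2 ^ (n - 1) : ℕ), false⟩ * (c : G)
    rw [← hxz]
    exact ((hmemC c.1).mp c.2).symm
  have h₁' : (Subgroup.centralizer (((Wr.base (2 * 2 ^ (n - 1))).map ι' : Subgroup ↥C) : Set ↥C)).relIndex
      (Subgroup.normalizer (((Wr.base (2 * 2 ^ (n - 1))).map ι' : Subgroup ↥C) : Set ↥C)) = 2 := by
    rcases localIdx_base R ι' hinj' hrange' with h1 | h1
    · exact h1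
    · exfalso
      obtain ⟨g, hg, hgw⟩ := exists_conj_w1_z0 R ι' hinj' hrange' h1
      have h2 : ι' ⟨(2 ^ (n - 1) : ℕ), 0, false⟩ =
          ι' ⟨(2 ^ (n - 1) : ℕ), (2 ^ (n - 1) : ℕ), false⟩ := by
        have e : ι' ⟨(2 ^ (n - 1) : ℕ), 0, false⟩ =
            g⁻¹ * (g * ι' ⟨(2 ^ (n - 1) : ℕ), 0, false⟩ * g⁻¹) * g := by group
        rw [e, hgw]
        have h4 := hz0' g
        calc g⁻¹ * ι' ⟨(2 ^ (n - 1) : ℕ), (2 ^ (n - 1) : ℕ), false⟩ * g
            = g⁻¹ * (ι' ⟨(2 ^ (n - 1) : ℕ), (2 ^ (n - 1) : ℕ), false⟩ * g) := by group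
          _ = g⁻¹ * (g * ι' ⟨(2 ^ (n - 1) : ℕ), (2 ^ (n - 1) : ℕ), false⟩) := by rw [h4]
          _ = ι' ⟨(2 ^ (n - 1) : ℕ), (2 ^ (n - 1) : ℕ), false⟩ := by group
      have h3 := congrArg Wr.b (hinj' h2)
      simp only at h3
      exact zmod_half_ne_zero h3.symm
  obtain ⟨⟨K, hKn, hKi, hKsyl, hKno⟩, hwc, -⟩ :=
    wreathed_two_six R ι' hinj' hrange' h hh n hN (2 ^ (n - 2)) hK Q' hQ'R eQ' h₁' h₂'
  refine ⟨R, hcard, ⟨K, hKn, ⟨n, hKi.trans hN⟩, hKno,
    fun P => ⟨n - 1, by omega, hKsyl P⟩⟩, ?_⟩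
  intro Z₀ hZ₀
  rw [center_S_eq R ι' hinj' hrange'] at hZ₀
  exact hwc Z₀ hZ₀

/-- the centralizer of an arbitrary involution -/
theorem wr_centralizer (S : Sylow 2 G) (hS : Cfsg.IsWreathed (S : Subgroup G))
    (hG : ∀ H : Subgroup G, H.index ≠ 2) (x : G) (hx : orderOf x = 2) :
    ∃ R : Sylow 2 ↥(Subgroup.centralizer ({x} : Set G)), Nat.card R = Nat.card S ∧
      (∃ K : Subgroup ↥(Subgroup.centralizer ({x} : Set G)), K.Normal ∧
        (∃ a : ℕ, K.index = 2 ^ a) ∧ (∀ H : Subgroup ↥K, H.index ≠ 2) ∧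
        (∀ P : Sylow 2 ↥K, ∃ m : ℕ, 1 ≤ m ∧
          Nonempty ((P : Subgroup ↥K) ≃* QuaternionGroup (2 ^ m)))) ∧
      (∀ Z₀ : Subgroup ↥(Subgroup.centralizer ({x} : Set G)),
        Z₀ ≤ ((Subgroup.center (R : Subgroup ↥(Subgroup.centralizer ({x} : Set G)))).map
          (R : Subgroup ↥(Subgroup.centralizer ({x} : Set G))).subtype) →
        Cfsg.IsWeaklyClosed Z₀ (R : Subgroup ↥(Subgroup.centralizer ({x} : Set G)))) := by
  obtain ⟨n, -, hn, -⟩ := id hS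
  obtain ⟨hn2, ι, hinj, hrange⟩ := exists_wr_coord' (S : Subgroup G) hS n hn
  obtain ⟨h, hh⟩ := exists_quarter n hn2
  have hN : 2 * 2 ^ (n - 1) = 2 ^ n := (Cfsg.Agent.Helper98.two_pow_eq_two_mul (by omega)).symm
  have hK : 2 ^ (n - 1) = 2 * 2 ^ (n - 2) := by
    have : n - 1 = (n - 2) + 1 := by omega
    rw [this, pow_succ]; ring
  obtain ⟨Q, hQS, ⟨eQ⟩⟩ := exists_quat_in_S S ι hinj hrange (2 ^ (n - 2)) hK
  obtain ⟨h₁, h₂⟩ := wr_six_six_of_no_index_two S ι hinj hrange h hh hG n hN (2 ^ (n - 2)) hK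
    Q hQS eQ
  obtain ⟨c, hc⟩ := isConj_iff.mp
    (isConj_z0_of_six_six S ι hinj hrange h hh Q hQS eQ h₁ h₂ x hx)
  set z := ι ⟨(2 ^ (n - 1) : ℕ), (2 ^ (n - 1) : ℕ), false⟩ with hz
  set S' : Sylow 2 G := MulAut.conj c⁻¹ • S with hS'def
  have hS'coe : (S' : Subgroup G) = MulAut.conj c⁻¹ • (S : Subgroup G) := rfl
  have hS' : Cfsg.IsWreathed ↥(S' : Subgroup G) :=
    isWreathed_of_equiv (Subgroup.equivSMul (MulAut.conj c⁻¹) (S : Subgroup G)) hS
  have hmem : ∀ s' ∈ (S' : Subgroup G), ∃ s ∈ (S : Subgroup G), s' = c⁻¹ * s * c := by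
    intro s' hs'
    rw [hS'coe, Subgroup.mem_smul_pointwise_iff_exists] at hs'
    obtain ⟨s, hs, rfl⟩ := hs'
    refine ⟨s, hs, ?_⟩
    rw [MulAut.smul_def, MulAut.conj_apply, inv_inv]
  have hxe : x = c⁻¹ * z * c := by rw [← hc]; group
  have hzS : z ∈ (S : Subgroup G) := wr_mem_S S ι hinj hrange _
  have hzZ : z ∈ (Wr.diag (2 * 2 ^ (n - 1))).map ι := ⟨_, Wr.mem_diag.mpr ⟨rfl, rfl⟩, rfl⟩
  have hxS' : x ∈ (S' : Subgroup G) := by
    rw [hS'coe, Subgroup.mem_smul_pointwise_iff_exists]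
    refine ⟨_, hzS, ?_⟩
    rw [MulAut.smul_def, MulAut.conj_apply, inv_inv, hxe]
  have hxc' : ∀ s' ∈ (S' : Subgroup G), s' * x = x * s' := by
    intro s' hs'
    obtain ⟨s, hs, rfl⟩ := hmem s' hs'
    have h2 : s * z = z * s := diag_map_central S ι hinj hrange z hzZ s hs
    rw [hxe]
    calc c⁻¹ * s * c * (c⁻¹ * z * c) = c⁻¹ * (s * z) * c := by group
      _ = c⁻¹ * (z * s) * c := by rw [h2]
      _ = c⁻¹ * z * c * (c⁻¹ * s * c) := by group
  obtain ⟨R, hRcard, hrest⟩ := wr_centralizer_aux S' hS' hG x hx hxS' hxc'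
  refine ⟨R, ?_, hrest⟩
  haveI : Fact (Nat.Prime 2) := ⟨Nat.prime_two⟩
  rw [hRcard, Sylow.card_eq_multiplicity S', Sylow.card_eq_multiplicity S]

end main

end Cfsg.Agent.Helper20
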