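import Mathlib
import Cfsg.Agent.Lib.Helper52.FCDefs
import Cfsg.Agent.Lib.Helper52.Coprime
import Cfsg.Agent.Lib.Helper52.CoprimeSylow

set_option autoImplicit false

/-! FC server (helper52, S3816): piece (D2) `L2_sgroup`. -/

namespace Cfsg.Agent.Helper20.FC

open Subgroup Cfsg.Agent.Helper52.FC Cfsg.Agent.Helper52
open scoped commutatorElement

universe u

variable {G : Type u} [Group G]

theorem h20_inv_pow {a : G} {X : Subgroup G} (hX : Cfsg.Agent.Helper52.FC.Inv a X) (i : ℕ) :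
    ∀ x ∈ X, a ^ i * x * (a ^ i)⁻¹ ∈ X := by
  induction i with
  | zero => intro x hx; simpa using hx
  | succ n ih =>
    intro x hx
    have h1 := hX _ (ih x hx)
    have h2 : a ^ (n + 1) * x * (a ^ (n + 1))⁻¹ = a * (a ^ n * x * (a ^ n)⁻¹) * a⁻¹ := by
      rw [pow_succ']; group
    rw [h2]; exact h1

theorem h20_Lh_le (a : G) (X : Subgroup G) (hX : Cfsg.Agent.Helper52.FC.Inv a X) (h : G) (hh : h ∈ X) : Lh a h ≤ X := by
  unfold Lh
  rw [closure_le]
  rintro c ⟨i, rfl⟩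
  exact X.mul_mem (X.inv_mem hh) (h20_inv_pow hX i h hh)

theorem h20_Lh_inv (a h : G) : Cfsg.Agent.Helper52.FC.Inv a (Lh a h) := by
  intro x hx
  unfold Lh at hx ⊢
  refine closure_induction (p := fun x _ => a * x * a⁻¹ ∈
    closure {c : G | ∃ i : ℕ, c = h⁻¹ * (a ^ i * h * (a ^ i)⁻¹)}) ?_ ?_ ?_ ?_ hx
  · rintro c ⟨i, rfl⟩
    have h1 : a * (h⁻¹ * (a ^ i * h * (a ^ i)⁻¹)) * a⁻¹ =
        (h⁻¹ * (a ^ 1 * h * (a ^ 1)⁻¹))⁻¹ * (h⁻¹ * (a ^ (i + 1) * h * (a ^ (i + 1))⁻¹)) := by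
      group
    rw [h1]
    exact mul_mem (inv_mem (Subgroup.subset_closure ⟨1, rfl⟩)) (Subgroup.subset_closure ⟨i + 1, rfl⟩)
  · simp
  · intro x y _ _ hx hy
    have h1 : a * (x * y) * a⁻¹ = (a * x * a⁻¹) * (a * y * a⁻¹) := by group
    rw [h1]; exact mul_mem hx hy
  · intro x _ hx
    have h1 : a * x⁻¹ * a⁻¹ = (a * x * a⁻¹)⁻¹ := by group
    rw [h1]; exact inv_mem hx

theorem h20_Lh_conj (a l c : G) (hc : c * a = a * c) (x : G) (hx : x ∈ Lh a l) :
    c * x * c⁻¹ ∈ Lh a (c * l * c⁻¹) := by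
  have hci : ∀ i : ℕ, c * a ^ i = a ^ i * c := fun i => (Commute.pow_right hc i)
  unfold Lh at hx ⊢
  refine closure_induction (p := fun x _ => c * x * c⁻¹ ∈
    closure {d : G | ∃ i : ℕ, d = (c * l * c⁻¹)⁻¹ * (a ^ i * (c * l * c⁻¹) * (a ^ i)⁻¹)})
    ?_ ?_ ?_ ?_ hx
  · rintro y ⟨i, rfl⟩
    apply Subgroup.subset_closure
    refine ⟨i, ?_⟩
    have h1 := hci i
    calc c * (l⁻¹ * (a ^ i * l * (a ^ i)⁻¹)) * c⁻¹
        = (c * l * c⁻¹)⁻¹ * ((c * a ^ i) * l * (c * a ^ i)⁻¹) := by group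
      _ = (c * l * c⁻¹)⁻¹ * (a ^ i * (c * l * c⁻¹) * (a ^ i)⁻¹) := by rw [h1]; group
  · simp
  · intro x y _ _ hx hy
    have h1 : c * (x * y) * c⁻¹ = (c * x * c⁻¹) * (c * y * c⁻¹) := by group
    rw [h1]; exact mul_mem hx hy
  · intro x _ hx
    have h1 : c * x⁻¹ * c⁻¹ = (c * x * c⁻¹)⁻¹ := by group
    rw [h1]; exact inv_mem hx

theorem h20_zpowers_le_normalizer {p : ℕ} (hp : 0 < p) {a : G} (hpow : a ^ p = 1)
    {X : Subgroup G} (hX : Cfsg.Agent.Helper52.FC.Inv a X) : zpowers a ≤ normalizer (X : Set G) := by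
  rw [zpowers_le, mem_normalizer_iff]
  intro x
  constructor
  · exact hX x
  · intro hx
    have h1 := h20_inv_pow hX (p - 1) _ hx
    have h2 : a ^ (p - 1) * a = 1 := by rw [← pow_succ, Nat.sub_add_cancel hp, hpow]
    have h3 : a ^ (p - 1) = a⁻¹ := eq_inv_of_mul_eq_one_left h2
    rw [h3] at h1
    have h4 : a⁻¹ * (a * x * a⁻¹) * a⁻¹⁻¹ = x := by group
    rw [h4] at h1
    exact h1

theorem L2_sgroup [Finite G] {p : ℕ} (hp : p.Prime) (a : G) (L : Subgroup G) (hyp : Hyp p a L) (hL : Cfsg.Agent.Helper52.FC.comm a L = L)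
    (h2 : (⨆ l : {l : G // l ∈ L ∧ Lh a l ≠ L}, Lh a (l : G)) ≠ L) : ∃ s : ℕ, s.Prime ∧ IsPGroup s L := by
  classical
  by_contra hcon
  push Not at hcon
  set L₂ : Subgroup G := ⨆ l : {l : G // l ∈ L ∧ Lh a l ≠ L}, Lh a (l : G) with hL₂
  set A : Subgroup G := zpowers a with hA
  set C : Subgroup G := L ⊓ Fix a with hC
  have hAL : A ≤ normalizer (L : Set G) := h20_zpowers_le_normalizer hp.pos hyp.pow hyp.inv
  have hL₂L : L₂ ≤ L := iSup_le (fun l => h20_Lh_le a L hyp.inv l l.2.1)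
  have hAcard : Nat.card A ∣ p := by
    rw [hA, Nat.card_zpowers]; exact orderOf_dvd_of_pow_eq_one hyp.pow
  have hcopL : (Nat.card A).Coprime (Nat.card L) :=
    Nat.Coprime.coprime_dvd_left hAcard hyp.cop.symm
  have hAsolv : Group.IsSolvable A := by
    rw [hA]; infer_instance
  have hApow : ∀ g ∈ A, ∃ i : ℕ, g = a ^ i := by
    intro g hg
    have h1 : g ∈ Submonoid.powers a :=
      (isOfFinOrder_of_finite a).mem_powers_iff_mem_zpowers.mpr hg
    obtain ⟨i, hi⟩ := h1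
    exact ⟨i, hi.symm⟩
  -- Claim A: commutators with proper invariant subgroups lie in L₂
  have claimA : ∀ X : Subgroup G, X ≤ L → X ≠ L → Cfsg.Agent.Helper52.FC.Inv a X → ⁅X, A⁆ ≤ L₂ := by
    intro X hXL hXne hX
    rw [commutator_le]
    intro s hs g hg
    obtain ⟨i, rfl⟩ := hApow g hg
    have hh : s⁻¹ ∈ X := X.inv_mem hs
    have hne : Lh a s⁻¹ ≠ L := by
      intro heq
      apply hXne
      exact le_antisymm hXL (heq ▸ h20_Lh_le a X hX s⁻¹ hh)
    have h1 : ⁅s, a ^ i⁆ = (s⁻¹)⁻¹ * (a ^ i * s⁻¹ * (a ^ i)⁻¹) := by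
      rw [commutatorElement_def]; group
    rw [h1]
    exact (le_iSup (fun l : {l : G // l ∈ L ∧ Lh a l ≠ L} => Lh a (l : G)) ⟨s⁻¹, hXL hh, hne⟩)
      (Subgroup.subset_closure ⟨i, rfl⟩)
  -- Claim B: invariant Sylow subgroups lie in L₂ ⊔ C
  have claimB : ∀ s : ℕ, s.Prime → ∃ S : Subgroup G, S ≤ L₂ ⊔ C ∧ Nat.card S = sylCard s L := by
    intro s hs
    have : Fact s.Prime := ⟨hs⟩
    obtain ⟨S, hSL, hScard, hAS⟩ := exists_invariant_sylow A L hAL hcopL (Or.inl hAsolv) s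
    refine ⟨S, ?_, hScard⟩
    have hSne : S ≠ L := by
      intro heq
      apply hcon s hs
      rw [← heq]
      exact IsPGroup.of_card hScard
    have haA : a ∈ A := mem_zpowers a
    have hSinv : Cfsg.Agent.Helper52.FC.Inv a S := fun x hx => (mem_normalizer_iff.mp (hAS haA) x).mp hx
    have hcomS : ⁅S, A⁆ ≤ L₂ := claimA S hSL hSne hSinv
    have hcopS : (Nat.card A).Coprime (Nat.card S) :=
      Nat.Coprime.coprime_dvd_right (Subgroup.card_dvd_of_le hSL) hcopL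
    intro h hh
    obtain ⟨n, hn, c, hc, rfl⟩ :=
      exists_commutator_mul_centralizer S A hAS hcopS (Or.inl hAsolv) h hh
    apply mul_mem
    · exact (le_sup_left : L₂ ≤ L₂ ⊔ C) (hcomS hn)
    · apply (le_sup_right : C ≤ L₂ ⊔ C)
      rw [hC]
      refine ⟨hSL hc.1, ?_⟩
      have h3 : centralizer (A : Set G) ≤ centralizer ({a} : Set G) :=
        centralizer_le (by
          intro x hx
          rw [Set.mem_singleton_iff] at hx
          rw [hx]; exact haA)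
      exact h3 hc.2
  -- Claim C: L = L₂ ⊔ C
  have hQL : L₂ ⊔ C ≤ L := sup_le hL₂L inf_le_left
  have hdvd : Nat.card L ∣ Nat.card (L₂ ⊔ C : Subgroup G) := by
    rw [← Nat.factorization_prime_le_iff_dvd Nat.card_pos.ne' Nat.card_pos.ne']
    intro s hs
    obtain ⟨S, hSQ, hScard⟩ := claimB s hs
    have h1 : Nat.card S ∣ Nat.card (L₂ ⊔ C : Subgroup G) := Subgroup.card_dvd_of_le hSQ
    rw [hScard, sylCard] at h1
    exact (hs.pow_dvd_iff_le_factorization Nat.card_pos.ne').mp h1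
  have hQeq : L₂ ⊔ C = L :=
    Subgroup.eq_of_le_of_card_ge hQL (Nat.le_of_dvd Nat.card_pos hdvd)
  -- Claim D: C normalises L₂
  have hcomm_of_mem : ∀ c ∈ C, c * a = a * c := by
    intro c hc
    have h1 : c ∈ centralizer ({a} : Set G) := hc.2
    exact (mem_centralizer_iff.mp h1 a (Set.mem_singleton a)).symm
  have hCconj : ∀ c ∈ C, ∀ y ∈ L₂, c * y * c⁻¹ ∈ L₂ := by
    intro c hc y hy
    have hca := hcomm_of_mem c hc
    rw [hL₂] at hy
    refine Subgroup.iSup_induction (C := fun y => c * y * c⁻¹ ∈ L₂) _ hy ?_ ?_ ?_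
    · intro l x hx
      have h1 := h20_Lh_conj a (l : G) c hca x hx
      have hmem : c * (l : G) * c⁻¹ ∈ L := L.mul_mem (L.mul_mem hc.1 l.2.1) (L.inv_mem hc.1)
      have hne : Lh a (c * (l : G) * c⁻¹) ≠ L := by
        intro heq
        apply l.2.2
        apply le_antisymm (h20_Lh_le a L hyp.inv l l.2.1)
        intro x hx
        have h3 : c * x * c⁻¹ ∈ Lh a (c * (l : G) * c⁻¹) := by
          rw [heq]; exact L.mul_mem (L.mul_mem hc.1 hx) (L.inv_mem hc.1)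
        have hca' : c⁻¹ * a = a * c⁻¹ := by
          have h5 : c⁻¹ * (c * a) * c⁻¹ = c⁻¹ * (a * c) * c⁻¹ := by rw [hca]
          rw [show c⁻¹ * (c * a) * c⁻¹ = a * c⁻¹ by group,
            show c⁻¹ * (a * c) * c⁻¹ = c⁻¹ * a by group] at h5
          exact h5.symm
        have h4 := h20_Lh_conj a (c * (l : G) * c⁻¹) c⁻¹ hca' _ h3
        rw [show c⁻¹ * (c * x * c⁻¹) * c⁻¹⁻¹ = x by group,
          show c⁻¹ * (c * (l : G) * c⁻¹) * c⁻¹⁻¹ = (l : G) by group] at h4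
        exact h4
      exact (le_iSup (fun l : {l : G // l ∈ L ∧ Lh a l ≠ L} => Lh a (l : G))
        ⟨c * (l : G) * c⁻¹, hmem, hne⟩) h1
    · rw [mul_one, mul_inv_cancel]; exact one_mem _
    · intro x y hx hy
      have h1 : c * (x * y) * c⁻¹ = (c * x * c⁻¹) * (c * y * c⁻¹) := by group
      rw [h1]; exact mul_mem hx hy
  have hLnorm : L ≤ normalizer (L₂ : Set G) := by
    rw [← hQeq]
    apply sup_le le_normalizer
    intro c hc
    rw [mem_normalizer_iff]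
    intro y
    constructor
    · exact hCconj c hc y
    · intro hy
      have h1 := hCconj c⁻¹ (C.inv_mem hc) _ hy
      rw [show c⁻¹ * (c * y * c⁻¹) * c⁻¹⁻¹ = y by group] at h1
      exact h1
  -- L₂ is a-invariant
  have hL₂inv : Cfsg.Agent.Helper52.FC.Inv a L₂ := by
    intro y hy
    rw [hL₂] at hy
    refine Subgroup.iSup_induction (C := fun y => a * y * a⁻¹ ∈ L₂) _ hy ?_ ?_ ?_
    · intro l x hx
      exact (le_iSup (fun l : {l : G // l ∈ L ∧ Lh a l ≠ L} => Lh a (l : G)) l)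
        (h20_Lh_inv a l x hx)
    · rw [mul_one, mul_inv_cancel]; exact one_mem _
    · intro x y hx hy
      have h1 : a * (x * y) * a⁻¹ = (a * x * a⁻¹) * (a * y * a⁻¹) := by group
      rw [h1]; exact mul_mem hx hy
  -- the subgroup T
  let T : Subgroup G :=
    { carrier := {h | h ∈ L ∧ ∀ i : ℕ, h⁻¹ * (a ^ i * h * (a ^ i)⁻¹) ∈ L₂}
      one_mem' := ⟨L.one_mem, fun i => by simp⟩
      mul_mem' := by
        rintro h₁ h₂ ⟨hh₁, h1⟩ ⟨hh₂, h2'⟩
        refine ⟨L.mul_mem hh₁ hh₂, fun i => ?_⟩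
        have h3 : (h₁ * h₂)⁻¹ * (a ^ i * (h₁ * h₂) * (a ^ i)⁻¹) =
            (h₂⁻¹ * (h₁⁻¹ * (a ^ i * h₁ * (a ^ i)⁻¹)) * h₂⁻¹⁻¹) *
              (h₂⁻¹ * (a ^ i * h₂ * (a ^ i)⁻¹)) := by group
        rw [h3]
        apply mul_mem _ (h2' i)
        exact (mem_normalizer_iff.mp (hLnorm (L.inv_mem hh₂)) _).mp (h1 i)
      inv_mem' := by
        rintro h ⟨hh, h1⟩
        refine ⟨L.inv_mem hh, fun i => ?_⟩
        have h3 : h⁻¹⁻¹ * (a ^ i * h⁻¹ * (a ^ i)⁻¹) =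
            (h * (h⁻¹ * (a ^ i * h * (a ^ i)⁻¹)) * h⁻¹)⁻¹ := by group
        rw [h3]
        apply inv_mem
        exact (mem_normalizer_iff.mp (hLnorm hh) _).mp (h1 i) }
  have hTL : L ≤ T := by
    rw [← hQeq]
    apply sup_le
    · intro y hy
      refine ⟨hL₂L hy, fun i => ?_⟩
      exact mul_mem (inv_mem hy) (h20_inv_pow hL₂inv i y hy)
    · intro c hc
      refine ⟨hc.1, fun i => ?_⟩
      have h1 : c * a ^ i = a ^ i * c := Commute.pow_right (hcomm_of_mem c hc) i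
      have h3 : c⁻¹ * (a ^ i * c * (a ^ i)⁻¹) = 1 := by
        rw [← h1]; group
      rw [h3]; exact one_mem _
  have hfinal : Cfsg.Agent.Helper52.FC.comm a L ≤ L₂ := by
    unfold Cfsg.Agent.Helper52.FC.comm
    rw [closure_le]
    rintro c ⟨h, hh, i, rfl⟩
    exact (hTL hh).2 i
  apply h2
  exact le_antisymm hL₂L (hL ▸ hfinal)

end Cfsg.Agent.Helper20.FC
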