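import Mathlib
import Cfsg.Agent.Lib.Helper5.SL23
import Cfsg.Agent.Lib.Helper73.SL23Recog
import Cfsg.Agent.Lib.Helper27.GL23

/-!
# Recognition of `GL₂(3)`: finite computations

A group of order `48` with a normal subgroup `U ≅ SL₂(3)`, `C(U) ≤ U`, and an involution outside `U`
is isomorphic to `GL₂(3)`.
-/

set_option autoImplicit false

namespace Cfsg.Agent.Helper20.GL23R

open Cfsg.Agent.Helper5 Cfsg.Agent.Helper73 Matrix

abbrev M23 := Matrix (Fin 2) (Fin 2) (ZMod 3)
abbrev GL23 := GL (Fin 2) (ZMod 3)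

/-- explicit table of the matrices of `qf` -/
def qm : QuaternionGroup 2 → M23
  | .a i => match i with
    | 0 => !![1, 0; 0, 1]
    | 1 => !![0, -1; 1, 0]
    | 2 => !![-1, 0; 0, -1]
    | 3 => !![0, 1; -1, 0]
  | .xa i => match i with
    | 0 => !![1, 1; 1, -1]
    | 1 => !![1, -1; -1, -1]
    | 2 => !![-1, -1; -1, 1]
    | 3 => !![-1, 1; 1, 1]

set_option maxRecDepth 100000 in
lemma qm_eq : ∀ y : QuaternionGroup 2, qm y = (qf y : M23) := by decide

set_option maxRecDepth 100000 in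
lemma d1 : ∀ x : SL23, x ^ 4 = 1 → ∃ y : QuaternionGroup 2, qf y = x := by decide

set_option maxRecDepth 100000 in
lemma d2 : ∀ x : SL23, ∃ y : QuaternionGroup 2, qf y = x ^ 3 := by decide

set_option maxRecDepth 100000 in
lemma d5 : ∀ a b c d : ZMod 3,
    (∀ y : QuaternionGroup 2, !![a, b; c, d] * qm y = qm y * !![a, b; c, d]) →
    b = 0 ∧ c = 0 ∧ a = d := by decide

set_option maxRecDepth 100000 in
lemma d6 : ∀ a b c d : ZMod 3, !![a, b; c, d] * !![a, b; c, d] = (-1 : M23) →
    a * d - b * c = 1 := by decide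

set_option maxRecDepth 1000000 in
set_option maxHeartbeats 4000000 in
lemma d4 : ∀ u v : QuaternionGroup 2,
    (∀ x y, wmap u v (x * y) = wmap u v x * wmap u v y) →
    (∀ x y, wmap u v x = wmap u v y → x = y) →
    ∃ a b c d : ZMod 3, a * d - b * c ≠ 0 ∧
      ∀ x, qm (wmap u v x) * !![a, b; c, d] = !![a, b; c, d] * qm x := by
  decide


lemma qf_pow_four : ∀ y : QuaternionGroup 2, y ^ 4 = 1 := by decide

/-- a matrix commuting with the quaternion matrices is scalar -/
lemma scalar_of_commute (M : M23) (h : ∀ y : QuaternionGroup 2, M * qm y = qm y * M) :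
    M = (M 0 0) • (1 : M23) := by
  have hM : M = !![M 0 0, M 0 1; M 1 0, M 1 1] := Matrix.eta_fin_two M
  have h' : ∀ y : QuaternionGroup 2,
      !![M 0 0, M 0 1; M 1 0, M 1 1] * qm y = qm y * !![M 0 0, M 0 1; M 1 0, M 1 1] := by
    intro y; rw [← hM]; exact h y
  obtain ⟨h1, h2, h3⟩ := d5 _ _ _ _ h'
  rw [hM]
  ext i j
  fin_cases i <;> fin_cases j <;> simp [h1, h2, h3.symm]

end Cfsg.Agent.Helper20.GL23R
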