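import Mathlib
import Cfsg.Agent.Lib.Helper20.GL23Dec

/-!
# Recognition of `GL₂(3)`

A group of order `48` with a normal subgroup `U ≅ SL₂(3)`, `C(U) ≤ U`, and an involution outside `U`
is isomorphic to `GL₂(3)`.
-/

set_option autoImplicit false

namespace Cfsg.Agent.Helper20.GL23R

open Cfsg.Agent.Helper5 Cfsg.Agent.Helper73 Matrix

/-- the embedding of `SL₂(3)` into `GL₂(3)` -/
abbrev iota : SL23 →* GL23 := SpecialLinearGroup.toGL

lemma iota_val (x : SL23) : ((iota x : GL23) : M23) = (x : M23) := rfl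

lemma mem_range_iota_of_det (T : GL23) (h : (T : M23).det = 1) : ∃ s : SL23, iota s = T :=
  ⟨⟨(T : M23), h⟩, Units.ext rfl⟩

/-- a `GL₂(3)` element commuting with the quaternion subgroup is `1` or `-1` -/
lemma central_cases (c : GL23) (h : ∀ y : QuaternionGroup 2, c * iota (qf y) = iota (qf y) * c) :
    c = 1 ∨ c = -1 := by
  have h' : ∀ y : QuaternionGroup 2, (c : M23) * qm y = qm y * (c : M23) := by
    intro y
    rw [qm_eq]
    have := congrArg Units.val (h y)
    simpa [Units.val_mul] using this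
  have hs := scalar_of_commute (c : M23) h'
  set s : ZMod 3 := (c : M23) 0 0 with hsdef
  have hs0 : s ≠ 0 := by
    intro h0
    have hc0 : (c : M23) = 0 := by rw [hs, h0, zero_smul]
    have h1 : (c : M23) * ((c⁻¹ : GL23) : M23) = 1 := by
      rw [← Units.val_mul, mul_inv_cancel]; rfl
    rw [hc0, zero_mul] at h1
    have := congrFun (congrFun h1 0) 0
    simp at this
  have hcases : ∀ s : ZMod 3, s ≠ 0 → s = 1 ∨ s = -1 := by decide
  rcases hcases s hs0 with h1 | h1
  · left
    apply Units.ext
    rw [hs, h1, one_smul]; rfl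
  · right
    apply Units.ext
    rw [hs, h1, neg_smul, one_smul]; rfl

lemma neg_one_ne_one : (-1 : GL23) ≠ 1 := by
  intro h
  have := congrArg Units.val h
  have h2 := congrFun (congrFun this 0) 0
  simp at h2
  revert h2; decide

/-- abstract commutation lemma -/
lemma comm_of_conj {Γ : Type*} [Group Γ] (T P B q q1 : Γ)
    (e1 : P * q1 * P⁻¹ * T = T * (B * q * B⁻¹)) (e2 : q1 * T = T * q) :
    (B⁻¹ * (T⁻¹ * P * T)) * q = q * (B⁻¹ * (T⁻¹ * P * T)) := by
  have e2' : q1 = T * q * T⁻¹ := by rw [← e2]; group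
  have e3 : (T⁻¹ * P * T) * q * (T⁻¹ * P * T)⁻¹ = B * q * B⁻¹ := by
    calc (T⁻¹ * P * T) * q * (T⁻¹ * P * T)⁻¹ = T⁻¹ * (P * (T * q * T⁻¹) * P⁻¹ * T) := by group
      _ = T⁻¹ * (T * (B * q * B⁻¹)) := by rw [← e2', e1]
      _ = B * q * B⁻¹ := by group
  calc B⁻¹ * (T⁻¹ * P * T) * q
      = B⁻¹ * ((T⁻¹ * P * T) * q * (T⁻¹ * P * T)⁻¹) * (T⁻¹ * P * T) := by group
    _ = B⁻¹ * (B * q * B⁻¹) * (T⁻¹ * P * T) := by rw [e3]
    _ = q * (B⁻¹ * (T⁻¹ * P * T)) := by group

lemma eq_of_quot_one {Γ : Type*} [Group Γ] (T P B : Γ) (h : B⁻¹ * (T⁻¹ * P * T) = 1) :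
    P * T = T * B := by
  have h1 : T⁻¹ * P * T = B := by
    calc T⁻¹ * P * T = B * (B⁻¹ * (T⁻¹ * P * T)) := by group
      _ = B := by rw [h, mul_one]
  calc P * T = T * (T⁻¹ * P * T) := by group
    _ = T * B := by rw [h1]

lemma cube_of_quot_neg {R : Type*} [Ring R] (T P B : Rˣ) (h : B⁻¹ * (T⁻¹ * P * T) = -1) :
    P ^ 3 * T = -(T * B ^ 3) := by
  have h1 : T⁻¹ * P * T = -B := by
    calc T⁻¹ * P * T = B * (B⁻¹ * (T⁻¹ * P * T)) := by group
      _ = -B := by rw [h, mul_neg, mul_one]
  have h2 : P = T * (-B) * T⁻¹ := by rw [← h1]; group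
  have h3 : P ^ 3 = T * (-B) ^ 3 * T⁻¹ := by rw [h2, conj_pow]
  have h4 : (-B) ^ 3 = -(B ^ 3) := Odd.neg_pow (by decide) B
  rw [h3, h4, inv_mul_cancel_right, mul_neg]

/-- every automorphism of `SL₂(3)` is induced by conjugation with an element of `GL₂(3)` -/
theorem aut_realize (β : SL23 ≃* SL23) :
    ∃ T : GL23, ∀ x : SL23, iota (β x) * T = T * iota x := by
  classical
  have hinj : Function.Injective qf := qHom_injective
  have hex : ∀ y : QuaternionGroup 2, ∃ y' : QuaternionGroup 2, qf y' = β (qf y) := by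
    intro y
    apply d1
    rw [← map_pow]
    have h4 : (qf y) ^ 4 = 1 := by
      show (qHom y) ^ 4 = 1
      rw [← map_pow, qf_pow_four, map_one]
    rw [h4, map_one]
  choose α' hα' using hex
  let α : QuaternionGroup 2 →* QuaternionGroup 2 :=
    { toFun := α'
      map_one' := hinj (by
        rw [hα']
        show β (qHom 1) = qHom 1
        rw [map_one, map_one])
      map_mul' := fun a b => hinj (by
        rw [hα']
        show β (qHom (a * b)) = qHom (α' a * α' b)
        rw [map_mul, map_mul, map_mul]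
        show β (qf a) * β (qf b) = qf (α' a) * qf (α' b)
        rw [hα', hα']) }
  have hαapp : ∀ y, qf (α y) = β (qf y) := hα'
  have hαinj : Function.Injective α := by
    intro a b hab
    have : β (qf a) = β (qf b) := by rw [← hαapp a, ← hαapp b, hab]
    exact hinj (β.injective this)
  have hw := fun x => wmap_eq α x
  obtain ⟨a, b, c, d, hdet, hM⟩ := d4 (α (QuaternionGroup.a 1)) (α (QuaternionGroup.xa 0))
    (by intro x y; rw [hw, hw, hw]; exact map_mul α x y)
    (by intro x y h; rw [hw, hw] at h; exact hαinj h)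
  have hM' : ∀ y, qm (α y) * !![a, b; c, d] = !![a, b; c, d] * qm y := by
    intro y; rw [← hw]; exact hM y
  have hdetM : (!![a, b; c, d] : M23).det ≠ 0 := by rw [Matrix.det_fin_two_of]; exact hdet
  obtain ⟨T, hTval⟩ : ∃ T : GL23, (T : M23) = !![a, b; c, d] :=
    ⟨GeneralLinearGroup.mkOfDetNeZero _ hdetM, rfl⟩
  -- the relation on the quaternion subgroup
  have hq : ∀ y : QuaternionGroup 2, iota (β (qf y)) * T = T * iota (qf y) := by
    intro y
    apply Units.ext
    rw [Units.val_mul, Units.val_mul, iota_val, iota_val, hTval, ← hαapp, ← qm_eq, ← qm_eq]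
    exact hM' y
  have hnorm : ∀ (x : SL23) (y : QuaternionGroup 2), ∃ y', qf y' = x * qf y * x⁻¹ := by
    intro x y
    have hn := qHom_range_normal
    have := hn.conj_mem (qf y) ⟨y, rfl⟩ x
    obtain ⟨y', hy'⟩ := this
    exact ⟨y', hy'⟩
  refine ⟨T, fun x => ?_⟩
  -- `B⁻¹ A` commutes with the quaternion subgroup
  have hcomm : ∀ y : QuaternionGroup 2,
      ((iota x)⁻¹ * (T⁻¹ * iota (β x) * T)) * iota (qf y) =
        iota (qf y) * ((iota x)⁻¹ * (T⁻¹ * iota (β x) * T)) := by
    intro y
    obtain ⟨y', hy'⟩ := hnorm x y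
    have h1 := hq y'
    rw [hy'] at h1
    simp only [map_mul, map_inv] at h1
    exact comm_of_conj T (iota (β x)) (iota x) (iota (qf y)) (iota (β (qf y))) h1 (hq y)
  rcases central_cases _ hcomm with h1 | h1
  · exact eq_of_quot_one T _ _ h1
  · exfalso
    have h4 := cube_of_quot_neg T _ _ h1
    obtain ⟨y3, hy3⟩ := d2 x
    have h3 : iota (β (x ^ 3)) * T = T * iota (x ^ 3) := by
      rw [← hy3]; exact hq y3
    simp only [map_pow] at h3
    rw [h3] at h4
    have h5 : (1 : GL23) = -1 := by
      have h6 : (T * iota x ^ 3) * 1 = (T * iota x ^ 3) * (-1) := by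
        rw [mul_one, mul_neg, mul_one]; exact h4
      exact mul_left_cancel h6
    exact neg_one_ne_one h5.symm


lemma card_GL23 : Nat.card GL23 = 48 := Cfsg.Agent.Helper27.GL23.card_X

/-- Recognition of `GL₂(3)`: a group of order `48` with a normal subgroup `U ≅ SL₂(3)` containing
its centralizer and an involution outside `U`. -/
theorem gl23_recog {X : Type*} [Group X] [Finite X] (hX : Nat.card X = 48) (U : Subgroup X)
    [hU : U.Normal] (ε : U ≃* SL23) (hCU : Subgroup.centralizer (U : Set X) ≤ U)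
    (t : X) (ht2 : t ^ 2 = 1) (htU : t ∉ U) : Nonempty (X ≃* GL23) := by
  classical
  have hf2 : Fact (Nat.Prime 2) := ⟨Nat.prime_two⟩
  have ht1 : t ≠ 1 := by
    rintro rfl
    exact htU (Subgroup.one_mem _)
  have hot : orderOf t = 2 := orderOf_eq_prime ht2 ht1
  set C := Subgroup.zpowers t with hC
  have hCcard : Nat.card C = 2 := by rw [hC, Nat.card_zpowers, hot]
  have hUcard : Nat.card U = 24 := by
    rw [Nat.card_congr ε.toEquiv, card_SL23]
  have hdisj : Disjoint U C := by
    rw [Subgroup.disjoint_def]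
    intro x hxU hxC
    obtain ⟨k, rfl⟩ := Subgroup.mem_zpowers_iff.1 hxC
    rcases Int.even_or_odd' k with ⟨m, rfl | rfl⟩
    · rw [_root_.zpow_mul, zpow_two, ← pow_two, ht2, _root_.one_zpow]
    · exfalso
      apply htU
      have h1 : t ^ (2 * m + 1) = t := by
        rw [_root_.zpow_add, _root_.zpow_mul, zpow_two, ← pow_two, ht2, _root_.one_zpow, one_mul, _root_.zpow_one]
      rwa [h1] at hxU
  have hcompl : U.IsComplement' C := by
    apply Subgroup.isComplement'_of_card_mul_and_disjoint _ hdisj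
    rw [hUcard, hCcard, hX]
  -- the automorphism of `SL₂(3)` induced by `t`
  let β : SL23 ≃* SL23 := ε.symm.trans ((MulAut.conjNormal t : MulAut U).trans ε)
  have hβ : ∀ x, β x = ε (MulAut.conjNormal t (ε.symm x)) := fun x => rfl
  have hβ2 : ∀ x, β (β x) = x := by
    intro x
    simp only [hβ, MulEquiv.symm_apply_apply]
    have h1 : ∀ n : U, MulAut.conjNormal t (MulAut.conjNormal t n) = n := by
      intro n
      have : (MulAut.conjNormal t : MulAut U) ^ 2 = 1 := by rw [← map_pow, ht2, map_one]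
      have h2 := congrArg (fun γ : MulAut U => γ n) this
      simpa [pow_succ] using h2
    rw [h1, MulEquiv.apply_symm_apply]
  obtain ⟨T, hT⟩ := aut_realize β
  let f : U →* GL23 := iota.comp ε.toMonoidHom
  have hfapp : ∀ n : U, f n = iota (ε n) := fun n => rfl
  have hfinj : Function.Injective f :=
    SpecialLinearGroup.toGL_injective.comp ε.injective
  have hf : ∀ n : U, f (MulAut.conjNormal t n) * T = T * f n := by
    intro n
    have h1 := hT (ε n)
    rw [hβ, MulEquiv.symm_apply_apply] at h1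
    exact h1
  -- `T` is not in the image of `SL₂(3)`
  have hTnot : ∀ s : SL23, iota s ≠ T := by
    intro s hs
    apply htU
    set s' : U := ε.symm s with hs'
    have hfs' : f s' = T := by rw [hfapp, hs', MulEquiv.apply_symm_apply, hs]
    have hcent : (s' : X)⁻¹ * t ∈ Subgroup.centralizer (U : Set X) := by
      rw [Subgroup.mem_centralizer_iff]
      intro n hn
      have h1 := hf ⟨n, hn⟩
      rw [← hfs', ← map_mul, ← map_mul] at h1
      have h2 := hfinj h1
      have h3 := congrArg Subtype.val h2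
      rw [Subgroup.coe_mul, Subgroup.coe_mul, MulAut.conjNormal_apply] at h3
      simp only at h3
      -- h3 : t * n * t⁻¹ * s' = s' * n
      calc n * ((s' : X)⁻¹ * t) = (s' : X)⁻¹ * ((s' : X) * n) * (s' : X)⁻¹ * t := by group
        _ = (s' : X)⁻¹ * (t * n * t⁻¹ * (s' : X)) * (s' : X)⁻¹ * t := by rw [h3]
        _ = (s' : X)⁻¹ * t * n := by group
    have h4 := hCU hcent
    have h5 : t = (s' : X) * ((s' : X)⁻¹ * t) := by group
    rw [h5]
    exact U.mul_mem s'.2 h4
  -- `T ^ 2 = 1`
  have hT2comm : ∀ x : SL23, (T * T) * iota x = iota x * (T * T) := by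
    intro x
    have h1 := hT (β x)
    rw [hβ2] at h1
    have h2 := hT x
    -- h1 : iota x * T = T * iota (β x); h2 : iota (β x) * T = T * iota x
    calc T * T * iota x = T * (T * iota x) := by rw [mul_assoc]
      _ = T * (iota (β x) * T) := by rw [h2]
      _ = (T * iota (β x)) * T := by rw [mul_assoc]
      _ = iota x * T * T := by rw [h1]
      _ = iota x * (T * T) := by rw [mul_assoc]
  have hTT : T * T = 1 := by
    rcases central_cases (T * T) (fun y => hT2comm (qf y)) with h1 | h1
    · exact h1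
    · exfalso
      have h2 : (T : M23) * (T : M23) = -1 := by
        have := congrArg Units.val h1
        simpa [Units.val_mul] using this
      have h3 : (T : M23) = !![(T : M23) 0 0, (T : M23) 0 1; (T : M23) 1 0, (T : M23) 1 1] :=
        Matrix.eta_fin_two _
      rw [h3] at h2
      have h4 := d6 _ _ _ _ h2
      have h5 : (T : M23).det = 1 := by
        rw [h3, Matrix.det_fin_two_of]; exact h4
      obtain ⟨s, hs⟩ := mem_range_iota_of_det T h5
      exact hTnot s hs
  have hTne : T ≠ 1 := by
    intro h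
    exact hTnot 1 (by rw [map_one, h])
  have hoT : orderOf T = 2 := orderOf_eq_prime (by rw [pow_two]; exact hTT) hTne
  set c0 : C := ⟨t, Subgroup.mem_zpowers t⟩ with hc0
  have hoc0 : orderOf c0 = 2 := by rw [← hot]; exact Subgroup.orderOf_mk t _
  have hc0gen : ∀ x : C, x ∈ Subgroup.zpowers c0 := by
    intro x
    obtain ⟨j, hj⟩ := Subgroup.mem_zpowers_iff.1 x.2
    exact Subgroup.mem_zpowers_iff.2 ⟨j, Subtype.ext (by simpa using hj)⟩
  let g : C →* GL23 := monoidHomOfForallMemZpowers hc0gen (g' := T) (by rw [hoT, hoc0])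
  have hg0 : g c0 = T := monoidHomOfForallMemZpowers_apply_gen hc0gen _
  have hpow : ∀ x : C, ∃ j : ℕ, c0 ^ j = x := by
    intro x
    have := (mem_powers_iff_mem_zpowers (x := c0) (y := x)).2 (hc0gen x)
    exact (Submonoid.mem_powers_iff _ _).1 this
  set φ : C →* MulAut U := (U.normalizerMonoidHom).comp
    (Subgroup.inclusion (U.normalizer_eq_top ▸ le_top)) with hφ
  have hφc0 : ∀ n : U, φ c0 n = MulAut.conjNormal t n := by
    intro n
    apply Subtype.ext
    rw [MulAut.conjNormal_apply]
    rfl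
  have hlift : ∀ k : C, f.comp (φ k).toMonoidHom = (MulAut.conj (g k)).toMonoidHom.comp f := by
    intro k
    obtain ⟨j, rfl⟩ := hpow k
    induction j with
    | zero =>
      ext n
      simp
    | succ j ih =>
      apply MonoidHom.ext
      intro n
      have ih' : ∀ n : U, f (φ (c0 ^ j) n) = g (c0 ^ j) * f n * (g (c0 ^ j))⁻¹ := by
        intro n
        have := DFunLike.congr_fun ih n
        exact this
      have hfT : ∀ n : U, f (MulAut.conjNormal t n) = T * f n * T⁻¹ := by
        intro n; rw [← hf n]; group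
      show f (φ (c0 ^ (j + 1)) n) = g (c0 ^ (j + 1)) * f n * (g (c0 ^ (j + 1)))⁻¹
      rw [pow_succ, map_mul, map_mul, MulAut.mul_apply, ih', hφc0, hfT, hg0]
      group
  let L : U ⋊[φ] C →* GL23 := SemidirectProduct.lift f g hlift
  have hLinj : Function.Injective L := by
    rw [injective_iff_map_eq_one]
    intro y hy
    have hy' : f y.left * g y.right = 1 := hy
    obtain ⟨j, hj⟩ := hpow y.right
    have hgj : g y.right = T ^ j := by rw [← hj, map_pow, hg0]
    rcases Nat.even_or_odd' j with ⟨m, rfl | rfl⟩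
    · have hg1 : g y.right = 1 := by
        rw [hgj, pow_mul, pow_two, hTT, one_pow]
      have hf1 : f y.left = 1 := by rw [hg1, mul_one] at hy'; exact hy'
      have hn1 : y.left = 1 := hfinj (by rw [hf1, map_one])
      have hk1 : y.right = 1 := by
        rw [← hj, pow_mul, ← hoc0, pow_orderOf_eq_one, one_pow]
      exact SemidirectProduct.ext hn1 hk1
    · exfalso
      have hg1 : g y.right = T := by
        rw [hgj, pow_succ, pow_mul, pow_two, hTT, one_pow, one_mul]
      rw [hg1] at hy'
      have h1 : T = (f y.left)⁻¹ := eq_inv_of_mul_eq_one_right hy'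
      rw [← map_inv, hfapp] at h1
      exact hTnot _ h1.symm
  have hLbij : Function.Bijective L := by
    apply hLinj.bijective_of_nat_card_le
    rw [SemidirectProduct.card, hUcard, hCcard, card_GL23]
  exact ⟨(SemidirectProduct.mulEquivSubgroup hcompl).symm.trans (MulEquiv.ofBijective L hLbij)⟩

end Cfsg.Agent.Helper20.GL23R
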