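import Mathlib
import Cfsg.Agent.Lib.Helper98.ZPow

set_option autoImplicit false
set_option linter.unusedSectionVars false
set_option linter.unusedSimpArgs false
set_option linter.unusedVariables false

namespace Cfsg.Agent.Helper20

open Cfsg.Agent.Helper98

section zpw_extra
variable {G : Type*} [Group G] {N : ℕ} [NeZero N] {g : G}

theorem zpw_zpw (hg : g ^ N = 1) (a b : ZMod N) : zpw N (zpw N g a) b = zpw N g (a * b) := by
  unfold zpw
  rw [← zpow_mul]
  apply zpow_eq_of_modEq hg
  rw [← ZMod.intCast_eq_intCast_iff]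
  simp

theorem zpw_mul_distrib {x y : G} (hc : Commute x y) (a : ZMod N) :
    zpw N (x * y) a = zpw N x a * zpw N y a := by
  unfold zpw
  exact hc.mul_zpow _

theorem zpw_pow_self (hg : g ^ N = 1) (a : ZMod N) : (zpw N g a) ^ N = 1 := by
  rw [zpw_pow hg]
  simp [zpw_zero]

theorem zpw_smul_eq {E : Type*} [MulAction G E] {v : E} (hv : g • v = v) (a : ZMod N) :
    zpw N g a • v = v := by
  unfold zpw
  have : g ∈ MulAction.stabilizer G v := hv
  exact (Subgroup.zpow_mem _ this _)

end zpw_extra

section avg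
variable {P E : Type*} [Group P] [AddCommGroup E] [DistribMulAction P E] {N : ℕ} [NeZero N]

/-- sum of the translates of `v` under the powers of `g` -/
noncomputable def avg (N : ℕ) [NeZero N] (g : P) (v : E) : E := ∑ j : ZMod N, zpw N g j • v

theorem smul_avg {g : P} (hg : g ^ N = 1) (v : E) : g • avg N g v = avg N g v := by
  unfold avg
  rw [Finset.smul_sum]
  have h1 : ∀ j : ZMod N, g • zpw N g j • v = zpw N g (1 + j) • v := by
    intro j
    rw [zpw_add hg, zpw_one hg, mul_smul]
  simp_rw [h1]
  exact Fintype.sum_equiv (Equiv.addLeft (1 : ZMod N)) _ _ (fun j => rfl)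

theorem avg_of_fixed {g : P} {v : E} (hv : g • v = v) : avg N g v = N • v := by
  unfold avg
  simp_rw [zpw_smul_eq hv]
  rw [Finset.sum_const, Finset.card_univ, ZMod.card]

theorem smul_avg_comm {g h : P} (hc : Commute h g) (v : E) :
    h • avg N g v = avg N g (h • v) := by
  unfold avg
  rw [Finset.smul_sum]
  refine Finset.sum_congr rfl (fun j _ => ?_)
  rw [← mul_smul, ← mul_smul]
  congr 1
  unfold zpw
  exact (hc.zpow_right _).eq

theorem avg_add (g : P) (v w : E) : avg N g (v + w) = avg N g v + avg N g w := by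
  unfold avg
  simp_rw [smul_add]
  rw [Finset.sum_add_distrib]

theorem avg_zero (g : P) : avg N g (0 : E) = 0 := by
  unfold avg
  simp

end avg


section inv
variable {E : Type*} [AddCommGroup E]

theorem exists_inv_nsmul {q : ℕ} (hq1 : 1 < q) (hE : ∀ e : E, q • e = 0) {N : ℕ}
    (hNq : Nat.Coprime N q) : ∃ c : ℕ, ∀ e : E, c • (N • e) = e := by
  obtain ⟨m, -, hm⟩ := Nat.exists_mul_mod_eq_one_of_coprime hNq hq1
  refine ⟨m, fun e => ?_⟩
  have h1 := Nat.div_add_mod (N * m) q
  rw [hm] at h1
  rw [← mul_smul, mul_comm m N, ← h1, add_smul, mul_smul, one_smul]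
  rw [smul_comm, hE, smul_zero, zero_add]

theorem eq_zero_of_nsmul_eq_zero {q : ℕ} (hq1 : 1 < q) (hE : ∀ e : E, q • e = 0) {N : ℕ}
    (hNq : Nat.Coprime N q) {e : E} (h : N • e = 0) : e = 0 := by
  obtain ⟨c, hc⟩ := exists_inv_nsmul hq1 hE hNq
  rw [← hc e, h, smul_zero]

end inv

section central
variable {P E : Type*} [Group P] [Finite P] [AddCommGroup E] [DistribMulAction P E]
  [FaithfulSMul P E]

theorem eq_one_of_forall_smul_eq {k : P} (h : ∀ v : E, k • v = v) : k = 1 := by
  apply FaithfulSMul.eq_of_smul_eq_smul (α := E)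
  intro v
  rw [h v, one_smul]

/-- If a central non-identity element has a non-zero fixed vector (coprime situation, constant
stabilizer orders), all stabilizers of non-zero vectors are trivial. -/
theorem stab_trivial_of_central_fixed {q : ℕ} (hq1 : 1 < q) (hE : ∀ e : E, q • e = 0)
    (N : ℕ) [NeZero N] (hNq : Nat.Coprime N q)
    (hconst : ∀ a b : E, a ≠ 0 → b ≠ 0 →
      Nat.card (MulAction.stabilizer P a) = Nat.card (MulAction.stabilizer P b))
    (g : P) (hg1 : g ≠ 1) (hgN : g ^ N = 1) (hgc : ∀ h : P, Commute h g)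
    (a₀ : E) (ha₀ : a₀ ≠ 0) (hga : g • a₀ = a₀) :
    ∀ v : E, v ≠ 0 → MulAction.stabilizer P v = ⊥ := by
  obtain ⟨c, hc⟩ := exists_inv_nsmul hq1 hE hNq
  -- the projection
  set π : E → E := fun v => c • avg N g v with hπ
  have π_fix : ∀ v, g • π v = π v := by
    intro v
    simp only [hπ]
    rw [smul_comm, smul_avg hgN]
  have π_id : ∀ v, g • v = v → π v = v := by
    intro v hv
    simp only [hπ]
    rw [avg_of_fixed hv, hc]
  have π_comm : ∀ (h : P) v, h • π v = π (h • v) := by
    intro h v
    simp only [hπ]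
    rw [smul_comm, smul_avg_comm (hgc h)]
  have π_add : ∀ v w, π (v + w) = π v + π w := by
    intro v w
    simp only [hπ]
    rw [avg_add, smul_add]
  have π_zero : π 0 = 0 := by
    simp only [hπ]
    rw [avg_zero, smul_zero]
  have π_π : ∀ v, π (π v) = π v := fun v => π_id _ (π_fix v)
  have π_sub : ∀ v, π (v - π v) = 0 := by
    intro v
    have h1 := π_add (v - π v) (π v)
    rw [sub_add_cancel, π_π] at h1
    exact (add_eq_right.mp h1.symm)
  -- a vector moved by g
  obtain ⟨v₀, hv₀⟩ : ∃ v₀ : E, g • v₀ ≠ v₀ := by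
    by_contra hcon
    push Not at hcon
    exact hg1 (eq_one_of_forall_smul_eq hcon)
  set b₀ := v₀ - π v₀ with hb₀
  have hb₀π : π b₀ = 0 := π_sub v₀
  have hb₀0 : b₀ ≠ 0 := by
    intro h
    apply hv₀
    have : v₀ = π v₀ := sub_eq_zero.mp h
    rw [this]; exact π_fix v₀
  -- key
  have key : ∀ a b : E, g • a = a → π b = 0 → a ≠ 0 → b ≠ 0 →
      MulAction.stabilizer P a = MulAction.stabilizer P b := by
    intro a b hfa hπb ha hb
    have hab : a + b ≠ 0 := by
      intro h
      have h1 := π_add a b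
      rw [h, π_zero, π_id a hfa, hπb, add_zero] at h1
      exact ha h1.symm
    have hle : MulAction.stabilizer P (a + b) ≤
        MulAction.stabilizer P a ⊓ MulAction.stabilizer P b := by
      intro s hs
      rw [MulAction.mem_stabilizer_iff, smul_add] at hs
      have h1 := congrArg π hs
      rw [π_add, π_add, ← π_comm, ← π_comm, π_id a hfa, hπb, smul_zero, add_zero, add_zero] at h1
      have h2 : s • b = b := by
        rw [h1] at hs
        exact add_left_cancel hs
      exact Subgroup.mem_inf.mpr ⟨h1, h2⟩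
    have e1 : MulAction.stabilizer P (a + b) = MulAction.stabilizer P a :=
      Subgroup.eq_of_le_of_card_ge (hle.trans inf_le_left) (le_of_eq (hconst _ _ ha hab))
    have e2 : MulAction.stabilizer P (a + b) = MulAction.stabilizer P b :=
      Subgroup.eq_of_le_of_card_ge (hle.trans inf_le_right) (le_of_eq (hconst _ _ hb hab))
    rw [← e1, e2]
  -- the common stabilizer acts trivially
  have hK : MulAction.stabilizer P a₀ = ⊥ := by
    rw [Subgroup.eq_bot_iff_forall]
    intro k hk
    apply eq_one_of_forall_smul_eq (E := E)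
    intro v
    have h1 : k • π v = π v := by
      by_cases h0 : π v = 0
      · rw [h0, smul_zero]
      · have : MulAction.stabilizer P (π v) = MulAction.stabilizer P a₀ := by
          rw [key (π v) b₀ (π_fix v) hb₀π h0 hb₀0, key a₀ b₀ hga hb₀π ha₀ hb₀0]
        have hk' : k ∈ MulAction.stabilizer P (π v) := this ▸ hk
        exact hk'
    have h2 : k • (v - π v) = v - π v := by
      by_cases h0 : v - π v = 0
      · rw [h0, smul_zero]
      · have : MulAction.stabilizer P (v - π v) = MulAction.stabilizer P a₀ :=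
          (key a₀ (v - π v) hga (π_sub v) ha₀ h0).symm
        have hk' : k ∈ MulAction.stabilizer P (v - π v) := this ▸ hk
        exact hk'
    have h3 : v = π v + (v - π v) := by abel
    rw [h3, smul_add, h1, h2]
  intro v hv
  have h1 := hconst v a₀ hv ha₀
  rw [hK, Subgroup.card_bot] at h1
  exact Subgroup.card_eq_one.mp h1

end central


section ranktwo
variable {P E : Type*} [Group P] [Finite P] [AddCommGroup E] [DistribMulAction P E]
  [FaithfulSMul P E] {p : ℕ} [hp : Fact p.Prime]

/-- the elements `w z^i` -/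
noncomputable def uu (p : ℕ) [Fact p.Prime] (z w : P) (i : ZMod p) : P := w * zpw p z i

theorem uu_pow {z w : P} (hzp : z ^ p = 1) (hzc : ∀ h : P, Commute h z) (hwp : w ^ p = 1)
    (i : ZMod p) : (uu p z w i) ^ p = 1 := by
  unfold uu
  have hc : Commute w (zpw p z i) := by
    unfold zpw
    exact (hzc w).zpow_right _
  rw [hc.mul_pow, hwp, zpw_pow_self hzp, one_mul]

theorem uu_conj {z w : P} (hzp : z ^ p = 1) (hzc : ∀ h : P, Commute h z) (h : P) (m : ZMod p)
    (hm : h * w * h⁻¹ = w * zpw p z m) (i : ZMod p) :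
    h * uu p z w i * h⁻¹ = uu p z w (i + m) := by
  unfold uu
  have hc : Commute h (zpw p z i) := by
    unfold zpw
    exact (hzc h).zpow_right _
  calc h * (w * zpw p z i) * h⁻¹ = (h * w * h⁻¹) * (h * zpw p z i * h⁻¹) := by group
    _ = (w * zpw p z m) * zpw p z i := by rw [hm, hc.eq, mul_inv_cancel_right]
    _ = w * zpw p z (i + m) := by rw [mul_assoc, ← zpw_add hzp, add_comm]

theorem uu_eq_mul {z w : P} (hzp : z ^ p = 1) (i i' : ZMod p) :
    uu p z w i = uu p z w i' * zpw p z (i - i') := by
  unfold uu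
  rw [mul_assoc, ← zpw_add hzp]
  congr 2
  ring

theorem zpw_uu {z w : P} (hzp : z ^ p = 1) (hzc : ∀ h : P, Commute h z) (i j : ZMod p) :
    zpw p (uu p z w i) j = zpw p w j * zpw p z (i * j) := by
  unfold uu
  have hc : Commute w (zpw p z i) := by
    unfold zpw
    exact (hzc w).zpow_right _
  rw [zpw_mul_distrib hc, zpw_zpw hzp]

theorem zpw_uu' {z w : P} (hzp : z ^ p = 1) (hzc : ∀ h : P, Commute h z) (i i' j : ZMod p) :
    zpw p (uu p z w i) j = zpw p z ((i - i') * j) * zpw p (uu p z w i') j := by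
  rw [uu_eq_mul hzp i i']
  have hc : Commute (uu p z w i') (zpw p z (i - i')) := by
    unfold zpw
    exact (hzc _).zpow_right _
  rw [zpw_mul_distrib hc, zpw_zpw hzp]
  have hc2 : Commute (zpw p (uu p z w i') j) (zpw p z ((i - i') * j)) := by
    unfold zpw
    exact ((hzc _).zpow_right _).zpow_left _
  exact hc2.eq

/-- reindexing the sum over powers of `z` -/
theorem avg_reindex (z : P) (c : ZMod p) (hc : c ≠ 0) (v : E) :
    ∑ j : ZMod p, zpw p z (c * j) • v = avg p z v := by
  unfold avg
  exact Fintype.sum_equiv (Equiv.mulLeft₀ c hc) _ _ (fun j => rfl)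

theorem avg_reindex' (z : P) (c : ZMod p) (hc : c ≠ 0) (v : E) :
    ∑ j : ZMod p, zpw p z (j * c) • v = avg p z v := by
  unfold avg
  exact Fintype.sum_equiv (Equiv.mulRight₀ c hc) _ _ (fun j => rfl)

/-- orthogonality of the averaging operators -/
theorem avg_uu_orth {z w : P} (hzp : z ^ p = 1) (hzc : ∀ h : P, Commute h z)
    (hz0 : ∀ v : E, avg p z v = 0) (i i' : ZMod p) (hii : i ≠ i') (b : E)
    (hb : uu p z w i' • b = b) : avg p (uu p z w i) b = 0 := by
  have h1 : ∀ j : ZMod p, zpw p (uu p z w i) j • b = zpw p z ((i - i') * j) • b := by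
    intro j
    rw [zpw_uu' hzp hzc i i' j, mul_smul, zpw_smul_eq hb]
  unfold avg
  simp_rw [h1]
  rw [avg_reindex z (i - i') (sub_ne_zero.mpr hii) b, hz0]

/-- the sum formula -/
theorem sum_avg_uu {z w : P} (hzp : z ^ p = 1) (hzc : ∀ h : P, Commute h z)
    (hz0 : ∀ v : E, avg p z v = 0) (v : E) :
    ∑ i : ZMod p, avg p (uu p z w i) v = p • v := by
  unfold avg
  simp_rw [zpw_uu hzp hzc, mul_smul]
  rw [Finset.sum_comm]
  simp_rw [← Finset.smul_sum]
  rw [Finset.sum_eq_single (0 : ZMod p)]
  · simp only [mul_zero, zpw_zero, one_smul]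
    rw [Finset.sum_const, Finset.card_univ, ZMod.card]
  · intro j _ hj
    rw [avg_reindex' z j hj v, hz0, smul_zero]
  · intro h; exact absurd (Finset.mem_univ _) h

end ranktwo


section main
variable {P E : Type*} [Group P] [Finite P] [AddCommGroup E] [DistribMulAction P E]
  [FaithfulSMul P E] {p : ℕ} [hp : Fact p.Prime]

theorem uu_smul_conj {z w : P} (hzp : z ^ p = 1) (hzc : ∀ h : P, Commute h z) (s : P)
    (m : ZMod p) (hm : s * w * s⁻¹ = w * zpw p z m) (i : ZMod p) (a : E)
    (ha : uu p z w i • a = a) : uu p z w (i + m) • (s • a) = s • a := by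
  rw [← uu_conj hzp hzc s m hm i, ← mul_smul, inv_mul_cancel_right, mul_smul, ha]

/-- two stabilizers coincide for vectors fixed by different `w z^i` -/
theorem stab_eq_of_uu {q : ℕ} (hq1 : 1 < q) (hE : ∀ e : E, q • e = 0) (hpq : Nat.Coprime p q)
    (hp2 : p ≠ 2)
    (hconst : ∀ a b : E, a ≠ 0 → b ≠ 0 →
      Nat.card (MulAction.stabilizer P a) = Nat.card (MulAction.stabilizer P b))
    {z w : P} (hzp : z ^ p = 1) (hzc : ∀ h : P, Commute h z) (hwp : w ^ p = 1)
    (hz0 : ∀ v : E, avg p z v = 0)
    (hconj : ∀ h : P, ∃ m : ZMod p, h * w * h⁻¹ = w * zpw p z m)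
    (i i' : ZMod p) (hii : i ≠ i') (a b : E) (ha0 : a ≠ 0) (hb0 : b ≠ 0)
    (ha : uu p z w i • a = a) (hb : uu p z w i' • b = b) :
    MulAction.stabilizer P a = MulAction.stabilizer P b := by
  have hpne : ∀ e : E, p • e = 0 → e = 0 := fun e he =>
    eq_zero_of_nsmul_eq_zero hq1 hE hpq he
  have hpinj : ∀ e e' : E, p • e = p • e' → e = e' := by
    intro e e' h
    have : p • (e - e') = 0 := by rw [smul_sub, h, sub_self]
    exact sub_eq_zero.mp (hpne _ this)
  have hab : a + b ≠ 0 := by
    intro h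
    have h1 : b = -a := (neg_eq_of_add_eq_zero_right h).symm
    have h2 : uu p z w i' • a = a := by
      have := hb
      rw [h1, smul_neg, neg_inj] at this
      exact this
    have h3 := avg_uu_orth hzp hzc hz0 i i' hii a h2
    rw [avg_of_fixed ha] at h3
    exact ha0 (hpne _ h3)
  have hle : MulAction.stabilizer P (a + b) ≤
      MulAction.stabilizer P a ⊓ MulAction.stabilizer P b := by
    intro s hs
    rw [MulAction.mem_stabilizer_iff, smul_add] at hs
    obtain ⟨m, hm⟩ := hconj s
    have hsa := uu_smul_conj hzp hzc s m hm i a ha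
    have hsb := uu_smul_conj hzp hzc s m hm i' b hb
    have e1 := congrArg (avg p (uu p z w i)) hs
    rw [avg_add, avg_add, avg_of_fixed ha, avg_uu_orth hzp hzc hz0 i i' hii b hb, add_zero] at e1
    by_cases hm0 : m = 0
    · rw [hm0, add_zero] at hsa hsb
      rw [avg_of_fixed hsa, avg_uu_orth hzp hzc hz0 i i' hii _ hsb, add_zero] at e1
      have h1 : s • a = a := hpinj _ _ e1
      have h2 : s • b = b := by
        rw [h1] at hs
        exact add_left_cancel hs
      exact Subgroup.mem_inf.mpr ⟨h1, h2⟩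
    · exfalso
      have him : i ≠ i + m := by
        intro h; apply hm0; exact (add_eq_left.mp h.symm)
      rw [avg_uu_orth hzp hzc hz0 i (i + m) him _ hsa, zero_add] at e1
      by_cases h2 : i' + m = i
      · rw [h2] at hsb
        rw [avg_of_fixed hsb] at e1
        -- second projection
        have e2 := congrArg (avg p (uu p z w i')) hs
        rw [avg_add, avg_add, avg_of_fixed hb, avg_uu_orth hzp hzc hz0 i' i hii.symm a ha,
          zero_add] at e2
        have hne1 : i' ≠ i + m := by
          intro h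
          -- i' = i + m and i' + m = i give 2 m = 0
          have h3 : (2 : ZMod p) * m = 0 := by
            have : i' + m + m = i' := by rw [h2, ← h]
            linear_combination this
          have h4 : (2 : ZMod p) ≠ 0 := by
            intro h2'
            have h5 : ((2 : ℕ) : ZMod p) = 0 := by exact_mod_cast h2'
            rw [ZMod.natCast_eq_zero_iff] at h5
            have := (Nat.prime_dvd_prime_iff_eq hp.out Nat.prime_two).mp h5
            exact hp2 this
          rcases mul_eq_zero.mp h3 with h6 | h6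
          · exact h4 h6
          · exact hm0 h6
        have hne2 : i' ≠ i := hii.symm
        rw [avg_uu_orth hzp hzc hz0 i' (i + m) hne1 _ hsa,
          avg_uu_orth hzp hzc hz0 i' i hne2 _ hsb, add_zero] at e2
        exact hb0 (hpne _ e2.symm)
      · have hne : i ≠ i' + m := fun h => h2 h.symm
        rw [avg_uu_orth hzp hzc hz0 i (i' + m) hne _ hsb] at e1
        exact ha0 (hpne _ e1.symm)
  have e1 : MulAction.stabilizer P (a + b) = MulAction.stabilizer P a :=
    Subgroup.eq_of_le_of_card_ge (hle.trans inf_le_left) (le_of_eq (hconst _ _ ha0 hab))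
  have e2 : MulAction.stabilizer P (a + b) = MulAction.stabilizer P b :=
    Subgroup.eq_of_le_of_card_ge (hle.trans inf_le_right) (le_of_eq (hconst _ _ hb0 hab))
  rw [← e1, e2]


/-- **No normal rank two data**: under constant stabilizer orders there cannot be a central `z` of
order `p` and `w` of order `p` outside `⟨z⟩`, central modulo `⟨z⟩`. -/
theorem no_rank_two_data [Nontrivial E] {q : ℕ} (hq1 : 1 < q) (hE : ∀ e : E, q • e = 0)
    (hpq : Nat.Coprime p q) (hp2 : p ≠ 2)
    (hconst : ∀ a b : E, a ≠ 0 → b ≠ 0 →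
      Nat.card (MulAction.stabilizer P a) = Nat.card (MulAction.stabilizer P b))
    (z w : P) (hz1 : z ≠ 1) (hzp : z ^ p = 1) (hzc : ∀ h : P, Commute h z) (hwp : w ^ p = 1)
    (hwz : ∀ i : ZMod p, uu p z w i ≠ 1)
    (hconj : ∀ h : P, ∃ m : ZMod p, h * w * h⁻¹ = w * zpw p z m) : False := by
  haveI : NeZero p := ⟨hp.out.ne_zero⟩
  have hfz : ∀ a : E, z • a = a → a = 0 := by
    intro a ha
    by_contra ha0
    have := stab_trivial_of_central_fixed hq1 hE p hpq hconst z hz1 hzp hzc a ha0 ha a ha0
    have hz : z ∈ MulAction.stabilizer P a := ha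
    rw [this, Subgroup.mem_bot] at hz
    exact hz1 hz
  have hz0 : ∀ v : E, avg p z v = 0 := fun v => hfz _ (smul_avg hzp v)
  obtain ⟨v₀, hv₀⟩ := exists_ne (0 : E)
  have hsum := sum_avg_uu (w := w) hzp hzc hz0 v₀
  have hpv : p • v₀ ≠ 0 := fun h => hv₀ (eq_zero_of_nsmul_eq_zero hq1 hE hpq h)
  obtain ⟨i, hi⟩ : ∃ i : ZMod p, avg p (uu p z w i) v₀ ≠ 0 := by
    by_contra hcon
    push Not at hcon
    apply hpv
    rw [← hsum]
    exact Finset.sum_eq_zero (fun i _ => hcon i)
  have hua₁ : uu p z w i • avg p (uu p z w i) v₀ = avg p (uu p z w i) v₀ :=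
    smul_avg (uu_pow hzp hzc hwp i) v₀
  generalize avg p (uu p z w i) v₀ = a₁ at hi hua₁
  by_cases hcen : ∀ h : P, Commute h (uu p z w i)
  · have := stab_trivial_of_central_fixed hq1 hE p hpq hconst (uu p z w i) (hwz i)
      (uu_pow hzp hzc hwp i) hcen a₁ hi hua₁ a₁ hi
    have hu : uu p z w i ∈ MulAction.stabilizer P a₁ := hua₁
    rw [this, Subgroup.mem_bot] at hu
    exact hwz i hu
  · push Not at hcen
    obtain ⟨h, hh⟩ := hcen
    obtain ⟨m, hm⟩ := hconj h
    have hm0 : m ≠ 0 := by
      rintro rfl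
      apply hh
      have := uu_conj hzp hzc h 0 hm i
      rw [add_zero] at this
      show h * uu p z w i = uu p z w i * h
      calc h * uu p z w i = (h * uu p z w i * h⁻¹) * h := by group
        _ = uu p z w i * h := by rw [this]
    have ha₂ := uu_smul_conj hzp hzc h m hm i a₁ hua₁
    have ha₂0 : h • a₁ ≠ 0 := by
      intro h0
      apply hi
      have := congrArg (fun x => h⁻¹ • x) h0
      simpa using this
    have him : i ≠ i + m := by
      intro h'; apply hm0; exact (add_eq_left.mp h'.symm)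
    have hst := stab_eq_of_uu hq1 hE hpq hp2 hconst hzp hzc hwp hz0 hconj i (i + m) him a₁
      (h • a₁) hi ha₂0 hua₁ ha₂
    have h1 : uu p z w (i + m) ∈ MulAction.stabilizer P (h • a₁) := ha₂
    rw [← hst] at h1
    have h2 : uu p z w (i + m) • a₁ = a₁ := h1
    have h3 := avg_uu_orth hzp hzc hz0 i (i + m) him a₁ h2
    rw [avg_of_fixed hua₁] at h3
    exact hi (eq_zero_of_nsmul_eq_zero hq1 hE hpq h3)

end main

end Cfsg.Agent.Helper20
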