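import Cfsg.Agent.Lib.Helper55.CD3Defs
import Cfsg.Agent.Lib.Helper81.CharRam
import Cfsg.Agent.Lib.Helper79.DG2GT
import Cfsg.Agent.Lib.Helper76.CD2CaseB

set_option autoImplicit false
set_option linter.style.haveILetI false
set_option linter.unusedSectionVars false
set_option linter.unusedVariables false

/-! Basic lemmas for Isaacs–Passman (S4463): characters of maximal degree of subgroups. -/

namespace Cfsg.Agent.Helper20.IP

open Cfsg Cfsg.Agent.Helper79 Cfsg.Agent.Helper81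

universe u

section basics
variable {G : Type u} [Group G] [Finite G]

/-- If `ψ ∈ Irr(H)` is a constituent of `χ_H` and `χ(1) ≤ ψ(1)` then `χ_H = ψ`. -/
theorem restrict_eq_of_degree_le (H : Subgroup G) [Fintype H] {χ : G → ℂ} (hχ : IsIrrCharacter G χ)
    {ψ : H → ℂ} (hψ : IsIrrCharacter H ψ)
    (hne : classInner (fun h : H => χ h) ψ ≠ 0) (n m : ℕ) (hn : χ 1 = (n : ℂ)) (hm : ψ 1 = (m : ℂ))
    (hle : n ≤ m) : (fun h : H => χ h) = ψ := by
  have hres : IsCharacter H (fun h : H => χ h) :=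
    isCharacter_restrict H (IsIrrCharacter.isCharacter hχ)
  obtain ⟨α, hα, hadd⟩ := exists_add_of_classInner_ne_zero hres hψ hne
  obtain ⟨k, hk⟩ := char_one_nat hα
  have h1 := congrFun hadd 1
  simp only [Pi.add_apply, OneMemClass.coe_one] at h1
  rw [hn, hm, hk] at h1
  have h2 : n = m + k := by exact_mod_cast h1
  have hk0 : k = 0 := by omega
  have hα0 : α = 0 := eq_zero_of_char_one_eq_zero hα (by rw [hk, hk0]; simp)
  rw [hadd, hα0, add_zero]

/-- **Lemma A'.** If `ψ ∈ Irr(H)` has the largest possible degree `b ≥ χ(1)` for all `χ ∈ Irr(G)`,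
then `ψ` extends to `G` and vanishes off the normal core of `H`. -/
theorem extends_and_vanishes (b : ℕ) (hb : ∀ χ : IrrCharacter G, charDegree (χ : G → ℂ) ≤ b)
    (H : Subgroup G) (ψ : IrrCharacter H) (hψ : charDegree (ψ : H → ℂ) = b) :
    (∃ χ : IrrCharacter G, ∀ h : H, (χ : G → ℂ) h = (ψ : H → ℂ) h) ∧
      ∀ h : H, (ψ : H → ℂ) h ≠ 0 → ∀ g : G, g * h * g⁻¹ ∈ H := by
  classical
  haveI : Fintype G := Fintype.ofFinite G
  haveI : Fintype H := Fintype.ofFinite H
  haveI : Fintype (IrrCharacter G) := @Fintype.ofFinite _ Cfsg.Agent.Helper81.irr_finite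
  have hψ1 : (ψ : H → ℂ) 1 = (b : ℂ) := by rw [(irr_one_eq ψ).1, hψ]
  have hb0 : 0 < b := by rw [← hψ]; exact (irr_one_eq ψ).2
  have hind : IsCharacter G (indFun H (ψ : H → ℂ)) :=
    isCharacter_indFun H (IsIrrCharacter.isCharacter ψ.2)
  -- every constituent of the induced character restricts to `ψ`
  have hres : ∀ χ : IrrCharacter G, classInner (indFun H (ψ : H → ℂ)) (χ : G → ℂ) ≠ 0 →
      (fun h : H => (χ : G → ℂ) h) = ψ := by
    intro χ hne
    have hcl := isClassFunction_of_isCharacter (IsIrrCharacter.isCharacter χ.2)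
    rw [frobenius_reciprocity H (ψ : H → ℂ) hcl] at hne
    have hne' : classInner (fun h : H => (χ : G → ℂ) h) (ψ : H → ℂ) ≠ 0 := by
      intro h0
      apply hne
      rw [classInner_conj_symm, h0, map_zero]
    exact restrict_eq_of_degree_le H χ.2 ψ.2 hne' _ b (irr_one_eq χ).1 hψ1 (hb χ)
  obtain ⟨m, hm⟩ := exists_nat_decomp hind
  have hmχ : ∀ χ : IrrCharacter G, classInner (indFun H (ψ : H → ℂ)) (χ : G → ℂ) = (m χ : ℂ) := by
    intro χ
    conv_lhs => rw [hm]
    exact classInner_nat_decomp (fun χ' => (m χ' : ℂ)) χ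
  -- the value of the induced character on `H`
  have hval : ∀ h : H, indFun H (ψ : H → ℂ) (h : G) =
      (∑ χ : IrrCharacter G, (m χ : ℂ)) * (ψ : H → ℂ) h := by
    intro h
    conv_lhs => rw [hm]
    rw [Finset.sum_apply, Finset.sum_mul]
    apply Finset.sum_congr rfl
    intro χ _
    rw [Pi.smul_apply, smul_eq_mul]
    by_cases h0 : m χ = 0
    · rw [h0]; simp
    · have hne : classInner (indFun H (ψ : H → ℂ)) (χ : G → ℂ) ≠ 0 := by
        rw [hmχ χ]; exact_mod_cast h0
      have := congrFun (hres χ hne) h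
      rw [this]
  have hsum : (∑ χ : IrrCharacter G, (m χ : ℂ)) = (H.index : ℂ) := by
    have h1 := hval 1
    rw [OneMemClass.coe_one, indFun_one, hψ1] at h1
    have hb' : (b : ℂ) ≠ 0 := by exact_mod_cast hb0.ne'
    exact (mul_right_cancel₀ hb' h1).symm
  -- existence of a constituent
  have hne0 : indFun H (ψ : H → ℂ) ≠ 0 := by
    intro h0
    have h1 := congrFun h0 1
    rw [indFun_one, hψ1] at h1
    have hidx : (H.index : ℂ) ≠ 0 := by
      exact_mod_cast (Nat.pos_of_ne_zero Subgroup.index_ne_zero_of_finite).ne'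
    have hb' : (b : ℂ) ≠ 0 := by exact_mod_cast hb0.ne'
    exact mul_ne_zero hidx hb' h1
  obtain ⟨χ₀, hχ₀, hχ₀ne⟩ := exists_irr_constituent hind hne0
  have hχ₀res := hres ⟨χ₀, hχ₀⟩ hχ₀ne
  refine ⟨⟨⟨χ₀, hχ₀⟩, fun h => congrFun hχ₀res h⟩, ?_⟩
  -- vanishing off the core
  intro h hh g
  have hcl₀ := isClassFunction_of_isCharacter (IsIrrCharacter.isCharacter hχ₀)
  have hprod : indFun H (ψ : H → ℂ) = indFun H (fun _ : H => (1 : ℂ)) * χ₀ := by
    have h1 := indFun_mul_restrict H (fun _ : H => (1 : ℂ)) hcl₀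
    rw [← h1]
    congr 1
    funext x
    rw [Pi.mul_apply, one_mul]
    exact (congrFun hχ₀res x).symm
  have h2 := hval h
  rw [hprod, Pi.mul_apply, hsum] at h2
  have h3 : χ₀ (h : G) = (ψ : H → ℂ) h := congrFun hχ₀res h
  rw [h3] at h2
  have h4 : indFun H (fun _ : H => (1 : ℂ)) (h : G) = (H.index : ℂ) := mul_right_cancel₀ hh h2
  have hπcl := indFun_isClassFunction H (fun _ : H => (1 : ℂ))
  have h5 : indFun H (fun _ : H => (1 : ℂ)) (g * h * g⁻¹) =
      indFun H (fun _ : H => (1 : ℂ)) 1 := by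
    rw [indFun_one, mul_one, ← h4]
    exact hπcl (h : G) g
  exact Cfsg.Agent.Helper3.mem_of_indFun_one_eq H _ h5

/-- **(N+)** If `K ⊴ G` and `G / K` is nonabelian, the irreducible characters of `K` have degree at
most `b / 2`, where `b` bounds the irreducible character degrees of `G`. -/
theorem two_mul_degree_le_of_nonabelian_quotient (b : ℕ)
    (hb : ∀ χ : IrrCharacter G, charDegree (χ : G → ℂ) ≤ b)
    (K : Subgroup G) [K.Normal] (hna : ¬ ∀ x y : G ⧸ K, x * y = y * x) (φ : IrrCharacter K) :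
    2 * charDegree (φ : K → ℂ) ≤ b := by
  classical
  haveI : Fintype G := Fintype.ofFinite G
  haveI : Fintype K := Fintype.ofFinite K
  obtain ⟨χ, e, he, -, hne⟩ := Cfsg.Agent.Helper76.CD2.exists_over K φ
  have hχpos := (irr_one_eq χ).2
  have hφpos := (irr_one_eq φ).2
  rcases Nat.lt_or_ge e 2 with h2 | h2
  · have he1 : e = 1 := by
      rcases Nat.eq_zero_or_pos e with h0 | h0
      · rw [h0, zero_mul] at he; omega
      · omega
    rw [he1, one_mul] at he
    have hres : (fun k : K => (χ : G → ℂ) k) = φ :=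
      restrict_eq_of_degree_le K χ.2 φ.2 hne _ _ (irr_one_eq χ).1 (irr_one_eq φ).1 (le_of_eq he)
    have hirr : IsIrrCharacter K (fun k : K => (χ : G → ℂ) k) := by rw [hres]; exact φ.2
    obtain ⟨β, hβ⟩ : ∃ β : IrrCharacter (G ⧸ K), charDegree (β : G ⧸ K → ℂ) ≠ 1 := by
      by_contra hall
      push Not at hall
      exact hna (Cfsg.Agent.Helper76.CD2.comm_of_all_linear hall)
    have hβ2 : 2 ≤ charDegree (β : G ⧸ K → ℂ) := by
      have := (irr_one_eq β).2
      omega
    obtain ⟨ψ, hψ⟩ := Cfsg.Agent.Helper79.DG2.gallagher_deg K χ hirr β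
    have h3 := hb ψ
    rw [hψ, he] at h3
    calc 2 * charDegree (φ : K → ℂ) ≤ charDegree (β : G ⧸ K → ℂ) * charDegree (φ : K → ℂ) :=
          Nat.mul_le_mul_right _ hβ2
      _ ≤ b := h3
  · have h3 := hb χ
    rw [he] at h3
    calc 2 * charDegree (φ : K → ℂ) ≤ e * charDegree (φ : K → ℂ) := Nat.mul_le_mul_right _ h2
      _ ≤ b := h3

/-- the degree bound passes to subgroups -/
theorem degree_le_of_subgroup (b : ℕ) (hb : ∀ χ : IrrCharacter G, charDegree (χ : G → ℂ) ≤ b)
    (H : Subgroup G) (ψ : IrrCharacter H) : charDegree (ψ : H → ℂ) ≤ b := by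
  classical
  haveI : Fintype G := Fintype.ofFinite G
  haveI : Fintype H := Fintype.ofFinite H
  have hψpos := (irr_one_eq ψ).2
  have hind : IsCharacter G (indFun H (ψ : H → ℂ)) :=
    isCharacter_indFun H (IsIrrCharacter.isCharacter ψ.2)
  have hne0 : indFun H (ψ : H → ℂ) ≠ 0 := by
    intro h0
    have h1 := congrFun h0 1
    rw [indFun_one, (irr_one_eq ψ).1] at h1
    have hidx : (H.index : ℂ) ≠ 0 := by
      exact_mod_cast (Nat.pos_of_ne_zero Subgroup.index_ne_zero_of_finite).ne'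
    have hb' : ((charDegree (ψ : H → ℂ) : ℕ) : ℂ) ≠ 0 := by exact_mod_cast hψpos.ne'
    exact mul_ne_zero hidx hb' h1
  obtain ⟨χ₀, hχ₀, hχ₀ne⟩ := exists_irr_constituent hind hne0
  have hcl := isClassFunction_of_isCharacter (IsIrrCharacter.isCharacter hχ₀)
  rw [frobenius_reciprocity H (ψ : H → ℂ) hcl] at hχ₀ne
  have hne' : classInner (fun h : H => χ₀ h) (ψ : H → ℂ) ≠ 0 := by
    intro h0
    apply hχ₀ne
    rw [classInner_conj_symm, h0, map_zero]
  have hres : IsCharacter H (fun h : H => χ₀ h) :=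
    isCharacter_restrict H (IsIrrCharacter.isCharacter hχ₀)
  obtain ⟨α, hα, hadd⟩ := exists_add_of_classInner_ne_zero hres ψ.2 hne'
  obtain ⟨k, hk⟩ := char_one_nat hα
  have h1 := congrFun hadd 1
  simp only [Pi.add_apply, OneMemClass.coe_one] at h1
  have h0 : χ₀ 1 = ((charDegree χ₀ : ℕ) : ℂ) := (irr_one_eq (⟨χ₀, hχ₀⟩ : IrrCharacter G)).1
  rw [h0, (irr_one_eq ψ).1, hk] at h1
  have h2 : charDegree χ₀ = charDegree (ψ : H → ℂ) + k := by exact_mod_cast h1
  have h3 := hb ⟨χ₀, hχ₀⟩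
  simp only at h3
  omega

end basics

end Cfsg.Agent.Helper20.IP
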