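import Cfsg.Agent.Lib.Helper53.IPDefs

set_option autoImplicit false

/-! IP server (helper53, S4463): piece (F1) `frobcase`. -/

namespace Cfsg.Agent.Helper20.IP

open Cfsg Cfsg.Agent.Helper53.IP
open scoped ComplexConjugate commutatorElement

universe u

theorem frobcase {G : Type u} [Group G] [Finite G] (b : ℕ) (h : DegLe G b) (K F : Subgroup G)
    [K.Normal] [F.Normal] (p k : ℕ) (hp : p.Prime) (hk : 0 < k) (hKF : K ≤ F)
    (hrel : K.relIndex F = p ^ k) (hndvd : ¬ p ∣ F.index) (hf1 : 1 < F.index) (hfb : F.index ≤ b)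
    (h124 : ∀ ψ : IrrCharacter F, (∀ x : F, (x : G) ∉ K → (ψ : F → ℂ) x = 0) ∨
      ∃ χ : IrrCharacter G, charDegree (χ : G → ℂ) = F.index * charDegree (ψ : F → ℂ))
    (hFb : DegLe F b) (hhalf : DegLe K (b / 2))
    (hvi : ∀ ψ : IrrCharacter F, (∀ x : F, (x : G) ∉ K → (ψ : F → ℂ) x = 0) →
      ∃ e t : ℕ, K.relIndex F = e ^ 2 * t ∧ e * t ∣ charDegree (ψ : F → ℂ))
    (hnum : 3 ≤ b → b ^ 3 ≤ (b.factorial / (b / 2).factorial) ^ 2) : Alt G b := by
  have hb2 : 2 ≤ b := by omega
  by_cases hF : DegLe F (b - 1)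
  · left
    refine ⟨F, ?_, hF⟩
    calc F.index ≤ b := hfb
      _ ≤ b ^ 2 := by nlinarith
  · unfold DegLe at hF
    push Not at hF
    obtain ⟨ψ, hψ⟩ := hF
    have hψb : charDegree (ψ : F → ℂ) = b := by
      have := hFb ψ
      omega
    rcases h124 ψ with hv | ⟨χ, hχ⟩
    · obtain ⟨e, t, het, hdvd⟩ := hvi ψ hv
      rw [hψb] at hdvd
      have hb0 : 0 < b := by omega
      have hetle : e * t ≤ b := Nat.le_of_dvd hb0 hdvd
      have hpk : p ^ k = e ^ 2 * t := by rw [← hrel, het]
      have het0 : 0 < e * t := Nat.pos_of_dvd_of_pos hdvd hb0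
      have he0 : 0 < e := Nat.pos_of_mul_pos_right het0
      have ht0 : 0 < t := Nat.pos_of_mul_pos_left het0
      have hpk2 : 2 ≤ p ^ k := by
        calc 2 ≤ p := hp.two_le
          _ = p ^ 1 := (pow_one p).symm
          _ ≤ p ^ k := Nat.pow_le_pow_right hp.pos hk
      have hpdvd : p ∣ p ^ k := dvd_pow_self p hk.ne'
      have hb3 : 3 ≤ b := by
        by_contra hlt
        have hb2' : b = 2 := by omega
        rw [hb2'] at hetle hfb
        have hf2 : F.index = 2 := by omega
        have he2 : e ≤ 2 := by nlinarith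
        have ht2 : t ≤ 2 := by nlinarith
        have hp2 : p = 2 := by
          interval_cases e <;> interval_cases t
          · norm_num at hpk
            omega
          · norm_num at hpk
            rw [hpk] at hpdvd
            exact (Nat.prime_dvd_prime_iff_eq hp Nat.prime_two).mp hpdvd
          · norm_num at hpk
            rw [hpk] at hpdvd
            have : p ∣ 2 := hp.dvd_of_dvd_pow (show p ∣ 2 ^ 2 by norm_num; exact hpdvd)
            exact (Nat.prime_dvd_prime_iff_eq hp Nat.prime_two).mp this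
          · omega
        apply hndvd
        rw [hf2, hp2]
      right
      refine ⟨K, ?_, hhalf⟩
      have hidx : K.index = K.relIndex F * F.index := (Subgroup.relIndex_mul_index hKF).symm
      have h1 : e ^ 2 * t ≤ (e * t) ^ 2 := by
        have : (e * t) ^ 2 = e ^ 2 * t * t := by ring
        rw [this]
        exact Nat.le_mul_of_pos_right _ ht0
      have h2 : (e * t) ^ 2 ≤ b ^ 2 := Nat.pow_le_pow_left hetle 2
      calc K.index = e ^ 2 * t * F.index := by rw [hidx, het]
        _ ≤ b ^ 2 * b := Nat.mul_le_mul (h1.trans h2) hfb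
        _ = b ^ 3 := by ring
        _ ≤ _ := hnum hb3
    · exfalso
      have h3 := h χ
      rw [hχ, hψb] at h3
      nlinarith

end Cfsg.Agent.Helper20.IP
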