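import Cfsg.Agent.Lib.Helper20.IPBasics
import Cfsg.Agent.Lib.Helper82.Coh62Deg
import Cfsg.Agent.Lib.Helper81.PermChar
import Cfsg.Agent.Lib.Helper81.CharProd

set_option autoImplicit false
set_option linter.style.haveILetI false
set_option linter.unusedSectionVars false
set_option linter.unusedVariables false

/-! The "fully ramified" lemma (FR) for Isaacs–Passman (S4463): if `τ ∈ Irr(G)` vanishes off a
subgroup `Z` with `τ(1)² = |G : Z|` and `τ(1) ≥ 2`, then no irreducible character of `Z` has the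
maximal degree `b` of `G`. -/

namespace Cfsg.Agent.Helper20.IP

open Cfsg Cfsg.Agent.Helper79 Cfsg.Agent.Helper81

universe u

section fr

theorem classInner_self_eq_normSq {G : Type u} [Group G] [Fintype G] (f : G → ℂ) :
    classInner f f = (((Nat.card G : ℝ)⁻¹ * ∑ g : G, Complex.normSq (f g) : ℝ) : ℂ) := by
  unfold classInner
  push_cast
  congr 1
  apply Finset.sum_congr rfl
  intro g _
  exact Complex.mul_conj (f g)

theorem sum_eq_sum_subgroup {G : Type u} [Group G] [Fintype G] (Z : Subgroup G) [Fintype Z]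
    (F : G → ℝ) (h : ∀ g, g ∉ Z → F g = 0) : ∑ g : G, F g = ∑ z : Z, F z := by
  classical
  rw [← Finset.sum_subtype (Finset.univ.filter (· ∈ Z)) (by simp) F]
  rw [Finset.sum_filter]
  apply Finset.sum_congr rfl
  intro g _
  split_ifs with hg
  · rfl
  · exact h g hg

variable {G : Type u} [Group G] [Finite G]

/-- **(FR)** -/
theorem degree_lt_of_fully_ramified (b : ℕ)
    (hb : ∀ χ : IrrCharacter G, charDegree (χ : G → ℂ) ≤ b)
    (Z : Subgroup G) (τ : IrrCharacter G) (hvan : ∀ g : G, g ∉ Z → (τ : G → ℂ) g = 0)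
    (hdeg : charDegree (τ : G → ℂ) ^ 2 = Z.index) (h2 : 2 ≤ charDegree (τ : G → ℂ))
    (ψ : IrrCharacter Z) : charDegree (ψ : Z → ℂ) < b := by
  classical
  haveI : Fintype G := Fintype.ofFinite G
  haveI : Fintype Z := Fintype.ofFinite Z
  have hle := degree_le_of_subgroup b hb Z ψ
  rcases Nat.lt_or_ge (charDegree (ψ : Z → ℂ)) b with h | h
  · exact h
  exfalso
  have hψb : charDegree (ψ : Z → ℂ) = b := le_antisymm hle h
  have hb0 : 0 < b := by rw [← hψb]; exact (irr_one_eq ψ).2
  obtain ⟨⟨χ, hχ⟩, -⟩ := extends_and_vanishes b hb Z ψ hψb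
  set n := charDegree (τ : G → ℂ) with hn
  have hτ1 : (τ : G → ℂ) 1 = (n : ℂ) := (irr_one_eq τ).1
  have hχ1 : (χ : G → ℂ) 1 = (b : ℂ) := by
    have := hχ 1
    rw [OneMemClass.coe_one] at this
    rw [this, (irr_one_eq ψ).1, hψb]
  set f : G → ℂ := (χ : G → ℂ) * (τ : G → ℂ) with hf
  have hfchar : IsCharacter G f :=
    isCharacter_mul (IsIrrCharacter.isCharacter χ.2) (IsIrrCharacter.isCharacter τ.2)
  have hf1 : f 1 = ((b * n : ℕ) : ℂ) := by
    rw [hf, Pi.mul_apply, hχ1, hτ1]; push_cast; ring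
  have hne0 : f ≠ 0 := by
    intro h0
    have h1 := congrFun h0 1
    rw [hf1, Pi.zero_apply] at h1
    have : b * n = 0 := by exact_mod_cast h1
    have hn0 : 0 < n := by omega
    exact (Nat.mul_pos hb0 hn0).ne' this
  obtain ⟨k, hk0, hk⟩ := exists_pos_classInner_self hfchar hne0
  -- bound on |τ|
  obtain ⟨n', hn'1, hn'le⟩ := Cfsg.Agent.Helper82.isCharacter_norm_le (IsIrrCharacter.isCharacter τ.2)
  have hnn' : n' = n := by
    rw [hτ1] at hn'1
    exact_mod_cast hn'1.symm
  rw [hnn'] at hn'le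
  -- norm of ψ
  have hψnorm : (∑ z : Z, Complex.normSq ((ψ : Z → ℂ) z)) = (Nat.card Z : ℝ) := by
    have h1 := Cfsg.Agent.Helper3.classInner_irr_self ψ.2
    rw [classInner_self_eq_normSq] at h1
    have h2 : ((Nat.card Z : ℝ)⁻¹ * ∑ z : Z, Complex.normSq ((ψ : Z → ℂ) z)) = 1 := by
      exact_mod_cast h1
    have hZ0 : (Nat.card Z : ℝ) ≠ 0 := by
      exact_mod_cast (Nat.card_pos (α := Z)).ne'
    field_simp at h2
    linarith
  -- compute the norm of f
  have hsum : (∑ g : G, Complex.normSq (f g)) ≤ (Nat.card G : ℝ) := by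
    rw [sum_eq_sum_subgroup Z (fun g => Complex.normSq (f g))]
    · calc (∑ z : Z, Complex.normSq (f (z : G)))
          ≤ ∑ z : Z, Complex.normSq ((ψ : Z → ℂ) z) * (n : ℝ) ^ 2 := by
            apply Finset.sum_le_sum
            intro z _
            rw [hf, Pi.mul_apply, map_mul, hχ z]
            apply mul_le_mul_of_nonneg_left _ (Complex.normSq_nonneg _)
            rw [Complex.normSq_eq_norm_sq]
            exact pow_le_pow_left₀ (norm_nonneg _) (hn'le _) 2
        _ = (Nat.card Z : ℝ) * (n : ℝ) ^ 2 := by rw [← Finset.sum_mul, hψnorm]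
        _ = (Nat.card G : ℝ) := by
            have h3 : (Nat.card Z) * n ^ 2 = Nat.card G := by
              rw [hdeg]; exact Subgroup.card_mul_index Z
            exact_mod_cast h3
    · intro g hg
      show Complex.normSq (f g) = 0
      rw [hf, Pi.mul_apply, hvan g hg, mul_zero, map_zero]
  have hk1 : k = 1 := by
    rw [classInner_self_eq_normSq] at hk
    have h2 : ((Nat.card G : ℝ)⁻¹ * ∑ g : G, Complex.normSq (f g)) = (k : ℝ) := by
      exact_mod_cast hk
    have hG0 : (0 : ℝ) < (Nat.card G : ℝ) := by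
      exact_mod_cast (Nat.card_pos (α := G))
    have h3 : (k : ℝ) ≤ 1 := by
      rw [← h2, inv_mul_le_iff₀ hG0, mul_one]
      exact hsum
    have h4 : k ≤ 1 := by exact_mod_cast h3
    omega
  rw [hk1, Nat.cast_one] at hk
  have hirr : IsIrrCharacter G f := isIrrCharacter_of_classInner_self_eq_one hfchar hk
  have h5 := hb ⟨f, hirr⟩
  have h6 := (irr_one_eq (⟨f, hirr⟩ : IrrCharacter G)).1
  simp only at h5 h6
  rw [hf1] at h6
  have h7 : b * n = charDegree f := by exact_mod_cast h6
  have h8 : 2 * b ≤ b * n := by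
    calc 2 * b = b * 2 := by ring
      _ ≤ b * n := Nat.mul_le_mul_left _ h2
  omega

end fr

end Cfsg.Agent.Helper20.IP
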