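import Cfsg.Agent.Lib.Helper53.IPDefs
import Cfsg.Agent.Lib.Helper20.IPBasics

set_option autoImplicit false

/-! IP server (helper53, S4463): pieces (G1), (G4), (G5), (G7) as wrappers of `IPBasics`. -/

namespace Cfsg.Agent.Helper20.IP

open Cfsg Cfsg.Agent.Helper53.IP
open scoped ComplexConjugate commutatorElement

universe u

theorem degLe_subgroup {G : Type u} [Group G] [Finite G] (b : ℕ) (h : DegLe G b) (H : Subgroup G) :
    DegLe H b := fun ψ => degree_le_of_subgroup b h H ψ

theorem exists_restrict_eq {G : Type u} [Group G] [Finite G] (b : ℕ) (h : DegLe G b)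
    (H : Subgroup G) (ψ : IrrCharacter H) (hψ : charDegree (ψ : H → ℂ) = b) :
    ∃ χ : IrrCharacter G, ∀ x : H, (χ : G → ℂ) x = (ψ : H → ℂ) x :=
  (extends_and_vanishes b h H ψ hψ).1

theorem vanish_off_core {G : Type u} [Group G] [Finite G] (b : ℕ) (h : DegLe G b)
    (H : Subgroup G) (ψ : IrrCharacter H) (hψ : charDegree (ψ : H → ℂ) = b) :
    ∀ x : H, (x : G) ∉ H.normalCore → (ψ : H → ℂ) x = 0 := by
  intro x hx
  by_contra hne
  exact hx (fun g => (extends_and_vanishes b h H ψ hψ).2 x hne g)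

theorem degLe_half {G : Type u} [Group G] [Finite G] (b : ℕ) (h : DegLe G b) (K : Subgroup G)
    [K.Normal] (hK : ¬ commutator G ≤ K) : DegLe K (b / 2) := by
  intro φ
  have hna : ¬ ∀ x y : G ⧸ K, x * y = y * x := by
    intro hcomm
    apply hK
    rw [commutator_def, Subgroup.commutator_le]
    intro g₁ _ g₂ _
    rw [← QuotientGroup.eq_one_iff]
    show (QuotientGroup.mk' K) ⁅g₁, g₂⁆ = 1
    rw [map_commutatorElement, commutatorElement_eq_one_iff_mul_comm]
    exact hcomm _ _
  have h1 := two_mul_degree_le_of_nonabelian_quotient b h K hna φ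
  omega

end Cfsg.Agent.Helper20.IP
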