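import Cfsg.Agent.Lib.Helper53.IPDefs
import Cfsg.Agent.Lib.Helper20.IPFR
import Cfsg.Agent.S4813

set_option autoImplicit false
set_option linter.style.haveILetI false

/-! IP server (helper53, S4463): piece (G6) `index_eq_of_vanish`. -/

namespace Cfsg.Agent.Helper20.IP

open Cfsg Cfsg.Agent.Helper53.IP Cfsg.Agent.Helper79 Cfsg.Agent.Helper81
open scoped ComplexConjugate commutatorElement

universe u

theorem index_eq_of_vanish {H : Type u} [Group H] [Finite H] (N : Subgroup H) [N.Normal]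
    (ψ : IrrCharacter H) (hvan : ∀ x : H, x ∉ N → (ψ : H → ℂ) x = 0) :
    ∃ e t : ℕ, N.index = e ^ 2 * t ∧ e * t ∣ charDegree (ψ : H → ℂ) := by
  classical
  haveI : Fintype H := Fintype.ofFinite H
  haveI : Fintype N := Fintype.ofFinite N
  have hN : N.Normal := inferInstance
  have hres : IsCharacter N (fun n : N => (ψ : H → ℂ) n) :=
    isCharacter_restrict N (IsIrrCharacter.isCharacter ψ.2)
  have hψ1 := irr_one_eq ψ
  have hne0 : (fun n : N => (ψ : H → ℂ) n) ≠ 0 := by
    intro h0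
    have h1 := congrFun h0 1
    simp only [OneMemClass.coe_one, Pi.zero_apply] at h1
    rw [hψ1.1] at h1
    have : charDegree (ψ : H → ℂ) = 0 := by exact_mod_cast h1
    omega
  obtain ⟨θ, hθ, hθne⟩ := exists_irr_constituent hres hne0
  obtain ⟨e, hdeg, hnorm⟩ := Cfsg.Agent.S4813.clifford_norm N hN ψ.2 hθ hθne
  refine ⟨e, Nat.card (conjSet N hN θ), ?_, ?_⟩
  · rw [classInner_self_eq_normSq] at hnorm
    have h2 : (Nat.card N : ℝ)⁻¹ * ∑ n : N, Complex.normSq ((ψ : H → ℂ) n) =
        ((e * e * Nat.card (conjSet N hN θ) : ℕ) : ℝ) := by exact_mod_cast hnorm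
    have h3 : ∑ h : H, Complex.normSq ((ψ : H → ℂ) h) =
        ∑ n : N, Complex.normSq ((ψ : H → ℂ) n) :=
      sum_eq_sum_subgroup N (fun h => Complex.normSq ((ψ : H → ℂ) h))
        (by intro g hg; show Complex.normSq ((ψ : H → ℂ) g) = 0; rw [hvan g hg, map_zero])
    rw [← h3, irr_sum_normSq ψ] at h2
    have hcard : Nat.card N * N.index = Nat.card H := Subgroup.card_mul_index N
    have hN0 : (Nat.card N : ℝ) ≠ 0 := by exact_mod_cast (Nat.card_pos (α := N)).ne'
    have h4 : (Nat.card H : ℝ) =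
        (Nat.card N : ℝ) * ((e * e * Nat.card (conjSet N hN θ) : ℕ) : ℝ) := by
      rw [← h2]; field_simp
    have h5 : Nat.card N * N.index = Nat.card N * (e * e * Nat.card (conjSet N hN θ)) := by
      rw [hcard]; exact_mod_cast h4
    have h6 := Nat.eq_of_mul_eq_mul_left Nat.card_pos h5
    rw [h6]; ring
  · rw [hdeg]; exact ⟨charDegree θ, by ring⟩

end Cfsg.Agent.Helper20.IP
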