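import Cfsg.Agent.Lib.Helper53.IPDefs
import Cfsg.Agent.Lib.Helper20.IPFR

set_option autoImplicit false

/-! IP server (helper53, S4463): piece (P2) `degLe_pred_of_ramified`. -/

namespace Cfsg.Agent.Helper20.IP

open Cfsg Cfsg.Agent.Helper53.IP
open scoped ComplexConjugate commutatorElement

universe u

theorem degLe_pred_of_ramified {G : Type u} [Group G] [Finite G] (b : ℕ) (h : DegLe G b)
    (Z : Subgroup G) (τ : IrrCharacter G) (hτ1 : 1 < charDegree (τ : G → ℂ))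
    (hvan : ∀ g : G, g ∉ Z → (τ : G → ℂ) g = 0)
    (habs : ∀ z ∈ Z, Complex.normSq ((τ : G → ℂ) z) = ((charDegree (τ : G → ℂ) : ℕ) : ℝ) ^ 2)
    (hidx : Z.index = (charDegree (τ : G → ℂ)) ^ 2)
    (hE : ∀ ψ : IrrCharacter Z, charDegree (ψ : Z → ℂ) = b →
      ∃ χ : IrrCharacter G, ∀ x : Z, (χ : G → ℂ) x = (ψ : Z → ℂ) x)
    (hZ : DegLe Z b) : DegLe Z (b - 1) := by
  intro ψ
  have h1 := degree_lt_of_fully_ramified b h Z τ hvan hidx.symm hτ1 ψ
  omega

end Cfsg.Agent.Helper20.IP
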