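import Mathlib
import Cfsg.Agent.Lib.Helper7.M11UDefs

/-!
# Shared lemmas for the M11U pieces (C2), (C4), (C5) (helper7 lemma server, S0420) -- helper20
-/

set_option autoImplicit false

namespace Cfsg.Agent.Helper20.M11U

open Subgroup Cfsg.Agent.Helper7.M11U
open scoped Pointwise

variable {G : Type*} [Group G]

theorem h20_mem_smul (g x : G) (X : Sylow 3 G) :
    x ∈ ((g • X : Sylow 3 G) : Subgroup G) ↔ g⁻¹ * x * g ∈ (X : Subgroup G) := by
  show x ∈ MulAut.conj g • (X : Subgroup G) ↔ _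
  rw [Subgroup.mem_pointwise_smul_iff_inv_smul_mem]
  simp [MulAut.smul_def]

theorem h20_smul_eq_iff (g : G) (X : Sylow 3 G) :
    g • X = X ↔ g ∈ normalizer ((X : Subgroup G) : Set G) :=
  Sylow.smul_eq_iff_mem_normalizer

/-- elements of `C(t)` preserve "inverted by `t`" -/
theorem h20_inverts_smul {t c : G} (hc : c * t = t * c) {X : Sylow 3 G}
    (hX : Inverts t (X : Subgroup G)) : Inverts t ((c • X : Sylow 3 G) : Subgroup G) := by
  intro x hx
  rw [h20_mem_smul] at hx
  have h1 := hX _ hx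
  have e : c * t * c⁻¹ = t := by rw [hc, mul_inv_cancel_right]
  calc t * x * t⁻¹ = (c * t * c⁻¹) * x * (c * t * c⁻¹)⁻¹ := by rw [e]
    _ = c * (t * (c⁻¹ * x * c) * t⁻¹) * c⁻¹ := by group
    _ = c * (c⁻¹ * x * c)⁻¹ * c⁻¹ := by rw [h1]
    _ = x⁻¹ := by group

/-- an inverting element normalizes -/
theorem h20_inverts_mem_normalizer {t : G} {H : Subgroup G} (h : Inverts t H) :
    t ∈ normalizer (H : Set G) := by
  rw [mem_normalizer_iff]
  intro x
  constructor
  · intro hx
    rw [h x hx]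
    exact H.inv_mem hx
  · intro hx
    have h2 := h _ (H.inv_mem hx)
    rw [inv_inv] at h2
    have h4 : (t * x * t⁻¹)⁻¹ = x := mul_left_cancel (mul_right_cancel h2)
    rw [← h4]; exact H.inv_mem hx

theorem h20_tri_cases [Finite G] {t : G} {R R2 R3 : Sylow 3 G} (L : Loc G) (T : Tri t R R2 R3)
    (X : Sylow 3 G) (hX : Inverts t (X : Subgroup G)) : X = R ∨ X = R2 ∨ X = R3 := by
  by_contra hne
  push Not at hne
  have h3 := L.three t T.ht
  let f : Fin 4 → {R : Sylow 3 G // Inverts t (R : Subgroup G)} :=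
    ![⟨X, hX⟩, ⟨R, T.i1⟩, ⟨R2, T.i2⟩, ⟨R3, T.i3⟩]
  have hf : Function.Injective f := by
    intro i j h
    have h' : (f i).1 = (f j).1 := congrArg Subtype.val h
    fin_cases i <;> fin_cases j <;> first
      | rfl
      | (exfalso; simp [f] at h'; first
          | exact hne.1 h' | exact hne.2.1 h' | exact hne.2.2 h'
          | exact hne.1 h'.symm | exact hne.2.1 h'.symm | exact hne.2.2 h'.symm
          | exact T.ne12 h' | exact T.ne13 h' | exact T.ne23 h'
          | exact T.ne12 h'.symm | exact T.ne13 h'.symm | exact T.ne23 h'.symm)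
  have := Nat.card_le_card_of_injective f hf
  rw [h3] at this
  simp at this

theorem h20_exists_order_three [Finite G] {t : G} (B : Base G) (ht : orderOf t = 2) :
    ∃ z : G, z * t = t * z ∧ orderOf z = 3 := by
  have h48 := B.h48 t ht
  haveI : Fact (Nat.Prime 3) := ⟨by norm_num⟩
  obtain ⟨z, hz⟩ := exists_prime_orderOf_dvd_card' (G := centralizer ({t} : Set G)) 3
    (by rw [h48]; norm_num)
  refine ⟨z.1, ?_, ?_⟩
  · have := z.2
    rw [mem_centralizer_iff] at this
    exact (this t rfl).symm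
  · rw [← hz]; exact Subgroup.orderOf_coe z

theorem h20_card_dvd_two [Finite G] (L : Loc G) {z : G} (hz : orderOf z = 3) (H K : Subgroup G)
    (hHK : H ≤ K) (hK : Nat.card K ∣ 16) (hHz : H ≤ centralizer ({z} : Set G)) :
    Nat.card H ∣ 2 := by
  have h1 : Nat.card H ∣ 16 := (Subgroup.card_dvd_of_le hHK).trans hK
  have h2 : Nat.card H ∣ 18 := by rw [← L.c18 z hz]; exact Subgroup.card_dvd_of_le hHz
  have h3 := Nat.dvd_gcd h1 h2
  have h4 : Nat.gcd 16 18 = 2 := by decide
  rwa [h4] at h3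

/-- conjugation by an element of order 3 normalizing `H`: `|H| ≡ |C_H(z)| mod 3` -/
theorem h20_card_modEq_conj [Finite G] (H : Subgroup G) (z : G) (hz3 : z ^ 3 = 1)
    (hn : ∀ x ∈ H, z * x * z⁻¹ ∈ H) :
    Nat.card H ≡ Nat.card (H ⊓ centralizer ({z} : Set G) : Subgroup G) [MOD 3] := by
  classical
  haveI : Fact (Nat.Prime 3) := ⟨by norm_num⟩
  haveI : Fintype H := Fintype.ofFinite _
  let f : Function.End H := fun x => ⟨z * x.1 * z⁻¹, hn x.1 x.2⟩
  have hf : f ^ 3 ^ 1 = 1 := by
    funext x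
    apply Subtype.ext
    have e : (f ^ 3 ^ 1) x = f (f (f x)) := rfl
    rw [e]
    show z * (z * (z * x.1 * z⁻¹) * z⁻¹) * z⁻¹ = x.1
    have h3 : z * z * z = 1 := by rw [← hz3, pow_succ, pow_two]
    calc z * (z * (z * x.1 * z⁻¹) * z⁻¹) * z⁻¹ = (z * z * z) * x.1 * (z * z * z)⁻¹ := by
          simp only [mul_inv_rev, mul_assoc]
      _ = x.1 := by rw [h3]; simp
  have h := Equiv.Perm.card_fixedPoints_modEq (p := 3) (n := 1) hf
  have e1 : Fintype.card H = Nat.card H := (Nat.card_eq_fintype_card).symm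
  have e2 : Fintype.card (Function.fixedPoints f) =
      Nat.card (H ⊓ centralizer ({z} : Set G) : Subgroup G) := by
    rw [← Nat.card_eq_fintype_card]
    apply Nat.card_congr
    refine
      { toFun := fun x => ⟨x.1.1, Subgroup.mem_inf.2 ⟨x.1.2, ?_⟩⟩
        invFun := fun x => ⟨⟨x.1, (Subgroup.mem_inf.1 x.2).1⟩, ?_⟩
        left_inv := fun x => rfl
        right_inv := fun x => rfl }
    · rw [mem_centralizer_iff]
      intro h hh
      rw [Set.mem_singleton_iff] at hh
      rw [hh]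
      have hx : f x.1 = x.1 := x.2
      have hx' : z * x.1.1 * z⁻¹ = x.1.1 := congrArg Subtype.val hx
      calc z * x.1.1 = (z * x.1.1 * z⁻¹) * z := by group
        _ = x.1.1 * z := by rw [hx']
    · show f ⟨x.1, (Subgroup.mem_inf.1 x.2).1⟩ = ⟨x.1, (Subgroup.mem_inf.1 x.2).1⟩
      apply Subtype.ext
      show z * x.1 * z⁻¹ = x.1
      have hc := (Subgroup.mem_inf.1 x.2).2
      rw [mem_centralizer_iff] at hc
      have := hc z rfl
      rw [this]; group
  rw [e1, e2] at h
  exact h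

end Cfsg.Agent.Helper20.M11U
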