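import Mathlib
import Cfsg.Agent.Lib.Helper7.M11UDefs
import Cfsg.Agent.Lib.Helper20.M11UC0

/-!
# M11U (C2) `conf_sw23` (helper7 lemma server, S0420) -- helper20

`S = N(R) ⊓ C(t)` (order 16).  If no element of `S` swaps `R2, R3` then `S` fixes `R, R2, R3`, so `S` is the kernel
of the action of `C(t)` on the three Sylow 3-subgroups inverted by `t`, hence normalised by an element `z ∈ C(t)` of
order 3; `C_S(z) = {1, t}` (`|C(z)| = 18`), so `16 ≡ 2 mod 3`, contradiction.  (`hS2`, `hS3` are not needed.)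
-/

set_option autoImplicit false

namespace Cfsg.Agent.Helper20.M11U

open Subgroup Cfsg.Agent.Helper7.M11U
open scoped Pointwise

variable {G : Type*} [Group G] [Finite G] {t : G} {R R2 R3 : Sylow 3 G}

theorem conf_sw23 (B : Base G) (L : Loc G) (T : Tri t R R2 R3)
    (hS : Nat.card (normalizer ((R : Subgroup G) : Set G) ⊓ centralizer ({t} : Set G) : Subgroup G) = 16)
    (hS2 : Nat.card (normalizer ((R2 : Subgroup G) : Set G) ⊓ centralizer ({t} : Set G) : Subgroup G) = 16)
    (hS3 : Nat.card (normalizer ((R3 : Subgroup G) : Set G) ⊓ centralizer ({t} : Set G) : Subgroup G) = 16) :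
    ∃ s : G, s ∈ normalizer ((R : Subgroup G) : Set G) ∧ s * t = t * s ∧ s • R2 = R3 ∧ s • R3 = R2 := by
  by_contra hno
  push Not at hno
  set S : Subgroup G := normalizer ((R : Subgroup G) : Set G) ⊓ centralizer ({t} : Set G) with hSdef
  have hmemS : ∀ s : G, s ∈ S ↔ s ∈ normalizer ((R : Subgroup G) : Set G) ∧ s * t = t * s := by
    intro s
    rw [hSdef, Subgroup.mem_inf, mem_centralizer_iff]
    constructor
    · rintro ⟨h1, h2⟩; exact ⟨h1, (h2 t rfl).symm⟩
    · rintro ⟨h1, h2⟩
      refine ⟨h1, ?_⟩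
      intro h hh
      rw [Set.mem_singleton_iff] at hh
      rw [hh]; exact h2.symm
  -- every element of `S` fixes `R`, `R2`, `R3`
  have key : ∀ s ∈ S, s • R = R ∧ s • R2 = R2 ∧ s • R3 = R3 := by
    intro s hs
    obtain ⟨hsN, hst⟩ := (hmemS s).1 hs
    have hsR : s • R = R := (h20_smul_eq_iff s R).2 hsN
    have h2 := h20_tri_cases L T (s • R2) (h20_inverts_smul hst T.i2)
    have h3 := h20_tri_cases L T (s • R3) (h20_inverts_smul hst T.i3)
    have inj : ∀ X Y : Sylow 3 G, s • X = s • Y → X = Y := fun X Y h => smul_left_cancel s h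
    rcases h2 with h2 | h2 | h2
    · exact absurd (inj _ _ (h2.trans hsR.symm)) T.ne12.symm
    · rcases h3 with h3 | h3 | h3
      · exact absurd (inj _ _ (h3.trans hsR.symm)) T.ne13.symm
      · exact absurd (inj _ _ (h3.trans h2.symm)) T.ne23.symm
      · exact ⟨hsR, h2, h3⟩
    · rcases h3 with h3 | h3 | h3
      · exact absurd (inj _ _ (h3.trans hsR.symm)) T.ne13.symm
      · exact absurd h3 (hno s hsN hst h2)
      · exact absurd (inj _ _ (h3.trans h2.symm)) T.ne23.symm
  -- `S` is normalised by `C(t)`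
  have hnorm : ∀ c : G, c * t = t * c → ∀ x ∈ S, c * x * c⁻¹ ∈ S := by
    intro c hc x hx
    obtain ⟨hxN, hxt⟩ := (hmemS x).1 hx
    rw [hmemS]
    have hc' : c⁻¹ * t = t * c⁻¹ := by
      have : Commute c t := hc
      exact this.inv_left.eq
    constructor
    · rw [← h20_smul_eq_iff]
      have hY := h20_tri_cases L T (c⁻¹ • R) (h20_inverts_smul hc' T.i1)
      have hfix : x • (c⁻¹ • R) = c⁻¹ • R := by
        obtain ⟨k1, k2, k3⟩ := key x hx
        rcases hY with hY | hY | hY <;> rw [hY] <;> assumption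
      rw [mul_smul, mul_smul, hfix, smul_inv_smul]
    · have h1 : Commute c t := hc
      have h2 : Commute x t := hxt
      exact ((h1.mul_left h2).mul_left h1.inv_left).eq
  -- an element of order 3 in `C(t)`
  obtain ⟨z, hzt, hz⟩ := h20_exists_order_three B T.ht
  have hz3 : z ^ 3 = 1 := by rw [← hz]; exact pow_orderOf_eq_one z
  have hmod := h20_card_modEq_conj S z hz3 (hnorm z hzt)
  have hdvd : Nat.card (S ⊓ centralizer ({z} : Set G) : Subgroup G) ∣ 2 :=
    h20_card_dvd_two L hz _ S inf_le_left (by rw [hS]) inf_le_right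
  have ht1 : t ≠ 1 := by
    intro h
    have := T.ht
    rw [h, orderOf_one] at this
    omega
  have htS : t ∈ S := (hmemS t).2 ⟨h20_inverts_mem_normalizer T.i1, rfl⟩
  have htH : t ∈ (S ⊓ centralizer ({z} : Set G) : Subgroup G) := by
    refine Subgroup.mem_inf.2 ⟨htS, ?_⟩
    rw [mem_centralizer_iff]
    intro h hh
    rw [Set.mem_singleton_iff] at hh
    rw [hh]; exact hzt
  have hcard2 : Nat.card (S ⊓ centralizer ({z} : Set G) : Subgroup G) = 2 := by
    rcases (Nat.dvd_prime Nat.prime_two).1 hdvd with h | h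
    · exfalso
      rw [Subgroup.card_eq_one] at h
      rw [h, Subgroup.mem_bot] at htH
      exact ht1 htH
    · exact h
  rw [hS, hcard2] at hmod
  exact absurd hmod (by decide)

end Cfsg.Agent.Helper20.M11U
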