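import Mathlib
import Cfsg.Agent.Lib.Helper7.M11UDefs
import Cfsg.Agent.Lib.Helper20.M11UC0

/-!
# M11U (C4) `conf_Oreg` (helper7 lemma server, S0420) -- helper20

`O = N(R) ⊓ N(R2)` (order 8) acts freely on `R \ 1`.  Suppose `o ∈ O`, `o ≠ 1`, centralises `r ∈ R \ 1`.  Then `o` is an
involution `≠ t`.  `O` is normalised by `C(t)`; for `z ∈ C(t)` of order 3, `C_O(z) = {1,t}`.  Counting the set `J` of solutions
of `x² = 1` in `O`: `|J| ≡ 2 mod 3` (conjugation by `z`), `|J| ≡ 8 mod 2` (inversion), `3 ≤ |J| ≤ 8`, so `J = O`: `O` is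
elementary abelian.  Then `O` preserves `A = C_R(o) ∋ r`; for `w ∈ O \ {1,t,o,to}` the element `w r w⁻¹ ∈ A` is none of
`1, r, r⁻¹` (`C_O(r) = {1,o}`), so `|A| ≥ 4`, `A = R`, `o ∈ C(R) = R`, `o = 1`.
-/

set_option autoImplicit false

namespace Cfsg.Agent.Helper20.M11U

open Subgroup Cfsg.Agent.Helper7.M11U
open scoped Pointwise

section gen

variable {G : Type*} [Group G]

theorem h20_ncard_modEq_conj_set [Finite G] (A : Set G) (z : G) (hz3 : z ^ 3 = 1)
    (hn : ∀ x ∈ A, z * x * z⁻¹ ∈ A) :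
    A.ncard ≡ ({x | x ∈ A ∧ z * x = x * z} : Set G).ncard [MOD 3] := by
  classical
  haveI : Fact (Nat.Prime 3) := ⟨by norm_num⟩
  haveI : Fintype A := Fintype.ofFinite _
  let f : Function.End A := fun x => ⟨z * x.1 * z⁻¹, hn x.1 x.2⟩
  have hf : f ^ 3 ^ 1 = 1 := by
    funext x
    apply Subtype.ext
    have e : (f ^ 3 ^ 1) x = f (f (f x)) := rfl
    rw [e]
    show z * (z * (z * x.1 * z⁻¹) * z⁻¹) * z⁻¹ = x.1
    have h3 : z * z * z = 1 := by rw [← hz3, pow_succ, pow_two]
    calc z * (z * (z * x.1 * z⁻¹) * z⁻¹) * z⁻¹ = (z * z * z) * x.1 * (z * z * z)⁻¹ := by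
          simp only [mul_inv_rev, mul_assoc]
      _ = x.1 := by rw [h3]; simp
  have h := Equiv.Perm.card_fixedPoints_modEq (p := 3) (n := 1) hf
  have e1 : Fintype.card A = A.ncard := by
    rw [← Nat.card_eq_fintype_card, Nat.card_coe_set_eq]
  have e2 : Fintype.card (Function.fixedPoints f) =
      ({x | x ∈ A ∧ z * x = x * z} : Set G).ncard := by
    rw [← Nat.card_eq_fintype_card, ← Nat.card_coe_set_eq]
    apply Nat.card_congr
    refine
      { toFun := fun x => ⟨x.1.1, ⟨x.1.2, ?_⟩⟩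
        invFun := fun x => ⟨⟨x.1, x.2.1⟩, ?_⟩
        left_inv := fun x => rfl
        right_inv := fun x => rfl }
    · have hx : f x.1 = x.1 := x.2
      have hx' : z * x.1.1 * z⁻¹ = x.1.1 := congrArg Subtype.val hx
      calc z * x.1.1 = (z * x.1.1 * z⁻¹) * z := by group
        _ = x.1.1 * z := by rw [hx']
    · show f ⟨x.1, x.2.1⟩ = ⟨x.1, x.2.1⟩
      apply Subtype.ext
      show z * x.1 * z⁻¹ = x.1
      rw [x.2.2]; group
  rw [e1, e2] at h
  exact h

theorem h20_ncard_modEq_inv_set [Finite G] (A : Set G) (hn : ∀ x ∈ A, x⁻¹ ∈ A) :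
    A.ncard ≡ ({x | x ∈ A ∧ x * x = 1} : Set G).ncard [MOD 2] := by
  classical
  haveI : Fact (Nat.Prime 2) := ⟨Nat.prime_two⟩
  haveI : Fintype A := Fintype.ofFinite _
  let f : Function.End A := fun x => ⟨x.1⁻¹, hn x.1 x.2⟩
  have hf : f ^ 2 ^ 1 = 1 := by
    funext x
    apply Subtype.ext
    have e : (f ^ 2 ^ 1) x = f (f x) := rfl
    rw [e]
    show (x.1⁻¹)⁻¹ = x.1
    exact inv_inv _
  have h := Equiv.Perm.card_fixedPoints_modEq (p := 2) (n := 1) hf
  have e1 : Fintype.card A = A.ncard := by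
    rw [← Nat.card_eq_fintype_card, Nat.card_coe_set_eq]
  have e2 : Fintype.card (Function.fixedPoints f) =
      ({x | x ∈ A ∧ x * x = 1} : Set G).ncard := by
    rw [← Nat.card_eq_fintype_card, ← Nat.card_coe_set_eq]
    apply Nat.card_congr
    refine
      { toFun := fun x => ⟨x.1.1, ⟨x.1.2, ?_⟩⟩
        invFun := fun x => ⟨⟨x.1, x.2.1⟩, ?_⟩
        left_inv := fun x => rfl
        right_inv := fun x => rfl }
    · have hx : f x.1 = x.1 := x.2
      have hx' : x.1.1⁻¹ = x.1.1 := congrArg Subtype.val hx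
      calc x.1.1 * x.1.1 = x.1.1⁻¹ * x.1.1 := by rw [hx']
        _ = 1 := inv_mul_cancel _
    · show f ⟨x.1, x.2.1⟩ = ⟨x.1, x.2.1⟩
      apply Subtype.ext
      show x.1⁻¹ = x.1
      exact inv_eq_of_mul_eq_one_left x.2.2
  rw [e1, e2] at h
  exact h

theorem h20_sq_of_card_dvd_two [Finite G] (H : Subgroup G) (h : Nat.card H ∣ 2) {x : G}
    (hx : x ∈ H) : x * x = 1 := by
  have h1 : (⟨x, hx⟩ : H) ^ Nat.card H = 1 := pow_card_eq_one'
  obtain ⟨k, hk⟩ := h
  have h2 : (⟨x, hx⟩ : H) ^ 2 = 1 := by rw [hk, pow_mul, h1, one_pow]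
  have h3 := congrArg Subtype.val h2
  simpa [pow_two] using h3

theorem h20_eq_of_card_dvd_two [Finite G] (H : Subgroup G) (h : Nat.card H ∣ 2) {a x : G}
    (ha : a ∈ H) (ha1 : a ≠ 1) (hx : x ∈ H) : x = 1 ∨ x = a := by
  by_contra hne
  rw [not_or] at hne
  have hsub : ({1, a, x} : Set G) ⊆ (H : Set G) := by
    intro y hy
    simp only [Set.mem_insert_iff, Set.mem_singleton_iff] at hy
    rcases hy with h | h | h
    · rw [h]; exact H.one_mem
    · rw [h]; exact ha
    · rw [h]; exact hx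
  have h3 : ({1, a, x} : Set G).ncard = 3 :=
    Set.ncard_eq_three.2 ⟨1, a, x, ha1.symm, Ne.symm hne.1, Ne.symm hne.2, rfl⟩
  have hle := Set.ncard_le_ncard hsub (Set.toFinite _)
  rw [h3, ← Nat.card_coe_set_eq] at hle
  have h2 : Nat.card H ≤ 2 := Nat.le_of_dvd (by norm_num) h
  have : Nat.card ((H : Set G)) = Nat.card H := rfl
  omega

end gen

variable {G : Type*} [Group G] [Finite G] {t : G} {R R2 R3 : Sylow 3 G}

/-- (C4) `O = N(R) ⊓ N(R2)` acts freely on `R \ 1`. -/
theorem conf_Oreg (B : Base G) (L : Loc G) (T : Tri t R R2 R3)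
    (hO : Nat.card (normalizer ((R : Subgroup G) : Set G) ⊓ normalizer ((R2 : Subgroup G) : Set G) : Subgroup G) = 8)
    (hOt : ∀ o : G, o ∈ normalizer ((R : Subgroup G) : Set G) → o ∈ normalizer ((R2 : Subgroup G) : Set G) →
      o * t = t * o ∧ o ∈ normalizer ((R3 : Subgroup G) : Set G)) :
    ∀ o : G, o ∈ normalizer ((R : Subgroup G) : Set G) → o ∈ normalizer ((R2 : Subgroup G) : Set G) →
      ∀ r ∈ (R : Subgroup G), r ≠ 1 → o * r * o⁻¹ = r → o = 1 := by
  intro o hoR hoR2 r hr hr1 hor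
  by_contra ho1
  set O : Subgroup G :=
    normalizer ((R : Subgroup G) : Set G) ⊓ normalizer ((R2 : Subgroup G) : Set G) with hOdef
  have hmemO : ∀ x : G, x ∈ O ↔ x ∈ normalizer ((R : Subgroup G) : Set G) ∧
      x ∈ normalizer ((R2 : Subgroup G) : Set G) := fun x => by rw [hOdef, Subgroup.mem_inf]
  have hoO : o ∈ O := (hmemO o).2 ⟨hoR, hoR2⟩
  have ht1 : t ≠ 1 := by
    intro h
    have := T.ht
    rw [h, orderOf_one] at this
    omega
  have htt : t * t = 1 := by
    have := pow_orderOf_eq_one t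
    rw [T.ht, pow_two] at this
    exact this
  have htO : t ∈ O :=
    (hmemO t).2 ⟨h20_inverts_mem_normalizer T.i1, h20_inverts_mem_normalizer T.i2⟩
  have hOfix : ∀ x ∈ O, x • R = R ∧ x • R2 = R2 ∧ x • R3 = R3 := by
    intro x hx
    obtain ⟨h1, h2⟩ := (hmemO x).1 hx
    exact ⟨(h20_smul_eq_iff x R).2 h1, (h20_smul_eq_iff x R2).2 h2,
      (h20_smul_eq_iff x R3).2 (hOt x h1 h2).2⟩
  -- `O` is normalised by `C(t)`
  have hnorm : ∀ c : G, c * t = t * c → ∀ x ∈ O, c * x * c⁻¹ ∈ O := by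
    intro c hc x hx
    have hc' : c⁻¹ * t = t * c⁻¹ := (show Commute c t from hc).inv_left.eq
    obtain ⟨k1, k2, k3⟩ := hOfix x hx
    have hfix : ∀ Y : Sylow 3 G, Inverts t (Y : Subgroup G) → x • Y = Y := by
      intro Y hY
      rcases h20_tri_cases L T Y hY with h | h | h <;> rw [h] <;> assumption
    rw [hmemO]
    constructor
    · rw [← h20_smul_eq_iff, mul_smul, mul_smul, hfix _ (h20_inverts_smul hc' T.i1),
        smul_inv_smul]
    · rw [← h20_smul_eq_iff, mul_smul, mul_smul, hfix _ (h20_inverts_smul hc' T.i2),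
        smul_inv_smul]
  -- `r` has order 3
  have hr3 : r ^ 3 = 1 := L.exp3 R r hr
  haveI : Fact (Nat.Prime 3) := ⟨by norm_num⟩
  have hord : orderOf r = 3 := orderOf_eq_prime hr3 hr1
  have hO16 : Nat.card O ∣ 16 := by rw [hO]; norm_num
  have hcent : ∀ x y : G, x * y * x⁻¹ = y → x ∈ centralizer ({y} : Set G) := by
    intro x y hxy
    rw [mem_centralizer_iff]
    intro h hh
    rw [Set.mem_singleton_iff] at hh
    rw [hh]
    calc y * x = (x * y * x⁻¹) * x := by rw [hxy]
      _ = x * y := by group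
  have hor' : o ∈ centralizer ({r} : Set G) := hcent o r hor
  have hCOr : Nat.card (O ⊓ centralizer ({r} : Set G) : Subgroup G) ∣ 2 :=
    h20_card_dvd_two L hord _ O inf_le_left hO16 inf_le_right
  have hoo : o * o = 1 := h20_sq_of_card_dvd_two _ hCOr (Subgroup.mem_inf.2 ⟨hoO, hor'⟩)
  have hrr : r⁻¹ ≠ r := by
    intro h
    have h2 : r * r = 1 := by
      calc r * r = r⁻¹ * r := by rw [h]
        _ = 1 := inv_mul_cancel r
    have h3 : r ^ 3 = r := by rw [pow_succ, pow_two, h2, one_mul]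
    rw [hr3] at h3
    exact hr1 h3.symm
  have hot : o ≠ t := by
    intro h
    have := T.i1 r hr
    rw [← h, hor] at this
    exact hrr this.symm
  -- an element `z` of order 3 in `C(t)`
  obtain ⟨z, hzt, hz⟩ := h20_exists_order_three B T.ht
  have hz3 : z ^ 3 = 1 := by rw [← hz]; exact pow_orderOf_eq_one z
  have hCOz : Nat.card (O ⊓ centralizer ({z} : Set G) : Subgroup G) ∣ 2 :=
    h20_card_dvd_two L hz _ O inf_le_left hO16 inf_le_right
  have hcent' : ∀ x y : G, y * x = x * y → x ∈ centralizer ({y} : Set G) := by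
    intro x y hxy
    rw [mem_centralizer_iff]
    intro h hh
    rw [Set.mem_singleton_iff] at hh
    rw [hh]; exact hxy
  have htz : t ∈ (O ⊓ centralizer ({z} : Set G) : Subgroup G) :=
    Subgroup.mem_inf.2 ⟨htO, hcent' t z hzt⟩
  have hfixz : ∀ x ∈ O, z * x = x * z → x = 1 ∨ x = t := fun x hx hxz =>
    h20_eq_of_card_dvd_two _ hCOz htz ht1 (Subgroup.mem_inf.2 ⟨hx, hcent' x z hxz⟩)
  -- the set `J` of solutions of `x * x = 1` in `O`
  set J : Set G := {x | x ∈ (O : Set G) ∧ x * x = 1} with hJ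
  have h2 : (O : Set G).ncard ≡ J.ncard [MOD 2] :=
    h20_ncard_modEq_inv_set (O : Set G) (fun x hx => O.inv_mem hx)
  have hJn : ∀ x ∈ J, z * x * z⁻¹ ∈ J := by
    rintro x ⟨hx, hxx⟩
    refine ⟨hnorm z hzt x hx, ?_⟩
    calc z * x * z⁻¹ * (z * x * z⁻¹) = z * (x * x) * z⁻¹ := by group
      _ = 1 := by rw [hxx]; group
  have h3 : J.ncard ≡ ({x | x ∈ J ∧ z * x = x * z} : Set G).ncard [MOD 3] :=
    h20_ncard_modEq_conj_set J z hz3 hJn
  have hfixset : ({x | x ∈ J ∧ z * x = x * z} : Set G) = {1, t} := by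
    ext x
    simp only [Set.mem_setOf_eq, Set.mem_insert_iff, Set.mem_singleton_iff]
    constructor
    · rintro ⟨⟨hx, _⟩, hxz⟩
      exact hfixz x hx hxz
    · rintro (h | h)
      · rw [h]; exact ⟨⟨O.one_mem, by simp⟩, by simp⟩
      · rw [h]; exact ⟨⟨htO, htt⟩, hzt⟩
  rw [hfixset, Set.ncard_pair ht1.symm] at h3
  have hOn : (O : Set G).ncard = 8 := by rw [← Nat.card_coe_set_eq]; exact hO
  have hJle : J.ncard ≤ 8 := by
    rw [← hOn]; exact Set.ncard_le_ncard (fun x hx => hx.1) (Set.toFinite _)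
  have hJge : 3 ≤ J.ncard := by
    have hsub : ({1, t, o} : Set G) ⊆ J := by
      intro x hx
      simp only [Set.mem_insert_iff, Set.mem_singleton_iff] at hx
      rcases hx with h | h | h
      · rw [h]; exact ⟨O.one_mem, by simp⟩
      · rw [h]; exact ⟨htO, htt⟩
      · rw [h]; exact ⟨hoO, hoo⟩
    have h3' : ({1, t, o} : Set G).ncard = 3 :=
      Set.ncard_eq_three.2 ⟨1, t, o, ht1.symm, Ne.symm ho1, Ne.symm hot, rfl⟩
    rw [← h3']; exact Set.ncard_le_ncard hsub (Set.toFinite _)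
  have hJ8 : J.ncard = 8 := by
    rw [hOn] at h2
    unfold Nat.ModEq at h2 h3
    omega
  have hJO : J = (O : Set G) :=
    Set.eq_of_subset_of_ncard_le (fun x hx => hx.1) (by rw [hJ8, hOn]) (Set.toFinite _)
  have hall : ∀ x ∈ O, x * x = 1 := fun x hx => by
    have : x ∈ J := by rw [hJO]; exact hx
    exact this.2
  -- `O` is abelian
  have hab : ∀ x ∈ O, ∀ y ∈ O, x * y = y * x := by
    intro x hx y hy
    have h1 := hall (x * y) (O.mul_mem hx hy)
    have hx' := hall x hx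
    have hy' := hall y hy
    calc x * y = x * ((x * y) * (x * y)) * y := by rw [h1, mul_one]
      _ = (x * x) * (y * x) * (y * y) := by group
      _ = y * x := by rw [hx', hy', one_mul, mul_one]
  -- `A = C_R(o)` is `O`-invariant
  set A : Subgroup G := (R : Subgroup G) ⊓ centralizer ({o} : Set G) with hA
  have hro : o * r = r * o := by
    calc o * r = (o * r * o⁻¹) * o := by group
      _ = r * o := by rw [hor]
  have hrA : r ∈ A := Subgroup.mem_inf.2 ⟨hr, hcent' r o hro⟩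
  have hOA : ∀ v ∈ O, ∀ a ∈ A, v * a * v⁻¹ ∈ A := by
    intro v hv a ha
    obtain ⟨haR, hao⟩ := Subgroup.mem_inf.1 ha
    refine Subgroup.mem_inf.2 ⟨?_, ?_⟩
    · exact (mem_normalizer_iff.1 ((hmemO v).1 hv).1 a).1 haR
    · rw [mem_centralizer_iff] at hao
      have c2 : Commute o a := hao o rfl
      have c1 : Commute o v := (hab v hv o hoO).symm
      exact hcent' _ o ((c1.mul_right c2).mul_right c1.inv_right).eq
  -- an element `w` of `O` outside `{1, t, o, t * o}`
  obtain ⟨w, hwO, hw1, hwt, hwo, hwto⟩ : ∃ w ∈ O, w ≠ 1 ∧ w ≠ t ∧ w ≠ o ∧ w ≠ t * o := by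
    by_contra hcon
    have hsub : (O : Set G) ⊆ {1, t, o, t * o} := by
      intro x hx
      by_contra hx'
      simp only [Set.mem_insert_iff, Set.mem_singleton_iff, not_or] at hx'
      exact hcon ⟨x, hx, hx'.1, hx'.2.1, hx'.2.2.1, hx'.2.2.2⟩
    have h4 : ({1, t, o, t * o} : Set G).ncard ≤ 4 := by
      classical
      have : ({1, t, o, t * o} : Set G) = ↑({1, t, o, t * o} : Finset G) := by simp
      rw [this, Set.ncard_coe_finset]; exact Finset.card_le_four
    have := (Set.ncard_le_ncard hsub (Set.toFinite _)).trans h4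
    omega
  -- `C_O(r) = {1, o}`
  have hCr : ∀ x ∈ O, x * r * x⁻¹ = r → x = 1 ∨ x = o := fun x hx hxr =>
    h20_eq_of_card_dvd_two _ hCOr (Subgroup.mem_inf.2 ⟨hoO, hor'⟩) ho1
      (Subgroup.mem_inf.2 ⟨hx, hcent x r hxr⟩)
  have hr1A : w * r * w⁻¹ ∈ A := hOA w hwO r hrA
  have hne1 : w * r * w⁻¹ ≠ 1 := by
    intro h
    apply hr1
    have : r = w⁻¹ * (w * r * w⁻¹) * w := by group
    rw [this, h]; group
  have hner : w * r * w⁻¹ ≠ r := by
    intro h
    rcases hCr w hwO h with h' | h'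
    · exact hw1 h'
    · exact hwo h'
  have hneri : w * r * w⁻¹ ≠ r⁻¹ := by
    intro h
    have htw : (t * w) * r * (t * w)⁻¹ = r := by
      calc (t * w) * r * (t * w)⁻¹ = t * (w * r * w⁻¹) * t⁻¹ := by group
        _ = t * r⁻¹ * t⁻¹ := by rw [h]
        _ = r := by rw [T.i1 r⁻¹ (inv_mem hr), inv_inv]
    have htinv : t⁻¹ = t := inv_eq_of_mul_eq_one_left htt
    rcases hCr (t * w) (O.mul_mem htO hwO) htw with h' | h'
    · apply hwt
      calc w = t⁻¹ * (t * w) := by group
        _ = t := by rw [h', mul_one, htinv]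
    · apply hwto
      calc w = t⁻¹ * (t * w) := by group
        _ = t * o := by rw [h', htinv]
  -- four distinct elements of `A`
  have hA4 : 4 ≤ Nat.card A := by
    let f : Fin 4 → A :=
      ![⟨1, A.one_mem⟩, ⟨r, hrA⟩, ⟨r⁻¹, A.inv_mem hrA⟩, ⟨w * r * w⁻¹, hr1A⟩]
    have hf : Function.Injective f := by
      intro i j h
      have h' : (f i).1 = (f j).1 := congrArg Subtype.val h
      have hr1i : r⁻¹ ≠ 1 := fun h => hr1 (inv_eq_one.1 h)
      fin_cases i <;> fin_cases j <;> first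
        | rfl
        | (exfalso
           first
             | exact hr1 h' | exact hr1 h'.symm | exact hr1i h' | exact hr1i h'.symm
             | exact hne1 h' | exact hne1 h'.symm | exact hrr h' | exact hrr h'.symm
             | exact hner h' | exact hner h'.symm | exact hneri h' | exact hneri h'.symm)
    have := Nat.card_le_card_of_injective f hf
    simpa using this
  have hA9 : Nat.card A ∣ 3 ^ 2 := by
    have : Nat.card A ∣ Nat.card (R : Subgroup G) := Subgroup.card_dvd_of_le inf_le_left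
    rw [L.card3 R] at this
    simpa using this
  have hAeq : Nat.card A = 9 := by
    obtain ⟨m, hm, hAm⟩ := (Nat.dvd_prime_pow Nat.prime_three).1 hA9
    interval_cases m
    · rw [hAm] at hA4; norm_num at hA4
    · rw [hAm] at hA4; norm_num at hA4
    · rw [hAm]; norm_num
  have hAR : A = (R : Subgroup G) :=
    Subgroup.eq_of_le_of_card_ge inf_le_left (by rw [hAeq, L.card3 R])
  have hoC : o ∈ centralizer ((R : Subgroup G) : Set G) := by
    rw [mem_centralizer_iff]
    intro x hx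
    have hxA : x ∈ A := by rw [hAR]; exact hx
    have := (Subgroup.mem_inf.1 hxA).2
    rw [mem_centralizer_iff] at this
    exact (this o rfl).symm
  have hoR' : o ∈ (R : Subgroup G) := L.cent R o hoC
  have ho3 : o ^ 3 = 1 := L.exp3 R o hoR'
  apply ho1
  rw [pow_succ, pow_two, hoo, one_mul] at ho3
  exact ho3

end Cfsg.Agent.Helper20.M11U
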