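import Mathlib
import Cfsg.Agent.Lib.Helper7.M11UDefs
import Cfsg.Agent.Lib.Helper20.M11UC0

/-!
# M11U (C5) `conf_sw12` (helper7 lemma server, S0420) -- helper20
-/

set_option autoImplicit false

namespace Cfsg.Agent.Helper20.M11U

open Subgroup Cfsg.Agent.Helper7.M11U
open scoped Pointwise

variable {G : Type*} [Group G] [Finite G] {t : G} {R R2 R3 : Sylow 3 G}

/-- `C(t)` is transitive on the three Sylow 3-subgroups inverted by `t` -/
theorem h20_trans (B : Base G) (L : Loc G) (T : Tri t R R2 R3)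
    (hS : Nat.card (normalizer ((R : Subgroup G) : Set G) ⊓ centralizer ({t} : Set G) : Subgroup G) = 16)
    (X : Sylow 3 G) (hX : Inverts t (X : Subgroup G)) : ∃ c : G, c * t = t * c ∧ c • R = X := by
  classical
  set C : Subgroup G := centralizer ({t} : Set G) with hC
  have h48 : Nat.card C = 48 := B.h48 t T.ht
  have hstab : Nat.card (MulAction.stabilizer C R) = 16 := by
    rw [← hS]
    have e : MulAction.stabilizer C R = (normalizer ((R : Subgroup G) : Set G)).subgroupOf C := by
      ext x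
      rw [MulAction.mem_stabilizer_iff, Subgroup.mem_subgroupOf]
      exact h20_smul_eq_iff (x : G) R
    rw [e, ← Subgroup.inf_subgroupOf_right]
    exact Nat.card_congr (Subgroup.subgroupOfEquivOfLe inf_le_right).toEquiv
  have hidx : (MulAction.stabilizer C R).index = 3 := by
    have := Subgroup.card_mul_index (MulAction.stabilizer C R)
    rw [hstab, h48] at this
    omega
  have horb : (MulAction.orbit C R).ncard = 3 := by
    rw [← MulAction.index_stabilizer]; exact hidx
  set I : Set (Sylow 3 G) := {Y | Inverts t (Y : Subgroup G)} with hI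
  have hmemC : ∀ c : C, (c : G) * t = t * c := by
    intro c
    have : (c : G) ∈ centralizer ({t} : Set G) := c.2
    rw [mem_centralizer_iff] at this
    exact (this t rfl).symm
  have hsub : MulAction.orbit C R ⊆ I := by
    rintro Y ⟨c, rfl⟩
    show Inverts t (((c : G) • R : Sylow 3 G) : Subgroup G)
    exact h20_inverts_smul (hmemC c) T.i1
  have hIcard : I.ncard = 3 := by
    rw [← Nat.card_coe_set_eq]; exact L.three t T.ht
  have hIfin : I.Finite := Set.toFinite I
  have heq : MulAction.orbit C R = I :=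
    Set.eq_of_subset_of_ncard_le hsub (by rw [horb, hIcard]) hIfin
  have hXI : X ∈ MulAction.orbit C R := by rw [heq]; exact hX
  obtain ⟨c, hc⟩ := hXI
  exact ⟨c, hmemC c, hc⟩

/-- (C5) some element of `C(t)` swaps `R` and `R2` and fixes `R3`. -/
theorem conf_sw12 (B : Base G) (L : Loc G) (T : Tri t R R2 R3)
    (hS : Nat.card (normalizer ((R : Subgroup G) : Set G) ⊓ centralizer ({t} : Set G) : Subgroup G) = 16)
    (hsw : ∃ s : G, s ∈ normalizer ((R : Subgroup G) : Set G) ∧ s * t = t * s ∧ s • R2 = R3 ∧ s • R3 = R2) :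
    ∃ g : G, g * t = t * g ∧ g • R = R2 ∧ g • R2 = R ∧ g • R3 = R3 := by
  obtain ⟨s, hsN, hst, hs2, hs3⟩ := hsw
  have hsR : s • R = R := (h20_smul_eq_iff s R).2 hsN
  obtain ⟨g0, hg0t, hg0R⟩ := h20_trans B L T hS R2 T.i2
  have h2 := h20_tri_cases L T (g0 • R2) (h20_inverts_smul hg0t T.i2)
  have h3 := h20_tri_cases L T (g0 • R3) (h20_inverts_smul hg0t T.i3)
  have inj : ∀ X Y : Sylow 3 G, g0 • X = g0 • Y → X = Y := fun X Y h => smul_left_cancel g0 h
  rcases h2 with h2 | h2 | h2
  · rcases h3 with h3 | h3 | h3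
    · exact absurd (inj _ _ (h3.trans h2.symm)) T.ne23.symm
    · exact absurd (inj _ _ (h3.trans hg0R.symm)) T.ne13.symm
    · exact ⟨g0, hg0t, hg0R, h2, h3⟩
  · exact absurd (inj _ _ (h2.trans hg0R.symm)) T.ne12.symm
  · rcases h3 with h3 | h3 | h3
    · refine ⟨g0 * s, ?_, ?_, ?_, ?_⟩
      · rw [mul_assoc, hst, ← mul_assoc, hg0t, mul_assoc]
      · rw [mul_smul, hsR, hg0R]
      · rw [mul_smul, hs2, h3]
      · rw [mul_smul, hs3, h2]
    · exact absurd (inj _ _ (h3.trans hg0R.symm)) T.ne13.symm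
    · exact absurd (inj _ _ (h3.trans h2.symm)) T.ne23.symm

end Cfsg.Agent.Helper20.M11U
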