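import Mathlib
import Cfsg.Agent.Lib.Helper32.N5Defs
import Cfsg.Agent.Lib.Helper35.NormalStep

/-!
helper32's lemma server "N5" (row S1904), piece (P1): in a `2`-group without normal elementary
abelian subgroups of order `8`, every normal elementary abelian subgroup has order at most `4`.
-/

set_option autoImplicit false
set_option linter.style.haveILetI false

namespace Cfsg.Agent.Helper20.N5

open Cfsg Cfsg.Agent.Helper32.N5
open scoped commutatorElement

universe u

variable {X : Type u} [Group X] [Finite X]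

/-- a subgroup of a commutative subgroup is commutative -/
theorem h20_isMulCommutative_of_le {B E : Subgroup X} (hBE : B ≤ E) (hE : IsMulCommutative E) :
    IsMulCommutative B := by
  refine ⟨⟨fun a b => Subtype.ext ?_⟩⟩
  have h := hE.is_comm.comm ⟨a.1, hBE a.2⟩ ⟨b.1, hBE b.2⟩
  have h' := congrArg Subtype.val h
  simpa using h'

/-- (P1) normal elementary abelian subgroups have order at most `4`. -/
theorem card_le_four_of_normal_elementary (hX : IsPGroup 2 X) (h8 : NoNE8 X) (E : Subgroup X)
    (hE : E.Normal) (hEe : Cfsg.IsElementaryAbelian 2 E) : Nat.card E ≤ 4 := by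
  by_contra hlt
  rw [not_le] at hlt
  haveI : Fact (Nat.Prime 2) := ⟨Nat.prime_two⟩
  haveI := hE
  have h0 : (⊥ : Subgroup X) ≠ E := by
    intro h
    rw [← h, Subgroup.card_bot] at hlt
    omega
  obtain ⟨B1, hB1n, -, hB1E, hB1c⟩ :=
    Cfsg.Agent.Helper35.exists_normal_step hX ⊥ E bot_le h0
  rw [Subgroup.card_bot] at hB1c
  haveI := hB1n
  have h1 : B1 ≠ E := by
    intro h
    rw [← h, hB1c] at hlt
    omega
  obtain ⟨B2, hB2n, -, hB2E, hB2c⟩ :=
    Cfsg.Agent.Helper35.exists_normal_step hX B1 E hB1E h1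
  haveI := hB2n
  have h2 : B2 ≠ E := by
    intro h
    rw [← h, hB2c, hB1c] at hlt
    omega
  obtain ⟨B3, hB3n, -, hB3E, hB3c⟩ :=
    Cfsg.Agent.Helper35.exists_normal_step hX B2 E hB2E h2
  apply h8
  refine ⟨B3, hB3n, ⟨h20_isMulCommutative_of_le hB3E hEe.1, fun a ha => hEe.2 a (hB3E ha)⟩, ?_⟩
  rw [hB3c, hB2c, hB1c]

end Cfsg.Agent.Helper20.N5
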