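import Mathlib
import Cfsg.Agent.Lib.Helper32.N5Defs
import Cfsg.Agent.Lib.Helper10.Nilp

/-!
helper32's lemma server "N5" (row S1904), piece (P0): a `2`-group whose `SCN_3` is empty has no
normal elementary abelian subgroup of order `8`.
(`h20_exists_self_centralizing_ge` repeats the argument of `Helper76.CDP.exists_self_centralizing_ge`
so that this file does not depend on the character-theory chain of that library.)
-/

set_option autoImplicit false
set_option linter.style.haveILetI false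
set_option linter.unusedSectionVars false

namespace Cfsg.Agent.Helper20.N5

open Cfsg Cfsg.Agent.Helper32.N5
open scoped commutatorElement

section selfcent

variable {P : Type*} [Group P]

/-- a normal abelian subgroup of a finite nilpotent group lies in a self-centralizing one -/
theorem h20_exists_self_centralizing_ge [Finite P] [Group.IsNilpotent P] (B : Subgroup P)
    (hBn : B.Normal) (hBc : ∀ a ∈ B, ∀ b ∈ B, a * b = b * a) :
    ∃ A : Subgroup P, B ≤ A ∧ A.Normal ∧ (∀ a ∈ A, ∀ b ∈ A, a * b = b * a) ∧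
      Subgroup.centralizer (A : Set P) = A := by
  let 𝓐 : Subgroup P → Prop := fun A => A.Normal ∧ ∀ a ∈ A, ∀ b ∈ A, a * b = b * a
  have h0 : 𝓐 B := ⟨hBn, hBc⟩
  obtain ⟨A, hBA, hAmax⟩ := Finite.exists_le_maximal h0
  have hAn : A.Normal := hAmax.1.1
  have hAc := hAmax.1.2
  refine ⟨A, hBA, hAn, hAc, ?_⟩
  have hle : A ≤ Subgroup.centralizer (A : Set P) := by
    intro a ha
    rw [Subgroup.mem_centralizer_iff]
    intro b hb
    exact hAc b hb a ha
  by_contra hne
  have hlt : A < Subgroup.centralizer (A : Set P) := lt_of_le_of_ne hle (Ne.symm hne)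
  let Cbar := (Subgroup.centralizer (A : Set P)).map (QuotientGroup.mk' A)
  haveI : Cbar.Normal :=
    Subgroup.Normal.map inferInstance (QuotientGroup.mk' A) (QuotientGroup.mk'_surjective A)
  have hCbar : Cbar ≠ ⊥ := by
    intro h
    rw [Subgroup.map_eq_bot_iff, QuotientGroup.ker_mk'] at h
    exact hlt.not_ge h
  have hmeet := Cfsg.Agent.Helper10.normal_inf_center_ne_bot Cbar hCbar
  rcases Subgroup.bot_or_exists_ne_one (Cbar ⊓ Subgroup.center (P ⧸ A)) with h | ⟨cb, hcb, hcb1⟩
  · exact hmeet h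
  obtain ⟨c, hcC, hceq⟩ := hcb.1
  have hcA : c ∉ A := by
    intro h
    apply hcb1
    rw [← hceq]
    exact (QuotientGroup.eq_one_iff c).mpr h
  have hcz : (QuotientGroup.mk' A) c ∈ Subgroup.center (P ⧸ A) := by rw [hceq]; exact hcb.2
  let B' := (Subgroup.zpowers ((QuotientGroup.mk' A) c)).comap (QuotientGroup.mk' A)
  have hZn : (Subgroup.zpowers ((QuotientGroup.mk' A) c)).Normal := by
    constructor
    intro n hn g
    have hn' : n ∈ Subgroup.center (P ⧸ A) := by
      obtain ⟨k, rfl⟩ := Subgroup.mem_zpowers_iff.mp hn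
      exact Subgroup.zpow_mem _ hcz k
    have := Subgroup.mem_center_iff.mp hn' g
    rw [this, mul_inv_cancel_right]
    exact hn
  have hBn' : B'.Normal := Subgroup.Normal.comap hZn _
  have hcomm : ∀ a ∈ A, Commute a c := by
    intro a ha
    exact (Subgroup.mem_centralizer_iff.mp hcC a ha)
  have hBc' : ∀ x ∈ B', ∀ y ∈ B', x * y = y * x := by
    intro x hx y hy
    obtain ⟨k, hk⟩ := Subgroup.mem_zpowers_iff.mp hx
    obtain ⟨l, hl⟩ := Subgroup.mem_zpowers_iff.mp hy
    have hxa : (c ^ k)⁻¹ * x ∈ A := by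
      rw [← QuotientGroup.eq]
      have : ((c ^ k : P) : P ⧸ A) = (QuotientGroup.mk' A) c ^ k := by
        rw [← map_zpow]; rfl
      rw [this, hk]; rfl
    have hya : (c ^ l)⁻¹ * y ∈ A := by
      rw [← QuotientGroup.eq]
      have : ((c ^ l : P) : P ⧸ A) = (QuotientGroup.mk' A) c ^ l := by
        rw [← map_zpow]; rfl
      rw [this, hl]; rfl
    have ex : x = c ^ k * ((c ^ k)⁻¹ * x) := by group
    have ey : y = c ^ l * ((c ^ l)⁻¹ * y) := by group
    have c1 : Commute (c ^ k) (c ^ l) := (Commute.refl c).zpow_zpow k l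
    have c2 : Commute (c ^ k) ((c ^ l)⁻¹ * y) := ((hcomm _ hya).zpow_right k).symm
    have c3 : Commute ((c ^ k)⁻¹ * x) (c ^ l) := (hcomm _ hxa).zpow_right l
    have c4 : Commute ((c ^ k)⁻¹ * x) ((c ^ l)⁻¹ * y) := hAc _ hxa _ hya
    have : Commute (c ^ k * ((c ^ k)⁻¹ * x)) (c ^ l * ((c ^ l)⁻¹ * y)) :=
      Commute.mul_left (Commute.mul_right c1 c2) (Commute.mul_right c3 c4)
    rw [ex, ey]
    exact this
  have hAB : A ≤ B' := by
    intro a ha
    show (QuotientGroup.mk' A) a ∈ Subgroup.zpowers ((QuotientGroup.mk' A) c)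
    have : (QuotientGroup.mk' A) a = 1 := (QuotientGroup.eq_one_iff a).mpr ha
    rw [this]
    exact Subgroup.one_mem _
  have hBA' : B' ≤ A := hAmax.2 ⟨hBn', hBc'⟩ hAB
  exact hcA (hBA' (show (QuotientGroup.mk' A) c ∈ Subgroup.zpowers ((QuotientGroup.mk' A) c) from
    Subgroup.mem_zpowers _))

end selfcent

universe u

variable {X : Type u} [Group X] [Finite X]

/-- (P0) no `SCN_3` implies no normal `E_8`. -/
theorem noNE8_of_noSCN3 (hX : IsPGroup 2 X)
    (hscn : ¬ ∃ A : Subgroup X, A.Normal ∧ Subgroup.centralizer (A : Set X) = A ∧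
      ∃ E : Subgroup X, E ≤ A ∧ Cfsg.IsElementaryAbelian 2 E ∧ Nat.card E = 8) : NoNE8 X := by
  rintro ⟨E, hEn, hEe, hE8⟩
  haveI : Fact (Nat.Prime 2) := ⟨Nat.prime_two⟩
  haveI : Group.IsNilpotent X := hX.isNilpotent
  have hEc : ∀ a ∈ E, ∀ b ∈ E, a * b = b * a := by
    intro a ha b hb
    have h := hEe.1.is_comm.comm ⟨a, ha⟩ ⟨b, hb⟩
    have h' := congrArg Subtype.val h
    simpa using h'
  obtain ⟨A, hEA, hAn, -, hCA⟩ := h20_exists_self_centralizing_ge E hEn hEc
  exact hscn ⟨A, hAn, hCA, E, hEA, hEe, hE8⟩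

end Cfsg.Agent.Helper20.N5
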