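import Mathlib
import Cfsg.Agent.Lib.Helper54.O5760BDefs

set_option autoImplicit false

/-! N96 server (helper54, S0980 case n_5 = 96): piece (P9) `stab_card`. -/

namespace Cfsg.Agent.Helper20.N96

open Cfsg MulAction Cfsg.Agent.Helper54.O5760B

universe u

variable {G : Type u} [Group G] [Finite G]

omit [Finite G] in
/-- An element of prime order `p` of `H` moving every point of an `H`-orbit: `p ∣ |orbit|`. -/
theorem h20_dvd_orbit {α : Type*} [MulAction G α] [Finite α] (H : Subgroup G) (b : α) {p : ℕ}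
    (hp : p.Prime) (y : G) (hyH : y ∈ H) (hy : orderOf y = p)
    (hmove : ∀ c ∈ MulAction.orbit ↥H b, y • c ≠ c) :
    p ∣ Nat.card (MulAction.orbit ↥H b) := by
  have : Fact p.Prime := ⟨hp⟩
  let y' : ↥H := ⟨y, hyH⟩
  have hy' : orderOf y' = p := by
    rw [← hy]; exact Subgroup.orderOf_mk y hyH
  have hP : IsPGroup p ↥(Subgroup.zpowers y') := by
    apply IsPGroup.of_card (n := 1)
    rw [Nat.card_zpowers, hy', pow_one]
  have h1 := hP.card_modEq_card_fixedPoints (MulAction.orbit ↥H b)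
  have h2 : Nat.card (MulAction.fixedPoints ↥(Subgroup.zpowers y') (MulAction.orbit ↥H b)) = 0 := by
    rw [Nat.card_eq_zero]
    left
    constructor
    rintro ⟨c, hc⟩
    have h3 := hc ⟨y', Subgroup.mem_zpowers y'⟩
    apply hmove c.1 c.2
    have h4 := congrArg Subtype.val h3
    exact h4
  rw [h2] at h1
  exact (Nat.modEq_zero_iff_dvd.mp h1)

theorem stab_card (hG : Nat.card G = 5760) (M : Subgroup G) (x : G) (hx : orderOf x = 3)
    (hH : Nat.card (Subgroup.centralizer ({x} : Set G)) = 180)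
    (hHM : Subgroup.centralizer ({x} : Set G) ≤ M) (hM : Nat.card M = 360)
    (r : G) (hr : orderOf r = 5) (hrx : Commute r x)
    (hfx : ∀ g : G, g⁻¹ * x * g ∈ M → g ∈ M) (hfr : ∀ g : G, g⁻¹ * r * g ∈ M → g ∈ M)
    (g : G) (hg : g ∉ M) :
    Nat.card {h : G // h ∈ Subgroup.centralizer ({x} : Set G) ∧ g⁻¹ * h * g ∈ M} = 12 := by
  classical
  set H : Subgroup G := Subgroup.centralizer ({x} : Set G) with hHdef
  have hxH : x ∈ H := Subgroup.mem_centralizer_iff.mpr (fun y hy => by
    rw [Set.mem_singleton_iff.mp hy])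
  have hrH : r ∈ H := Subgroup.mem_centralizer_iff.mpr (fun y hy => by
    rw [Set.mem_singleton_iff.mp hy]; exact hrx.eq.symm)
  set b : G ⧸ M := (g : G ⧸ M) with hb
  have hidx : Nat.card (G ⧸ M) = 16 := by
    have h1 := Subgroup.card_eq_card_quotient_mul_card_subgroup M
    rw [hG, hM] at h1; omega
  have hmove : ∀ (y : G), (∀ k : G, k⁻¹ * y * k ∈ M → k ∈ M) →
      ∀ c ∈ MulAction.orbit ↥H b, y • c ≠ c := by
    intro y hfy c hc hyc
    obtain ⟨h, rfl⟩ := hc
    have hyc' : ((y * ((h : G) * g) : G) : G ⧸ M) = (((h : G) * g : G) : G ⧸ M) := hyc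
    rw [QuotientGroup.eq] at hyc'
    have hyc := hyc'
    have h3 : ((h : G) * g)⁻¹ * y * ((h : G) * g) ∈ M := by
      have h4 := M.inv_mem hyc
      have h5 : ((y * ((h : G) * g))⁻¹ * ((h : G) * g))⁻¹ = ((h : G) * g)⁻¹ * y * ((h : G) * g) := by
        group
      rw [h5] at h4
      exact h4
    have h4 := hfy _ h3
    apply hg
    have h6 : g = (h : G)⁻¹ * ((h : G) * g) := by group
    rw [h6]
    exact M.mul_mem (M.inv_mem (hHM h.2)) h4
  have h3 : 3 ∣ Nat.card (MulAction.orbit ↥H b) :=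
    h20_dvd_orbit H b Nat.prime_three x hxH hx (hmove x hfx)
  have h5 : 5 ∣ Nat.card (MulAction.orbit ↥H b) :=
    h20_dvd_orbit H b Nat.prime_five r hrH hr (hmove r hfr)
  have hle : Nat.card (MulAction.orbit ↥H b) ≤ 16 := by
    rw [← hidx]; exact Nat.card_le_card_of_injective _ Subtype.val_injective
  have hne : Nonempty (MulAction.orbit ↥H b) := ⟨⟨b, MulAction.mem_orbit_self b⟩⟩
  have hpos : 0 < Nat.card (MulAction.orbit ↥H b) := Nat.card_pos
  have h15 : Nat.card (MulAction.orbit ↥H b) = 15 := by omega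
  have hos : Nat.card (MulAction.orbit ↥H b) * Nat.card (MulAction.stabilizer ↥H b) =
      Nat.card ↥H := by
    rw [Nat.card_congr (MulAction.orbitEquivQuotientStabilizer ↥H b)]
    exact (Subgroup.card_eq_card_quotient_mul_card_subgroup _).symm
  rw [h15, hH] at hos
  have hst : Nat.card (MulAction.stabilizer ↥H b) = 12 := by omega
  rw [← hst]
  apply Nat.card_congr
  have hiff : ∀ h : ↥H, h ∈ MulAction.stabilizer ↥H b ↔ g⁻¹ * (h : G) * g ∈ M := by
    intro h
    rw [MulAction.mem_stabilizer_iff]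
    have h1 : (h • b : G ⧸ M) = (((h : G) * g : G) : G ⧸ M) := rfl
    rw [h1, hb, QuotientGroup.eq]
    have h5 : (((h : G) * g)⁻¹ * g)⁻¹ = g⁻¹ * (h : G) * g := by group
    constructor
    · intro h4
      have h6 := M.inv_mem h4
      rw [h5] at h6
      exact h6
    · intro h4
      rw [← h5] at h4
      exact M.inv_mem_iff.mp h4
  exact
    { toFun := fun h => ⟨⟨h.1, h.2.1⟩, (hiff ⟨h.1, h.2.1⟩).mpr h.2.2⟩
      invFun := fun s => ⟨(s.1 : G), s.1.2, (hiff s.1).mp s.2⟩
      left_inv := fun h => rfl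
      right_inv := fun s => rfl }

end Cfsg.Agent.Helper20.N96
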