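import Mathlib
import Cfsg.Prelude.Def_Transfer

set_option autoImplicit false

namespace Cfsg.Agent.Helper20

variable {N : Type*} [Group N]

/-- (after helper34's S2014 file) `O^p(N)` is normal -/
theorem pResidual_normal' (p : ℕ) : (Cfsg.pResidual p N).Normal := by
  constructor
  intro k hk n
  have hmap : (Cfsg.pResidual p N).map (MulAut.conj n).toMonoidHom ≤ Cfsg.pResidual p N := by
    unfold Cfsg.pResidual
    rw [MonoidHom.map_closure, Subgroup.closure_le]
    rintro _ ⟨g, hg, rfl⟩
    apply Subgroup.subset_closure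
    have hg' : Nat.Coprime (orderOf g) p := hg
    show Nat.Coprime (orderOf ((MulAut.conj n) g)) p
    rwa [MulEquiv.orderOf_eq]
  have := hmap (Subgroup.mem_map_of_mem _ hk)
  simpa [MulAut.conj_apply] using this

/-- (after helper34's S2014 file) `N / O^p(N)` is a `p`-group -/
theorem quotient_pResidual_isPGroup' [Finite N] (p : ℕ) [hp : Fact p.Prime]
    [(Cfsg.pResidual p N).Normal] : IsPGroup p (N ⧸ Cfsg.pResidual p N) := by
  intro x
  induction x using QuotientGroup.induction_on with
  | H n =>
    obtain ⟨a, m, hm, hnm⟩ : ∃ a m : ℕ, ¬ p ∣ m ∧ orderOf n = p ^ a * m :=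
      Nat.exists_eq_pow_mul_and_not_dvd (orderOf_pos n).ne' p hp.out.ne_one
    refine ⟨a, ?_⟩
    rw [← QuotientGroup.mk_pow, QuotientGroup.eq_one_iff]
    apply Subgroup.subset_closure
    show Nat.Coprime (orderOf (n ^ p ^ a)) p
    have : orderOf (n ^ p ^ a) = m := by
      rw [orderOf_pow' n (pow_ne_zero a hp.out.ne_zero), hnm, Nat.gcd_eq_right (dvd_mul_right _ _),
        Nat.mul_div_cancel_left _ (pow_pos hp.out.pos a)]
    rw [this]
    exact ((Nat.Prime.coprime_iff_not_dvd hp.out).mpr hm).symm

/-- `O^p` of a subgroup lies in `O^p` of the group -/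
theorem pResidual_map_subtype_le (p : ℕ) (H : Subgroup N) :
    (Cfsg.pResidual p H).map H.subtype ≤ Cfsg.pResidual p N := by
  unfold Cfsg.pResidual
  rw [MonoidHom.map_closure, Subgroup.closure_le]
  rintro _ ⟨g, hg, rfl⟩
  apply Subgroup.subset_closure
  have hg' : Nat.Coprime (orderOf g) p := hg
  show Nat.Coprime (orderOf (H.subtype g)) p
  rw [Subgroup.coe_subtype, Subgroup.orderOf_coe]
  exact hg'

/-- a perfect finite `p`-group is trivial -/
theorem pgroup_perfect_subsingleton {P : Type*} [Group P] [Finite P] (p : ℕ) [Fact p.Prime]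
    (hP : IsPGroup p P) (h : commutator P = ⊤) : Subsingleton P := by
  by_contra hne
  rw [not_subsingleton_iff_nontrivial] at hne
  have : Group.IsNilpotent P := hP.isNilpotent
  have := Group.IsSolvable.commutator_lt_top_of_nontrivial P
  rw [h] at this
  exact lt_irrefl _ this

end Cfsg.Agent.Helper20
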