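import Mathlib
import Cfsg.Agent.Lib.Helper55.O2520Defs
import Cfsg.Agent.Lib.Helper17.Simple
import Cfsg.Agent.Lib.Helper17.PrimeSylow
import Cfsg.Agent.Lib.Helper17.EmbedNormalizer
import Cfsg.Agent.Lib.Helper87.O2520S3C_Q1
import Cfsg.Agent.Lib.Helper49.O2520S3C_Q2
import Cfsg.Agent.Lib.Helper3.O2520S3C_Q3
import Cfsg.Agent.Lib.Helper69.O2520S3C_Q4
import Cfsg.Agent.Lib.Helper49.O2520S3C_Q5
import Cfsg.Agent.Lib.Helper19.O2520S3C_Q6a
import Cfsg.Agent.Lib.Helper19.O2520S3C_Q6b
import Cfsg.Agent.Lib.Helper48.O2520S3C_Q7a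
import Cfsg.Agent.Lib.Helper30.O2520S3C_Q7b

/-!
# O2520 piece (S3C) `exists_order4` (S0984): assembly of the S3C sub-server pieces
-/

set_option autoImplicit false

namespace Cfsg.Agent.Helper20.O2520

open Cfsg.Agent.Helper55.O2520 Cfsg.Agent.Helper17

universe u

theorem h20_ne_inv {G : Type u} [Group G] {z : G} (h3 : z ^ 3 = 1) (h1 : z ≠ 1) : z⁻¹ ≠ z := by
  intro h
  apply h1
  have h2 : z * z = 1 := by
    calc z * z = z⁻¹ * z := by rw [h]
      _ = 1 := inv_mul_cancel z
  calc z = z ^ 3 * (z * z)⁻¹ := by group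
    _ = 1 := by rw [h3, h2]; simp

theorem h20_conj_mul {G : Type u} [Group G] (g u v : G) :
    g * (u * v) * g⁻¹ = (g * u * g⁻¹) * (g * v * g⁻¹) := by group

theorem h20_conj_inv {G : Type u} [Group G] (g u : G) :
    g * u⁻¹ * g⁻¹ = (g * u * g⁻¹)⁻¹ := by group

section grp
variable {G : Type u} [Group G] [Finite G] [IsSimpleGroup G] (hG : Nat.card G = 2520)
include hG

/-- (S3C) -/
theorem exists_order4 (h7 : Nat.card (Sylow 7 G) = 120) (h5 : Nat.card (Sylow 5 G) = 126)
    (h3 : Nat.card (Sylow 3 G) = 70) (P : Sylow 3 G)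
    (hC : Subgroup.centralizer ((P : Subgroup G) : Set G) = (P : Subgroup G))
    (hexp : ∀ x ∈ (P : Subgroup G), x ^ 3 = 1)
    (hovg : ∀ K : Subgroup G, Subgroup.normalizer ((P : Subgroup G) : Set G) < K → K ≠ ⊤ →
      Nat.card K = 360) :
    Done G ∨ ∃ u ∈ Subgroup.normalizer ((P : Subgroup G) : Set G), orderOf u = 4 := by
  by_contra hcon
  push Not at hcon
  obtain ⟨hD, h4⟩ := hcon
  have hP9 : Nat.card (P : Subgroup G) = 9 := by
    have := sylow_card_eq P (k := 2) (m := 280) (by rw [hG]; norm_num) (by norm_num)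
    simpa using this
  have hN36 : Nat.card (Subgroup.normalizer ((P : Subgroup G) : Set G)) = 36 := by
    have := card_normalizer_mul_sylow_count P
    rw [h3, hG] at this
    omega
  have hab : ∀ p ∈ (P : Subgroup G), ∀ q ∈ (P : Subgroup G), p * q = q * p := by
    intro p hp q hq
    have hq' : q ∈ Subgroup.centralizer ((P : Subgroup G) : Set G) := by rw [hC]; exact hq
    exact Subgroup.mem_centralizer_iff.1 hq' p hp
  have habc : ∀ p ∈ (P : Subgroup G), ∀ v ∈ (P : Subgroup G), p * v * p⁻¹ = v := by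
    intro p hp v hv
    rw [hab p hp v hv, mul_inv_cancel_right]
  obtain ⟨x, x', a, b, hx, hx', hx1, hx'1, ha, hb, hoa, hob, hcab, hax, hax', hbx, hbx'⟩ :=
    Cfsg.Agent.Helper87.O2520.s3c_structure (P : Subgroup G) hP9 hexp hC hN36 h4
  have hdec := Cfsg.Agent.Helper49.O2520.s3c_normalizer_mem (P : Subgroup G) hP9 hN36 x x' a b hx hx' hx1 hx'1 ha hb hoa hob
    hcab hax hax' hbx hbx'
  have hx3 : x ^ 3 = 1 := hexp x hx
  have hx'3 : x' ^ 3 = 1 := hexp x' hx'
  have hxi : x⁻¹ ≠ x := h20_ne_inv hx3 hx1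
  have hx'i : x'⁻¹ ≠ x' := h20_ne_inv hx'3 hx'1
  -- the action of `a * b`
  have habx : (a * b) * x * (a * b)⁻¹ = x⁻¹ := by
    have : (a * b) * x * (a * b)⁻¹ = a * (b * x * b⁻¹) * a⁻¹ := by group
    rw [this, hbx, h20_conj_inv, hax]
  have habx' : (a * b) * x' * (a * b)⁻¹ = x'⁻¹ := by
    have : (a * b) * x' * (a * b)⁻¹ = a * (b * x' * b⁻¹) * a⁻¹ := by group
    rw [this, hbx', hax']
  -- conjugation by `p * t`
  have hconj : ∀ p ∈ (P : Subgroup G), ∀ t w v : G, t * w * t⁻¹ = v → v ∈ (P : Subgroup G) →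
      (p * t) * w * (p * t)⁻¹ = v := by
    intro p hp t w v htw hv
    have : (p * t) * w * (p * t)⁻¹ = p * (t * w * t⁻¹) * p⁻¹ := by group
    rw [this, htw, habc p hp v hv]
  have hxinv : x⁻¹ ∈ (P : Subgroup G) := inv_mem hx
  have hx'inv : x'⁻¹ ∈ (P : Subgroup G) := inv_mem hx'
  have hnorm_x : ∀ g ∈ Subgroup.normalizer ((P : Subgroup G) : Set G),
      g * x * g⁻¹ = x ∨ g * x * g⁻¹ = x⁻¹ := by
    intro g hg
    obtain ⟨p, hp, h | h | h | h⟩ := hdec g hg
    · left; rw [h]; exact habc p hp x hx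
    · left; rw [h]; exact hconj p hp a x x hax hx
    · right; rw [h]; exact hconj p hp b x x⁻¹ hbx hxinv
    · right; rw [h]; exact hconj p hp (a * b) x x⁻¹ habx hxinv
  have hnorm_x' : ∀ g ∈ Subgroup.normalizer ((P : Subgroup G) : Set G),
      g * x' * g⁻¹ = x' ∨ g * x' * g⁻¹ = x'⁻¹ := by
    intro g hg
    obtain ⟨p, hp, h | h | h | h⟩ := hdec g hg
    · left; rw [h]; exact habc p hp x' hx'
    · right; rw [h]; exact hconj p hp a x' x'⁻¹ hax' hx'inv
    · left; rw [h]; exact hconj p hp b x' x' hbx' hx'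
    · right; rw [h]; exact hconj p hp (a * b) x' x'⁻¹ habx' hx'inv
  -- x' is neither x nor x⁻¹
  have hx'x : x' ≠ x := by
    intro h
    apply hx'i
    have h1 : a * x' * a⁻¹ = x' := by rw [h]; exact hax
    rw [← hax', h1]
  have hx'xi : x' ≠ x⁻¹ := by
    intro h
    apply hx'i
    have h1 : a * x' * a⁻¹ = x' := by rw [h, h20_conj_inv, hax]
    rw [← hax', h1]
  have hxsq : x⁻¹ * x⁻¹ = x := by
    calc x⁻¹ * x⁻¹ = (x ^ 3)⁻¹ * x := by group
      _ = x := by rw [hx3]; simp
  have hx'sq : x'⁻¹ * x'⁻¹ = x' := by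
    calc x'⁻¹ * x'⁻¹ = (x' ^ 3)⁻¹ * x' := by group
      _ = x' := by rw [hx'3]; simp
  -- centralizers of x and x'
  have hCx := Cfsg.Agent.Helper3.O2520.s3c_card_centralizer_le hG (P : Subgroup G) hN36 hovg hD x b hx1 hx3 hb hbx hnorm_x
  have hCx' := Cfsg.Agent.Helper3.O2520.s3c_card_centralizer_le hG (P : Subgroup G) hN36 hovg hD x' a hx'1 hx'3 ha hax'
    hnorm_x'
  have hix := Cfsg.Agent.Helper49.O2520.s3c_three_involutions (P : Subgroup G) hP9 hC x hx a hoa (mul_inv_eq_iff_eq_mul.1 hax)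
  have hix' := Cfsg.Agent.Helper49.O2520.s3c_three_involutions (P : Subgroup G) hP9 hC x' hx' b hob
    (mul_inv_eq_iff_eq_mul.1 hbx')
  -- y = x x'
  have hy : x * x' ∈ (P : Subgroup G) := mul_mem hx hx'
  have hy3 : (x * x') ^ 3 = 1 := hexp _ hy
  have hy1 : x * x' ≠ 1 := by
    intro h
    exact hx'xi (eq_inv_of_mul_eq_one_right h)
  have hyi : (x * x')⁻¹ ≠ x * x' := h20_ne_inv hy3 hy1
  have : Fact (Nat.Prime 3) := ⟨Nat.prime_three⟩
  have hox : orderOf x = 3 := orderOf_eq_prime hx3 hx1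
  have hox' : orderOf x' = 3 := orderOf_eq_prime hx'3 hx'1
  have hoy : orderOf (x * x') = 3 := orderOf_eq_prime hy3 hy1
  -- non-conjugacy
  have hnc1 : ¬ IsConj x x' := by
    refine Cfsg.Agent.Helper69.O2520.s3c_not_isConj P hC x x' hx hx' ?_
    intro g hg h
    rcases hnorm_x g hg with h' | h'
    · exact hx'x (h.symm.trans h')
    · exact hx'xi (h.symm.trans h')
  have hnc2 : ¬ IsConj x (x * x') := by
    refine Cfsg.Agent.Helper69.O2520.s3c_not_isConj P hC x (x * x') hx hy ?_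
    intro g hg h
    rcases hnorm_x g hg with h' | h'
    · -- x = x * x'
      have : x * x' = x * 1 := by rw [mul_one, ← h, h']
      exact hx'1 (mul_left_cancel this)
    · -- x⁻¹ = x * x'
      have h2 : x' = x⁻¹ * x⁻¹ := by
        have : x * x' = x⁻¹ := by rw [← h, h']
        calc x' = x⁻¹ * (x * x') := by group
          _ = x⁻¹ * x⁻¹ := by rw [this]
      rw [hxsq] at h2
      exact hx'x h2
  have hnc3 : ¬ IsConj x' (x * x') := by
    refine Cfsg.Agent.Helper69.O2520.s3c_not_isConj P hC x' (x * x') hx' hy ?_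
    intro g hg h
    rcases hnorm_x' g hg with h' | h'
    · have : x * x' = 1 * x' := by rw [one_mul, ← h, h']
      exact hx1 (mul_right_cancel this)
    · have h2 : x = x'⁻¹ * x'⁻¹ := by
        have : x * x' = x'⁻¹ := by rw [← h, h']
        calc x = (x * x') * x'⁻¹ := by group
          _ = x'⁻¹ * x'⁻¹ := by rw [this]
      rw [hx'sq] at h2
      exact hx'x h2.symm
  -- the centralizer of y
  have hdvd := Cfsg.Agent.Helper19.O2520.s3c_centralizer_dvd hG h7 h5 (x * x') hoy
  have hPM : (P : Subgroup G) ≤ Subgroup.centralizer ({x * x'} : Set G) := by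
    intro p hp
    rw [Subgroup.mem_centralizer_iff]
    intro h hh
    rw [Set.mem_singleton_iff] at hh
    subst hh
    exact (hab p hp _ hy).symm
  have hMN : Subgroup.centralizer ({x * x'} : Set G) ⊓
      Subgroup.normalizer ((P : Subgroup G) : Set G) ≤ (P : Subgroup G) := by
    rintro g ⟨hgM, hgN⟩
    have hgy : g * (x * x') * g⁻¹ = x * x' := by
      have := Subgroup.mem_centralizer_iff.1 hgM (x * x') rfl
      rw [← this, mul_inv_cancel_right]
    obtain ⟨p, hp, h | h | h | h⟩ := hdec g hgN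
    · rw [h]; exact hp
    · exfalso
      have h1 : g * (x * x') * g⁻¹ = x * x'⁻¹ := by
        rw [h]
        refine hconj p hp a (x * x') (x * x'⁻¹) ?_ (mul_mem hx hx'inv)
        rw [h20_conj_mul, hax, hax']
      rw [hgy] at h1
      exact hx'i (mul_left_cancel h1).symm
    · exfalso
      have h1 : g * (x * x') * g⁻¹ = x⁻¹ * x' := by
        rw [h]
        refine hconj p hp b (x * x') (x⁻¹ * x') ?_ (mul_mem hxinv hx')
        rw [h20_conj_mul, hbx, hbx']
      rw [hgy] at h1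
      exact hxi (mul_right_cancel h1).symm
    · exfalso
      have h1 : g * (x * x') * g⁻¹ = x⁻¹ * x'⁻¹ := by
        rw [h]
        refine hconj p hp (a * b) (x * x') (x⁻¹ * x'⁻¹) ?_ (mul_mem hxinv hx'inv)
        rw [h20_conj_mul, habx, habx']
      rw [hgy] at h1
      apply hyi
      rw [mul_inv_rev, hab _ hx'inv _ hxinv]
      exact h1.symm
  have hM := Cfsg.Agent.Helper19.O2520.s3c_centralizer_sylow P hP9 _ hPM hMN hdvd
  -- the three lower bounds
  have hqx := Cfsg.Agent.Helper48.O2520.s3c_card_over_class x hx3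
  have hqx' := Cfsg.Agent.Helper48.O2520.s3c_card_over_class x' hx'3
  have hqy := Cfsg.Agent.Helper48.O2520.s3c_card_over_class (x * x') hy3
  rw [hG] at hqx hqx' hqy
  have hAx : 560 ≤ Nat.card {g : G // IsConj (g ^ 4) x} := by
    have h1 : Nat.card {g : G // IsConj (g ^ 4) x} * Nat.card (Subgroup.centralizer ({x} : Set G)) ≤
        Nat.card {g : G // IsConj (g ^ 4) x} * 18 := Nat.mul_le_mul_left _ hCx
    have h2 : 2520 * (1 + 3) ≤
        2520 * (1 + Nat.card {i : G // orderOf i = 2 ∧ i * x = x * i}) :=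
      Nat.mul_le_mul_left _ (by omega)
    omega
  have hAx' : 560 ≤ Nat.card {g : G // IsConj (g ^ 4) x'} := by
    have h1 : Nat.card {g : G // IsConj (g ^ 4) x'} *
        Nat.card (Subgroup.centralizer ({x'} : Set G)) ≤
        Nat.card {g : G // IsConj (g ^ 4) x'} * 18 := Nat.mul_le_mul_left _ hCx'
    have h2 : 2520 * (1 + 3) ≤
        2520 * (1 + Nat.card {i : G // orderOf i = 2 ∧ i * x' = x' * i}) :=
      Nat.mul_le_mul_left _ (by omega)
    omega
  have hAy : 280 ≤ Nat.card {g : G // IsConj (g ^ 4) (x * x')} := by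
    rcases hM with h9 | h36
    · rw [h9] at hqy
      have h2 : 2520 * 1 ≤
          2520 * (1 + Nat.card {i : G // orderOf i = 2 ∧ i * (x * x') = (x * x') * i}) :=
        Nat.mul_le_mul_left _ (by omega)
      omega
    · rw [h36] at hqy
      have : Fact (Nat.Prime 2) := ⟨Nat.prime_two⟩
      obtain ⟨j', hj'⟩ := exists_prime_orderOf_dvd_card'
        (G := ↥(Subgroup.centralizer ({x * x'} : Set G))) 2 (by rw [h36]; norm_num)
      have hj : orderOf (j' : G) = 2 := by rw [Subgroup.orderOf_coe]; exact hj'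
      have hjy : (j' : G) * (x * x') = (x * x') * (j' : G) :=
        (Subgroup.mem_centralizer_iff.1 j'.2 (x * x') rfl).symm
      have hiy := Cfsg.Agent.Helper49.O2520.s3c_three_involutions (P : Subgroup G) hP9 hC (x * x') hy (j' : G) hj hjy
      have h2 : 2520 * (1 + 3) ≤
          2520 * (1 + Nat.card {i : G // orderOf i = 2 ∧ i * (x * x') = (x * x') * i}) :=
        Nat.mul_le_mul_left _ (by omega)
      omega
  -- elements of order 7 and 5
  have : Fact (Nat.Prime 7) := ⟨by norm_num⟩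
  have : Fact (Nat.Prime 5) := ⟨by norm_num⟩
  have c7 : Nat.card {g : G // orderOf g = 7} = 720 := by
    rw [card_orderOf_eq_prime (p := 7) (fun Q => by
      have := sylow_card_eq Q (k := 1) (m := 360) (by rw [hG]; norm_num) (by norm_num)
      simpa using this), h7]
  have c5 : Nat.card {g : G // orderOf g = 5} = 504 := by
    rw [card_orderOf_eq_prime (p := 5) (fun Q => by
      have := sylow_card_eq Q (k := 1) (m := 504) (by rw [hG]; norm_num) (by norm_num)
      simpa using this), h5]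
  exact Cfsg.Agent.Helper30.O2520.s3c_final_count hG c7 c5 x x' (x * x') hox hox' hoy hnc1 hnc2 hnc3 hAx hAx' hAy

end grp

end Cfsg.Agent.Helper20.O2520
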