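import Mathlib

/-!
# Piece (B3q) `order228` of helper53's server O459648 (S1022)

A group of order `228 = 4 * 3 * 19` with a central subgroup of order 19 has a unique subgroup of
order 3 or a unique subgroup of order 4.  Route: `Z` normalises every Sylow subgroup, so
`n_2 ∈ {1, 3}`; `n_2 = 1` gives the second alternative; for `n_2 = 3` the normaliser of a Sylow
2-subgroup `V` is `V Z`, abelian, so Burnside's transfer theorem gives a normal subgroup `M` of
order 57, `M = R Z` for every Sylow 3-subgroup `R`, and every element of order dividing 3 lies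
in `R`.
-/

set_option autoImplicit false

namespace Cfsg.Agent.Helper20.O459648

open Subgroup

/-- Order of a Sylow subgroup from a factorisation of the group order. -/
theorem h20_sylow_card_eq {G : Type*} [Group G] [Finite G] {p : ℕ} [hp : Fact p.Prime]
    (P : Sylow p G) {k m : ℕ} (hG : Nat.card G = p ^ k * m) (hm : ¬ p ∣ m) :
    Nat.card (P : Subgroup G) = p ^ k := by
  rw [Sylow.card_eq_multiplicity, hG]
  have hm0 : m ≠ 0 := fun h => hm (h ▸ dvd_zero p)
  rw [Nat.factorization_mul (pow_ne_zero _ hp.out.ne_zero) hm0]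
  simp [hp.out.factorization_pow, Nat.factorization_eq_zero_of_not_dvd hm]

/-- `|N_G(P)| * n_p = |G|`. -/
theorem h20_normalizer_mul_count {G : Type*} [Group G] [Finite G] {p : ℕ} [Fact p.Prime]
    (P : Sylow p G) :
    Nat.card ↥(Subgroup.normalizer ((P : Subgroup G) : Set G)) * Nat.card (Sylow p G) =
      Nat.card G := by
  have hidx : (Subgroup.normalizer ((P : Subgroup G) : Set G)).index = Nat.card (Sylow p G) :=
    P.card_eq_index_normalizer.symm
  rw [← hidx]
  exact Subgroup.card_mul_index _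

/-- A unique Sylow `p`-subgroup is the only subgroup of its order. -/
theorem h20_unique_of_card_sylow_one {G : Type*} [Group G] [Finite G] {p : ℕ} [Fact p.Prime]
    (j : ℕ) (h1 : Nat.card (Sylow p G) = 1)
    (hj : ∀ P : Sylow p G, Nat.card (P : Subgroup G) = p ^ j) :
    ∃ W : Subgroup G, Nat.card W = p ^ j ∧ ∀ W' : Subgroup G, Nat.card W' = p ^ j → W' = W := by
  obtain ⟨P⟩ : Nonempty (Sylow p G) := inferInstance
  refine ⟨P, hj P, ?_⟩
  intro W' hW'
  have hpg : IsPGroup p W' := IsPGroup.of_card hW'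
  obtain ⟨Q, hQ⟩ := hpg.exists_le_sylow
  have hQP : Q = P := by
    have : Subsingleton (Sylow p G) := (Nat.card_eq_one_iff_unique.1 h1).1
    exact Subsingleton.elim _ _
  rw [hQP] at hQ
  exact Subgroup.eq_of_le_of_card_ge hQ (by rw [hj P, hW'])

/-- elements of a subgroup of order `n` are killed by `n`. -/
theorem h20_pow_card_of_mem {G : Type*} [Group G] (W : Subgroup G) (n : ℕ)
    (hW : Nat.card W = n) (x : G) (hx : x ∈ W) : x ^ n = 1 := by
  have h1 : (⟨x, hx⟩ : ↥W) ^ Nat.card ↥W = 1 := pow_card_eq_one'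
  rw [hW] at h1
  have h2 := congrArg Subtype.val h1
  simpa using h2

/-- (B3q) -/
theorem order228 {H : Type*} [Group H] [Finite H] (hH : Nat.card H = 228)
    (Z : Subgroup H) (hZ : Nat.card Z = 19) (hZc : Z ≤ Subgroup.center H) :
    (∃ W : Subgroup H, Nat.card W = 3 ∧ ∀ W' : Subgroup H, Nat.card W' = 3 → W' = W) ∨
    (∃ W : Subgroup H, Nat.card W = 4 ∧ ∀ W' : Subgroup H, Nat.card W' = 4 → W' = W) := by
  have : Fact (Nat.Prime 2) := ⟨Nat.prime_two⟩
  have : Fact (Nat.Prime 3) := ⟨Nat.prime_three⟩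
  have hH2 : Nat.card H = 2 ^ 2 * 57 := by rw [hH]; norm_num
  have hH3 : Nat.card H = 3 ^ 1 * 76 := by rw [hH]; norm_num
  have hVall : ∀ V : Sylow 2 H, Nat.card (V : Subgroup H) = 2 ^ 2 := fun V =>
    h20_sylow_card_eq V hH2 (by norm_num)
  obtain ⟨V⟩ : Nonempty (Sylow 2 H) := inferInstance
  obtain ⟨R⟩ : Nonempty (Sylow 3 H) := inferInstance
  have hV : Nat.card (V : Subgroup H) = 4 := by
    have := hVall V; simpa using this
  have hR : Nat.card (R : Subgroup H) = 3 := by
    have := h20_sylow_card_eq R hH3 (by norm_num); simpa using this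
  have hZn : Z.Normal := ⟨fun n hn g => by
    have h1 := Subgroup.mem_center_iff.1 (hZc hn) g
    have : g * n * g⁻¹ = n := by rw [h1, mul_inv_cancel_right]
    rw [this]; exact hn⟩
  have hz19 : ∀ z ∈ Z, z ^ 19 = 1 := h20_pow_card_of_mem Z 19 hZ
  have hr3 : ∀ x ∈ (R : Subgroup H), x ^ 3 = 1 := h20_pow_card_of_mem _ 3 hR
  -- the number of Sylow 2-subgroups is 1 or 3
  have hZN : Z ≤ Subgroup.normalizer ((V : Subgroup H) : Set H) :=
    hZc.trans ((Subgroup.center_le_centralizer _).trans (Subgroup.centralizer_le_normalizer _))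
  have hN2 := h20_normalizer_mul_count V
  rw [hH] at hN2
  have d4 : 4 ∣ Nat.card ↥(Subgroup.normalizer ((V : Subgroup H) : Set H)) :=
    hV ▸ Subgroup.card_dvd_of_le Subgroup.le_normalizer
  have d19 : 19 ∣ Nat.card ↥(Subgroup.normalizer ((V : Subgroup H) : Set H)) :=
    hZ ▸ Subgroup.card_dvd_of_le hZN
  have d76 : 4 * 19 ∣ Nat.card ↥(Subgroup.normalizer ((V : Subgroup H) : Set H)) :=
    Nat.Coprime.mul_dvd_of_dvd_of_dvd (by norm_num) d4 d19
  obtain ⟨t, ht⟩ := d76
  have hn3 : Nat.card (Sylow 2 H) ∣ 3 := by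
    refine ⟨t, ?_⟩
    rw [ht] at hN2
    have h76 : 76 * (t * Nat.card (Sylow 2 H)) = 76 * 3 := by
      rw [← mul_assoc]; exact hN2
    have := Nat.eq_of_mul_eq_mul_left (by norm_num : 0 < 76) h76
    rw [mul_comm]; exact this.symm
  rcases (Nat.dvd_prime Nat.prime_three).1 hn3 with h1 | h3
  · right
    have := h20_unique_of_card_sylow_one 2 h1 hVall
    simpa using this
  · left
    have hNcard : Nat.card ↥(Subgroup.normalizer ((V : Subgroup H) : Set H)) = 76 := by
      rw [h3] at hN2; omega
    have hsup_le : (V : Subgroup H) ⊔ Z ≤ Subgroup.normalizer ((V : Subgroup H) : Set H) :=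
      sup_le Subgroup.le_normalizer hZN
    have hsup : (V : Subgroup H) ⊔ Z = Subgroup.normalizer ((V : Subgroup H) : Set H) := by
      apply Subgroup.eq_of_le_of_card_ge hsup_le
      rw [hNcard]
      have e4 : 4 ∣ Nat.card ↥((V : Subgroup H) ⊔ Z) := hV ▸ Subgroup.card_dvd_of_le le_sup_left
      have e19 : 19 ∣ Nat.card ↥((V : Subgroup H) ⊔ Z) :=
        hZ ▸ Subgroup.card_dvd_of_le le_sup_right
      exact Nat.le_of_dvd Nat.card_pos
        (Nat.Coprime.mul_dvd_of_dvd_of_dvd (by norm_num : Nat.Coprime 4 19) e4 e19)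
    have hVc : (V : Subgroup H) ≤ Subgroup.centralizer ((V : Subgroup H) : Set H) := by
      intro x hx
      rw [Subgroup.mem_centralizer_iff]
      intro h hh
      have hcomm := IsPGroup.commutative_of_card_eq_prime_sq (p := 2)
        (G := ↥(V : Subgroup H)) (hVall V) ⟨h, hh⟩ ⟨x, hx⟩
      exact congrArg Subtype.val hcomm
    have hP : Subgroup.normalizer ((V : Subgroup H) : Set H) ≤
        Subgroup.centralizer ((V : Subgroup H) : Set H) := by
      rw [← hsup]
      exact sup_le hVc (hZc.trans (Subgroup.center_le_centralizer _))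
    have hc := MonoidHom.ker_transferSylow_isComplement' V hP
    have hMn : (MonoidHom.transferSylow V hP).ker.Normal := MonoidHom.normal_ker _
    have hMcard : Nat.card ↥(MonoidHom.transferSylow V hP).ker = 57 := by
      have := hc.card_mul_card; rw [hV, hH] at this; omega
    have hMidx : (MonoidHom.transferSylow V hP).ker.index = 4 := by
      have := (MonoidHom.transferSylow V hP).ker.card_mul_index
      rw [hMcard, hH] at this; omega
    have hx3 : ∀ x : H, x ^ 3 = 1 → x ∈ (MonoidHom.transferSylow V hP).ker := by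
      intro x hx
      have h4 : x ^ 4 ∈ (MonoidHom.transferSylow V hP).ker := by
        have := Subgroup.pow_index_mem (MonoidHom.transferSylow V hP).ker x
        rwa [hMidx] at this
      have : x ^ 4 = x := by rw [pow_succ, hx, one_mul]
      rwa [this] at h4
    have hZM : Z ≤ (MonoidHom.transferSylow V hP).ker := by
      intro z hz
      have h4 : z ^ 4 ∈ (MonoidHom.transferSylow V hP).ker := by
        have := Subgroup.pow_index_mem (MonoidHom.transferSylow V hP).ker z
        rwa [hMidx] at this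
      have h20 : (z ^ 4) ^ 5 ∈ (MonoidHom.transferSylow V hP).ker := Subgroup.pow_mem _ h4 5
      have : (z ^ 4) ^ 5 = z := by
        rw [← pow_mul, show 4 * 5 = 19 + 1 from rfl, pow_succ, hz19 z hz, one_mul]
      rwa [this] at h20
    have hRZ : (R : Subgroup H) ⊔ Z = (MonoidHom.transferSylow V hP).ker := by
      apply Subgroup.eq_of_le_of_card_ge (sup_le (fun x hx => hx3 x (hr3 x hx)) hZM)
      rw [hMcard]
      have e3 : 3 ∣ Nat.card ↥((R : Subgroup H) ⊔ Z) := by
        have := Subgroup.card_dvd_of_le (le_sup_left : (R : Subgroup H) ≤ (R : Subgroup H) ⊔ Z)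
        rwa [hR] at this
      have e19 : 19 ∣ Nat.card ↥((R : Subgroup H) ⊔ Z) :=
        hZ ▸ Subgroup.card_dvd_of_le le_sup_right
      exact Nat.le_of_dvd Nat.card_pos
        (Nat.Coprime.mul_dvd_of_dvd_of_dvd (by norm_num : Nat.Coprime 3 19) e3 e19)
    refine ⟨R, hR, fun W' hW' => ?_⟩
    refine Subgroup.eq_of_le_of_card_ge ?_ (by rw [hR, hW'])
    intro x hx
    have hx3' : x ^ 3 = 1 := h20_pow_card_of_mem W' 3 hW' x hx
    have hxM : x ∈ (R : Subgroup H) ⊔ Z := by rw [hRZ]; exact hx3 x hx3'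
    rw [← SetLike.mem_coe, Subgroup.mul_normal] at hxM
    obtain ⟨r, hr, z, hz, rfl⟩ := Set.mem_mul.1 hxM
    have hcz : Commute r z := Subgroup.mem_center_iff.1 (hZc hz) r
    have h3 : r ^ 3 * z ^ 3 = 1 := by rw [← hcz.mul_pow]; exact hx3'
    rw [hr3 r hr, one_mul] at h3
    have hz1 : z = 1 := by
      have := hz19 z hz
      rw [show 19 = 3 * 6 + 1 from rfl, pow_succ, pow_mul, h3, one_pow, one_mul] at this
      exact this
    rw [hz1, mul_one]; exact hr

end Cfsg.Agent.Helper20.O459648
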