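import Mathlib

/-!
helper79's lemma server "OSP" (row S2720), piece (B2): THE NONSPLIT TORUS.
`W` a finite quadratic space, nondegenerate, `t` an isometry with `t² ≠ 1`, `lam` a generator of the
(cyclic) group of units of the commutant of `t`.  With the adjoint `a ↦ a†` of the polar form, the
element `s = lam (lam†)⁻¹` is an isometry commuting with `t`, generating the kernel of the norm
`g ↦ g g†` (Hilbert 90: `a = b (b†)⁻¹` with `b = 1 + a`, and `-1 = c (c†)⁻¹` with `c = t - t⁻¹`), of even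
order `N`, acting freely on `W ∖ 0`, and `#{Q = 1} = N * #(ker ℓ)` where `ℓ` is a nonzero linear form on the
self-adjoint part of the commutant (an `F`-space, so of odd order).
-/

set_option autoImplicit false
set_option linter.style.haveILetI false

namespace Cfsg.Agent.Helper20.OSP

open QuadraticMap

section aux

variable {F : Type*} [Field F] {W : Type*} [AddCommGroup W] [Module F W]

section adjoint

variable [Finite W] (Q : QuadraticForm F W) (hnd : ∀ w, (∀ u, polar Q w u = 0) → w = 0)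

include hnd

omit [Finite W] in
theorem h20_eq_of_polar_eq {z₁ z₂ : W} (h : ∀ x, polar Q z₁ x = polar Q z₂ x) : z₁ = z₂ := by
  refine sub_eq_zero.1 (hnd _ fun u => ?_)
  rw [polar_sub_left, h u, sub_self]

theorem h20_exists_adjoint (a : W →ₗ[F] W) :
    ∃ b : W →ₗ[F] W, ∀ x y, polar Q (b y) x = polar Q y (a x) := by
  let B : W →ₗ[F] Module.Dual F W := Q.polarBilin
  have hB : ∀ x y, B x y = polar Q x y := fun x y => QuadraticMap.polarBilin_apply_apply Q x y
  have hinj : Function.Injective B := by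
    refine (injective_iff_map_eq_zero B).2 fun w hw => hnd w fun u => ?_
    rw [← hB, hw]; rfl
  have hsurj : Function.Surjective B :=
    (LinearMap.injective_iff_surjective_of_finrank_eq_finrank Subspace.dual_finrank_eq.symm).1 hinj
  let e : W ≃ₗ[F] Module.Dual F W := LinearEquiv.ofBijective B ⟨hinj, hsurj⟩
  refine ⟨e.symm.toLinearMap ∘ₗ a.dualMap ∘ₗ B, fun x y => ?_⟩
  have h1 : B (e.symm (a.dualMap (B y))) = a.dualMap (B y) := e.apply_symm_apply _
  rw [← hB]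
  show B (e.symm (a.dualMap (B y))) x = _
  rw [h1, LinearMap.dualMap_apply, hB]

/-- the adjoint of `a` with respect to the polar form of `Q` -/
noncomputable def h20_dag (a : W →ₗ[F] W) : W →ₗ[F] W :=
  Classical.choose (h20_exists_adjoint Q hnd a)

theorem h20_dag_spec (a : W →ₗ[F] W) (x y : W) :
    polar Q (h20_dag Q hnd a y) x = polar Q y (a x) :=
  Classical.choose_spec (h20_exists_adjoint Q hnd a) x y

theorem h20_dag_unique (a b : W →ₗ[F] W) (h : ∀ x y, polar Q (b y) x = polar Q y (a x)) :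
    h20_dag Q hnd a = b :=
  LinearMap.ext fun y => h20_eq_of_polar_eq Q hnd fun x => by rw [h20_dag_spec, h]

theorem h20_dag_add (a b : W →ₗ[F] W) :
    h20_dag Q hnd (a + b) = h20_dag Q hnd a + h20_dag Q hnd b :=
  h20_dag_unique Q hnd _ _ fun x y => by
    simp only [LinearMap.add_apply, polar_add_left, polar_add_right, h20_dag_spec]

theorem h20_dag_smul (c : F) (a : W →ₗ[F] W) :
    h20_dag Q hnd (c • a) = c • h20_dag Q hnd a :=
  h20_dag_unique Q hnd _ _ fun x y => by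
    simp only [LinearMap.smul_apply, polar_smul_left, polar_smul_right, h20_dag_spec]

theorem h20_dag_one : h20_dag Q hnd (1 : W →ₗ[F] W) = 1 :=
  h20_dag_unique Q hnd _ _ fun x y => by simp

theorem h20_dag_mul (a b : W →ₗ[F] W) :
    h20_dag Q hnd (a * b) = h20_dag Q hnd b * h20_dag Q hnd a :=
  h20_dag_unique Q hnd _ _ fun x y => by
    simp only [Module.End.mul_apply, h20_dag_spec]

theorem h20_dag_dag (a : W →ₗ[F] W) : h20_dag Q hnd (h20_dag Q hnd a) = a :=
  h20_dag_unique Q hnd _ _ fun x y => by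
    rw [polar_comm, ← h20_dag_spec Q hnd a y x, polar_comm]

/-- the adjoint as an additive map -/
noncomputable def h20_dagHom : (W →ₗ[F] W) →+ (W →ₗ[F] W) :=
  AddMonoidHom.mk' (h20_dag Q hnd) (h20_dag_add Q hnd)

theorem h20_dag_sub (a b : W →ₗ[F] W) :
    h20_dag Q hnd (a - b) = h20_dag Q hnd a - h20_dag Q hnd b :=
  map_sub (h20_dagHom Q hnd) a b

theorem h20_dag_neg (a : W →ₗ[F] W) : h20_dag Q hnd (-a) = -h20_dag Q hnd a :=
  map_neg (h20_dagHom Q hnd) a

theorem h20_dag_zero : h20_dag Q hnd (0 : W →ₗ[F] W) = 0 :=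
  map_zero (h20_dagHom Q hnd)

theorem h20_dag_pow (a : W →ₗ[F] W) (m : ℕ) :
    h20_dag Q hnd (a ^ m) = h20_dag Q hnd a ^ m := by
  induction m with
  | zero => simp [h20_dag_one]
  | succ m ih => rw [pow_succ, h20_dag_mul, ih, pow_succ']

end adjoint

theorem h20_range_eq_ker {Λ : Type*} [Group Λ] [Finite Λ] (η ν : Λ →* Λ)
    (h90 : ν.ker = η.range) (hle : ν.range ≤ η.ker) : ν.range = η.ker := by
  have h1 : Nat.card ν.ker * Nat.card ν.range = Nat.card Λ := by
    rw [← Subgroup.index_ker]; exact Subgroup.card_mul_index _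
  have h2 : Nat.card η.ker * Nat.card η.range = Nat.card Λ := by
    rw [← Subgroup.index_ker]; exact Subgroup.card_mul_index _
  have h3 : Nat.card ν.ker = Nat.card η.range := by rw [h90]
  have h4 : 0 < Nat.card η.range := Nat.card_pos
  have h5 : Nat.card ν.range = Nat.card η.ker := by
    rw [h3] at h1
    have : Nat.card η.range * Nat.card ν.range = Nat.card η.range * Nat.card η.ker := by
      rw [h1, mul_comm, h2]
    exact Nat.eq_of_mul_eq_mul_left h4 this
  exact Subgroup.eq_of_le_of_card_ge hle h5.symm.le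

theorem h20_card_fibres {Λ : Type*} [Group Λ] [Finite Λ] (ν : Λ →* Λ) (P : Λ → Prop) :
    Nat.card {g : Λ // P (ν g)} =
      Nat.card ν.ker * Nat.card {h : Λ // h ∈ ν.range ∧ P h} := by
  classical
  have hσ : ∀ h : {h : Λ // h ∈ ν.range ∧ P h}, ∃ g : Λ, ν g = h.1 := fun h => h.2.1
  choose σ hσ' using hσ
  rw [mul_comm, ← Nat.card_prod]
  refine Nat.card_congr ?_
  refine
    { toFun := fun g => (⟨ν g.1, ⟨g.1, rfl⟩, g.2⟩, ⟨(σ ⟨ν g.1, ⟨g.1, rfl⟩, g.2⟩)⁻¹ * g.1, ?_⟩)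
      invFun := fun x => ⟨σ x.1 * x.2.1, ?_⟩
      left_inv := ?_
      right_inv := ?_ }
  · rw [MonoidHom.mem_ker, map_mul, map_inv, hσ']; exact inv_mul_cancel _
  · rw [map_mul, hσ', MonoidHom.mem_ker.1 x.2.2, mul_one]; exact x.1.2.2
  · intro g; apply Subtype.ext; simp
  · rintro ⟨h, x⟩
    have e : ν (σ h * x.1) = h.1 := by rw [map_mul, hσ', MonoidHom.mem_ker.1 x.2, mul_one]
    have e' : (⟨ν (σ h * x.1), ⟨σ h * x.1, rfl⟩, by rw [e]; exact h.2.2⟩ :
        {h : Λ // h ∈ ν.range ∧ P h}) = h := Subtype.ext e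
    apply Prod.ext
    · exact e'
    · apply Subtype.ext
      show (σ ⟨ν (σ h * x.1), _⟩)⁻¹ * (σ h * x.1) = x.1
      rw [e']; group


section main

variable [Finite W] (Q : QuadraticForm F W)
  (hnd : ∀ w, (∀ u, polar Q w u = 0) → w = 0) (t : W →ₗ[F] W) (lam : W ≃ₗ[F] W)

local notation "dag" => h20_dag Q hnd
local notation "Λ" => Subgroup.zpowers lam

omit [Finite W] in
/-- the coercion of the cyclic group generated by `lam` into the endomorphism ring -/
def h20_psi : ↥(Subgroup.zpowers lam) →* (W →ₗ[F] W) :=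
  (LinearEquiv.automorphismGroup.toLinearMapMonoidHom).comp (Subgroup.zpowers lam).subtype

omit [Finite W] in
theorem h20_psi_apply (g : Λ) (w : W) : h20_psi lam g w = (g : W ≃ₗ[F] W) w := rfl

omit [Finite W] in
theorem h20_psi_injective : Function.Injective (h20_psi lam) := fun g g' h =>
  Subtype.ext (LinearEquiv.ext fun w => by rw [← h20_psi_apply, h, h20_psi_apply])

open scoped IsMulCommutative in
omit [Finite W] in
/-- the norm map `g ↦ g * g ^ j` -/
def h20_nu (j : ℕ) : Λ →* Λ where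
  toFun g := g * g ^ j
  map_one' := by simp
  map_mul' a b := by rw [mul_pow, mul_mul_mul_comm]

open scoped IsMulCommutative in
omit [Finite W] in
/-- the map `g ↦ g * (g ^ j)⁻¹` -/
def h20_eta (j : ℕ) : Λ →* Λ where
  toFun g := g * (g ^ j)⁻¹
  map_one' := by simp
  map_mul' a b := by rw [mul_pow, mul_inv, mul_mul_mul_comm]

omit [Finite W] in
theorem h20_nu_apply (j : ℕ) (g : Λ) : h20_nu lam j g = g * g ^ j := rfl

omit [Finite W] in
theorem h20_eta_apply (j : ℕ) (g : Λ) : h20_eta lam j g = g * (g ^ j)⁻¹ := rfl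


open scoped IsMulCommutative in
include hnd in
theorem h20_block_aux [Finite F] (h2 : (2 : F) ≠ 0) (ht : ∀ w, Q (t w) = Q w)
    (hne : ∃ w, t (t w) ≠ w)
    (hl1 : ∀ w, lam (t w) = t (lam w)) (hl2 : orderOf lam = Nat.card W - 1)
    (hl3 : ∀ a : W →ₗ[F] W, (∀ w, a (t w) = t (a w)) → a ≠ 0 → ∃ j : ℕ, ∀ w, a w = (lam ^ j) w)
    (hl4 : ∀ w : W, w ≠ 0 → ∀ j : ℕ, (lam ^ j) w = w → (Nat.card W - 1) ∣ j) :
    ∃ (s : W ≃ₗ[F] W) (N k : ℕ), (∀ w, Q (s w) = Q w) ∧ (∀ w, s (t w) = t (s w)) ∧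
      0 < N ∧ Even N ∧ Odd k ∧ s ^ N = 1 ∧ (∀ w, w ≠ 0 → ∀ j : ℕ, (s ^ j) w = w → N ∣ j) ∧
      Nat.card {w : W // Q w = 1} = N * k := by
  classical
  haveI : Finite (W ≃ₗ[F] W) :=
    Finite.of_injective (fun e : W ≃ₗ[F] W => (e : W → W)) (fun a b h => LinearEquiv.ext (congrFun h))
  -- a nonzero vector
  obtain ⟨w₁, hw₁⟩ := hne
  have hW : ∃ w₀ : W, w₀ ≠ 0 := by
    by_contra h
    rw [not_exists] at h
    have h' : ∀ w : W, w = 0 := fun w => not_not.1 (h w)
    exact hw₁ (by rw [h' (t (t w₁)), h' w₁])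
  obtain ⟨w₀, hw₀⟩ := hW
  -- facts on `t`
  have hpol : ∀ x y, polar Q (t x) (t y) = polar Q x y := by
    intro x y
    simp only [polar, ← map_add, ht]
  have htinj : Function.Injective t := by
    refine (injective_iff_map_eq_zero t).2 fun x hx => hnd x fun u => ?_
    rw [← hpol, hx, polar_zero_left]
  let tE : W ≃ₗ[F] W := LinearEquiv.ofBijective t ⟨htinj, Finite.surjective_of_injective htinj⟩
  have htE : ∀ w, tE w = t w := fun w => rfl
  obtain ⟨ti, hti⟩ : ∃ ti : W →ₗ[F] W, ti = tE.symm.toLinearMap := ⟨_, rfl⟩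
  have htia : ∀ w, ti w = tE.symm w := fun w => by rw [hti]; rfl
  have hti1 : ti * t = 1 := LinearMap.ext fun w => by
    show ti (t w) = w
    rw [htia, ← htE, tE.symm_apply_apply]
  have hti2 : t * ti = 1 := LinearMap.ext fun w => by
    show t (ti w) = w
    rw [htia, ← htE, tE.apply_symm_apply]
  have hdagt : dag t = ti := h20_dag_unique Q hnd t ti fun x y => by
    rw [← hpol (ti y) x]
    have : t (ti y) = y := LinearMap.congr_fun hti2 y
    rw [this]
  have hdagti : dag ti = t := by rw [← hdagt, h20_dag_dag]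
  have hCdag : ∀ a : W →ₗ[F] W, a * t = t * a → dag a * t = t * dag a := by
    intro a ha
    have h1 : ti * dag a = dag a * ti := by
      have := congrArg (h20_dag Q hnd) ha
      rwa [h20_dag_mul, h20_dag_mul, hdagt] at this
    calc dag a * t = (t * ti) * (dag a * t) := by rw [hti2, one_mul]
      _ = t * ((ti * dag a) * t) := by simp only [mul_assoc]
      _ = t * ((dag a * ti) * t) := by rw [h1]
      _ = t * dag a * (ti * t) := by simp only [mul_assoc]
      _ = t * dag a := by rw [hti1, mul_one]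
  -- the cyclic group
  obtain ⟨ψ, hψ⟩ : ∃ ψ : Λ →* (W →ₗ[F] W), ψ = h20_psi lam := ⟨_, rfl⟩
  have hψa : ∀ (g : Λ) (w : W), ψ g w = (g : W ≃ₗ[F] W) w := fun g w => by rw [hψ]; rfl
  have hψinj : Function.Injective ψ := by rw [hψ]; exact h20_psi_injective lam
  have hψne : ∀ g : Λ, ψ g ≠ 0 := fun g h => hw₀ ((g : W ≃ₗ[F] W).injective (by
    rw [map_zero, ← hψa, h]; rfl))
  let lamΛ : Λ := ⟨lam, Subgroup.mem_zpowers lam⟩
  have hΛpow : ∀ g : Λ, ∃ m : ℕ, g = lamΛ ^ m := by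
    intro g
    have hg := g.2
    rw [← mem_powers_iff_mem_zpowers, Submonoid.mem_powers_iff] at hg
    obtain ⟨m, hm⟩ := hg
    exact ⟨m, Subtype.ext hm.symm⟩
  have hlamC : ψ lamΛ * t = t * ψ lamΛ := LinearMap.ext fun w => by
    show ψ lamΛ (t w) = t (ψ lamΛ w)
    rw [hψa, hψa]; exact hl1 w
  have hψC : ∀ g : Λ, ψ g * t = t * ψ g := by
    intro g
    obtain ⟨m, rfl⟩ := hΛpow g
    rw [map_pow]
    induction m with
    | zero => simp
    | succ m ih => rw [pow_succ, mul_assoc, hlamC, ← mul_assoc, ih, mul_assoc]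
  have hψsurj : ∀ a : W →ₗ[F] W, a * t = t * a → a ≠ 0 → ∃ g : Λ, ψ g = a := by
    intro a ha ha0
    obtain ⟨m, hm⟩ := hl3 a (fun w => LinearMap.congr_fun ha w) ha0
    refine ⟨lamΛ ^ m, LinearMap.ext fun w => ?_⟩
    rw [hψa, hm w]; rfl
  -- the exponent `j`
  have hdl0 : dag (ψ lamΛ) ≠ 0 := fun h => hψne lamΛ (by
    rw [← h20_dag_dag Q hnd (ψ lamΛ), h, h20_dag_zero])
  obtain ⟨g₀, hg₀⟩ := hψsurj _ (hCdag _ hlamC) hdl0
  obtain ⟨j, hj⟩ := hΛpow g₀
  have hψD : ∀ g : Λ, dag (ψ g) = ψ (g ^ j) := by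
    intro g
    obtain ⟨m, rfl⟩ := hΛpow g
    rw [map_pow, h20_dag_pow, ← hg₀, hj, ← map_pow, ← pow_mul, ← pow_mul, mul_comm]
  have hJ2 : ∀ g : Λ, (g ^ j) ^ j = g := fun g => hψinj (by
    rw [← hψD, ← hψD, h20_dag_dag])
  obtain ⟨ν, hν⟩ : ∃ ν : Λ →* Λ, ν = h20_nu lam j := ⟨_, rfl⟩
  obtain ⟨η, hη⟩ : ∃ η : Λ →* Λ, η = h20_eta lam j := ⟨_, rfl⟩
  have hνa : ∀ g : Λ, ν g = g * g ^ j := fun g => by rw [hν]; rfl
  have hηa : ∀ g : Λ, η g = g * (g ^ j)⁻¹ := fun g => by rw [hη]; rfl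
  -- Hilbert 90
  have h90 : ν.ker = η.range := by
    apply le_antisymm
    · intro g hg
      rw [MonoidHom.mem_ker, hνa] at hg
      have haa : ψ g * dag (ψ g) = 1 := by
        rw [hψD, ← map_mul, hg, map_one]
      by_cases hneg : ψ g = -1
      · have hc₀C : (t - ti) * t = t * (t - ti) := by
          rw [sub_mul, mul_sub, hti1, hti2]
        have hc₀ : t - ti ≠ 0 := by
          intro h
          have h1 : t = ti := sub_eq_zero.1 h
          have h3 : t * t = 1 := by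
            calc t * t = t * ti := by rw [← h1]
              _ = 1 := hti2
          exact hw₁ (LinearMap.congr_fun h3 w₁)
        obtain ⟨h, hh⟩ := hψsurj _ hc₀C hc₀
        have hdh : dag (ψ h) = -ψ h := by
          rw [hh, h20_dag_sub, hdagt, hdagti, neg_sub]
        have e : h ^ j = g * h := hψinj (by
          rw [← hψD, hdh, map_mul, hneg, neg_one_mul])
        refine ⟨h⁻¹, ?_⟩
        rw [hηa, inv_pow, inv_inv, e, mul_comm g h, inv_mul_cancel_left]
      · have hbC : (1 + ψ g) * t = t * (1 + ψ g) := by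
          rw [add_mul, mul_add, one_mul, mul_one, hψC]
        have hb0 : 1 + ψ g ≠ 0 := fun h => hneg (eq_neg_of_add_eq_zero_right h)
        obtain ⟨h, hh⟩ := hψsurj _ hbC hb0
        have e : g * h ^ j = h := hψinj (by
          rw [map_mul, ← hψD, hh, h20_dag_add, h20_dag_one, mul_add, mul_one, haa, add_comm])
        refine ⟨h, ?_⟩
        rw [hηa]
        exact (eq_mul_inv_of_mul_eq e).symm
    · rintro _ ⟨g, rfl⟩
      rw [MonoidHom.mem_ker, hνa, hηa, mul_pow, inv_pow, hJ2]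
      group
  have hle : ν.range ≤ η.ker := by
    rintro _ ⟨g, rfl⟩
    rw [MonoidHom.mem_ker, hηa, hνa, mul_pow, hJ2, mul_comm (g ^ j) g, mul_inv_cancel]
  have hrk : ν.range = η.ker := h20_range_eq_ker η ν h90 hle
  obtain ⟨sΛ, hsΛ⟩ : ∃ sΛ : Λ, sΛ = η lamΛ := ⟨_, rfl⟩
  have hrange : η.range = Subgroup.zpowers sΛ := by
    have htop : (⊤ : Subgroup Λ) = Subgroup.zpowers lamΛ := by
      symm
      rw [Subgroup.eq_top_iff']
      intro g
      obtain ⟨m, rfl⟩ := hΛpow g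
      exact Subgroup.pow_mem _ (Subgroup.mem_zpowers _) m
    rw [MonoidHom.range_eq_map, htop, MonoidHom.map_zpowers, hsΛ]
  have hsker : sΛ * sΛ ^ j = 1 := by
    have : sΛ ∈ ν.ker := by rw [h90, hrange]; exact Subgroup.mem_zpowers _
    rwa [MonoidHom.mem_ker, hνa] at this
  have hkey : ∀ (g : Λ) (u x : W), polar Q (ψ (g ^ j * g) u) x =
      polar Q ((g : W ≃ₗ[F] W) u) ((g : W ≃ₗ[F] W) x) := by
    intro g u x
    rw [map_mul, ← hψD, Module.End.mul_apply, h20_dag_spec, hψa, hψa]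
  have hiso : ∀ g : Λ, g * g ^ j = 1 → ∀ w, Q ((g : W ≃ₗ[F] W) w) = Q w := by
    intro g hg w
    have h1 := hkey g w w
    rw [mul_comm (g ^ j) g, hg, map_one, Module.End.one_apply, polar_self, polar_self,
      two_nsmul, two_nsmul, ← two_mul, ← two_mul] at h1
    exact (mul_left_cancel₀ h2 h1).symm
  have hfree : ∀ x : Λ, ∀ w : W, w ≠ 0 → (x : W ≃ₗ[F] W) w = w → x = 1 := by
    intro x w hw hx
    obtain ⟨m, rfl⟩ := hΛpow x
    have hx' : (lam ^ m) w = w := hx
    have hd := hl4 w hw m hx'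
    rw [← hl2, orderOf_dvd_iff_pow_eq_one] at hd
    exact Subtype.ext hd
  -- `-1` lies in the kernel of the norm: `N` is even
  have hneg1C : (-1 : W →ₗ[F] W) * t = t * (-1) := by rw [neg_one_mul, mul_neg_one]
  have hneg1ne : (-1 : W →ₗ[F] W) ≠ 0 := by
    intro h
    have h' := LinearMap.congr_fun h w₀
    rw [LinearMap.neg_apply, Module.End.one_apply, LinearMap.zero_apply, neg_eq_zero] at h'
    exact hw₀ h'
  obtain ⟨n₀, hn₀⟩ := hψsurj _ hneg1C hneg1ne
  have hn₀j : n₀ ^ j = n₀ := hψinj (by rw [← hψD, hn₀, h20_dag_neg, h20_dag_one])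
  have hn₀2 : n₀ ^ 2 = 1 := hψinj (by rw [map_pow, hn₀, map_one, neg_one_sq])
  have hn₀1 : n₀ ≠ 1 := by
    intro h
    rw [h, map_one] at hn₀
    have h' := LinearMap.congr_fun hn₀ w₀
    rw [LinearMap.neg_apply, Module.End.one_apply] at h'
    have h3 : (2 : F) • w₀ = 0 := by
      rw [two_smul]
      nth_rewrite 1 [h']
      exact neg_add_cancel w₀
    exact hw₀ ((smul_eq_zero.1 h3).resolve_left h2)
  have hn₀ker : n₀ ∈ Subgroup.zpowers sΛ := by
    rw [← hrange, ← h90, MonoidHom.mem_ker, hνa, hn₀j, ← pow_two, hn₀2]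
  have h2N : 2 ∣ orderOf sΛ := by
    have := orderOf_dvd_of_mem_zpowers hn₀ker
    rwa [orderOf_eq_prime hn₀2 hn₀1] at this
  -- the bijection with the nonzero vectors
  have hΘinj : ∀ g g' : Λ, (g : W ≃ₗ[F] W) w₀ = (g' : W ≃ₗ[F] W) w₀ → g = g' := by
    intro g g' h
    have h1 : ((g'⁻¹ * g : Λ) : W ≃ₗ[F] W) w₀ = w₀ := by
      show (g' : W ≃ₗ[F] W).symm ((g : W ≃ₗ[F] W) w₀) = w₀
      rw [h]
      exact (g' : W ≃ₗ[F] W).symm_apply_apply w₀
    have := hfree _ w₀ hw₀ h1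
    exact (inv_mul_eq_one.1 this).symm
  have hcardΛ : Nat.card Λ = Nat.card W - 1 := by rw [Nat.card_zpowers, hl2]
  have hcardW0 : Nat.card {w : W // w ≠ 0} = Nat.card W - 1 := by
    have h := Set.ncard_compl ({0} : Set W)
    rw [Set.ncard_singleton] at h
    rw [← h, ← Nat.card_coe_set_eq]
    rfl
  have hΘsurj : ∀ w : W, w ≠ 0 → ∃ g : Λ, (g : W ≃ₗ[F] W) w₀ = w := by
    let Θ : Λ → {w : W // w ≠ 0} := fun g =>
      ⟨(g : W ≃ₗ[F] W) w₀, fun h => hw₀ ((g : W ≃ₗ[F] W).injective (by rw [h, map_zero]))⟩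
    have hΘ : Function.Injective Θ := fun g g' h => hΘinj g g' (congrArg Subtype.val h)
    have hb := hΘ.bijective_of_nat_card_le (by rw [hcardΛ, hcardW0])
    intro w hw
    obtain ⟨g, hg⟩ := hb.2 ⟨w, hw⟩
    exact ⟨g, congrArg Subtype.val hg⟩
  have hkey2 : ∀ g : Λ, polar Q (ψ (ν g) w₀) w₀ = 2 * Q ((g : W ≃ₗ[F] W) w₀) := by
    intro g
    rw [hνa, mul_comm g (g ^ j), hkey, polar_self, two_nsmul, two_mul]
  obtain ⟨P, hP⟩ : ∃ P : Λ → Prop, P = fun h => polar Q (ψ h w₀) w₀ = 2 := ⟨_, rfl⟩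
  have hPa : ∀ h, P h ↔ polar Q (ψ h w₀) w₀ = 2 := fun h => by rw [hP]
  have hQP : ∀ g : Λ, P (ν g) ↔ Q ((g : W ≃ₗ[F] W) w₀) = 1 := by
    intro g
    rw [hPa, hkey2]
    constructor
    · intro h; exact mul_left_cancel₀ h2 (by rw [h, mul_one])
    · intro h; rw [h, mul_one]
  have hcount1 : Nat.card {w : W // Q w = 1} = Nat.card {g : Λ // P (ν g)} := by
    symm
    refine Nat.card_eq_of_bijective
      (fun g => ⟨(g.1 : W ≃ₗ[F] W) w₀, (hQP g.1).1 g.2⟩) ⟨?_, ?_⟩
    · intro g g' h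
      exact Subtype.ext (hΘinj _ _ (congrArg Subtype.val h))
    · rintro ⟨w, hw⟩
      have hw0 : w ≠ 0 := by
        rintro rfl
        rw [map_zero] at hw
        exact zero_ne_one hw
      obtain ⟨g, hg⟩ := hΘsurj w hw0
      exact ⟨⟨g, (hQP g).2 (by rw [hg]; exact hw)⟩, Subtype.ext hg⟩
  have hcount2 := h20_card_fibres ν P
  have hcardker : Nat.card ν.ker = orderOf sΛ := by
    rw [h90, hrange, Nat.card_zpowers]
  -- the self-adjoint part of the commutant
  obtain ⟨K, hK⟩ : ∃ K : Submodule F (W →ₗ[F] W),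
      ∀ a, a ∈ K ↔ (a * t = t * a ∧ dag a = a) :=
    ⟨{ carrier := {a | a * t = t * a ∧ dag a = a}
       add_mem' := fun {a b} ha hb =>
        ⟨by rw [add_mul, mul_add, ha.1, hb.1], by rw [h20_dag_add, ha.2, hb.2]⟩
       zero_mem' := ⟨by rw [zero_mul, mul_zero], h20_dag_zero Q hnd⟩
       smul_mem' := fun c a ha =>
        ⟨by rw [smul_mul_assoc, mul_smul_comm, ha.1], by rw [h20_dag_smul, ha.2]⟩ },
     fun a => Iff.rfl⟩
  obtain ⟨L, hL⟩ : ∃ L : K →ₗ[F] F, ∀ a : K, L a = polar Q (a.1 w₀) w₀ :=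
    ⟨{ toFun := fun a => polar Q (a.1 w₀) w₀
       map_add' := fun a b => by
        show polar Q ((a.1 + b.1) w₀) w₀ = _
        rw [LinearMap.add_apply, polar_add_left]
       map_smul' := fun c a => by
        show polar Q ((c • a.1) w₀) w₀ = _
        rw [LinearMap.smul_apply, polar_smul_left]
        rfl },
     fun a => rfl⟩
  have hKmem : ∀ h : Λ, h ∈ η.ker → ψ h ∈ K := by
    intro h hh
    rw [MonoidHom.mem_ker, hηa, mul_inv_eq_one] at hh
    rw [hK]
    exact ⟨hψC h, by rw [hψD, ← hh]⟩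
  have hcount3 : Nat.card {h : Λ // h ∈ ν.range ∧ P h} = Nat.card {a : K // L a = 2} := by
    refine Nat.card_eq_of_bijective
      (fun h => ⟨⟨ψ h.1, hKmem h.1 (by rw [← hrk]; exact h.2.1)⟩,
        by rw [hL]; exact (hPa h.1).1 h.2.2⟩) ⟨?_, ?_⟩
    · intro h h' e
      have e' : ψ h.1 = ψ h'.1 := congrArg (fun a : {a : K // L a = 2} => a.1.1) e
      exact Subtype.ext (hψinj e')
    · rintro ⟨⟨a, haK⟩, haL⟩
      have haK' := (hK a).1 haK
      rw [hL] at haL
      have haL' : polar Q (a w₀) w₀ = 2 := haL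
      have ha0 : a ≠ 0 := by
        rintro rfl
        rw [LinearMap.zero_apply, polar_zero_left] at haL'
        exact h2 haL'.symm
      obtain ⟨h, hh⟩ := hψsurj a haK'.1 ha0
      have hhj : h ^ j = h := hψinj (by rw [← hψD, hh, haK'.2])
      have hker : h ∈ η.ker := by rw [MonoidHom.mem_ker, hηa, hhj, mul_inv_cancel]
      refine ⟨⟨h, by rw [hrk]; exact hker, (hPa h).2 (by rw [hh]; exact haL')⟩, ?_⟩
      exact Subtype.ext (Subtype.ext hh)
  -- a vector with `Q ≠ 0`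
  have hQne : ∃ w : W, Q w ≠ 0 := by
    by_contra h
    rw [not_exists] at h
    have h' : ∀ w, Q w = 0 := fun w => not_not.1 (h w)
    exact hw₀ (hnd w₀ fun u => by simp only [polar, h', sub_zero])
  obtain ⟨w₂, hw₂⟩ := hQne
  have hw₂0 : w₂ ≠ 0 := by
    rintro rfl
    exact hw₂ (map_zero Q)
  obtain ⟨g₂, hg₂⟩ := hΘsurj w₂ hw₂0
  have hνK : ψ (ν g₂) ∈ K := hKmem _ (by rw [← hrk]; exact ⟨g₂, rfl⟩)
  obtain ⟨a₁, ha₁⟩ : ∃ a₁ : K, L a₁ = 2 := by
    refine ⟨(Q w₂)⁻¹ • ⟨ψ (ν g₂), hνK⟩, ?_⟩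
    rw [map_smul, hL]
    show (Q w₂)⁻¹ • polar Q (ψ (ν g₂) w₀) w₀ = 2
    rw [hkey2, hg₂, smul_eq_mul, mul_comm 2 (Q w₂), ← mul_assoc, inv_mul_cancel₀ hw₂, one_mul]
  have hcount4 : Nat.card {a : K // L a = 2} = Nat.card (LinearMap.ker L) := by
    refine Nat.card_congr (Equiv.subtypeEquiv (Equiv.subRight a₁) fun a => ?_)
    rw [LinearMap.mem_ker]
    show L a = 2 ↔ L (a - a₁) = 0
    rw [map_sub, ha₁, sub_eq_zero]
  have hoddF : Odd (Nat.card F) := by
    haveI := Fintype.ofFinite F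
    rw [Nat.card_eq_fintype_card, Nat.odd_iff]
    apply FiniteField.odd_card_of_char_ne_two
    intro hc
    apply h2
    have h := ringChar.Nat.cast_ringChar (R := F)
    rw [hc] at h
    exact_mod_cast h
  have hoddk : Odd (Nat.card (LinearMap.ker L)) := by
    rw [Module.natCard_eq_pow_finrank (K := F) (V := LinearMap.ker L)]
    exact hoddF.pow
  refine ⟨(sΛ : W ≃ₗ[F] W), orderOf sΛ, Nat.card (LinearMap.ker L), hiso sΛ hsker, ?_,
    orderOf_pos sΛ, even_iff_two_dvd.2 h2N, hoddk, ?_, ?_, ?_⟩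
  · intro w
    have h := LinearMap.congr_fun (hψC sΛ) w
    change ψ sΛ (t w) = t (ψ sΛ w) at h
    rwa [hψa, hψa] at h
  · have h : sΛ ^ orderOf sΛ = 1 := pow_orderOf_eq_one sΛ
    exact congrArg Subtype.val h
  · intro w hw i hi
    have h : sΛ ^ i = 1 := hfree (sΛ ^ i) w hw hi
    exact orderOf_dvd_of_pow_eq_one h
  · rw [hcount1, hcount2, hcardker, hcount3, hcount4]

end main

end aux

section final

variable {F : Type*} [Field F] {V : Type*} [AddCommGroup V] [Module F V]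

/-- (B2) the nonsplit torus: `W` simple and nondegenerate, `t` an isometry with `t² ≠ 1`. -/
theorem simple_nondeg_block [Finite F] {W : Type*} [AddCommGroup W] [Module F W] [Finite W]
    (h2 : (2 : F) ≠ 0) (Q : QuadraticForm F W)
    (hnd : ∀ w, (∀ u, polar Q w u = 0) → w = 0) (t : W →ₗ[F] W) (ht : ∀ w, Q (t w) = Q w)
    (hne : ∃ w, t (t w) ≠ w)
    (lam : W ≃ₗ[F] W) (hl1 : ∀ w, lam (t w) = t (lam w)) (hl2 : orderOf lam = Nat.card W - 1)
    (hl3 : ∀ a : W →ₗ[F] W, (∀ w, a (t w) = t (a w)) → a ≠ 0 → ∃ j : ℕ, ∀ w, a w = (lam ^ j) w)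
    (hl4 : ∀ w : W, w ≠ 0 → ∀ j : ℕ, (lam ^ j) w = w → (Nat.card W - 1) ∣ j) :
    ∃ (s : W ≃ₗ[F] W) (N k : ℕ), (∀ w, Q (s w) = Q w) ∧ (∀ w, s (t w) = t (s w)) ∧
      0 < N ∧ Even N ∧ Odd k ∧ s ^ N = 1 ∧ (∀ w, w ≠ 0 → ∀ j : ℕ, (s ^ j) w = w → N ∣ j) ∧
      Nat.card {w : W // Q w = 1} = N * k :=
  h20_block_aux Q hnd t lam h2 ht hne hl1 hl2 hl3 hl4

end final

end Cfsg.Agent.Helper20.OSP
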