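import Cfsg.Agent.Lib.Helper48.Pet.Basic

/-!
# S1472 PET server (helper48), piece (CV) `conv` (backup copy by helper20)
-/

set_option autoImplicit false

namespace Cfsg.Agent.Helper20.Pet
open Cfsg.Agent.Helper48.Pet

variable {G : Type*} [Group G] {F : Type*} [Field F] {p q : ℕ}
variable (C : Cfg G F p q)

include C in
/-- inverse mod `p` (local version, proved from `C.hchar`) -/
theorem exists_inv_cast_aux (k : ℤ) (hk : (k : F) ≠ 0) : ∃ k' : ℤ, (k' : F) * (k : F) = 1 := by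
  haveI := C.hchar
  have h1 : ¬ (p : ℤ) ∣ k := fun h => hk ((CharP.intCast_eq_zero_iff F p k).mpr h)
  have hpp : Prime (p : ℤ) := Nat.prime_iff_prime_int.mp C.hp
  have h2 : IsCoprime (p : ℤ) k := (Prime.coprime_iff_not_dvd hpp).mpr h1
  obtain ⟨u, v, huv⟩ := h2
  refine ⟨v, ?_⟩
  have h3 := congrArg (Int.cast : ℤ → F) huv
  push_cast at h3
  rw [CharP.cast_eq_zero F p, mul_zero, zero_add] at h3
  exact h3

theorem conv [Finite G] (hTG : C.TGen) (hE : C.Engine) (hP : C.PstarP0) (h4 : C.FourTerm)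
    (hQ : C.Q1Facts) (hT : C.ThetaPow) : C.Conv := by
  intro a b hab k i hk
  obtain ⟨hQ1, hQ2, hQ3, hQ4, hQ5, hQ6⟩ := hQ
  set A : NN F p q := (C.θ ^ i) a with hA
  set c : F := ((i + 2 * k : ℤ) : F) - ((i + k : ℤ) : F) * val A with hc
  -- `c ≠ 0`
  have hc0 : c ≠ 0 := by
    intro h0
    by_cases hik : ((i + k : ℤ) : F) = 0
    · have h1 : c = (k : F) := by
        have h2 : ((i + 2 * k : ℤ) : F) = ((i + k : ℤ) : F) + (k : F) := by
          push_cast; ring
        rw [hc, h2, hik, zero_mul, sub_zero, zero_add]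
      exact hk (h1 ▸ h0)
    · obtain ⟨k', hk'⟩ := exists_inv_cast_aux C (i + k) hik
      have h1 : ((i + k : ℤ) : F) * val A = ((i + 2 * k : ℤ) : F) := by
        rw [hc] at h0
        exact (sub_eq_zero.mp h0).symm
      have hval : val A = ((k' * (i + 2 * k) : ℤ) : F) := by
        calc val A = (k' : F) * ((i + k : ℤ) : F) * val A := by rw [hk', one_mul]
          _ = (k' : F) * (((i + k : ℤ) : F) * val A) := by ring
          _ = (k' : F) * ((i + 2 * k : ℤ) : F) := by rw [h1]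
          _ = ((k' * (i + 2 * k) : ℤ) : F) := by push_cast; ring
      have hA1 : A = 1 := C.prime_inter _ A hval.symm
      have h2 : c = (k : F) := by
        rw [hc, hA1, val_one]
        push_cast
        ring
      exact hk (h2 ▸ h0)
  obtain ⟨g, δ, hgδ⟩ := C.dec c hc0
  have hg0 : (g : F) ≠ 0 := by
    intro h
    apply hc0
    rw [hgδ, h, zero_mul]
  -- the choice of `ν`
  set ν : NN F p q := (C.θ ^ i)⁻¹ δ⁻¹ with hν
  have hθν : (C.θ ^ i) ν = δ⁻¹ := by
    rw [hν]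
    exact MulAut.apply_inv_self _ _ _
  have hTGi := hTG a b ν hab k i
  -- the first `X`-argument on the right is `g`
  have hG1 : ((i + 2 * k : ℤ) : F) * val ((C.θ ^ i) ν) -
      ((i + k : ℤ) : F) * val ((C.θ ^ i) (ν * a)) = (g : F) := by
    rw [map_mul, hθν, val_mul, val_inv, ← hA]
    have hδ0 : val δ ≠ 0 := val_ne_zero δ
    have h1 : ((i + 2 * k : ℤ) : F) * (val δ)⁻¹ - ((i + k : ℤ) : F) * ((val δ)⁻¹ * val A) =
        (val δ)⁻¹ * c := by
      rw [hc]; ring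
    rw [h1, hgδ]
    field_simp
  rw [hG1] at hTGi
  set M : F := ((i + 2 * k : ℤ) : F) * val ((C.θ ^ (i + k)) (ν * b)) -
    (i : F) * val ((C.θ ^ (i + k)) (ν * a)) with hM
  set G2 : F := ((i + k : ℤ) : F) * val ((C.θ ^ (i + 2 * k)) (ν * b)) -
    (i : F) * val ((C.θ ^ (i + 2 * k)) ν) with hG2
  -- rearranged relation
  have h1 : C.X M * C.t ^ (-k) * (C.X G2)⁻¹ = C.t ^ k * C.s ^ g * C.t ^ (-(2 * k)) := by
    have h2 : C.X M = C.t ^ k * (C.X (g : F) * C.t ^ (-(2 * k)) * C.X G2) * C.t ^ k := by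
      rw [← hTGi]
      group
    rw [h2, C.s_zpow]
    group
  -- `ma ∈ Q1`
  set ma : G := C.t ^ k * C.s ^ g * C.t ^ (-(2 * k)) * C.s ^ (k - g) with hma
  have hmaQ : ma ∈ C.Q1 := by
    have h2 : ma = (C.t ^ k * C.s ^ (-k)) *
        (C.s ^ (k + g) * (C.t ^ (-(2 * k)) * C.s ^ (-(-(2 * k)))) * C.s ^ (-(k + g))) := by
      rw [hma]
      group
    rw [h2]
    exact mul_mem (hQ3 k) (hQ2 (k + g) _ (hQ3 (-(2 * k))))
  -- the NORM principle
  have hN0 : C.NormQ1 (C.X 0) := by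
    rw [C.X_zero]
    exact C.normQ1_one
  have heq : (ma * C.s ^ (g - k)) * C.X 0 * ((1 : G) * C.s ^ (0 : ℤ)) =
      C.X M * C.t ^ (-k) * C.X (-G2) := by
    rw [C.X_zero, C.X_neg, h1, hma]
    group
  obtain ⟨hNM, hsum⟩ := hE 0 M (-G2) ma 1 (g - k) 0 k hmaQ (one_mem _) hk hN0 heq
  obtain ⟨j, hj⟩ := hP M hNM
  have hG2j : -G2 = ((g - j : ℤ) : F) := by
    have h2 : M + -G2 = (g : F) := by
      rw [hsum]
      push_cast
      ring
    rw [hj] at h2
    push_cast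
    linear_combination h2
  -- the relation inside `⟨s, t⟩`
  have h5 : C.s ^ j * C.t ^ (-k) * C.s ^ (g - j) = C.t ^ k * C.s ^ g * C.t ^ (-(2 * k)) := by
    rw [C.s_zpow j, C.s_zpow (g - j), ← hj, ← hG2j, C.X_neg]
    exact h1
  rcases h4 j k g hk h5 with h6 | h6
  · exact absurd h6 hg0
  · exact ⟨δ, by rw [← h6]; exact hgδ⟩

end Cfsg.Agent.Helper20.Pet
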