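import Mathlib
import Cfsg.Prelude.Def_LieRecognition

set_option autoImplicit false

namespace Cfsg.Agent.Helper20

variable {G Ω : Type*} [Group G] [MulAction G Ω] {a : Ω} {t : G} {Q : Subgroup G}

lemma r1_t_inv (hS : Cfsg.IsRankOneSetup G Ω a t Q) : t⁻¹ = t :=
  inv_eq_of_mul_eq_one_left hS.mul_self

lemma r1_tt_smul (hS : Cfsg.IsRankOneSetup G Ω a t Q) (w : Ω) : t • t • w = w := by
  rw [← mul_smul, hS.mul_self, one_smul]

lemma r1_D_conj (hS : Cfsg.IsRankOneSetup G Ω a t Q) {h : G}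
    (hh : h ∈ MulAction.stabilizer G a ⊓ MulAction.stabilizer G (t • a)) :
    t * h * t ∈ MulAction.stabilizer G a ⊓ MulAction.stabilizer G (t • a) := by
  obtain ⟨h1, h2⟩ := Subgroup.mem_inf.mp hh
  rw [MulAction.mem_stabilizer_iff] at h1 h2
  refine Subgroup.mem_inf.mpr ⟨?_, ?_⟩
  · rw [MulAction.mem_stabilizer_iff, mul_smul, mul_smul, h2, r1_tt_smul hS]
  · rw [MulAction.mem_stabilizer_iff, mul_smul, mul_smul, r1_tt_smul hS, h1]

lemma r1_Q_conj (hS : Cfsg.IsRankOneSetup G Ω a t Q) {d x : G}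
    (hd : d ∈ MulAction.stabilizer G a ⊓ MulAction.stabilizer G (t • a)) (hx : x ∈ Q) :
    d * x * d⁻¹ ∈ Q :=
  hS.conj_mem d (Subgroup.mem_inf.mp hd).1 x hx

lemma r1_Q_conj' (hS : Cfsg.IsRankOneSetup G Ω a t Q) {d x : G}
    (hd : d ∈ MulAction.stabilizer G a ⊓ MulAction.stabilizer G (t • a)) (hx : x ∈ Q) :
    d⁻¹ * x * d ∈ Q := by
  have := r1_Q_conj hS (Subgroup.inv_mem _ hd) hx
  rwa [inv_inv] at this

lemma r1_unique (hS : Cfsg.IsRankOneSetup G Ω a t Q) {g h f g' h' f' : G}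
    (hg : g ∈ Q) (hh : h ∈ MulAction.stabilizer G a ⊓ MulAction.stabilizer G (t • a)) (hf : f ∈ Q)
    (hg' : g' ∈ Q) (hh' : h' ∈ MulAction.stabilizer G a ⊓ MulAction.stabilizer G (t • a))
    (hf' : f' ∈ Q) (e : g * h * t * f = g' * h' * t * f') : g = g' ∧ h = h' ∧ f = f' := by
  have hti := r1_t_inv hS
  have hbot : ∀ x, x ∈ Q → x ∈ MulAction.stabilizer G (t • a) → x = 1 := by
    intro x h1 h2
    have : x ∈ Q ⊓ MulAction.stabilizer G (t • a) := Subgroup.mem_inf.mpr ⟨h1, h2⟩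
    rw [hS.inf_eq_bot, Subgroup.mem_bot] at this
    exact this
  have hb : (g' * h')⁻¹ * (g * h) ∈ MulAction.stabilizer G a := by
    apply Subgroup.mul_mem
    · apply Subgroup.inv_mem
      exact Subgroup.mul_mem _ (hS.le hg') (Subgroup.mem_inf.mp hh').1
    · exact Subgroup.mul_mem _ (hS.le hg) (Subgroup.mem_inf.mp hh).1
  have e1 : t * ((g' * h')⁻¹ * (g * h)) * t = f' * f⁻¹ := by
    have : (g' * h')⁻¹ * (g * h) * t = t * f' * f⁻¹ := by
      calc (g' * h')⁻¹ * (g * h) * t = (g' * h')⁻¹ * (g * h * t * f) * f⁻¹ := by group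
        _ = (g' * h')⁻¹ * (g' * h' * t * f') * f⁻¹ := by rw [e]
        _ = _ := by group
    calc t * ((g' * h')⁻¹ * (g * h)) * t = t * ((g' * h')⁻¹ * (g * h) * t) := by group
      _ = t * (t * f' * f⁻¹) := by rw [this]
      _ = (t * t) * f' * f⁻¹ := by group
      _ = _ := by rw [hS.mul_self, one_mul]
  have hff : f' * f⁻¹ = 1 := by
    apply hbot
    · exact Subgroup.mul_mem _ hf' (Subgroup.inv_mem _ hf)
    · rw [← e1, MulAction.mem_stabilizer_iff, mul_smul, mul_smul, r1_tt_smul hS,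
        MulAction.mem_stabilizer_iff.mp hb]
  have hf_eq : f = f' := by
    have := mul_eq_one_iff_eq_inv.mp hff
    rw [inv_inv] at this
    exact this.symm
  subst hf_eq
  have e2 : g * h = g' * h' := by
    have := mul_right_cancel e
    exact mul_right_cancel this
  have hgg : g'⁻¹ * g = 1 := by
    apply hbot
    · exact Subgroup.mul_mem _ (Subgroup.inv_mem _ hg') hg
    · have : g'⁻¹ * g = h' * h⁻¹ := by
        calc g'⁻¹ * g = g'⁻¹ * (g * h) * h⁻¹ := by group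
          _ = g'⁻¹ * (g' * h') * h⁻¹ := by rw [e2]
          _ = _ := by group
      rw [this]
      exact Subgroup.mul_mem _ (Subgroup.mem_inf.mp hh').2 (Subgroup.inv_mem _ (Subgroup.mem_inf.mp hh).2)
  have hg_eq : g = g' := by
    have := inv_mul_eq_one.mp hgg
    exact this.symm
  subst hg_eq
  exact ⟨rfl, mul_left_cancel e2, rfl⟩

end Cfsg.Agent.Helper20
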