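import Mathlib
import Cfsg.Agent.Lib.Helper20.HalfTrans
import Cfsg.Agent.Lib.Helper10.Nilp
import Cfsg.Agent.S0016
import Cfsg.Agent.S0519

set_option autoImplicit false
set_option linter.unusedSectionVars false
set_option linter.unusedSimpArgs false
set_option linter.unusedVariables false

namespace Cfsg.Agent.Helper20

open Cfsg.Agent.Helper98

/-- in a finite cyclic group two subgroups of the same prime order coincide -/
theorem subgroup_eq_of_card_of_isCyclic {B : Type*} [Group B] [Finite B] [IsCyclic B] {p : ℕ}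
    (hp : 0 < p) (H K : Subgroup B) (hH : Nat.card H = p) (hK : Nat.card K = p) : H = K := by
  classical
  cases nonempty_fintype B
  have hS := IsCyclic.card_pow_eq_one_le (α := B) hp
  have key : ∀ L : Subgroup B, Nat.card L = p → ∀ b, b ∈ L ↔ b ^ p = 1 := by
    intro L hL b
    have hsub : (Finset.univ.filter (fun x : B => x ∈ L)) ⊆
        Finset.univ.filter (fun x : B => x ^ p = 1) := by
      intro x hx
      simp only [Finset.mem_filter, Finset.mem_univ, true_and] at hx ⊢
      have := pow_card_eq_one' (G := L) (x := ⟨x, hx⟩)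
      rw [hL] at this
      simpa using congrArg Subtype.val this
    have hcard : (Finset.univ.filter (fun x : B => x ∈ L)).card = p := by
      rw [← hL, Nat.card_eq_fintype_card, Fintype.card_subtype]
    have heq := Finset.eq_of_subset_of_card_le hsub (by rw [hcard]; exact hS)
    constructor
    · intro hb
      have : b ∈ Finset.univ.filter (fun x : B => x ∈ L) := by simp [hb]
      rw [heq] at this
      simpa using this
    · intro hb
      have : b ∈ Finset.univ.filter (fun x : B => x ^ p = 1) := by simp [hb]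
      rw [← heq] at this
      simpa using this
  ext b
  rw [key H hH, key K hK]

section pgroup
variable {P : Type*} [Group P] [Finite P] {p : ℕ} [hp : Fact p.Prime]

theorem exists_orderOf_eq_of_ne_bot (hP : IsPGroup p P) (L : Subgroup P) (hL : L ≠ ⊥) :
    ∃ x ∈ L, orderOf x = p := by
  have hLp : IsPGroup p L := hP.to_subgroup L
  have hdvd : p ∣ Nat.card L := by
    rcases hLp.card_eq_or_dvd with h | h
    · exact absurd (Subgroup.card_eq_one.mp h) hL
    · exact h
  obtain ⟨x, hx⟩ := exists_prime_orderOf_dvd_card' p hdvd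
  refine ⟨x.1, x.2, ?_⟩
  rw [← hx]
  exact (Subgroup.orderOf_coe x)


theorem exists_orderOf_eq_not_mem (hP : IsPGroup p P) (hp2 : p ≠ 2) (hnc : ¬ IsCyclic P)
    (Z : Subgroup P) (hZ : Nat.card Z = p) : ∃ h : P, orderOf h = p ∧ h ∉ Z := by
  by_contra hcon
  push Not at hcon
  have key : ∀ H : Subgroup P, Nat.card H = p → H = Z := by
    intro H hH
    apply Subgroup.eq_of_le_of_card_ge
    · intro x hx
      by_cases hx1 : x = 1
      · rw [hx1]; exact Z.one_mem
      · apply hcon
        have h1 : orderOf x ∣ p := by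
          have := Subgroup.orderOf_dvd_natCard H hx
          rwa [hH] at this
        rcases (Nat.dvd_prime hp.out).mp h1 with h | h
        · exact absurd (orderOf_eq_one_iff.mp h) hx1
        · exact h
    · rw [hH, hZ]
  have huniq : ∀ H K : Subgroup P, Nat.card H = p → Nat.card K = p → H = K := by
    intro H K hH hK; rw [key H hH, key K hK]
  rcases Cfsg.Agent.S0016.result p hP huniq with h | ⟨h, -⟩
  · exact hnc h
  · exact hp2 h

theorem exists_abelian_noncyclic (hP : IsPGroup p P) (hp2 : p ≠ 2) (hnc : ¬ IsCyclic P) :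
    ∃ B : Subgroup P, IsMulCommutative B ∧ ¬ IsCyclic B := by
  haveI : Nontrivial P := Nontrivial.of_not_isCyclic hnc
  obtain ⟨z₀, hz₀c, hz₀⟩ := exists_orderOf_eq_of_ne_bot hP (Subgroup.center P)
    (ne_of_gt hP.bot_lt_center)
  obtain ⟨h₁, hh₁, hh₁Z⟩ := exists_orderOf_eq_not_mem hP hp2 hnc (Subgroup.zpowers z₀)
    (by rw [Nat.card_zpowers, hz₀])
  refine ⟨Subgroup.closure {z₀, h₁}, Subgroup.isMulCommutative_closure ?_, ?_⟩
  · intro x hx y hy
    simp only [Set.mem_insert_iff, Set.mem_singleton_iff] at hx hy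
    rcases hx with rfl | rfl <;> rcases hy with rfl | rfl
    · rfl
    · exact (Subgroup.mem_center_iff.mp hz₀c y).symm
    · exact (Subgroup.mem_center_iff.mp hz₀c x)
    · rfl
  · intro hcyc
    have hzB : Subgroup.zpowers z₀ ≤ Subgroup.closure {z₀, h₁} := by
      rw [Subgroup.zpowers_le]; exact Subgroup.subset_closure (by simp)
    have hhB : Subgroup.zpowers h₁ ≤ Subgroup.closure {z₀, h₁} := by
      rw [Subgroup.zpowers_le]; exact Subgroup.subset_closure (by simp)
    have e := subgroup_eq_of_card_of_isCyclic (B := ↥(Subgroup.closure {z₀, h₁})) hp.out.pos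
      ((Subgroup.zpowers z₀).subgroupOf (Subgroup.closure {z₀, h₁}))
      ((Subgroup.zpowers h₁).subgroupOf (Subgroup.closure {z₀, h₁}))
      (by rw [Nat.card_congr (Subgroup.subgroupOfEquivOfLe hzB).toEquiv, Nat.card_zpowers, hz₀])
      (by rw [Nat.card_congr (Subgroup.subgroupOfEquivOfLe hhB).toEquiv, Nat.card_zpowers, hh₁])
    apply hh₁Z
    have : (⟨h₁, hhB (Subgroup.mem_zpowers h₁)⟩ : ↥(Subgroup.closure {z₀, h₁})) ∈
        (Subgroup.zpowers h₁).subgroupOf (Subgroup.closure {z₀, h₁}) :=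
      Subgroup.mem_subgroupOf.mpr (Subgroup.mem_zpowers h₁)
    rw [← e] at this
    exact Subgroup.mem_subgroupOf.mp this

theorem exists_normal_abelian_noncyclic (hP : IsPGroup p P) (hp2 : p ≠ 2)
    (hnc : ¬ IsCyclic P) :
    ∃ A : Subgroup P, A.Normal ∧ IsMulCommutative A ∧ ¬ IsCyclic A := by
  by_contra hcon
  push Not at hcon
  exact hp2 (Cfsg.Agent.S0519.result p hP (fun A h1 h2 => hcon A h1 h2)
    (exists_abelian_noncyclic hP hp2 hnc)).1


theorem exists_rank_two_data (hP : IsPGroup p P) (hp2 : p ≠ 2) (hnc : ¬ IsCyclic P) :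
    ∃ z w : P, z ≠ 1 ∧ z ^ p = 1 ∧ (∀ h : P, Commute h z) ∧ w ^ p = 1 ∧
      (∀ i : ZMod p, uu p z w i ≠ 1) ∧
      ∀ h : P, ∃ m : ZMod p, h * w * h⁻¹ = w * zpw p z m := by
  have : NeZero p := ⟨hp.out.ne_zero⟩
  have : Nontrivial P := Nontrivial.of_not_isCyclic hnc
  have : Group.IsNilpotent P := hP.isNilpotent
  obtain ⟨A, hAn, hAc, hAnc⟩ := exists_normal_abelian_noncyclic hP hp2 hnc
  have hA0 : A ≠ ⊥ := by
    rintro rfl
    exact hAnc inferInstance
  obtain ⟨z, hzAC, hz⟩ := exists_orderOf_eq_of_ne_bot hP (A ⊓ Subgroup.center P)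
    (Helper10.normal_inf_center_ne_bot A hA0)
  have hzA : z ∈ A := hzAC.1
  have hzc : ∀ h : P, Commute h z := fun h => Subgroup.mem_center_iff.mp hzAC.2 h
  have hz1 : z ≠ 1 := by
    rintro rfl
    rw [orderOf_one] at hz
    exact hp.out.one_lt.ne hz
  have hzp : z ^ p = 1 := by rw [← hz]; exact pow_orderOf_eq_one z
  have hAp : IsPGroup p A := hP.to_subgroup A
  have hZA : Subgroup.zpowers z ≤ A := by rw [Subgroup.zpowers_le]; exact hzA
  obtain ⟨w₀', hw₀', hw₀Z⟩ := exists_orderOf_eq_not_mem hAp hp2 hAnc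
    ((Subgroup.zpowers z).subgroupOf A)
    (by rw [Nat.card_congr (Subgroup.subgroupOfEquivOfLe hZA).toEquiv, Nat.card_zpowers, hz])
  have hw₀p : (w₀' : P) ^ p = 1 := by
    have h1 : w₀' ^ p = 1 := by rw [← hw₀']; exact pow_orderOf_eq_one w₀'
    have := congrArg Subtype.val h1
    simpa using this
  have hw₀Z' : (w₀' : P) ∉ Subgroup.zpowers z := fun h => hw₀Z (Subgroup.mem_subgroupOf.mpr h)
  -- the subgroup of elements of order dividing p in A
  let W : Subgroup P :=
    { carrier := {a | a ∈ A ∧ a ^ p = 1}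
      mul_mem' := by
        rintro a b ⟨ha, hap⟩ ⟨hb, hbp⟩
        refine ⟨A.mul_mem ha hb, ?_⟩
        have hc : Commute a b := setLike_mul_comm ha hb
        rw [hc.mul_pow, hap, hbp, one_mul]
      one_mem' := ⟨A.one_mem, one_pow _⟩
      inv_mem' := by
        rintro a ⟨ha, hap⟩
        exact ⟨A.inv_mem ha, by rw [inv_pow, hap, inv_one]⟩ }
  have hWn : W.Normal := ⟨fun a ha g => ⟨hAn.conj_mem a ha.1 g, by
    rw [conj_pow, ha.2, mul_one, mul_inv_cancel]⟩⟩
  have hZn : (Subgroup.zpowers z).Normal := ⟨fun a ha g => by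
    have hc : Commute g a := by
      obtain ⟨k, rfl⟩ := ha
      exact (hzc g).zpow_right k
    rw [hc.eq, mul_inv_cancel_right]
    exact ha⟩
  have hQp : IsPGroup p (P ⧸ Subgroup.zpowers z) := hP.to_quotient _
  have : Group.IsNilpotent (P ⧸ Subgroup.zpowers z) := hQp.isNilpotent
  have hWbn : (W.map (QuotientGroup.mk' (Subgroup.zpowers z))).Normal :=
    hWn.map _ (QuotientGroup.mk'_surjective _)
  have hWb0 : W.map (QuotientGroup.mk' (Subgroup.zpowers z)) ≠ ⊥ := by
    intro h
    have h1 : QuotientGroup.mk' (Subgroup.zpowers z) (w₀' : P) ∈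
        W.map (QuotientGroup.mk' (Subgroup.zpowers z)) :=
      Subgroup.mem_map_of_mem _ ⟨w₀'.2, hw₀p⟩
    rw [h, Subgroup.mem_bot] at h1
    exact hw₀Z' ((QuotientGroup.eq_one_iff _).mp h1)
  have h2 := Helper10.normal_inf_center_ne_bot _ hWb0
  obtain ⟨x, hx1⟩ := (Subgroup.ne_bot_iff_exists_ne_one).mp h2
  obtain ⟨hxW, hxc⟩ := Subgroup.mem_inf.mp x.2
  obtain ⟨w, hwW, hwx⟩ := hxW
  have hwZ : w ∉ Subgroup.zpowers z := by
    intro h
    apply hx1
    apply Subtype.ext
    rw [← hwx]
    exact (QuotientGroup.eq_one_iff _).mpr h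
  refine ⟨z, w, hz1, hzp, hzc, hwW.2, ?_, ?_⟩
  · intro i hi
    apply hwZ
    unfold uu at hi
    have : w = (zpw p z i)⁻¹ := eq_inv_of_mul_eq_one_left hi
    rw [this]
    exact (Subgroup.zpowers z).inv_mem (zpw_mem_zpowers i)
  · intro h
    have h3 : QuotientGroup.mk' (Subgroup.zpowers z) w =
        QuotientGroup.mk' (Subgroup.zpowers z) (h * w * h⁻¹) := by
      rw [map_mul, map_mul, map_inv, hwx]
      have := Subgroup.mem_center_iff.mp hxc (QuotientGroup.mk' (Subgroup.zpowers z) h)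
      rw [this, mul_inv_cancel_right]
    have h4 : w⁻¹ * (h * w * h⁻¹) ∈ Subgroup.zpowers z := QuotientGroup.eq.mp h3
    obtain ⟨m, hm⟩ := exists_zpw_of_mem_zpowers hzp h4
    refine ⟨m, ?_⟩
    rw [← hm, mul_inv_cancel_left]

end pgroup

end Cfsg.Agent.Helper20
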