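import Mathlib
import Cfsg.Prelude.Def_CaseTheorems
import Cfsg.Agent.S3305
import Cfsg.Agent.Lib.Helper73.SL23Recog

/-!
# Auxiliary lemmas for S3304

* transfer of the hypothesis "distinct Sylow 2-subgroups meet in 2-rank at most one" to the quotient by
  a normal subgroup of odd order;
* a 2-group in which every elementary abelian subgroup has order at most two has a unique involution;
* finite computations in `Q₈`.
-/

set_option autoImplicit false

namespace Cfsg.Agent.Helper20.S3304A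

open Cfsg Cfsg.Agent.Helper73

/-- unfolding `PRankLE 2 1` for a subgroup given inside the ambient group -/
lemma card_le_of_pRankLE {X : Type*} [Group X] (W : Subgroup X) (h : PRankLE 2 1 ↥W)
    (A₀ : Subgroup X) (hA₀ : A₀ ≤ W) (hc : ∀ a ∈ A₀, ∀ b ∈ A₀, a * b = b * a)
    (h2 : ∀ a ∈ A₀, a ^ 2 = 1) : Nat.card A₀ ≤ 2 := by
  have h1 := h (A₀.subgroupOf W)
    ⟨⟨fun a b => Subtype.ext (Subtype.ext (hc _ (Subgroup.mem_subgroupOf.1 a.2) _
      (Subgroup.mem_subgroupOf.1 b.2)))⟩⟩
    (fun a ha => Subtype.ext (by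
      have := h2 _ (Subgroup.mem_subgroupOf.1 ha)
      simpa using this))
  rwa [Nat.card_congr (Subgroup.subgroupOfEquivOfLe hA₀).toEquiv, pow_one] at h1

/-- the hypothesis passes to the quotient by a normal subgroup of odd order -/
theorem prank_quot {G : Type*} [Group G] [Finite G] (N : Subgroup G) [N.Normal]
    (hN : (Nat.card N).Coprime 2)
    (hI : ∀ S T : Sylow 2 G, S ≠ T → PRankLE 2 1 ↥((S : Subgroup G) ⊓ (T : Subgroup G))) :
    ∀ S T : Sylow 2 (G ⧸ N), S ≠ T →
      PRankLE 2 1 ↥((S : Subgroup (G ⧸ N)) ⊓ (T : Subgroup (G ⧸ N))) := by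
  intro Sb Tb hne A hAc hA2
  have : Fact (Nat.Prime 2) := ⟨Nat.prime_two⟩
  obtain ⟨S, T, R, hS, hT, hR, hRmap⟩ := Cfsg.Agent.S3305.exists_lifts 2 N Sb Tb
  have hST : S ≠ T := by
    rintro rfl
    exact hne (Sylow.ext (by rw [← hS, ← hT]))
  -- `R` meets `N` trivially
  have hRN : ∀ x ∈ R, x ∈ N → x = 1 := by
    intro x hxR hxN
    obtain ⟨k, hk⟩ := (IsPGroup.iff_orderOf.1 S.2) ⟨x, (hR hxR).1⟩
    rw [Subgroup.orderOf_mk] at hk
    have h1 : orderOf x ∣ Nat.card N := by
      have := orderOf_dvd_natCard (⟨x, hxN⟩ : N)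
      rwa [Subgroup.orderOf_mk] at this
    have h2 : (orderOf x).Coprime (Nat.card N) := by
      rw [hk]; exact (Nat.Coprime.pow_left k hN.symm)
    have h3 : orderOf x = 1 := Nat.Coprime.eq_one_of_dvd h2 h1
    exact orderOf_eq_one_iff.1 h3
  have hinj : ∀ x ∈ R, ∀ y ∈ R, (QuotientGroup.mk' N x) = (QuotientGroup.mk' N y) → x = y := by
    intro x hx y hy hxy
    have h1 : x⁻¹ * y ∈ N := by
      rw [← QuotientGroup.eq]; exact hxy
    have h2 := hRN _ (R.mul_mem (R.inv_mem hx) hy) h1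
    exact inv_mul_eq_one.1 h2
  set Ab : Subgroup (G ⧸ N) := A.map (Subgroup.subtype _) with hAb
  set A' : Subgroup G := R ⊓ Ab.comap (QuotientGroup.mk' N) with hA'
  have hA'le : A' ≤ (S : Subgroup G) ⊓ T := inf_le_left.trans hR
  have hAbc : ∀ a ∈ Ab, ∀ b ∈ Ab, a * b = b * a := by
    rintro _ ⟨a, ha, rfl⟩ _ ⟨b, hb, rfl⟩
    have := hAc.is_comm.comm ⟨a, ha⟩ ⟨b, hb⟩
    have h1 : a * b = b * a := congrArg Subtype.val this
    rw [← map_mul, ← map_mul, h1]
  have hAb2 : ∀ a ∈ Ab, a ^ 2 = 1 := by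
    rintro _ ⟨a, ha, rfl⟩
    rw [← map_pow, hA2 a ha, map_one]
  have hc : ∀ a ∈ A', ∀ b ∈ A', a * b = b * a := by
    intro a ha b hb
    apply hinj _ (R.mul_mem ha.1 hb.1) _ (R.mul_mem hb.1 ha.1)
    rw [map_mul, map_mul]
    exact hAbc _ ha.2 _ hb.2
  have h2 : ∀ a ∈ A', a ^ 2 = 1 := by
    intro a ha
    apply hinj _ (R.pow_mem ha.1 2) _ R.one_mem
    rw [map_pow, map_one]
    exact hAb2 _ ha.2
  have hcard : Nat.card A ≤ Nat.card A' := by
    have hex : ∀ a : A, ∃ r : A', (QuotientGroup.mk' N (r : G)) = ((a.1).1 : G ⧸ N) := by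
      intro a
      have hmem : ((a.1).1 : G ⧸ N) ∈ R.map (QuotientGroup.mk' N) := by
        rw [hRmap]; exact (a.1).2
      obtain ⟨r, hr, hreq⟩ := hmem
      refine ⟨⟨r, hr, ?_⟩, hreq⟩
      show (QuotientGroup.mk' N) r ∈ Ab
      rw [hreq]
      exact ⟨a.1, a.2, rfl⟩
    choose f hf using hex
    have hfinj : Function.Injective f := by
      intro a b hab
      have h1 := hf a
      rw [hab, hf b] at h1
      exact Subtype.ext (Subtype.ext h1.symm)
    exact Nat.card_le_card_of_injective f hfinj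
  calc Nat.card A ≤ Nat.card A' := hcard
    _ ≤ 2 := card_le_of_pRankLE _ (hI S T hST) A' hA'le hc h2
    _ = 2 ^ 1 := by norm_num

/-- the four-group generated by two commuting involutions -/
def fourSub {G : Type*} [Group G] (a z : G) (ha : a * a = 1) (hz : z * z = 1)
    (hc : z * a = a * z) : Subgroup G where
  carrier := {x | x = 1 ∨ x = a ∨ x = z ∨ x = a * z}
  one_mem' := Or.inl rfl
  mul_mem' := by
    have haa : ∀ w, a * (a * w) = w := fun w => by rw [← mul_assoc, ha, one_mul]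
    have hzz : ∀ w, z * (z * w) = w := fun w => by rw [← mul_assoc, hz, one_mul]
    have hza : ∀ w, z * (a * w) = a * (z * w) := fun w => by rw [← mul_assoc, hc, mul_assoc]
    rintro x y (rfl | rfl | rfl | rfl) (rfl | rfl | rfl | rfl) <;>
      simp [mul_assoc, ha, hz, hc, haa, hza]
  inv_mem' := by
    have hai : a⁻¹ = a := inv_eq_of_mul_eq_one_left ha
    have hzi : z⁻¹ = z := inv_eq_of_mul_eq_one_left hz
    rintro x (rfl | rfl | rfl | rfl) <;> simp [hai, hzi, hc]


lemma mem_fourSub {G : Type*} [Group G] (a z : G) (ha : a * a = 1) (hz : z * z = 1)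
    (hc : z * a = a * z) (x : G) :
    x ∈ fourSub a z ha hz hc ↔ x = 1 ∨ x = a ∨ x = z ∨ x = a * z := Iff.rfl

/-- a nontrivial `2`-group whose elementary abelian subgroups have order at most `2` has a unique
involution -/
theorem unique_invol {X : Type*} [Group X] [Finite X] (Q : Subgroup X) (hQ2 : IsPGroup 2 Q)
    (hQ1 : Q ≠ ⊥)
    (hr : ∀ A : Subgroup X, A ≤ Q → (∀ a ∈ A, ∀ b ∈ A, a * b = b * a) → (∀ a ∈ A, a ^ 2 = 1) →
      Nat.card A ≤ 2) :
    ∀ x y : Q, orderOf x = 2 → orderOf y = 2 → x = y := by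
  classical
  have hf2 : Fact (Nat.Prime 2) := ⟨Nat.prime_two⟩
  have : Nontrivial Q := (Subgroup.nontrivial_iff_ne_bot Q).2 hQ1
  have : Nontrivial (Subgroup.center Q) := hQ2.center_nontrivial
  have hdvd : 2 ∣ Nat.card (Subgroup.center Q) := by
    obtain ⟨k, hk⟩ := IsPGroup.iff_card.1 (hQ2.to_subgroup (Subgroup.center Q))
    have h1 : 1 < Nat.card (Subgroup.center Q) := Finite.one_lt_card
    rw [hk] at h1 ⊢
    rcases Nat.eq_zero_or_pos k with rfl | hk0
    · simp at h1
    · exact dvd_pow_self 2 hk0.ne'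
  obtain ⟨z, hz⟩ := exists_prime_orderOf_dvd_card' 2 hdvd
  have hzQ : orderOf ((z : Q) : X) = 2 := by
    rw [Subgroup.orderOf_coe, Subgroup.orderOf_coe]; exact hz
  have key : ∀ x : Q, orderOf x = 2 → x = (z : Q) := by
    intro x hx
    by_contra hne
    have hxX : orderOf (x : X) = 2 := by rw [Subgroup.orderOf_coe]; exact hx
    have ha : (x : X) * (x : X) = 1 := by
      rw [← pow_two, ← hxX]; exact pow_orderOf_eq_one _
    have hzz : ((z : Q) : X) * ((z : Q) : X) = 1 := by
      rw [← pow_two, ← hzQ]; exact pow_orderOf_eq_one _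
    have hc : ((z : Q) : X) * (x : X) = (x : X) * ((z : Q) : X) := by
      have := Subgroup.mem_center_iff.1 z.2 x
      have h1 := congrArg Subtype.val this
      simpa using h1.symm
    have hle : fourSub (x : X) ((z : Q) : X) ha hzz hc ≤ Q := by
      intro w hw
      rcases hw with rfl | rfl | rfl | rfl
      · exact Q.one_mem
      · exact x.2
      · exact (z : Q).2
      · exact Q.mul_mem x.2 (z : Q).2
    have hcomm : ∀ u ∈ fourSub (x : X) ((z : Q) : X) ha hzz hc,
        ∀ v ∈ fourSub (x : X) ((z : Q) : X) ha hzz hc, u * v = v * u := by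
      have haa : ∀ w, (x : X) * ((x : X) * w) = w := fun w => by rw [← mul_assoc, ha, one_mul]
      have hza : ∀ w, ((z : Q) : X) * ((x : X) * w) = (x : X) * (((z : Q) : X) * w) :=
        fun w => by rw [← mul_assoc, hc, mul_assoc]
      rintro u (rfl | rfl | rfl | rfl) v (rfl | rfl | rfl | rfl) <;>
        simp [mul_assoc, ha, hzz, hc, haa, hza]
    have hsq : ∀ u ∈ fourSub (x : X) ((z : Q) : X) ha hzz hc, u ^ 2 = 1 := by
      have hza : ∀ w, ((z : Q) : X) * ((x : X) * w) = (x : X) * (((z : Q) : X) * w) :=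
        fun w => by rw [← mul_assoc, hc, mul_assoc]
      have haa : ∀ w, (x : X) * ((x : X) * w) = w := fun w => by rw [← mul_assoc, ha, one_mul]
      rintro u (rfl | rfl | rfl | rfl) <;> simp [pow_two, mul_assoc, ha, hzz, hc, haa, hza]
    have hcard := hr _ hle hcomm hsq
    have hx1 : (x : X) ≠ 1 := by
      intro h; rw [h, orderOf_one] at hxX; norm_num at hxX
    have hz1 : ((z : Q) : X) ≠ 1 := by
      intro h; rw [h, orderOf_one] at hzQ; norm_num at hzQ
    have hxz : (x : X) ≠ ((z : Q) : X) := fun h => hne (Subtype.ext h)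
    haveI : Fintype (fourSub (x : X) ((z : Q) : X) ha hzz hc) := Fintype.ofFinite _
    have h3 : ({⟨1, Or.inl rfl⟩, ⟨(x : X), Or.inr (Or.inl rfl)⟩,
        ⟨((z : Q) : X), Or.inr (Or.inr (Or.inl rfl))⟩} :
        Finset (fourSub (x : X) ((z : Q) : X) ha hzz hc)).card = 3 := by
      rw [Finset.card_eq_three]
      refine ⟨_, _, _, ?_, ?_, ?_, rfl⟩
      · intro h; exact hx1 (Subtype.mk.inj h).symm
      · intro h; exact hz1 (Subtype.mk.inj h).symm
      · intro h; exact hxz (Subtype.mk.inj h)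
    have h4 := Finset.card_le_univ ({⟨1, Or.inl rfl⟩, ⟨(x : X), Or.inr (Or.inl rfl)⟩,
        ⟨((z : Q) : X), Or.inr (Or.inr (Or.inl rfl))⟩} :
        Finset (fourSub (x : X) ((z : Q) : X) ha hzz hc))
    rw [h3, ← Nat.card_eq_fintype_card] at h4
    omega
  intro x y hx hy
  rw [key x hx, key y hy]

/-! ### computations in `Q₈` -/

lemma q8_center : ∀ c : QuaternionGroup 2, (∀ w : QuaternionGroup 2, w * c = c * w) →
    c = 1 ∨ c = QuaternionGroup.a 2 := by decide

lemma q8_a2_central : ∀ w : QuaternionGroup 2,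
    w * QuaternionGroup.a 2 = QuaternionGroup.a 2 * w := by decide

lemma q8_a2_ne_one : (QuaternionGroup.a 2 : QuaternionGroup 2) ≠ 1 := by decide

lemma q8_noncomm : (QuaternionGroup.a 1 : QuaternionGroup 2) * QuaternionGroup.xa 0 ≠
    QuaternionGroup.xa 0 * QuaternionGroup.a 1 := by decide

set_option maxRecDepth 100000 in
lemma q8_aut_order : ∀ u v : QuaternionGroup 2,
    (∀ x y, wmap u v (x * y) = wmap u v x * wmap u v y) →
    (∀ x y, wmap u v x = wmap u v y → x = y) →
    (∀ q, wmap u v (wmap u v q) = q) ∨ (∀ q, wmap u v (wmap u v (wmap u v q)) = q) ∨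
      (∀ q, wmap u v (wmap u v (wmap u v (wmap u v q))) = q) := by
  decide

end Cfsg.Agent.Helper20.S3304A
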