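import Mathlib
import Cfsg.Agent.S3215
import Cfsg.Agent.S2879
import Cfsg.Agent.S1012
import Cfsg.Agent.S4208
import Cfsg.Agent.Lib.Helper55.Cores
import Cfsg.Agent.Lib.Helper53.UniqueInvol4
import Cfsg.Agent.Lib.Helper73.QuatAction
import Cfsg.Agent.Lib.Helper20.GL23Recog
import Cfsg.Agent.Lib.Helper20.S3304A

/-!
# The core of S3304

A finite solvable group `X` with `O(X) = 1` in which distinct Sylow `2`-subgroups meet in `2`-rank at
most one is `2`-closed, or `GL₂(3)`, or the binary octahedral group.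
-/

set_option autoImplicit false

namespace Cfsg.Agent.Helper20.S3304B

open Cfsg Cfsg.Agent.Helper5 Cfsg.Agent.Helper73 Cfsg.Agent.Helper20.S3304A

/-- the only involution of `SL₂(3)` -/
lemma sl23_invol : ∀ s : SL23, s * s = 1 → s = 1 ∨ s = qf (QuaternionGroup.a 2) := by decide

section Q8

variable {X : Type*} [Group X] (Q : Subgroup X) [hQn : Q.Normal] (e : Q ≃* QuaternionGroup 2)

include e in
/-- some power `x², x³, x⁴` centralizes a normal quaternion subgroup -/
theorem pow_mem_centralizer (x : X) :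
    x ^ 2 ∈ Subgroup.centralizer (Q : Set X) ∨ x ^ 3 ∈ Subgroup.centralizer (Q : Set X) ∨
      x ^ 4 ∈ Subgroup.centralizer (Q : Set X) := by
  set c : MulAut Q := MulAut.conjNormal x with hc
  let α : QuaternionGroup 2 ≃* QuaternionGroup 2 := e.symm.trans (c.trans e)
  have hα : ∀ q, α q = e (c (e.symm q)) := fun q => rfl
  have hw : ∀ q, wmap (α (QuaternionGroup.a 1)) (α (QuaternionGroup.xa 0)) q = α q :=
    fun q => wmap_eq α.toMonoidHom q
  have hcent : ∀ k : ℕ, (∀ n : Q, (c ^ k) n = n) → x ^ k ∈ Subgroup.centralizer (Q : Set X) := by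
    intro k hk
    rw [Subgroup.mem_centralizer_iff]
    intro n hn
    have h1 := hk ⟨n, hn⟩
    rw [hc, ← map_pow] at h1
    have h2 := congrArg Subtype.val h1
    rw [MulAut.conjNormal_apply] at h2
    simp only at h2
    calc n * x ^ k = (x ^ k * n * (x ^ k)⁻¹) * x ^ k := by rw [h2]
      _ = x ^ k * n := by group
  rcases q8_aut_order (α (QuaternionGroup.a 1)) (α (QuaternionGroup.xa 0))
    (by intro a b; rw [hw, hw, hw]; exact map_mul α a b)
    (by intro a b h; rw [hw, hw] at h; exact α.injective h) with h | h | h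
  · left
    apply hcent
    intro n
    have h1 := h (e n)
    rw [hw, hw, hα, hα, MulEquiv.symm_apply_apply, MulEquiv.symm_apply_apply] at h1
    have h2 := e.injective h1
    simpa [pow_succ] using h2
  · right; left
    apply hcent
    intro n
    have h1 := h (e n)
    rw [hw, hw, hw, hα, hα, hα, MulEquiv.symm_apply_apply, MulEquiv.symm_apply_apply,
      MulEquiv.symm_apply_apply] at h1
    have h2 := e.injective h1
    simpa [pow_succ] using h2
  · right; right
    apply hcent
    intro n
    have h1 := h (e n)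
    rw [hw, hw, hw, hw, hα, hα, hα, hα, MulEquiv.symm_apply_apply, MulEquiv.symm_apply_apply,
      MulEquiv.symm_apply_apply, MulEquiv.symm_apply_apply] at h1
    have h2 := e.injective h1
    simpa [pow_succ] using h2

end Q8

section Cent

variable {X : Type*} [Group X] (Q : Subgroup X) [hQn : Q.Normal] (e : Q ≃* QuaternionGroup 2)

/-- the central involution -/
def z0 : X := ((e.symm (QuaternionGroup.a 2) : Q) : X)

omit hQn in
lemma z0_mem_cent : z0 Q e ∈ Subgroup.centralizer (Q : Set X) := by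
  rw [Subgroup.mem_centralizer_iff]
  intro n hn
  have h1 := q8_a2_central (e ⟨n, hn⟩)
  have h2 : (⟨n, hn⟩ : Q) * e.symm (QuaternionGroup.a 2) =
      e.symm (QuaternionGroup.a 2) * ⟨n, hn⟩ := by
    apply e.injective
    rw [map_mul, map_mul, e.apply_symm_apply]
    exact h1
  exact congrArg Subtype.val h2

omit hQn in
lemma z0_mem : z0 Q e ∈ Q := (e.symm (QuaternionGroup.a 2) : Q).2

omit hQn in
lemma z0_ne_one : z0 Q e ≠ 1 := by
  intro h
  have h1 : (e.symm (QuaternionGroup.a 2) : Q) = 1 := Subtype.ext h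
  have h2 := congrArg e h1
  rw [e.apply_symm_apply, map_one] at h2
  exact q8_a2_ne_one h2

omit hQn in
lemma z0_sq : z0 Q e * z0 Q e = 1 := by
  have h1 : (e.symm (QuaternionGroup.a 2) : Q) * e.symm (QuaternionGroup.a 2) = 1 := by
    apply e.injective
    rw [map_mul, e.apply_symm_apply, map_one]
    decide
  exact congrArg Subtype.val h1

variable (hCQ : Subgroup.centralizer (Q : Set X) ≤ Q)

omit hQn in
include hCQ in
lemma mem_cent_iff (x : X) :
    x ∈ Subgroup.centralizer (Q : Set X) ↔ x = 1 ∨ x = z0 Q e := by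
  constructor
  · intro hx
    have hxQ := hCQ hx
    have hcen : ∀ w : QuaternionGroup 2, w * e ⟨x, hxQ⟩ = e ⟨x, hxQ⟩ * w := by
      intro w
      have h2 := (Subgroup.mem_centralizer_iff.1 hx) (e.symm w : Q) (e.symm w).2
      have h3 : e.symm w * ⟨x, hxQ⟩ = ⟨x, hxQ⟩ * e.symm w := Subtype.ext h2
      have h4 := congrArg e h3
      rwa [map_mul, map_mul, e.apply_symm_apply] at h4
    rcases q8_center _ hcen with h5 | h5
    · left
      have h6 : (⟨x, hxQ⟩ : Q) = 1 := e.injective (by rw [h5, map_one])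
      exact congrArg Subtype.val h6
    · right
      have h6 : (⟨x, hxQ⟩ : Q) = e.symm (QuaternionGroup.a 2) := by
        rw [← h5, e.symm_apply_apply]
      exact congrArg Subtype.val h6
  · rintro (rfl | rfl)
    · exact Subgroup.one_mem _
    · exact z0_mem_cent Q e

include e hCQ in
lemma card_cent : Nat.card (Subgroup.centralizer (Q : Set X)) = 2 := by
  have hset : ((Subgroup.centralizer (Q : Set X) : Subgroup X) : Set X) = {1, z0 Q e} := by
    ext x
    simp only [SetLike.mem_coe, mem_cent_iff Q e hCQ, Set.mem_insert_iff, Set.mem_singleton_iff]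
  have h1 : Nat.card (Subgroup.centralizer (Q : Set X)) =
      ((Subgroup.centralizer (Q : Set X) : Subgroup X) : Set X).ncard := Nat.card_coe_set_eq _
  rw [h1, hset, Set.ncard_pair (z0_ne_one Q e).symm]

include e hCQ in
lemma center_eq : Subgroup.center X = Subgroup.centralizer (Q : Set X) := by
  apply le_antisymm (Subgroup.center_le_centralizer _)
  intro x hx
  rcases (mem_cent_iff Q e hCQ x).1 hx with rfl | rfl
  · exact Subgroup.one_mem _
  · rw [Subgroup.mem_center_iff]
    intro g
    have hconj : g * z0 Q e * g⁻¹ ∈ Subgroup.centralizer (Q : Set X) := by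
      rw [Subgroup.mem_centralizer_iff]
      intro n hn
      have hn' : g⁻¹ * n * g ∈ Q := by simpa using hQn.conj_mem n hn g⁻¹
      have h1 := (Subgroup.mem_centralizer_iff.1 (z0_mem_cent Q e)) _ hn'
      calc n * (g * z0 Q e * g⁻¹) = g * ((g⁻¹ * n * g) * z0 Q e) * g⁻¹ := by group
        _ = g * (z0 Q e * (g⁻¹ * n * g)) * g⁻¹ := by rw [h1]
        _ = g * z0 Q e * g⁻¹ * n := by group
    rcases (mem_cent_iff Q e hCQ _).1 hconj with h | h
    · exfalso
      apply z0_ne_one Q e
      have h2 : z0 Q e = g⁻¹ * (g * z0 Q e * g⁻¹) * g := by group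
      rw [h2, h]; group
    · calc g * z0 Q e = (g * z0 Q e * g⁻¹) * g := by group
        _ = z0 Q e * g := by rw [h]

include e hCQ in
lemma card_dvd [Finite X] : Nat.card X ∣ 48 := by
  classical
  have hf2 : Fact (Nat.Prime 2) := ⟨Nat.prime_two⟩
  have hcardQ : Nat.card Q = 8 := by
    rw [Nat.card_congr e.toEquiv, Nat.card_eq_fintype_card, QuaternionGroup.card]
  set ρ : X →* MulAut Q := MulAut.conjNormal with hρ
  have hρapp : ∀ (h : X) (q : Q), ((ρ h q : Q) : X) = h * q * h⁻¹ :=
    fun h q => MulAut.conjNormal_apply h q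
  have hker : ρ.ker = Subgroup.centralizer (Q : Set X) := by
    ext x
    rw [MonoidHom.mem_ker]
    constructor
    · intro h1
      rw [Subgroup.mem_centralizer_iff]
      intro q hq
      have h2 := hρapp x ⟨q, hq⟩
      rw [h1] at h2
      simp only [MulAut.one_apply] at h2
      calc q * x = (x * q * x⁻¹) * x := by rw [← h2]
        _ = x * q := by group
    · intro hx
      ext q
      rw [hρapp, MulAut.one_apply]
      have := (Subgroup.mem_centralizer_iff.1 hx) q q.2
      rw [← this]; group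
  have hAut : Nat.card (MulAut Q) ∣ 24 := by
    have h := Cfsg.Agent.S4208.result (P := Q) (p := 2) (n := 3) (r := 2)
      (by rw [hcardQ]; norm_num) (by rw [Cfsg.Agent.S2879.frattini_index_quat e]; norm_num)
    have h24 : 2 ^ (2 * (3 - 2)) * ∏ i ∈ Finset.range 2, (2 ^ 2 - 2 ^ i) = 24 := by
      rw [Finset.prod_range_succ, Finset.prod_range_one]; norm_num
    rwa [h24] at h
  have h1 : Nat.card X = Nat.card ρ.ker * ρ.ker.index := (Subgroup.card_mul_index _).symm
  rw [Subgroup.index_ker, hker, card_cent Q e hCQ] at h1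
  rw [h1]
  exact Nat.mul_dvd_mul_left 2 ((Subgroup.card_subgroup_dvd_card _).trans hAut)

end Cent

/-- The core theorem. -/
theorem core {X : Type*} [Group X] [Finite X] (hs : Group.IsSolvable X) (hO : Cfsg.oddCore X = ⊥)
    (hI : ∀ S T : Sylow 2 X, S ≠ T →
      Cfsg.PRankLE 2 1 ↥((S : Subgroup X) ⊓ (T : Subgroup X))) :
    (∃ P : Sylow 2 X, (P : Subgroup X).Normal) ∨
    Nonempty (X ≃* GL (Fin 2) (ZMod 3)) ∨
    (Nat.card X = 48 ∧ Nat.card ↥(Subgroup.center X) = 2 ∧
      Nonempty (X ⧸ Subgroup.center X ≃* Equiv.Perm (Fin 4)) ∧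
      ∀ P : Sylow 2 X, Nonempty (↥(P : Subgroup X) ≃* QuaternionGroup 4)) := by
  classical
  have hf2 : Fact (Nat.Prime 2) := ⟨Nat.prime_two⟩
  by_cases hn : ∃ P : Sylow 2 X, (P : Subgroup X).Normal
  · exact Or.inl hn
  right
  set Q : Subgroup X := Cfsg.pCore 2 X with hQdef
  have hQn : Q.Normal := inferInstance
  have hQ2 : IsPGroup 2 Q := Cfsg.Agent.Helper55.isPGroup_pCore
  have hCQ : Subgroup.centralizer (Q : Set X) ≤ Q :=
    Cfsg.Agent.S3215.centralizer_pCore_le hs hO
  -- `X` is not a `2`-group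
  have hX2 : ¬ IsPGroup 2 X := by
    intro h
    apply hn
    obtain ⟨P⟩ : Nonempty (Sylow 2 X) := inferInstance
    have htop : (⊤ : Subgroup X) = P :=
      P.is_maximal' (h.to_subgroup ⊤) le_top
    exact ⟨P, htop ▸ inferInstance⟩
  -- two distinct Sylow subgroups
  obtain ⟨P⟩ : Nonempty (Sylow 2 X) := inferInstance
  have hPn : ¬ (P : Subgroup X).Normal := fun h => hn ⟨P, h⟩
  obtain ⟨g, hg⟩ : ∃ g : X, g • P ≠ P := by
    by_contra hall
    push Not at hall
    apply hPn
    rw [← Subgroup.normalizer_eq_top_iff, eq_top_iff]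
    intro g _
    exact Sylow.smul_eq_iff_mem_normalizer.1 (hall g)
  have hrank := hI (g • P) P hg
  have hQle : Q ≤ ((g • P : Sylow 2 X) : Subgroup X) ⊓ P :=
    le_inf (Cfsg.Agent.Helper55.pCore_le_sylow _) (Cfsg.Agent.Helper55.pCore_le_sylow _)
  have hQ1 : Q ≠ ⊥ := by
    intro h0
    apply hX2
    have h1 : ∀ x : X, x = 1 := by
      intro x
      have hx : x ∈ Subgroup.centralizer (Q : Set X) := by
        rw [h0, Subgroup.mem_centralizer_iff]
        intro n hn'
        have : n = 1 := Subgroup.mem_bot.1 hn'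
        rw [this, one_mul, mul_one]
      have h2 := hCQ hx
      rw [h0] at h2
      exact Subgroup.mem_bot.1 h2
    intro x
    exact ⟨0, by rw [h1 x, one_pow]⟩
  have hinvQ : ∀ x y : Q, orderOf x = 2 → orderOf y = 2 → x = y :=
    unique_invol Q hQ2 hQ1 (fun A hA hc h2 =>
      card_le_of_pRankLE _ hrank A (hA.trans hQle) hc h2)
  -- an element of odd prime order
  obtain ⟨r, hr, hr2, hrdvd⟩ : ∃ r : ℕ, r.Prime ∧ r ≠ 2 ∧ r ∣ Nat.card X := by
    by_contra hcon
    push Not at hcon
    apply hX2
    have h1 : Nat.card X = 2 ^ (Nat.card X).primeFactorsList.length :=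
      Nat.eq_prime_pow_of_unique_prime_dvd Nat.card_pos.ne'
        (fun {d} hd hdvd => by_contra fun hne => hcon d hd hne hdvd)
    exact IsPGroup.of_card h1
  have hfr : Fact r.Prime := ⟨hr⟩
  obtain ⟨g3, hg3⟩ := exists_prime_orderOf_dvd_card' r hrdvd
  have hg3C : g3 ∉ Subgroup.centralizer (Q : Set X) := by
    intro h
    have hgQ := hCQ h
    obtain ⟨k, hk⟩ := (IsPGroup.iff_orderOf.1 hQ2) ⟨g3, hgQ⟩
    rw [Subgroup.orderOf_mk, hg3] at hk
    have h1 : r ∣ 2 ^ k := hk ▸ dvd_rfl
    exact hr2 ((Nat.prime_dvd_prime_iff_eq hr Nat.prime_two).1 (hr.dvd_of_dvd_pow h1))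
  obtain ⟨hr3, ⟨e⟩⟩ := odd_action_unique_invol Q hQ2 hinvQ g3
    (by rw [Subgroup.normalizer_eq_top]; exact Subgroup.mem_top _) r 1 hr hr2
    (by rw [pow_one, ← hg3]; exact pow_orderOf_eq_one g3) hg3C
  subst hr3
  have hcardQ : Nat.card Q = 8 := by
    rw [Nat.card_congr e.toEquiv, Nat.card_eq_fintype_card, QuaternionGroup.card]
  -- the order of `X`
  have hdvd48 := card_dvd Q e hCQ
  have h8 : 8 ∣ Nat.card X := hcardQ ▸ Subgroup.card_subgroup_dvd_card Q
  have h24 : 24 ∣ Nat.card X :=
    Nat.Coprime.mul_dvd_of_dvd_of_dvd (by norm_num : Nat.Coprime 8 3) h8 hrdvd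
  have hX48 : Nat.card X = 48 := by
    obtain ⟨k, hk⟩ := h24
    have hk2 : k ∣ 2 := by
      have : 24 * k ∣ 24 * 2 := by rw [← hk]; exact hdvd48
      exact Nat.dvd_of_mul_dvd_mul_left (by norm_num) this
    have hk12 : k = 1 ∨ k = 2 := by
      have := Nat.le_of_dvd (by norm_num) hk2
      have hk0 : k ≠ 0 := by rintro rfl; simp at hk2
      omega
    rcases hk12 with rfl | rfl
    · -- order 24: `Q` is a normal Sylow subgroup
      exfalso
      apply hPn
      have hQP : Q ≤ (P : Subgroup X) := Cfsg.Agent.Helper55.pCore_le_sylow P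
      obtain ⟨m, hm⟩ := IsPGroup.iff_card.1 P.2
      have hPdvd : Nat.card (P : Subgroup X) ∣ 24 := by
        have := Subgroup.card_subgroup_dvd_card (P : Subgroup X)
        rwa [hk] at this
      have hP8 : Nat.card (P : Subgroup X) ≤ 8 := by
        rw [hm] at hPdvd ⊢
        have hm3 : m ≤ 3 := by
          by_contra hlt
          push Not at hlt
          have h16 : 2 ^ 4 ∣ 2 ^ m := pow_dvd_pow 2 hlt
          have := h16.trans hPdvd
          norm_num at this
        calc 2 ^ m ≤ 2 ^ 3 := Nat.pow_le_pow_right (by norm_num) hm3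
          _ = 8 := by norm_num
      have hQP' : Q = (P : Subgroup X) := by
        apply Subgroup.eq_of_le_of_card_ge hQP
        rw [hcardQ]; exact hP8
      rw [← hQP']; exact hQn
    · rw [hk]
  -- the centre
  have hcen := center_eq Q e hCQ
  have hcencard : Nat.card ↥(Subgroup.center X) = 2 := by
    rw [hcen]; exact card_cent Q e hCQ
  -- `X / Z(X) ≅ S₄`
  have hS4 : Nonempty (X ⧸ Subgroup.center X ≃* Equiv.Perm (Fin 4)) := by
    apply Cfsg.Agent.S1012.result
    · have h1 := Subgroup.card_eq_card_quotient_mul_card_subgroup (Subgroup.center X)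
      rw [hX48, hcencard] at h1
      omega
    · intro y hy
      obtain ⟨x, rfl⟩ := QuotientGroup.mk_surjective y
      have hpow := pow_mem_centralizer Q e x
      rw [← hcen] at hpow
      have hk : ∀ k : ℕ, x ^ k ∈ Subgroup.center X →
          orderOf (x : X ⧸ Subgroup.center X) ∣ k := by
        intro k hk
        apply orderOf_dvd_of_pow_eq_one
        rw [← QuotientGroup.mk_pow]
        exact (QuotientGroup.eq_one_iff _).2 hk
      rcases hpow with h | h | h
      · have := hk 2 h; rw [hy] at this; norm_num at this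
      · have := hk 3 h; rw [hy] at this; norm_num at this
      · have := hk 4 h; rw [hy] at this; norm_num at this
  -- the subgroup `U = Q ⟨g3⟩ ≅ SL₂(3)`
  set U := Q ⊔ Subgroup.zpowers g3 with hU
  have hQU : Q ≤ U := le_sup_left
  have hgU : g3 ∈ U := (le_sup_right : Subgroup.zpowers g3 ≤ U) (Subgroup.mem_zpowers g3)
  set c : U := ⟨g3, hgU⟩ with hc
  have hc3 : c ^ 3 = 1 := Subtype.ext (by
    rw [hc]; simp only [Subgroup.coe_pow, Subgroup.coe_one]
    rw [← hg3]; exact pow_orderOf_eq_one g3)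
  have hNn : (Q.subgroupOf U).Normal := hQn.subgroupOf U
  have hcN : c ∉ Subgroup.centralizer ((Q.subgroupOf U : Subgroup U) : Set U) := by
    intro h
    apply hg3C
    rw [Subgroup.mem_centralizer_iff] at h ⊢
    intro q hq
    have h1 := h ⟨q, hQU hq⟩ (Subgroup.mem_subgroupOf.2 hq)
    exact congrArg Subtype.val h1
  have hsup : Q.subgroupOf U ⊔ Subgroup.zpowers c = ⊤ := by
    have h1 : (Subgroup.zpowers g3).subgroupOf U = Subgroup.zpowers c := by
      ext w
      rw [Subgroup.mem_subgroupOf, Subgroup.mem_zpowers_iff, Subgroup.mem_zpowers_iff]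
      constructor
      · rintro ⟨k, hk⟩
        exact ⟨k, Subtype.ext (by rw [← hk]; simp [hc])⟩
      · rintro ⟨k, hk⟩
        exact ⟨k, by rw [← hk]; simp [hc]⟩
    rw [← h1, ← Subgroup.subgroupOf_sup hQU le_sup_right]
    exact Subgroup.subgroupOf_self U
  obtain ⟨ε⟩ := sl23_recog' (Q.subgroupOf U) ((Subgroup.subgroupOfEquivOfLe hQU).trans e) c hc3
    hcN hsup
  have hUcard : Nat.card U = 24 := by rw [Nat.card_congr ε.toEquiv, card_SL23]
  have hUidx : U.index = 2 := by
    have h1 := U.card_mul_index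
    rw [hUcard, hX48] at h1
    omega
  have hUn : U.Normal := Subgroup.normal_of_index_eq_two hUidx
  have hCU : Subgroup.centralizer (U : Set X) ≤ U :=
    (Subgroup.centralizer_le hQU).trans (hCQ.trans hQU)
  -- involutions of `U` are central
  have hUinv : ∀ t : X, t ∈ U → t ^ 2 = 1 → t ∈ Subgroup.centralizer (Q : Set X) := by
    intro t htU ht2
    have hz0U : z0 Q e ∈ U := hQU (z0_mem Q e)
    have h1 : ε ⟨t, htU⟩ * ε ⟨t, htU⟩ = 1 := by
      rw [← map_mul]
      have : (⟨t, htU⟩ : U) * ⟨t, htU⟩ = 1 := Subtype.ext (by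
        simp only [Subgroup.coe_mul, Subgroup.coe_one]; rw [← pow_two]; exact ht2)
      rw [this, map_one]
    have h2 : ε ⟨z0 Q e, hz0U⟩ * ε ⟨z0 Q e, hz0U⟩ = 1 := by
      rw [← map_mul]
      have : (⟨z0 Q e, hz0U⟩ : U) * ⟨z0 Q e, hz0U⟩ = 1 := Subtype.ext (by
        simp only [Subgroup.coe_mul, Subgroup.coe_one]; exact z0_sq Q e)
      rw [this, map_one]
    have h3 : ε ⟨z0 Q e, hz0U⟩ = qf (QuaternionGroup.a 2) := by
      rcases sl23_invol _ h2 with h | h
      · exfalso
        apply z0_ne_one Q e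
        have h4 : (⟨z0 Q e, hz0U⟩ : U) = 1 := ε.injective (by rw [h, map_one])
        exact congrArg Subtype.val h4
      · exact h
    rcases sl23_invol _ h1 with h | h
    · have h4 : (⟨t, htU⟩ : U) = 1 := ε.injective (by rw [h, map_one])
      have h5 : t = 1 := congrArg Subtype.val h4
      rw [h5]; exact Subgroup.one_mem _
    · have h4 : (⟨t, htU⟩ : U) = ⟨z0 Q e, hz0U⟩ := ε.injective (by rw [h, h3])
      have h5 : t = z0 Q e := congrArg Subtype.val h4
      rw [h5]; exact z0_mem_cent Q e
  by_cases hinv : ∃ t : X, t ^ 2 = 1 ∧ t ∉ Subgroup.centralizer (Q : Set X)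
  · -- `GL₂(3)`
    left
    obtain ⟨t, ht2, htC⟩ := hinv
    have htU : t ∉ U := fun h => htC (hUinv t h ht2)
    exact Cfsg.Agent.Helper20.GL23R.gl23_recog hX48 U ε hCU t ht2 htU
  · -- binary octahedral
    right
    push Not at hinv
    refine ⟨hX48, hcencard, hS4, ?_⟩
    intro P'
    have hP'2 : IsPGroup 2 (P' : Subgroup X) := P'.2
    have hU' : ∀ x y : (P' : Subgroup X), orderOf x = 2 → orderOf y = 2 → x = y := by
      intro x y hx hy
      have key : ∀ w : (P' : Subgroup X), orderOf w = 2 → (w : X) = z0 Q e := by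
        intro w hw
        have hwX : orderOf (w : X) = 2 := by rw [Subgroup.orderOf_coe]; exact hw
        have h1 : (w : X) ^ 2 = 1 := by
          have h0 := pow_orderOf_eq_one (w : X)
          rwa [hwX] at h0
        rcases (mem_cent_iff Q e hCQ _).1 (hinv _ h1) with h | h
        · rw [h, orderOf_one] at hwX; norm_num at hwX
        · exact h
      exact Subtype.ext ((key x hx).trans (key y hy).symm)
    have hcardP : Nat.card (P' : Subgroup X) = 16 := by
      obtain ⟨m, hm⟩ := IsPGroup.iff_card.1 P'.2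
      have h1 := (P' : Subgroup X).card_mul_index
      rw [hX48, hm] at h1
      have hnd := P'.not_dvd_index
      have hm5 : m ≤ 5 := by
        by_contra hlt
        push Not at hlt
        have h64 : 2 ^ 6 ∣ 2 ^ m := pow_dvd_pow 2 hlt
        have h2 : 2 ^ 6 ∣ 48 := by rw [← h1]; exact h64.trans (dvd_mul_right _ _)
        norm_num at h2
      rw [hm]
      interval_cases m <;> norm_num at h1 ⊢ <;> omega
    rcases Cfsg.Agent.Helper53.isCyclic_or_quaternion_of_unique_invol hP'2 hU' with hcyc | ⟨n, hn1, ⟨e'⟩⟩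
    · exfalso
      -- `Q ≤ P'` is not commutative
      have hQP : Q ≤ (P' : Subgroup X) := Cfsg.Agent.Helper55.pCore_le_sylow P'
      have hcomm : ∀ a b : (P' : Subgroup X), a * b = b * a := by
        intro a b
        obtain ⟨gen, hgen⟩ := hcyc.exists_generator
        obtain ⟨i, rfl⟩ := Subgroup.mem_zpowers_iff.1 (hgen a)
        obtain ⟨j, rfl⟩ := Subgroup.mem_zpowers_iff.1 (hgen b)
        rw [← zpow_add, ← zpow_add, add_comm]
      apply q8_noncomm
      have h1 := hcomm ⟨(e.symm (QuaternionGroup.a 1) : Q), hQP (e.symm (QuaternionGroup.a 1)).2⟩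
        ⟨(e.symm (QuaternionGroup.xa 0) : Q), hQP (e.symm (QuaternionGroup.xa 0)).2⟩
      have h2 : (e.symm (QuaternionGroup.a 1) : Q) * e.symm (QuaternionGroup.xa 0) =
          e.symm (QuaternionGroup.xa 0) * e.symm (QuaternionGroup.a 1) := by
        have h0 := congrArg Subtype.val h1
        apply Subtype.ext
        simpa using h0
      have h3 := congrArg e h2
      rwa [map_mul, map_mul, e.apply_symm_apply, e.apply_symm_apply] at h3
    · have hcard' : Nat.card (P' : Subgroup X) = 4 * 2 ^ n := by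
        rw [Nat.card_congr e'.toEquiv, Nat.card_eq_fintype_card, QuaternionGroup.card]
      rw [hcardP] at hcard'
      have hn2 : n = 2 := by
        have h4 : 2 ^ n = 2 ^ 2 := by omega
        exact Nat.pow_right_injective (le_refl 2) h4
      subst hn2
      exact ⟨e'⟩

end Cfsg.Agent.Helper20.S3304B
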