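import Mathlib
import Cfsg.Agent.Lib.Helper52.FpfFourMain

set_option autoImplicit false

/-!
# S3793 (Shult–Gross), piece (KEY) of helper31's lemma server: general lemmas
-/

namespace Cfsg.Agent.Helper20.SG

open Subgroup

/-- `φ ^ k = 1` in `MulAut G` iff the `k`-th iterate of `φ` is the identity. -/
theorem mulAut_pow_eq_one_iff {G : Type*} [Group G] (φ : MulAut G) (k : ℕ) :
    φ ^ k = 1 ↔ (⇑φ)^[k] = id := by
  constructor
  · intro h
    funext x
    rw [← Cfsg.Agent.Helper52.mulAut_pow_apply, h]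
    rfl
  · intro h
    ext x
    rw [Cfsg.Agent.Helper52.mulAut_pow_apply, h]
    rfl

/-- A finite group with a fixed-point-free automorphism of `p`-power order has order prime to
`p`. -/
theorem not_dvd_card_of_fpf_ppow {G : Type*} [Group G] [Finite G] {p : ℕ} (hp : p.Prime)
    (σ : MulAut G) (m : ℕ) (hσ : σ ^ p ^ m = 1) (hfpf : ∀ g : G, σ g = g → g = 1) :
    ¬ p ∣ Nat.card G := by
  classical
  haveI : Fact p.Prime := ⟨hp⟩
  have hP : IsPGroup p (zpowers σ) := by
    obtain ⟨j, -, hj⟩ := (Nat.dvd_prime_pow hp).mp (orderOf_dvd_of_pow_eq_one hσ)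
    exact IsPGroup.of_card (n := j) (by rw [Nat.card_zpowers, hj])
  have h1 := hP.card_modEq_card_fixedPoints G
  have h2 : MulAction.fixedPoints (zpowers σ) G = {1} := by
    ext g
    simp only [MulAction.mem_fixedPoints, Set.mem_singleton_iff]
    constructor
    · intro h
      exact hfpf g (h ⟨σ, mem_zpowers σ⟩)
    · rintro rfl ⟨τ, hτ⟩
      exact map_one τ
  rw [h2] at h1
  intro hd
  have h3 : Nat.card G ≡ 0 [MOD p] := (Nat.modEq_zero_iff_dvd).mpr hd
  have h5 : Nat.card ({1} : Set G) = 1 := by simp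
  rw [h5] at h1
  have h4 : (1 : ℕ) ≡ 0 [MOD p] := h1.symm.trans h3
  have h6 := (Nat.modEq_zero_iff_dvd).mp h4
  exact hp.one_lt.ne' (Nat.dvd_one.mp h6)

/-- Coprime action: if `τ` has `p`-power order on the `p'`-group `H`, all `g⁻¹ τ(g)` lie in a
subgroup `N` and `τ` fixes `N` pointwise, then `τ = 1`. -/
theorem eq_one_of_fixes_of_comm_mem {H : Type*} [Group H] [Finite H] {p : ℕ} (hp : p.Prime)
    (hpH : ¬ p ∣ Nat.card H) (τ : MulAut H) (k : ℕ) (hτ : τ ^ p ^ k = 1) (N : Subgroup H)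
    (hN : ∀ g : H, g⁻¹ * τ g ∈ N) (hfix : ∀ x ∈ N, τ x = x) : τ = 1 := by
  ext g
  show τ g = g
  set c := g⁻¹ * τ g with hc
  have hcfix : τ c = c := hfix c (hN g)
  have hτg : τ g = g * c := by rw [hc]; group
  have hpow : ∀ j : ℕ, (τ ^ j) g = g * c ^ j := by
    intro j
    induction j with
    | zero => simp
    | succ j ih =>
      rw [pow_succ', MulAut.mul_apply, ih, map_mul, map_pow, hcfix, hτg, mul_assoc, ← pow_succ']
  have h1 := hpow (p ^ k)
  rw [hτ, MulAut.one_apply] at h1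
  have h2 : c ^ p ^ k = 1 := by
    have h := h1.symm
    rwa [mul_eq_left] at h
  have h3 : orderOf c ∣ p ^ k := orderOf_dvd_of_pow_eq_one h2
  have h4 : orderOf c ∣ Nat.card H := orderOf_dvd_natCard c
  have h5 : Nat.Coprime (p ^ k) (Nat.card H) :=
    Nat.Coprime.pow_left k ((Nat.Prime.coprime_iff_not_dvd hp).mpr hpH)
  have h6 : orderOf c = 1 := Nat.eq_one_of_dvd_coprimes h5 h3 h4
  rw [orderOf_eq_one_iff] at h6
  rw [hτg, h6, mul_one]

/-- A subgroup `F` containing a Sylow `q`-subgroup of `N` for every prime `q` contains `N`. -/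
theorem le_of_forall_sylow_le {H : Type*} [Group H] [Finite H] (N F : Subgroup H)
    (h : ∀ (q : ℕ) [Fact q.Prime], ∃ Q : Sylow q N, (Q : Subgroup N).map N.subtype ≤ F) :
    N ≤ F := by
  set M := N ⊓ F with hM
  have hdvd : Nat.card N ∣ Nat.card M := by
    rw [← Nat.factorization_prime_le_iff_dvd Nat.card_pos.ne' Nat.card_pos.ne']
    intro q hq
    haveI : Fact q.Prime := ⟨hq⟩
    obtain ⟨S, hS⟩ := h q
    have h1 : Nat.card ((S : Subgroup N).map N.subtype) = q ^ (Nat.card N).factorization q := by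
      rw [← Sylow.card_eq_multiplicity S]
      exact (Nat.card_congr
        (Subgroup.equivMapOfInjective _ N.subtype N.subtype_injective).toEquiv).symm
    have h2 : (S : Subgroup N).map N.subtype ≤ M := le_inf (Subgroup.map_subtype_le _) hS
    have h3 := Subgroup.card_dvd_of_le h2
    rw [h1] at h3
    exact (Nat.Prime.pow_dvd_iff_le_factorization hq Nat.card_pos.ne').mp h3
  have hMN : M = N :=
    Subgroup.eq_of_le_of_card_ge inf_le_left (Nat.le_of_dvd Nat.card_pos hdvd)
  rw [← hMN]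
  exact inf_le_right

/-- The Sylow `q`-subgroup of a nilpotent subgroup `N` consists of the `q`-elements of `N`. -/
theorem mem_map_sylow_iff_of_isNilpotent {H : Type*} [Group H] [Finite H] (N : Subgroup H)
    [hnil : Group.IsNilpotent N] (q : ℕ) [Fact q.Prime] (Q : Sylow q N) (x : H) :
    x ∈ (Q : Subgroup N).map N.subtype ↔ x ∈ N ∧ ∃ k : ℕ, x ^ q ^ k = 1 := by
  constructor
  · rintro ⟨y, hy, rfl⟩
    refine ⟨y.2, ?_⟩
    obtain ⟨k, hk⟩ := Q.isPGroup' ⟨y, hy⟩
    refine ⟨k, ?_⟩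
    have h1 := congrArg (fun z : (Q : Subgroup N) => ((z : N) : H)) hk
    simpa using h1
  · rintro ⟨hx, k, hk⟩
    have htfae : Group.IsNilpotent N ↔
        ∀ (p : ℕ) (_hp : Fact p.Prime) (P : Sylow p N), (↑P : Subgroup N).Normal :=
      (Group.isNilpotent_of_finite_tfae (G := N)).out 0 3
    have hQn : (Q : Subgroup N).Normal := htfae.mp hnil q inferInstance Q
    haveI := Sylow.unique_of_normal Q hQn
    have hz : IsPGroup q (zpowers (⟨x, hx⟩ : N)) := by
      rintro ⟨g, hg⟩
      obtain ⟨j, rfl⟩ := mem_zpowers_iff.mp hg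
      refine ⟨k, ?_⟩
      apply Subtype.ext
      apply Subtype.ext
      show (((⟨x, hx⟩ : N) ^ j) ^ q ^ k : N).1 = 1
      rw [← zpow_natCast, ← zpow_mul, mul_comm, zpow_mul, zpow_natCast]
      have : ((⟨x, hx⟩ : N) ^ q ^ k) = 1 := Subtype.ext (by simpa using hk)
      rw [this, one_zpow]
      rfl
    obtain ⟨Q', hQ'⟩ := hz.exists_le_sylow
    have hQQ' : Q' = Q := Subsingleton.elim _ _
    rw [hQQ'] at hQ'
    exact ⟨⟨x, hx⟩, hQ' (mem_zpowers _), rfl⟩

/-- An `r`-group `R` acting on a nontrivial finite `r`-group `V` by automorphisms fixes a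
nontrivial element. -/
theorem exists_fixed_ne_one {M V : Type*} [Group M] [Group V] [Finite V] [Nontrivial V] {r : ℕ}
    [Fact r.Prime] (hV : IsPGroup r V) (R : Subgroup M) (hR : IsPGroup r R) (f : M →* MulAut V) :
    ∃ v : V, v ≠ 1 ∧ ∀ m ∈ R, f m v = v := by
  letI : MulAction R V := MulAction.compHom V (f.comp R.subtype)
  have hsmul : ∀ (m : R) (v : V), m • v = f m v := fun m v => rfl
  have hdvd : r ∣ Nat.card V := by
    obtain ⟨k, hk⟩ := IsPGroup.iff_card.mp hV
    rcases Nat.eq_zero_or_pos k with h0 | h0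
    · exfalso
      rw [h0, pow_zero] at hk
      have := Finite.one_lt_card_iff_nontrivial.mpr (inferInstance : Nontrivial V)
      omega
    · rw [hk]
      exact dvd_pow_self r h0.ne'
  have h1 : (1 : V) ∈ MulAction.fixedPoints R V := by
    intro m
    rw [hsmul, map_one]
  obtain ⟨b, hb, hne⟩ := hR.exists_fixed_point_of_prime_dvd_card_of_fixed_point V hdvd h1
  refine ⟨b, hne.symm, fun m hm => ?_⟩
  have := hb ⟨m, hm⟩
  rwa [hsmul] at this

end Cfsg.Agent.Helper20.SG
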