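import Mathlib
import Cfsg.Agent.Lib.Helper52.FpfFourMain
import Cfsg.Agent.Lib.Helper20.SGKEYLemmas

set_option autoImplicit false

/-!
# S3793 (Shult–Gross), piece (KEY) of helper31's lemma server

The group-theoretic reduction: `G` solvable, `σ` fixed-point-free with `σ ^ p ^ (n+1) = 1`; then
there is a nilpotent `σ`-invariant normal subgroup `N` containing all `g⁻¹ σ^{p^n}(g)`.  The linear
statement `LinStmt` is a hypothesis.
-/

namespace Cfsg.Agent.Helper20.SG

open Subgroup
open Cfsg.Agent.Helper52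

universe u

/-- The linear statement (proved by helper31; used as a HYPOTHESIS by (KEY)). -/
def LinStmt (p : ℕ) : Prop :=
  ∀ (V : Type u) [Group V] [Finite V], (∀ a b : V, a * b = b * a) →
    ∀ (q r : ℕ), q.Prime → r.Prime → p ≠ q → q ≠ r → p ≠ r → (∀ v : V, v ^ r = 1) →
    ∀ (Q : Subgroup (MulAut V)), IsPGroup q Q → ∀ (x : MulAut V) (n : ℕ), x ^ p ^ (n + 1) = 1 →
    (∀ g ∈ Q, x * g * x⁻¹ ∈ Q) → (∀ v : V, x v = v → v = 1) →
    (∀ g ∈ Q, x * g * x⁻¹ = g → g = 1) → ∀ g ∈ Q, g * x ^ p ^ n = x ^ p ^ n * g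

theorem sg_key_aux {p : ℕ} (hp : p.Prime) (LIN : LinStmt.{u} p) :
    ∀ (m : ℕ) (G : Type u) [Group G] [Finite G], Nat.card G = m → IsSolvable G →
      ∀ (σ : MulAut G) (n : ℕ),
      σ ^ p ^ (n + 1) = 1 → (∀ g : G, σ g = g → g = 1) →
      ∃ N : Subgroup G, N.Normal ∧ (∀ g ∈ N, σ g ∈ N) ∧ Group.IsNilpotent N ∧
        ∀ g : G, g⁻¹ * (σ ^ p ^ n) g ∈ N := by
  intro m
  induction m using Nat.strong_induction_on with
  | _ m ih =>
  intro G _ _ hm hsol σ n hσ hfpf
  classical
  by_cases htriv : Subsingleton G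
  · refine ⟨⊥, inferInstance, ?_, inferInstance, ?_⟩
    · intro g hg
      rw [mem_bot] at hg ⊢
      rw [hg, map_one]
    · intro g
      rw [mem_bot]
      exact Subsingleton.elim _ _
  haveI hsol' : Group.IsSolvable G := hsol
  have hφ : MonoidHom.FixedPointFree ((σ : G ≃* G) : G →* G) := hfpf
  have hσit : ∀ k : ℕ, σ ^ k = 1 → (⇑(σ : G ≃* G))^[k] = id :=
    fun k hk => (mulAut_pow_eq_one_iff σ k).mp hk
  obtain ⟨V, hVn, hVs, hVne, hVmin⟩ := exists_min_invariant_normal (σ : G ≃* G) htriv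
  haveI := hVn
  have hab := commute_of_min_invariant_normal (σ : G ≃* G) V hVn hVs hVne hVmin
  obtain ⟨r, hr, hexp⟩ :=
    exists_prime_exponent_of_min_invariant_normal (σ : G ≃* G) V hVn hVs hVne hVmin
  haveI : Fact r.Prime := ⟨hr⟩
  have hmapV : V.map ((σ : G ≃* G) : G →* G) = V := map_eq_of_invariant σ V hVs
  -- `p` is prime to `|G|`, hence `p ≠ r`
  have hpG : ¬ p ∣ Nat.card G := not_dvd_card_of_fpf_ppow hp σ (n + 1) hσ hfpf
  have hpr : p ≠ r := by
    rintro rfl
    apply hpG
    obtain ⟨x0, hx0⟩ := (Subgroup.ne_bot_iff_exists_ne_one).mp hVne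
    have hx01 : (x0 : G) ≠ 1 := fun h => hx0 (Subtype.ext h)
    have h1 : orderOf (x0 : G) = p := orderOf_eq_prime (hexp x0 x0.2) hx01
    rw [← h1]
    exact orderOf_dvd_natCard (x0 : G)
  -- the centralizer of `V`
  let C : Subgroup G := centralizer (V : Set G)
  haveI hCn : C.Normal := inferInstance
  have hVC : V ≤ C := by
    intro v hv
    show v ∈ centralizer (V : Set G)
    rw [mem_centralizer_iff]
    intro w hw
    exact hab w hw v hv
  have hCne : C ≠ ⊥ := fun hcon => hVne (eq_bot_iff.mpr (hcon ▸ hVC))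
  have hCs : ∀ x ∈ C, σ x ∈ C := by
    intro x hx
    show σ x ∈ centralizer (V : Set G)
    rw [mem_centralizer_iff]
    intro w hw
    have hw' : w ∈ V.map ((σ : G ≃* G) : G →* G) := by rw [hmapV]; exact hw
    obtain ⟨w', hw'V, rfl⟩ := hw'
    show σ w' * σ x = σ x * σ w'
    rw [← map_mul, ← map_mul, (mem_centralizer_iff.mp hx) w' hw'V]
  -- the action of `G ⧸ C` on `V`
  have hker : ∀ x ∈ C, (MulAut.conjNormal x : MulAut V) = 1 := by
    intro x hx
    ext v
    rw [MulAut.conjNormal_apply, MulAut.one_apply]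
    have := (mem_centralizer_iff.mp hx) v v.2
    rw [← this, mul_inv_cancel_right]
  have hker' : C ≤ (MulAut.conjNormal : G →* MulAut V).ker :=
    fun x hx => MonoidHom.mem_ker.mpr (hker x hx)
  let act : G ⧸ C →* MulAut V := QuotientGroup.lift C MulAut.conjNormal hker'
  have hact : ∀ (g : G) (v : V), ((act (g : G ⧸ C) v : V) : G) = g * v * g⁻¹ := by
    intro g v
    show ((QuotientGroup.lift C MulAut.conjNormal hker' (g : G ⧸ C) v : V) : G) = g * v * g⁻¹
    rw [QuotientGroup.lift_mk, MulAut.conjNormal_apply]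
  have hmemC : ∀ g : G, (∀ v ∈ V, g * v * g⁻¹ = v) → g ∈ C := by
    intro g hg
    show g ∈ centralizer (V : Set G)
    rw [mem_centralizer_iff]
    intro v hv
    have h2 := hg v hv
    calc v * g = g * v * g⁻¹ * g := by rw [h2]
      _ = g * v := by group
  have act_inj : Function.Injective act := by
    rw [injective_iff_map_eq_one]
    intro x hx
    obtain ⟨g, rfl⟩ := QuotientGroup.mk_surjective x
    rw [QuotientGroup.eq_one_iff]
    apply hmemC
    intro v hv
    have h1 := hact g ⟨v, hv⟩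
    rw [hx, MulAut.one_apply] at h1
    exact h1.symm
  -- the induced automorphisms
  let σC : MulAut (G ⧸ C) := quotEquiv (σ : G ≃* G) C hCs
  let σV : MulAut (G ⧸ V) := quotEquiv (σ : G ≃* G) V hVs
  let x : MulAut V := restrictEquiv (σ : G ≃* G) V hVs
  have hσC : σC ^ p ^ (n + 1) = 1 :=
    (mulAut_pow_eq_one_iff σC _).mpr (quotEquiv_iterate_eq_id σ C hCs _ (hσit _ hσ))
  have hσV : σV ^ p ^ (n + 1) = 1 :=
    (mulAut_pow_eq_one_iff σV _).mpr (quotEquiv_iterate_eq_id σ V hVs _ (hσit _ hσ))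
  have hx : x ^ p ^ (n + 1) = 1 :=
    (mulAut_pow_eq_one_iff x _).mpr (restrictEquiv_iterate_eq_id σ V hVs _ (hσit _ hσ))
  have hσCfpf : ∀ y : G ⧸ C, σC y = y → y = 1 := quotEquiv_fpf σ hφ C hCs
  have hσVfpf : ∀ y : G ⧸ V, σV y = y → y = 1 := quotEquiv_fpf σ hφ V hVs
  have hxfpf : ∀ v : V, x v = v → v = 1 := restrictEquiv_fpf σ hφ V hVs
  have hσCpow : ∀ (k : ℕ) (g : G), (σC ^ k) (g : G ⧸ C) = (((σ ^ k) g : G) : G ⧸ C) := by
    intro k g
    rw [mulAut_pow_apply, mulAut_pow_apply]
    exact quotEquiv_iterate σ C hCs k g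
  have hσVpow : ∀ (k : ℕ) (g : G), (σV ^ k) (g : G ⧸ V) = (((σ ^ k) g : G) : G ⧸ V) := by
    intro k g
    rw [mulAut_pow_apply, mulAut_pow_apply]
    exact quotEquiv_iterate σ V hVs k g
  have compat : ∀ (y : G ⧸ C) (v : V), x (act y v) = act (σC y) (x v) := by
    intro y v
    obtain ⟨g, rfl⟩ := QuotientGroup.mk_surjective y
    apply Subtype.ext
    show ((restrictEquiv (σ : G ≃* G) V hVs (act (g : G ⧸ C) v) : V) : G) =
      ((act (quotEquiv (σ : G ≃* G) C hCs (g : G ⧸ C)) (restrictEquiv (σ : G ≃* G) V hVs v) : V) : G)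
    rw [restrictEquiv_apply, hact, quotEquiv_mk, hact, restrictEquiv_apply, map_mul, map_mul,
      map_inv]
  have hconj : ∀ y : G ⧸ C, x * act y = act (σC y) * x := by
    intro y
    ext v
    rw [MulAut.mul_apply, MulAut.mul_apply, compat]
  have hconjpow : ∀ (k : ℕ) (y : G ⧸ C), x ^ k * act y = act ((σC ^ k) y) * x ^ k := by
    intro k
    induction k with
    | zero => intro y; simp
    | succ k ih =>
      intro y
      rw [pow_succ', mul_assoc, ih, ← mul_assoc, hconj, mul_assoc, pow_succ' σC, MulAut.mul_apply]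
  have hV : IsPGroup r V := by
    intro v
    refine ⟨1, ?_⟩
    apply Subtype.ext
    rw [pow_one, Subgroup.coe_pow, hexp v v.2]
    rfl
  haveI : Nontrivial V := by
    rw [Subgroup.nontrivial_iff_ne_bot]
    exact hVne
  -- induction hypothesis for `G ⧸ C`
  have hMsol : Group.IsSolvable (G ⧸ C) :=
    Group.isSolvable_of_surjective (f := QuotientGroup.mk' C) (QuotientGroup.mk'_surjective C)
  have hMlt : Nat.card (G ⧸ C) < m := hm ▸ card_quotient_lt_of_ne_bot' C hCne
  obtain ⟨N2, hN2n, hN2s, hN2nil, hN2c⟩ := ih _ hMlt (G ⧸ C) rfl hMsol σC n hσC hσCfpf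
  -- induction hypothesis for `G ⧸ V`
  have hQsol : Group.IsSolvable (G ⧸ V) :=
    Group.isSolvable_of_surjective (f := QuotientGroup.mk' V) (QuotientGroup.mk'_surjective V)
  have hQlt : Nat.card (G ⧸ V) < m := hm ▸ card_quotient_lt_of_ne_bot' V hVne
  obtain ⟨N1, hN1n, hN1s, hN1nil, hN1c⟩ := ih _ hQlt (G ⧸ V) rfl hQsol σV n hσV hσVfpf
  -- minimality of `V` in terms of subgroups of `↥V`
  have hmin : ∀ W : Subgroup V, (∀ y : G ⧸ C, ∀ w ∈ W, act y w ∈ W) → (∀ w ∈ W, x w ∈ W) →
      W ≠ ⊥ → W = ⊤ := by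
    intro W hWM hWt hWne
    have hNn : (W.map V.subtype).Normal := by
      refine ⟨?_⟩
      rintro _ ⟨w, hw, rfl⟩ g
      refine ⟨act (g : G ⧸ C) w, hWM _ w hw, ?_⟩
      exact hact g w
    have hNs : ∀ z ∈ W.map V.subtype, σ z ∈ W.map V.subtype := by
      rintro _ ⟨w, hw, rfl⟩
      exact ⟨restrictEquiv (σ : G ≃* G) V hVs w, hWt w hw, rfl⟩
    have hNne : W.map V.subtype ≠ ⊥ := by
      intro hcon
      exact hWne ((Subgroup.map_eq_bot_iff_of_injective _ V.subtype_injective).mp hcon)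
    have hNV := hVmin _ hNn hNs hNne (map_subtype_le W)
    rw [eq_top_iff]
    intro v _
    have hv : (v : G) ∈ W.map V.subtype := by rw [hNV]; exact v.2
    obtain ⟨w, hw, hwv⟩ := hv
    have : w = v := Subtype.ext hwv
    rwa [← this]
  have hcommV : ∀ a b : V, a * b = b * a := fun a b => Subtype.ext (hab a a.2 b b.2)
  have hexpV : ∀ v : V, v ^ r = 1 := by
    intro v
    apply Subtype.ext
    rw [Subgroup.coe_pow, hexp v v.2]
    rfl
  -- (3) `σC ^ p ^ n = 1`
  have hpM : ¬ p ∣ Nat.card (G ⧸ C) := not_dvd_card_of_fpf_ppow hp σC (n + 1) hσC hσCfpf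
  have hτC : σC ^ p ^ n = 1 := by
    haveI := hN2nil
    have hτp : (σC ^ p ^ n) ^ p ^ 1 = 1 := by
      rw [pow_one, ← pow_mul, ← pow_succ]
      exact hσC
    apply eq_one_of_fixes_of_comm_mem hp hpM (σC ^ p ^ n) 1 hτp N2 hN2c
    let F : Subgroup (G ⧸ C) :=
      { carrier := {y | (σC ^ p ^ n) y = y}
        one_mem' := map_one _
        mul_mem' := by
          intro a b ha hb
          show (σC ^ p ^ n) (a * b) = a * b
          rw [map_mul, show (σC ^ p ^ n) a = a from ha, show (σC ^ p ^ n) b = b from hb]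
        inv_mem' := by
          intro a ha
          show (σC ^ p ^ n) a⁻¹ = a⁻¹
          rw [map_inv, show (σC ^ p ^ n) a = a from ha] }
    have hF : N2 ≤ F := by
      apply le_of_forall_sylow_le
      intro q hq
      obtain ⟨Q⟩ : Nonempty (Sylow q N2) := inferInstance
      refine ⟨Q, ?_⟩
      have hchar := mem_map_sylow_iff_of_isNilpotent N2 q Q
      set S := (Q : Subgroup N2).map N2.subtype with hS
      have hSσ : ∀ y ∈ S, σC y ∈ S := by
        intro y hy
        obtain ⟨hyN, k, hk⟩ := (hchar y).mp hy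
        exact (hchar _).mpr ⟨hN2s y hyN, k, by rw [← map_pow, hk, map_one]⟩
      have hSconj : ∀ (z : G ⧸ C), ∀ y ∈ S, z * y * z⁻¹ ∈ S := by
        intro z y hy
        obtain ⟨hyN, k, hk⟩ := (hchar y).mp hy
        exact (hchar _).mpr ⟨hN2n.conj_mem y hyN z, k, by
          rw [conj_pow, hk, mul_one, mul_inv_cancel]⟩
      have hSq : IsPGroup q S := Q.isPGroup'.map _
      have hSmap : S.map ((σC : G ⧸ C ≃* G ⧸ C) : G ⧸ C →* G ⧸ C) = S :=
        map_eq_of_invariant σC S hSσ
      by_cases hqp : q = p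
      · -- `S = ⊥`
        intro y hy
        obtain ⟨-, k, hk⟩ := (hchar y).mp hy
        have h3 : orderOf y ∣ q ^ k := orderOf_dvd_of_pow_eq_one hk
        have h4 : orderOf y ∣ Nat.card (G ⧸ C) := orderOf_dvd_natCard y
        have hqM : ¬ q ∣ Nat.card (G ⧸ C) := by rw [hqp]; exact hpM
        have h5 : Nat.Coprime (q ^ k) (Nat.card (G ⧸ C)) :=
          Nat.Coprime.pow_left k ((Nat.Prime.coprime_iff_not_dvd hq.out).mpr hqM)
        have h6 : orderOf y = 1 := Nat.eq_one_of_dvd_coprimes h5 h3 h4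
        rw [orderOf_eq_one_iff] at h6
        show (σC ^ p ^ n) y = y
        rw [h6, map_one]
      by_cases hqr : q = r
      · -- `S = ⊥` again
        have hSr : IsPGroup r S := hqr ▸ hSq
        let W : Subgroup V :=
          { carrier := {v | ∀ y ∈ S, act y v = v}
            one_mem' := fun y _ => map_one _
            mul_mem' := by
              intro a b ha hb y hy
              rw [map_mul, ha y hy, hb y hy]
            inv_mem' := by
              intro a ha y hy
              rw [map_inv, ha y hy] }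
        have hWM : ∀ z : G ⧸ C, ∀ w ∈ W, act z w ∈ W := by
          intro z w hw y hy
          have h1 : z⁻¹ * y * z⁻¹⁻¹ ∈ S := hSconj z⁻¹ y hy
          have h2 := hw _ h1
          have h3 : y * z = z * (z⁻¹ * y * z⁻¹⁻¹) := by group
          calc act y (act z w) = act (y * z) w := by rw [map_mul, MulAut.mul_apply]
            _ = act z (act (z⁻¹ * y * z⁻¹⁻¹) w) := by rw [h3, map_mul, MulAut.mul_apply]
            _ = act z w := by rw [h2]
        have hWt : ∀ w ∈ W, x w ∈ W := by
          intro w hw y hy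
          have hy' : y ∈ S.map ((σC : G ⧸ C ≃* G ⧸ C) : G ⧸ C →* G ⧸ C) := by rw [hSmap]; exact hy
          obtain ⟨y', hy'S, rfl⟩ := hy'
          show act (σC y') (x w) = x w
          rw [← compat, hw y' hy'S]
        have hWne : W ≠ ⊥ := by
          obtain ⟨v, hv1, hv⟩ := exists_fixed_ne_one hV S hSr act
          intro hcon
          apply hv1
          have : v ∈ W := hv
          rw [hcon, mem_bot] at this
          exact this
        have hWtop := hmin W hWM hWt hWne
        intro y hy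
        have h1 : act y = 1 := by
          ext v
          have hv : v ∈ W := by rw [hWtop]; exact mem_top v
          rw [hv y hy]
          rfl
        have h2 : y = 1 := act_inj (by rw [h1, map_one])
        show (σC ^ p ^ n) y = y
        rw [h2, map_one]
      · -- the linear statement
        have hxQ : ∀ g ∈ S.map act, x * g * x⁻¹ ∈ S.map act := by
          rintro _ ⟨y, hy, rfl⟩
          refine ⟨σC y, hSσ y hy, ?_⟩
          rw [hconj, mul_inv_cancel_right]
        have hxQfpf : ∀ g ∈ S.map act, x * g * x⁻¹ = g → g = 1 := by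
          rintro _ ⟨y, hy, rfl⟩ h
          rw [hconj, mul_inv_cancel_right] at h
          have h1 : σC y = y := act_inj h
          rw [hσCfpf y h1, map_one]
        have hLIN := LIN V hcommV q r hq.out hr (fun h => hqp h.symm) hqr hpr hexpV (S.map act)
          (hSq.map _) x n hx hxQ hxfpf hxQfpf
        intro y hy
        have h1 := hLIN (act y) ⟨y, hy, rfl⟩
        have h2 := hconjpow (p ^ n) y
        rw [← h1] at h2
        have h3 : act y = act ((σC ^ p ^ n) y) := mul_right_cancel h2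
        exact (act_inj h3).symm
    intro y hy
    exact hF hy
  -- (4) the subgroup `N`
  haveI := hN1n
  haveI := hN1nil
  let N : Subgroup G := N1.comap (QuotientGroup.mk' V) ⊓ C
  refine ⟨N, inferInstance, ?_, ?_, ?_⟩
  · intro g hg
    refine ⟨?_, hCs g hg.2⟩
    show ((σ g : G) : G ⧸ V) ∈ N1
    rw [← quotEquiv_mk (σ : G ≃* G) V hVs]
    exact hN1s _ hg.1
  · -- nilpotent
    have hmem : ∀ k : N, (QuotientGroup.mk' V) (k : G) ∈ N1 := fun k => k.2.1
    let f : N →* N1 := ((QuotientGroup.mk' V).comp N.subtype).codRestrict _ hmem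
    apply Subgroup.isNilpotent_of_ker_le_center f
    intro k hk
    rw [Subgroup.mem_center_iff]
    intro k'
    have h1 : ((k : G) : G ⧸ V) = 1 := by
      have := congrArg Subtype.val (MonoidHom.mem_ker.mp hk)
      exact this
    have h2 : (k : G) ∈ V := (QuotientGroup.eq_one_iff _).mp h1
    have h3 : (k' : G) ∈ centralizer (V : Set G) := k'.2.2
    apply Subtype.ext
    show (k' : G) * k = k * k'
    exact ((mem_centralizer_iff.mp h3) k h2).symm
  · intro g
    refine ⟨?_, ?_⟩
    · show ((g⁻¹ * (σ ^ p ^ n) g : G) : G ⧸ V) ∈ N1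
      rw [QuotientGroup.mk_mul, QuotientGroup.mk_inv, ← hσVpow]
      exact hN1c _
    · show g⁻¹ * (σ ^ p ^ n) g ∈ C
      rw [← QuotientGroup.eq_one_iff, QuotientGroup.mk_mul, QuotientGroup.mk_inv, ← hσCpow, hτC,
        MulAut.one_apply, inv_mul_cancel]

/-- (KEY) group-theoretic reduction. -/
theorem sg_key {p : ℕ} (hp : p.Prime) (LIN : LinStmt.{u} p) :
    ∀ (G : Type u) [Group G] [Finite G], IsSolvable G → ∀ (σ : MulAut G) (n : ℕ),
      σ ^ p ^ (n + 1) = 1 → (∀ g : G, σ g = g → g = 1) →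
      ∃ N : Subgroup G, N.Normal ∧ (∀ g ∈ N, σ g ∈ N) ∧ Group.IsNilpotent N ∧
        ∀ g : G, g⁻¹ * (σ ^ p ^ n) g ∈ N :=
  fun G _ _ hsol σ n hσ hfpf => sg_key_aux hp LIN (Nat.card G) G rfl hsol σ n hσ hfpf

end Cfsg.Agent.Helper20.SG
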