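import Mathlib

set_option autoImplicit false

/-!
# S3793 (Shult–Gross), piece (ORB) of helper31's lemma server

A permutation `σ` with `σ ^ P = 1`, fixing `a₀`, all of whose powers `σ ^ k`, `0 < k < P`, fix no
other point: `P ∣ |α| - 1`.
-/

namespace Cfsg.Agent.Helper20.SG

theorem sg_semiregular_dvd {α : Type*} [Finite α] (σ : Equiv.Perm α) (P : ℕ) (hP : 0 < P)
    (hσP : σ ^ P = 1) (a₀ : α) (h₀ : σ a₀ = a₀)
    (hfix : ∀ k, 0 < k → k < P → ∀ a, (σ ^ k) a = a → a = a₀) : P ∣ Nat.card α - 1 := by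
  classical
  have := Fintype.ofFinite α
  -- the permutation induced on the complement of `a₀`
  have hinv : ∀ x : α, σ x ≠ a₀ ↔ x ≠ a₀ := by
    intro x
    constructor
    · intro hx hxa
      apply hx
      rw [hxa, h₀]
    · intro hx hσx
      apply hx
      apply σ.injective
      rw [hσx, h₀]
  set τ : Equiv.Perm {x : α // x ≠ a₀} := σ.subtypePerm hinv with hτ
  have hτpow : ∀ (k : ℕ) (b : {x : α // x ≠ a₀}), (((τ ^ k) b : {x : α // x ≠ a₀}) : α) = (σ ^ k) b := by
    intro k b
    rw [hτ, Equiv.Perm.subtypePerm_pow, Equiv.Perm.subtypePerm_apply]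
  have hτP : τ ^ P = 1 := by
    ext b
    rw [hτpow, hσP]
    rfl
  have hcardβ : Nat.card {x : α // x ≠ a₀} = Nat.card α - 1 := by
    rw [Nat.card_eq_fintype_card, Nat.card_eq_fintype_card, Fintype.card_subtype_compl,
      Fintype.card_subtype_eq]
  rw [← hcardβ]
  by_cases hne : Nonempty {x : α // x ≠ a₀}
  swap
  · rw [not_nonempty_iff] at hne
    rw [Nat.card_of_isEmpty]
    exact dvd_zero P
  obtain ⟨b₀⟩ := hne
  -- the order of `τ` is `P`
  have hord : orderOf τ = P := by
    have h1 : orderOf τ ∣ P := orderOf_dvd_of_pow_eq_one hτP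
    have h2 : 0 < orderOf τ := orderOf_pos_iff.mpr (isOfFinOrder_of_finite τ)
    rcases Nat.lt_or_ge (orderOf τ) P with h3 | h3
    · exfalso
      have h4 : (σ ^ orderOf τ) b₀ = b₀ := by
        rw [← hτpow, pow_orderOf_eq_one]
        rfl
      exact b₀.2 (hfix _ h2 h3 _ h4)
    · exact le_antisymm (Nat.le_of_dvd hP h1) h3
  -- `zpowers τ` acts freely
  have hfree : ∀ b : {x : α // x ≠ a₀},
      MulAction.stabilizer (Subgroup.zpowers τ) b = ⊥ := by
    intro b
    rw [Subgroup.eq_bot_iff_forall]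
    rintro ⟨g, hg⟩ hgb
    apply Subtype.ext
    show g = 1
    rw [MulAction.mem_stabilizer_iff] at hgb
    have hgb' : g b = b := hgb
    obtain ⟨k, rfl⟩ := (Subgroup.mem_zpowers_iff).mp hg
    rw [← zpow_mod_orderOf, hord]
    have h1 : 0 ≤ k % (P : ℤ) := Int.emod_nonneg _ (by exact_mod_cast hP.ne')
    have h2 : k % (P : ℤ) < P := Int.emod_lt_of_pos _ (by exact_mod_cast hP)
    obtain ⟨m, hm⟩ := Int.eq_ofNat_of_zero_le h1
    rw [hm, zpow_natCast]
    rw [← zpow_mod_orderOf, hord, hm, zpow_natCast] at hgb'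
    have hmP : m < P := by
      rw [hm] at h2
      exact_mod_cast h2
    rcases Nat.eq_zero_or_pos m with h0 | h0
    · rw [h0, pow_zero]
    · exfalso
      have h4 : (σ ^ m) b = b := by
        rw [← hτpow, hgb']
      exact b.2 (hfix _ h0 hmP _ h4)
  have e := MulAction.selfEquivOrbitsQuotientProd hfree
  have hc : Nat.card {x : α // x ≠ a₀} =
      Nat.card (Quotient (MulAction.orbitRel (Subgroup.zpowers τ) {x : α // x ≠ a₀})) *
        Nat.card (Subgroup.zpowers τ) := by
    rw [Nat.card_congr e, Nat.card_prod]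
  rw [hc, Nat.card_zpowers, hord]
  exact dvd_mul_left _ _

end Cfsg.Agent.Helper20.SG
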