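import Mathlib
import Cfsg.Agent.Lib.Helper62.SUO0

/-!
# SUO (helper62 server, S2282): piece (M1) `MM_of_S`
-/

set_option autoImplicit false
set_option linter.unusedSectionVars false
set_option linter.unusedVariables false
set_option quotPrecheck false

namespace Cfsg.Agent.Helper20.SUO

open Matrix Cfsg Cfsg.Agent.Helper13 Cfsg.Agent.Helper87.PsuA Cfsg.Agent.Helper62.SUO

section M
variable {F : Type*} [Field F] [Fintype F] {q n : ℕ} (hF : Fintype.card F = q ^ 2)
  {Hs : Subgroup ↥(Cfsg.SU n F q)} {u l : ↥(Cfsg.SU n F q)} {e0 e1 p : Fin n → F} {c γ : F}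

local notation "V" => Fin n → F
local notation "G" => ↥(Cfsg.SU n F q)
local notation "H" => Cfsg.hermForm n F q

include hF

/-- (M1) if `eich e0 (a•e1) α ∈ Hs` then `(u E u⁻¹) * E⁻¹ = eich e0 (a • e0) 0 = eich e0 0 (a - a^q)`
(`eich_conj`, `eich_inv`, `eich_mul`, `hyp.ue0`, `hyp.ue1`; compare actions with `eich_act`, `G_ext`) -/
theorem MM_of_S (hyp : Hyp hF Hs u l e0 e1 p c γ) {a : F} (ha : a • e1 ∈ QQ hF Hs e0) :
    a - a ^ q ∈ MM hF Hs e0 := by
  obtain ⟨h1, α, hα, hE⟩ := ha
  have hee := hyp.e0e0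
  have he01 := hyp.e0e1
  have he10 : H e1 e0 = 0 := H_symm_zero hF he01
  -- conjugate by `u`
  have hconj := eich_conj hF hee h1 hα u
  rw [hyp.ue0, actv_smul, hyp.ue1] at hconj
  have hmem1 : eich hF e0 (a • (e1 + e0)) α ∈ Hs := by
    rw [← hconj]
    exact Hs.mul_mem (Hs.mul_mem hyp.hu hE) (Hs.inv_mem hyp.hu)
  -- side conditions for the conjugated element
  have h1' : H e0 (a • (e1 + e0)) = 0 := by
    rw [hermForm_smul_right, hermForm_add_right hF, he01, hee, add_zero, mul_zero]
  have hww : H (a • (e1 + e0)) (a • (e1 + e0)) = H (a • e1) (a • e1) := by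
    simp only [hermForm_smul_left, hermForm_smul_right, hermForm_add_left, hermForm_add_right hF,
      hee, he01, he10]
    ring
  have hα' : α + α ^ q + H (a • (e1 + e0)) (a • (e1 + e0)) = 0 := by rw [hww]; exact hα
  -- the inverse of `E`
  have hinv := eich_inv hF hee h1 hα
  have h2 : H e0 (-(a • e1)) = 0 := by rw [H_neg_right hF, h1, neg_zero]
  have h3 : α ^ q + (α ^ q) ^ q + H (-(a • e1)) (-(a • e1)) = 0 := by
    rw [frob_frob hF, H_neg_left hF, H_neg_right hF]
    linear_combination hα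
  have hmem2 : eich hF e0 (-(a • e1)) (α ^ q) ∈ Hs := by
    rw [← hinv]; exact Hs.inv_mem hE
  have hprod := eich_mul hF hee h1' hα' h2 h3
  have e1' : a • (e1 + e0) + -(a • e1) = 0 + a • e0 := by
    rw [smul_add]; abel
  have e2' : α + α ^ q - H (-(a • e1)) (a • (e1 + e0)) = 0 := by
    have : H (-(a • e1)) (a • (e1 + e0)) = -H (a • e1) (a • e1) := by
      simp only [H_neg_left hF, hermForm_smul_left, hermForm_smul_right, hermForm_add_right hF,
        he10]
      ring
    rw [this]
    linear_combination hα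
  rw [e1', e2'] at hprod
  have h00 : H e0 (0 : V) = 0 := H_zero_right hF e0
  have h000 : (0 : F) + (0 : F) ^ q + H (0 : V) (0 : V) = 0 := by
    rw [H_zero_left hF, frob_zero hF]; ring
  have hsm := eich_add_smul hF (c := a) hee h00 h000
  rw [hsm, zero_add] at hprod
  refine ⟨?_, ?_⟩
  · rw [frob_sub hF, frob_frob hF]; ring
  · rw [← hprod]
    exact Hs.mul_mem hmem1 hmem2

end M

end Cfsg.Agent.Helper20.SUO
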