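import Mathlib
import Cfsg.Agent.S1017
import Cfsg.Agent.Lib.Helper17.Sieve
import Cfsg.Agent.Lib.Helper17.SieveInter
import Cfsg.Agent.Lib.Helper17.SylowNormal
import Cfsg.Agent.Lib.Helper17.SylowLink

set_option autoImplicit false

/-! S0983 exercise order 5600 = 2^5 * 5^2 * 7: no nonabelian simple group of this order. -/

namespace Cfsg.Agent.Helper20.SV

open MulAction Nat Cfsg.Agent.Helper17

universe u

variable {G : Type u} [Group G] [Finite G]

/-- The number of Sylow `p`-subgroups of `G` inside a subgroup `H` containing one of them is `1` mod `p`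
(copy of `Helper85.O4320.card_sylow_le_mod` without its unused hypothesis). -/
theorem h20_card_sylow_le_mod (p : ℕ) [Fact p.Prime] (P : Sylow p G)
    (H : Subgroup G) (hPH : (P : Subgroup G) ≤ H) :
    Nat.card {Q : Sylow p G // (Q : Subgroup G) ≤ H} ≡ 1 [MOD p] := by
  classical
  let X : SubMulAction (P : Subgroup G) (Sylow p G) :=
    { carrier := {Q | (Q : Subgroup G) ≤ H}
      smul_mem' := by
        rintro ⟨g, hg⟩ Q hQ
        show ((⟨g, hg⟩ : (P : Subgroup G)) • Q : Sylow p G).1 ≤ H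
        intro x hx
        have hx' : x ∈ (g • Q : Sylow p G).1 := hx
        rw [Sylow.coe_subgroup_smul] at hx'
        obtain ⟨s, hs, rfl⟩ := (Subgroup.mem_smul_pointwise_iff_exists _ _ _).mp hx'
        have h1 : s ∈ H := hQ hs
        have hgH : g ∈ H := hPH hg
        have h3 : MulAut.conj g • s = g * s * g⁻¹ := rfl
        rw [h3]
        exact H.mul_mem (H.mul_mem hgH h1) (H.inv_mem hgH) }
  have hmod := P.2.card_modEq_card_fixedPoints ↥X
  have e1 : Nat.card ↥X = Nat.card {Q : Sylow p G // (Q : Subgroup G) ≤ H} := rfl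
  have hfix : ∀ x : ↥X, x ∈ fixedPoints (P : Subgroup G) ↥X ↔ x = ⟨P, hPH⟩ := by
    intro x
    constructor
    · intro hx
      have h1 : (x : Sylow p G) ∈ fixedPoints (P : Subgroup G) (Sylow p G) := by
        intro g
        have := hx g
        exact congrArg (fun t : ↥X => (t : Sylow p G)) this
      have h2 : (P : Subgroup G) ≤ (x : Sylow p G) := P.2.sylow_mem_fixedPoints_iff.mp h1
      have h3 : ((x : Sylow p G) : Subgroup G) = P := P.3 (x : Sylow p G).2 h2
      apply Subtype.ext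
      exact Sylow.ext h3
    · rintro rfl g
      apply Subtype.ext
      show g • P = P
      have : P ∈ fixedPoints (P : Subgroup G) (Sylow p G) :=
        P.2.sylow_mem_fixedPoints_iff.mpr le_rfl
      exact this g
  have e2 : Nat.card (fixedPoints (P : Subgroup G) ↥X) = 1 := by
    rw [Nat.card_eq_one_iff_unique]
    refine ⟨⟨?_⟩, ⟨⟨⟨P, hPH⟩, (hfix _).2 rfl⟩⟩⟩
    rintro ⟨a, ha⟩ ⟨b, hb⟩
    apply Subtype.ext
    exact ((hfix a).1 ha).trans ((hfix b).1 hb).symm
  rw [e1, e2] at hmod
  exact hmod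

/-- An element of prime order `r` normalizing `P`: `|P| ≡ |C_P(q)|` mod `r`. -/
theorem h20_card_modEq_card_inf_centralizer {r : ℕ} [hr : Fact r.Prime] (q : G) (hq : orderOf q = r)
    (P : Subgroup G) (hqN : q ∈ Subgroup.normalizer (P : Set G)) :
    Nat.card P ≡ Nat.card ↥(P ⊓ Subgroup.centralizer ({q} : Set G)) [MOD r] := by
  classical
  have hzN : Subgroup.zpowers q ≤ Subgroup.normalizer (P : Set G) := by
    rw [Subgroup.zpowers_le]; exact hqN
  let act : MulAction ↥(Subgroup.zpowers q) ↥P :=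
    { smul := fun z x => ⟨(z : G) * x * (z : G)⁻¹,
        (Subgroup.mem_normalizer_iff.mp (hzN z.2) x).mp x.2⟩
      one_smul := fun x => by
        apply Subtype.ext
        show ((1 : ↥(Subgroup.zpowers q)) : G) * x * ((1 : ↥(Subgroup.zpowers q)) : G)⁻¹ = x
        simp
      mul_smul := fun z w x => by
        apply Subtype.ext
        show ((z * w : ↥(Subgroup.zpowers q)) : G) * x * ((z * w : ↥(Subgroup.zpowers q)) : G)⁻¹ =
          (z : G) * ((w : G) * x * (w : G)⁻¹) * (z : G)⁻¹
        rw [Subgroup.coe_mul]; group }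
  have hsmul : ∀ (z : ↥(Subgroup.zpowers q)) (x : ↥P), ((z • x : ↥P) : G) = (z : G) * x * (z : G)⁻¹ :=
    fun z x => rfl
  have hP : IsPGroup r ↥(Subgroup.zpowers q) := by
    apply IsPGroup.of_card (n := 1); rw [Nat.card_zpowers, hq, pow_one]
  have hmod := hP.card_modEq_card_fixedPoints ↥P
  have e : Nat.card (fixedPoints ↥(Subgroup.zpowers q) ↥P) =
      Nat.card ↥(P ⊓ Subgroup.centralizer ({q} : Set G)) := by
    apply Nat.card_congr
    refine ⟨fun x => ⟨(x.1 : G), x.1.2, ?_⟩, fun y => ⟨⟨y.1, y.2.1⟩, ?_⟩, fun x => rfl, fun y => rfl⟩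
    · show (x.1 : G) ∈ Subgroup.centralizer ({q} : Set G)
      rw [Subgroup.mem_centralizer_iff]
      intro h hh
      rw [Set.mem_singleton_iff] at hh; subst hh
      have h1 := x.2 ⟨h, Subgroup.mem_zpowers h⟩
      have h2 : h * (x.1 : G) * h⁻¹ = (x.1 : G) := by
        have := congrArg Subtype.val h1
        rw [hsmul] at this
        exact this
      calc h * (x.1 : G) = h * (x.1 : G) * h⁻¹ * h := by group
        _ = (x.1 : G) * h := by rw [h2]
    · intro z
      apply Subtype.ext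
      rw [hsmul]
      show (z : G) * (y : G) * (z : G)⁻¹ = (y : G)
      have hc : Commute q (y : G) := (Subgroup.mem_centralizer_iff.mp y.2.2) q rfl
      obtain ⟨k, hk⟩ := Subgroup.mem_zpowers_iff.mp z.2
      have hc2 : Commute (z : G) (y : G) := by rw [← hk]; exact hc.zpow_left k
      rw [hc2.eq, mul_inv_cancel_right]
  rw [e] at hmod
  exact hmod

theorem h20_index_ge_5600 [IsSimpleGroup G] (hna : ¬ IsMulCommutative G) (hG : Nat.card G = 5600)
    (H : Subgroup G) (hH : H ≠ ⊤) : 10 ≤ H.index := by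
  have h := two_mul_card_dvd_factorial hna H hH
  rw [hG] at h
  by_contra hlt
  push Not at hlt
  have h9 : (H.index)! ∣ 9! := Nat.factorial_dvd_factorial (by omega)
  have h2 := h.trans h9
  revert h2
  decide

/-- `25 ∤ |N(Q)|` for a Sylow 7-subgroup `Q`. -/
theorem h20_5600_n7 [IsSimpleGroup G] (hna : ¬ IsMulCommutative G) (hG : Nat.card G = 5600)
    (Q : Sylow 7 G) : ¬ 25 ∣ Nat.card ↥(Subgroup.normalizer ((Q : Subgroup G) : Set G)) := by
  have : Fact (Nat.Prime 7) := ⟨by norm_num⟩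
  have hn7 : Nat.card G = 7 ^ 1 * 800 := by rw [hG]; norm_num
  obtain ⟨h7d, h7m⟩ := sylow_count (G := G) hn7 (by norm_num)
  have h7ne := sylow_count_ne_one (G := G) hn7 (by norm_num) (by norm_num) (by norm_num)
  have h7f := sylow_count_factorial hna h7ne
  rw [hG] at h7f
  have hN := card_normalizer_mul_sylow_count Q
  rw [hG] at hN
  obtain ⟨n, hn⟩ : ∃ n, Nat.card (Sylow 7 G) = n := ⟨_, rfl⟩
  rw [hn] at h7d h7m h7ne h7f hN
  have hle : n ≤ 800 := Nat.le_of_dvd (by norm_num) h7d
  have hcases : n = 8 ∨ n = 50 ∨ n = 400 := by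
    interval_cases n <;> omega
  rcases hcases with rfl | rfl | rfl
  · exact absurd h7f (by decide)
  · intro h25; omega
  · intro h25; omega

/-- `n_5 ≠ 16`. -/
theorem h20_5600_n5_16 [IsSimpleGroup G] (hna : ¬ IsMulCommutative G) (hG : Nat.card G = 5600) :
    Nat.card (Sylow 5 G) ≠ 16 := by
  intro h16
  have : Fact (Nat.Prime 5) := ⟨by norm_num⟩
  have : Fact (Nat.Prime 7) := ⟨by norm_num⟩
  have hn5 : Nat.card G = 5 ^ 2 * 224 := by rw [hG]; norm_num
  obtain ⟨P⟩ : Nonempty (Sylow 5 G) := inferInstance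
  have hcP : Nat.card (P : Subgroup G) = 5 ^ 2 := sylow_card_eq P hn5 (by norm_num)
  have hN := card_normalizer_mul_sylow_count P
  rw [hG, h16] at hN
  have hN350 : Nat.card ↥(Subgroup.normalizer ((P : Subgroup G) : Set G)) = 350 := by omega
  obtain ⟨q', hq'⟩ := exists_prime_orderOf_dvd_card'
    (G := ↥(Subgroup.normalizer ((P : Subgroup G) : Set G))) 7 (by rw [hN350]; norm_num)
  have hq : orderOf (q' : G) = 7 := by rw [Subgroup.orderOf_coe]; exact hq'
  have hmod := h20_card_modEq_card_inf_centralizer (q' : G) hq (P : Subgroup G) q'.2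
  have hdvd : Nat.card ↥((P : Subgroup G) ⊓ Subgroup.centralizer ({(q' : G)} : Set G)) ∣ 25 := by
    have := Subgroup.card_dvd_of_le
      (inf_le_left : (P : Subgroup G) ⊓ Subgroup.centralizer ({(q' : G)} : Set G) ≤ (P : Subgroup G))
    rw [hcP] at this
    exact this
  rw [hcP] at hmod
  have hc25 : Nat.card ↥((P : Subgroup G) ⊓ Subgroup.centralizer ({(q' : G)} : Set G)) = 25 := by
    obtain ⟨c, hc⟩ : ∃ c, Nat.card ↥((P : Subgroup G) ⊓ Subgroup.centralizer ({(q' : G)} : Set G)) = c :=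
      ⟨_, rfl⟩
    rw [hc] at hmod hdvd ⊢
    have hle : c ≤ 25 := Nat.le_of_dvd (by norm_num) hdvd
    unfold Nat.ModEq at hmod
    interval_cases c <;> omega
  have hPC : (P : Subgroup G) ≤ Subgroup.centralizer ({(q' : G)} : Set G) := by
    have heq : (P : Subgroup G) ⊓ Subgroup.centralizer ({(q' : G)} : Set G) = (P : Subgroup G) :=
      Subgroup.eq_of_le_of_card_ge inf_le_left (by rw [hc25, hcP]; norm_num)
    exact heq.ge.trans inf_le_right
  obtain ⟨Q, hqQ⟩ := exists_sylow_mem_of_orderOf (q' : G) hq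
  have hn7 : Nat.card G = 7 ^ 1 * 800 := by rw [hG]; norm_num
  have hcQ : Nat.card (Q : Subgroup G) = 7 := by
    have := sylow_card_eq Q hn7 (by norm_num); simpa using this
  have hq1 : (q' : G) ≠ 1 := by
    intro h1; rw [h1, orderOf_one] at hq; omega
  have hzQ := (zpowers_eq_of_card_prime (Q : Subgroup G) hcQ (q' : G) hqQ hq1).1
  have hqCP : (q' : G) ∈ Subgroup.centralizer ((P : Subgroup G) : Set G) :=
    (Cfsg.Agent.S1017.le_centralizer_singleton_iff _ _).1 hPC
  have hQCP : (Q : Subgroup G) ≤ Subgroup.centralizer ((P : Subgroup G) : Set G) := by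
    rw [← hzQ, Subgroup.zpowers_le]; exact hqCP
  have hPCQ : (P : Subgroup G) ≤ Subgroup.centralizer ((Q : Subgroup G) : Set G) :=
    Subgroup.le_centralizer_iff.mp hQCP
  have hPNQ : (P : Subgroup G) ≤ Subgroup.normalizer ((Q : Subgroup G) : Set G) :=
    hPCQ.trans (Subgroup.centralizer_le_normalizer _)
  have h25 := Subgroup.card_dvd_of_le hPNQ
  rw [hcP] at h25
  exact h20_5600_n7 hna hG Q h25

/-- `n_5 ≠ 56`. -/
theorem h20_5600_n5_56 [IsSimpleGroup G] (hna : ¬ IsMulCommutative G) (hG : Nat.card G = 5600) :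
    Nat.card (Sylow 5 G) ≠ 56 := by
  intro h56
  have : Fact (Nat.Prime 5) := ⟨by norm_num⟩
  have : Fact (Nat.Prime 2) := ⟨by norm_num⟩
  have hn5 : Nat.card G = 5 ^ 2 * 224 := by rw [hG]; norm_num
  have hn2 : Nat.card G = 2 ^ 5 * 175 := by rw [hG]; norm_num
  obtain ⟨P⟩ : Nonempty (Sylow 5 G) := inferInstance
  have hmod : ¬ Nat.card (Sylow 5 G) ≡ 1 [MOD 5 ^ 2] := by rw [h56]; decide
  obtain ⟨R, hPR, hidx⟩ := exists_sylow_large_inter 5 2 hmod P
  have hcP : Nat.card (P : Subgroup G) = 5 ^ 2 := sylow_card_eq P hn5 (by norm_num)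
  have hcR : Nat.card (R : Subgroup G) = 5 ^ 2 := sylow_card_eq R hn5 (by norm_num)
  change (R : Subgroup G).relIndex (P : Subgroup G) ≤ 5 ^ (2 - 1) at hidx
  have hd : (R : Subgroup G).relIndex (P : Subgroup G) ∣ 5 ^ 2 := by
    rw [← hcP]; exact Subgroup.relIndex_dvd_card _ _
  have hne : (R : Subgroup G).relIndex (P : Subgroup G) ≠ 1 := by
    intro h1
    rw [Subgroup.relIndex_eq_one] at h1
    apply hPR
    apply Sylow.ext
    exact Subgroup.eq_of_le_of_card_ge h1 (by rw [hcP, hcR])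
  have h5 : (R : Subgroup G).relIndex (P : Subgroup G) = 5 := by
    obtain ⟨c, hc⟩ : ∃ c, (R : Subgroup G).relIndex (P : Subgroup G) = c := ⟨_, rfl⟩
    rw [hc] at hd hne hidx ⊢
    norm_num at hd hidx
    interval_cases c <;> omega
  have h5' : (P : Subgroup G).relIndex (R : Subgroup G) = 5 := by
    rw [← sylow_relIndex_symm]; exact h5
  have hcD : Nat.card ↥((P : Subgroup G) ⊓ (R : Subgroup G)) = 5 := by
    have h1 := card_inf_mul_relIndex (P : Subgroup G) (R : Subgroup G)
    rw [h5', hcR] at h1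
    have h2 : (5 : ℕ) ^ 2 = 25 := by norm_num
    rw [h2] at h1
    omega
  have hPcomm : IsMulCommutative ↥(P : Subgroup G) :=
    IsPGroup.isMulCommutative_of_card_eq_prime_sq hcP
  have hRcomm : IsMulCommutative ↥(R : Subgroup G) :=
    IsPGroup.isMulCommutative_of_card_eq_prime_sq hcR
  have hPM : (P : Subgroup G) ≤
      Subgroup.centralizer ((((P : Subgroup G) ⊓ (R : Subgroup G) : Subgroup G)) : Set G) := by
    have h1 : (P : Subgroup G) ≤ Subgroup.centralizer ((P : Subgroup G) : Set G) :=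
      Subgroup.le_centralizer_iff_isMulCommutative.2 hPcomm
    exact h1.trans (Subgroup.centralizer_le (fun x hx => hx.1))
  have hRM : (R : Subgroup G) ≤
      Subgroup.centralizer ((((P : Subgroup G) ⊓ (R : Subgroup G) : Subgroup G)) : Set G) := by
    have h1 : (R : Subgroup G) ≤ Subgroup.centralizer ((R : Subgroup G) : Set G) :=
      Subgroup.le_centralizer_iff_isMulCommutative.2 hRcomm
    exact h1.trans (Subgroup.centralizer_le (fun x hx => hx.2))
  obtain ⟨M, hMdef⟩ : ∃ M : Subgroup G, M =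
      Subgroup.centralizer ((((P : Subgroup G) ⊓ (R : Subgroup G) : Subgroup G)) : Set G) := ⟨_, rfl⟩
  rw [← hMdef] at hPM hRM
  have hMtop : M ≠ ⊤ := by
    intro htop
    rw [hMdef] at htop
    have hDc := Subgroup.centralizer_eq_top_iff_subset.mp htop
    rcases (inferInstance : (Subgroup.center G).Normal).eq_bot_or_eq_top with hb | ht
    · have h1 : (P : Subgroup G) ⊓ (R : Subgroup G) ≤ ⊥ := by
        intro x hx; rw [← hb]; exact hDc hx
      have h2 : (P : Subgroup G) ⊓ (R : Subgroup G) = ⊥ := le_bot_iff.mp h1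
      rw [h2, Subgroup.card_bot] at hcD; omega
    · apply hna
      refine ⟨⟨fun a b => ?_⟩⟩
      have hb : b ∈ Subgroup.center G := by rw [ht]; trivial
      exact Subgroup.mem_center_iff.mp hb a
  have hidxM := h20_index_ge_5600 hna hG M hMtop
  have hMcard : Nat.card M * M.index = 5600 := by rw [M.card_mul_index, hG]
  have hcm := Cfsg.Agent.S1017.card_eq_card_mul M P hPM
  have hamod := h20_card_sylow_le_mod 5 P M hPM
  have ha1 : Nat.card {Q : Sylow 5 G // (Q : Subgroup G) ≤ M} ≠ 1 := by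
    intro h1
    have hss : Subsingleton {Q : Sylow 5 G // (Q : Subgroup G) ≤ M} :=
      (Nat.card_eq_one_iff_unique.mp h1).1
    have h2 := Subsingleton.elim (⟨P, hPM⟩ : {Q : Sylow 5 G // (Q : Subgroup G) ≤ M}) ⟨R, hRM⟩
    exact hPR (congrArg Subtype.val h2)
  have h25m : 25 ∣ Nat.card ↥(Subgroup.normalizer ((P : Subgroup G) : Set G) ⊓ M) := by
    have h1 : (P : Subgroup G) ≤ Subgroup.normalizer ((P : Subgroup G) : Set G) ⊓ M :=
      le_inf Subgroup.le_normalizer hPM
    have h2 := Subgroup.card_dvd_of_le h1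
    rw [hcP] at h2
    norm_num at h2
    exact h2
  have hN := card_normalizer_mul_sylow_count P
  rw [hG, h56] at hN
  have hm100 : Nat.card ↥(Subgroup.normalizer ((P : Subgroup G) : Set G) ⊓ M) ∣ 100 := by
    have h1 := Subgroup.card_dvd_of_le
      (inf_le_left : Subgroup.normalizer ((P : Subgroup G) : Set G) ⊓ M ≤
        Subgroup.normalizer ((P : Subgroup G) : Set G))
    have hN100 : Nat.card ↥(Subgroup.normalizer ((P : Subgroup G) : Set G)) = 100 := by omega
    rw [hN100] at h1; exact h1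
  have hfin : Nat.card {Q : Sylow 5 G // (Q : Subgroup G) ≤ M} = 16 ∧
      Nat.card ↥(Subgroup.normalizer ((P : Subgroup G) : Set G) ⊓ M) = 25 := by
    obtain ⟨a, ha⟩ : ∃ a, Nat.card {Q : Sylow 5 G // (Q : Subgroup G) ≤ M} = a := ⟨_, rfl⟩
    obtain ⟨m, hm⟩ : ∃ m, Nat.card ↥(Subgroup.normalizer ((P : Subgroup G) : Set G) ⊓ M) = m :=
      ⟨_, rfl⟩
    obtain ⟨i, hi⟩ : ∃ i, M.index = i := ⟨_, rfl⟩
    rw [ha] at hamod ha1 hcm ⊢
    rw [hm] at h25m hm100 hcm ⊢
    rw [hi] at hidxM hMcard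
    rw [hcm] at hMcard
    unfold Nat.ModEq at hamod
    have hm_le : m ≤ 100 := Nat.le_of_dvd (by norm_num) hm100
    have hmc : m = 25 ∨ m = 50 ∨ m = 100 := by
      interval_cases m <;> omega
    rcases hmc with rfl | rfl | rfl
    · have h1 : a * i = 224 := by
        have : a * 25 * i = 25 * (a * i) := by ring
        omega
      have h2 : a ≤ 22 := by nlinarith
      interval_cases a <;> omega
    · have h1 : a * i = 112 := by
        have : a * 50 * i = 50 * (a * i) := by ring
        omega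
      have h2 : a ≤ 11 := by nlinarith
      interval_cases a <;> omega
    · have h1 : a * i = 56 := by
        have : a * 100 * i = 100 * (a * i) := by ring
        omega
      have h2 : a ≤ 5 := by nlinarith
      interval_cases a <;> omega
  obtain ⟨ha16, hm25⟩ := hfin
  have hcM : Nat.card M = 400 := by rw [hcm, ha16, hm25]
  -- Burnside transfer in `M`
  have hcP' : Nat.card ↥((P.subtype hPM : Sylow 5 ↥M) : Subgroup ↥M) = 5 ^ 2 := by
    rw [Sylow.coe_subtype, ← hcP]
    exact Nat.card_congr (Subgroup.subgroupOfEquivOfLe hPM).toEquiv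
  have hNP' : Nat.card (Subgroup.normalizer
      (((P.subtype hPM : Sylow 5 ↥M) : Subgroup ↥M) : Set ↥M)) = 25 := by
    rw [card_normalizer_subtype M P hPM]; exact hm25
  have hP'comm : IsMulCommutative ↥((P.subtype hPM : Sylow 5 ↥M) : Subgroup ↥M) :=
    IsPGroup.isMulCommutative_of_card_eq_prime_sq hcP'
  have hNeq : ((P.subtype hPM : Sylow 5 ↥M) : Subgroup ↥M) = Subgroup.normalizer
      (((P.subtype hPM : Sylow 5 ↥M) : Subgroup ↥M) : Set ↥M) :=
    Subgroup.eq_of_le_of_card_ge Subgroup.le_normalizer (by rw [hNP', hcP']; norm_num)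
  have hNC : Subgroup.normalizer (((P.subtype hPM : Sylow 5 ↥M) : Subgroup ↥M) : Set ↥M) ≤
      Subgroup.centralizer (((P.subtype hPM : Sylow 5 ↥M) : Subgroup ↥M) : Set ↥M) := by
    rw [← hNeq]; exact Subgroup.le_centralizer_iff_isMulCommutative.2 hP'comm
  have hcompl := MonoidHom.ker_transferSylow_isComplement' (P.subtype hPM : Sylow 5 ↥M) hNC
  obtain ⟨K, hKdef⟩ : ∃ K : Subgroup ↥M,
      K = (MonoidHom.transferSylow (P.subtype hPM : Sylow 5 ↥M) hNC).ker := ⟨_, rfl⟩
  rw [← hKdef] at hcompl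
  have hKcard := hcompl.card_mul_card
  have hK16 : Nat.card K = 16 := by
    rw [hcP', hcM] at hKcard; omega
  have hKn : K.Normal := by rw [hKdef]; exact MonoidHom.normal_ker _
  obtain ⟨T, hTdef⟩ : ∃ T : Subgroup G, T = K.map M.subtype := ⟨_, rfl⟩
  have hcT : Nat.card T = 16 := by
    rw [hTdef, Subgroup.card_map_of_injective M.subtype_injective]; exact hK16
  have hMT : M ≤ Subgroup.normalizer (T : Set G) := by
    have h1 := Subgroup.le_normalizer_map (H := K) M.subtype
    rw [Subgroup.normalizer_eq_top_iff.mpr hKn, ← MonoidHom.range_eq_map, Subgroup.range_subtype,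
      ← hTdef] at h1
    exact h1
  -- normalizer growth
  have hTp : IsPGroup 2 T := IsPGroup.of_card (n := 4) (by rw [hcT]; norm_num)
  obtain ⟨S, hTS⟩ := hTp.exists_le_sylow
  have hcS : Nat.card (S : Subgroup G) = 2 ^ 5 := sylow_card_eq S hn2 (by norm_num)
  have hlt : T < (S : Subgroup G) := by
    refine lt_of_le_of_ne hTS ?_
    intro heq
    rw [heq] at hcT
    omega
  obtain ⟨x, hxS, hxN, hxT⟩ := exists_mem_normalizer_not_mem (S : Subgroup G) T S.isPGroup' hlt
  have hTU : T ≤ (S : Subgroup G) ⊓ Subgroup.normalizer (T : Set G) :=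
    le_inf hTS Subgroup.le_normalizer
  have hxU : x ∈ (S : Subgroup G) ⊓ Subgroup.normalizer (T : Set G) := ⟨hxS, hxN⟩
  have hU32 : Nat.card ↥((S : Subgroup G) ⊓ Subgroup.normalizer (T : Set G)) = 32 := by
    have h1 := Subgroup.card_dvd_of_le
      (inf_le_left : (S : Subgroup G) ⊓ Subgroup.normalizer (T : Set G) ≤ (S : Subgroup G))
    rw [hcS] at h1
    have h2 := Subgroup.card_dvd_of_le hTU
    rw [hcT] at h2
    have h3 : Nat.card ↥((S : Subgroup G) ⊓ Subgroup.normalizer (T : Set G)) ≠ 16 := by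
      intro h16
      have h4 : T = (S : Subgroup G) ⊓ Subgroup.normalizer (T : Set G) :=
        Subgroup.eq_of_le_of_card_ge hTU (by rw [h16, hcT])
      apply hxT
      rw [h4]; exact hxU
    obtain ⟨c, hc⟩ : ∃ c, Nat.card ↥((S : Subgroup G) ⊓ Subgroup.normalizer (T : Set G)) = c :=
      ⟨_, rfl⟩
    rw [hc] at h1 h2 h3 ⊢
    norm_num at h1
    have hle : c ≤ 32 := Nat.le_of_dvd (by norm_num) h1
    interval_cases c <;> omega
  have h32L : 32 ∣ Nat.card ↥(Subgroup.normalizer (T : Set G)) := by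
    rw [← hU32]; exact Subgroup.card_dvd_of_le inf_le_right
  have h25L : 25 ∣ Nat.card ↥(Subgroup.normalizer (T : Set G)) := by
    have h1 := Subgroup.card_dvd_of_le (hPM.trans hMT)
    rw [hcP] at h1
    norm_num at h1
    exact h1
  have h800 : 800 ∣ Nat.card ↥(Subgroup.normalizer (T : Set G)) := by
    have hcop : Nat.Coprime 32 25 := by norm_num
    have h1 := hcop.mul_dvd_of_dvd_of_dvd h32L h25L
    norm_num at h1
    exact h1
  have hLtop : Subgroup.normalizer (T : Set G) = ⊤ := by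
    by_contra hne
    have h10 := h20_index_ge_5600 hna hG _ hne
    have hci : Nat.card ↥(Subgroup.normalizer (T : Set G)) *
        (Subgroup.normalizer (T : Set G)).index = 5600 := by
      rw [Subgroup.card_mul_index, hG]
    obtain ⟨k, hk⟩ := h800
    rw [hk] at hci
    obtain ⟨i, hi⟩ : ∃ i, (Subgroup.normalizer (T : Set G)).index = i := ⟨_, rfl⟩
    rw [hi] at hci h10
    have h1 : k * i = 7 := by
      have : 800 * k * i = 800 * (k * i) := by ring
      omega
    have h2 : i ∣ 7 := ⟨k, by rw [← h1]; ring⟩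
    have h3 := Nat.le_of_dvd (by norm_num) h2
    omega
  have hTn : T.Normal := Subgroup.normalizer_eq_top_iff.1 hLtop
  exact normal_card_absurd T hTn (by rw [hcT]; norm_num) (by rw [hcT, hG]; norm_num)

/-- No nonabelian simple group has order `5600 = 2^5 * 5^2 * 7`. -/
theorem no_5600 : Cfsg.Agent.Helper17.Sieve.NoSimple.{u} 5600 := by
  intro G _ _ _ hna hG
  have : Fact (Nat.Prime 5) := ⟨by norm_num⟩
  have hn5 : Nat.card G = 5 ^ 2 * 224 := by rw [hG]; norm_num
  obtain ⟨h5d, h5m⟩ := sylow_count (G := G) hn5 (by norm_num)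
  have h5ne := sylow_count_ne_one (G := G) hn5 (by norm_num) (by norm_num) (by norm_num)
  have h16 := h20_5600_n5_16 hna hG
  have h56 := h20_5600_n5_56 hna hG
  obtain ⟨n, hn⟩ : ∃ n, Nat.card (Sylow 5 G) = n := ⟨_, rfl⟩
  rw [hn] at h5d h5m h5ne h16 h56
  have hle : n ≤ 224 := Nat.le_of_dvd (by norm_num) h5d
  interval_cases n <;> omega

end Cfsg.Agent.Helper20.SV
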