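import Mathlib
import Cfsg.Prelude.Def_CaseTheorems
import Cfsg.Agent.Lib.Helper55.Cores
import Cfsg.Agent.Lib.Helper53.TwoGroupMisc
import Cfsg.Agent.Lib.Helper20.CentA
import Cfsg.Agent.Lib.Helper20.QDFus2

set_option autoImplicit false
set_option linter.unusedSectionVars false
set_option linter.unusedSimpArgs false
set_option linter.unusedVariables false

namespace Cfsg.Agent.Helper20

/-- a finite group without subgroups of index two whose Sylow 2-subgroups are cyclic has
trivial Sylow 2-subgroups -/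
theorem sylow_eq_bot_of_cyclic {X : Type*} [Group X] [Finite X]
    (hX : ∀ H : Subgroup X, H.index ≠ 2) (P : Sylow 2 X) (hP : IsCyclic ↥(P : Subgroup X)) :
    (P : Subgroup X) = ⊥ := by
  obtain ⟨a, ha⟩ := IsPGroup.iff_card.mp P.isPGroup'
  have ha0 : a = 0 := by
    by_cases h2 : 2 ∣ Nat.card X
    · have hp : (Nat.card X).minFac = 2 := (Nat.minFac_eq_two_iff _).mpr h2
      have hc := IsCyclic.isComplement' hp hP
      set K := (MonoidHom.transferSylow P (hP.normalizer_le_centralizer hp)).ker with hK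
      have hKi : K.index = Nat.card (P : Subgroup X) := hc.symm.index_eq_card
      exact pow_index_eq_zero_of_no_index_two hX K a (by rw [hKi]; exact ha)
    · by_contra h0
      apply h2
      have h1 : Nat.card (P : Subgroup X) ∣ Nat.card X := Subgroup.card_subgroup_dvd_card _
      rw [ha] at h1
      exact (dvd_pow_self 2 h0).trans h1
  rw [ha0, pow_zero] at ha
  exact Subgroup.card_eq_one.mp ha

/-- if the image of a Sylow 2-subgroup `S` modulo `N` is cyclic then `S ≤ N` -/
theorem sylow_le_of_cyclic_image {G : Type*} [Group G] [Finite G]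
    (hG : ∀ H : Subgroup G, H.index ≠ 2) (S : Sylow 2 G) (N : Subgroup G) [N.Normal]
    (hcyc : IsCyclic ↥((S : Subgroup G).map (QuotientGroup.mk' N))) : (S : Subgroup G) ≤ N := by
  have hsurj := QuotientGroup.mk'_surjective N
  set P : Sylow 2 (G ⧸ N) := S.mapSurjective hsurj with hPdef
  have hPcoe : (P : Subgroup (G ⧸ N)) = (S : Subgroup G).map (QuotientGroup.mk' N) :=
    Sylow.coe_mapSurjective hsurj S
  have hX : ∀ H : Subgroup (G ⧸ N), H.index ≠ 2 := by
    intro H hH
    apply hG (H.comap (QuotientGroup.mk' N))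
    rw [Subgroup.index_comap_of_surjective _ hsurj]; exact hH
  have hcyc' : IsCyclic ↥(P : Subgroup (G ⧸ N)) := by rw [hPcoe]; exact hcyc
  have hbot := sylow_eq_bot_of_cyclic hX P hcyc'
  rw [hPcoe] at hbot
  intro s hs
  have h1 : QuotientGroup.mk' N s ∈ (S : Subgroup G).map (QuotientGroup.mk' N) := ⟨s, hs, rfl⟩
  rw [hbot, Subgroup.mem_bot, QuotientGroup.mk'_apply, QuotientGroup.eq_one_iff] at h1
  exact h1

theorem mem_normalizer_inf {G : Type*} [Group G] (A B : Subgroup G) (s : G)
    (hA : s ∈ Subgroup.normalizer (A : Set G)) (hB : s ∈ Subgroup.normalizer (B : Set G)) :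
    s ∈ Subgroup.normalizer ((A ⊓ B : Subgroup G) : Set G) := by
  rw [Subgroup.mem_normalizer_iff] at hA hB ⊢
  intro x
  rw [Subgroup.mem_inf, Subgroup.mem_inf, hA x, hB x]

/-- an involution of a normal subgroup `N` of `L` is `L`-conjugate into `S ⊓ N` -/
theorem exists_mem_inf_of_even {G : Type*} [Group G] [Finite G] (S : Sylow 2 G) (L N : Subgroup G)
    (hSL : (S : Subgroup G) ≤ L) (hNL : N ≤ L) (hLN : L ≤ Subgroup.normalizer (N : Set G))
    (h2 : 2 ∣ Nat.card N) : ∃ a ∈ (S : Subgroup G) ⊓ N, a ≠ 1 := by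
  haveI : Fact (Nat.Prime 2) := ⟨Nat.prime_two⟩
  obtain ⟨t, ht⟩ := exists_prime_orderOf_dvd_card' (G := ↥N) 2 h2
  have ht2 : orderOf (t : G) = 2 := by rw [Subgroup.orderOf_coe]; exact ht
  have htL : (t : G) ∈ L := hNL t.2
  set S' : Sylow 2 ↥L := S.subtype hSL with hS'
  have hS'coe : (S' : Subgroup ↥L) = (S : Subgroup G).subgroupOf L := Sylow.coe_subtype S hSL
  obtain ⟨c, hc⟩ := exists_conj_mem_sylow S' (⟨t, htL⟩ : ↥L) 1 (by
    rw [pow_one, Subgroup.orderOf_mk]; exact ht2)
  rw [hS'coe, Subgroup.mem_subgroupOf] at hc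
  refine ⟨(c : G) * t * (c : G)⁻¹, Subgroup.mem_inf.mpr ⟨?_, ?_⟩, ?_⟩
  · simpa using hc
  · exact (Subgroup.mem_normalizer_iff.mp (hLN c.2) t).mp t.2
  · intro h
    have h1 : (t : G) = 1 := by
      have e : (t : G) = (c : G)⁻¹ * ((c : G) * t * (c : G)⁻¹) * (c : G) := by group
      rw [e, h]; group
    rw [h1, orderOf_one] at ht2
    omega

/-- The minimal normal subgroup argument: under fusion-theoretic hypotheses on a Sylow
2-subgroup `S`, the normal closure of `S` is a non-abelian simple group of odd index. -/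
theorem exists_simple_normal_odd_index {G : Type*} [Group G] [Finite G] (S : Sylow 2 G)
    (hO : Cfsg.pPrimeCore 2 G = ⊥) (hG : ∀ H : Subgroup G, H.index ≠ 2)
    (hinv : ∀ t t' : G, orderOf t = 2 → orderOf t' = 2 → IsConj t t')
    (hcyc : ∀ (N : Subgroup G) [N.Normal], (∀ t ∈ (S : Subgroup G), orderOf t = 2 → t ∈ N) →
      IsCyclic ↥((S : Subgroup G).map (QuotientGroup.mk' N)))
    (hZ : ∀ A B : Subgroup G, A ≤ S → B ≤ S →
      (S : Subgroup G) ≤ Subgroup.normalizer (A : Set G) →
      (S : Subgroup G) ≤ Subgroup.normalizer (B : Set G) → A ⊓ B = ⊥ → A = ⊥ ∨ B = ⊥)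
    (hnab : ∃ a ∈ (S : Subgroup G), ∃ b ∈ (S : Subgroup G), a * b ≠ b * a) :
    ∃ L : Subgroup G, L.Normal ∧ Odd L.index ∧ IsSimpleGroup L ∧ ¬ IsMulCommutative L := by
  classical
  haveI : Fact (Nat.Prime 2) := ⟨Nat.prime_two⟩
  set L := Subgroup.normalClosure ((S : Subgroup G) : Set G) with hL
  have hLn : L.Normal := Subgroup.normalClosure_normal
  have hSL : (S : Subgroup G) ≤ L := Subgroup.le_normalClosure
  have hodd : Odd L.index := by
    have h1 : L.index ∣ (S : Subgroup G).index := Subgroup.index_dvd_of_le hSL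
    have h2 : ¬ 2 ∣ (S : Subgroup G).index := S.not_dvd_index
    rw [← Nat.not_even_iff_odd, even_iff_two_dvd]
    exact fun h => h2 (h.trans h1)
  -- nontrivial `L`-normal subgroups have even order
  have heven : ∀ N : Subgroup G, N ≤ L → L ≤ Subgroup.normalizer (N : Set G) → N ≠ ⊥ →
      2 ∣ Nat.card N := by
    intro N hNL hLN hN
    by_contra h2
    have hcop : (Nat.card N).Coprime 2 :=
      Nat.coprime_comm.mp ((Nat.Prime.coprime_iff_not_dvd Nat.prime_two).mpr h2)
    have hnorm : (N.subgroupOf L).Normal := (Subgroup.normal_subgroupOf_iff_le_normalizer hNL).mpr hLN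
    have h3 : N.subgroupOf L ≤ Cfsg.pPrimeCore 2 ↥L :=
      Cfsg.Agent.Helper55.le_pPrimeCore hnorm (by
        rw [Nat.card_congr (Subgroup.subgroupOfEquivOfLe hNL).toEquiv]; exact hcop)
    rw [Cfsg.Agent.Helper55.pPrimeCore_eq_bot_of_normal 2 L hO, le_bot_iff,
      Subgroup.subgroupOf_eq_bot] at h3
    apply hN
    have := h3.eq_bot
    rwa [inf_eq_left.mpr hNL] at this
  -- `L` is a minimal normal subgroup of `G`
  have hmin : ∀ N : Subgroup G, N.Normal → N ≠ ⊥ → N ≤ L → L ≤ N := by
    intro N hNn hN hNL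
    haveI := hNn
    have h2 := heven N hNL (by
      intro l _
      exact (Subgroup.normalizer_eq_top (H := N)) ▸ Subgroup.mem_top l) hN
    obtain ⟨t, ht⟩ := exists_prime_orderOf_dvd_card' (G := ↥N) 2 h2
    have ht2 : orderOf (t : G) = 2 := by rw [Subgroup.orderOf_coe]; exact ht
    have hall : ∀ t' ∈ (S : Subgroup G), orderOf t' = 2 → t' ∈ N := by
      intro t' _ ht'
      obtain ⟨c, hc⟩ := isConj_iff.mp (hinv t t' ht2 ht')
      rw [← hc]
      exact hNn.conj_mem _ t.2 c
    have hSN := sylow_le_of_cyclic_image hG S N (hcyc N hall)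
    exact Subgroup.normalClosure_le_normal hSN
  -- a minimal nontrivial `L`-normal subgroup
  set 𝒩 : Set (Subgroup G) := {N | N ≤ L ∧ L ≤ Subgroup.normalizer (N : Set G) ∧ N ≠ ⊥} with h𝒩
  have hS1 : (S : Subgroup G) ≠ ⊥ := by
    obtain ⟨a, ha, b, hb, hab⟩ := hnab
    intro h
    rw [h, Subgroup.mem_bot] at ha hb
    apply hab
    rw [ha, hb]
  have hL1 : L ≠ ⊥ := by
    intro h
    apply hS1
    rw [eq_bot_iff, ← h]; exact hSL
  have hLmem : L ∈ 𝒩 := ⟨le_rfl, Subgroup.le_normalizer, hL1⟩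
  obtain ⟨N₀, hN₀, hN₀min⟩ := Set.exists_min_image 𝒩 (fun N => Nat.card N) (Set.toFinite 𝒩)
    ⟨L, hLmem⟩
  obtain ⟨hN₀L, hLN₀, hN₀1⟩ := hN₀
  -- `N₀ = L`
  have hN₀eq : N₀ = L := by
    by_cases hnorm : N₀.Normal
    · exact le_antisymm hN₀L (hmin N₀ hnorm hN₀1 hN₀L)
    · exfalso
      -- a conjugate `N₁ ≠ N₀`
      have hex : ∃ g : G, N₀.map (MulAut.conj g).toMonoidHom ≠ N₀ := by
        by_contra hcon
        push Not at hcon
        apply hnorm
        constructor
        intro n hn g
        have := hcon g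
        rw [← this]
        exact ⟨n, hn, rfl⟩
      obtain ⟨g, hg⟩ := hex
      set N₁ := N₀.map (MulAut.conj g).toMonoidHom with hN₁
      have hN₁L : N₁ ≤ L := by
        rintro _ ⟨n, hn, rfl⟩
        exact hLn.conj_mem _ (hN₀L hn) g
      have hLN₁ : L ≤ Subgroup.normalizer (N₁ : Set G) := by
        intro l hl
        have hl' : g⁻¹ * l * g ∈ L := by
          have := hLn.conj_mem l hl g⁻¹
          simpa using this
        have h1 := hLN₀ hl'
        rw [Subgroup.mem_normalizer_iff]
        have key : ∀ y : G, y ∈ N₁ ↔ g⁻¹ * y * g ∈ N₀ := by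
          intro y
          constructor
          · rintro ⟨n, hn, rfl⟩
            have : g⁻¹ * ((MulAut.conj g).toMonoidHom n) * g = n := by
              show g⁻¹ * (g * n * g⁻¹) * g = n
              group
            rw [this]; exact hn
          · intro hy
            refine ⟨g⁻¹ * y * g, hy, ?_⟩
            show g * (g⁻¹ * y * g) * g⁻¹ = y
            group
        intro y
        rw [key, key]
        have h2 := (Subgroup.mem_normalizer_iff.mp h1) (g⁻¹ * y * g)
        rw [h2]
        have e : g⁻¹ * l * g * (g⁻¹ * y * g) * (g⁻¹ * l * g)⁻¹ = g⁻¹ * (l * y * l⁻¹) * g := by group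
        rw [e]
      have hcard₁ : Nat.card N₁ = Nat.card N₀ :=
        (Nat.card_congr (N₀.equivMapOfInjective _ (MulAut.conj g).injective).toEquiv).symm
      have hN₁1 : N₁ ≠ ⊥ := by
        intro h
        rw [h, Subgroup.card_bot] at hcard₁
        exact hN₀1 (Subgroup.card_eq_one.mp hcard₁.symm)
      -- the intersection is trivial
      have hinf : N₀ ⊓ N₁ = ⊥ := by
        by_contra hne
        have hmem : N₀ ⊓ N₁ ∈ 𝒩 := by
          refine ⟨inf_le_left.trans hN₀L, ?_, hne⟩
          intro l hl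
          exact mem_normalizer_inf N₀ N₁ l (hLN₀ hl) (hLN₁ hl)
        have h1 := hN₀min _ hmem
        have h2 : N₀ ⊓ N₁ = N₀ := Subgroup.eq_of_le_of_card_ge inf_le_left h1
        have h3 : N₀ ≤ N₁ := by rw [← h2]; exact inf_le_right
        have h4 : N₀ = N₁ := Subgroup.eq_of_le_of_card_ge h3 (by rw [hcard₁])
        exact hg h4.symm
      have h2₀ := heven N₀ hN₀L hLN₀ hN₀1
      have h2₁ := heven N₁ hN₁L hLN₁ hN₁1
      obtain ⟨a, ha, ha1⟩ := exists_mem_inf_of_even S L N₀ hSL hN₀L hLN₀ h2₀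
      obtain ⟨b, hb, hb1⟩ := exists_mem_inf_of_even S L N₁ hSL hN₁L hLN₁ h2₁
      have hSS : (S : Subgroup G) ≤ Subgroup.normalizer (((S : Subgroup G)) : Set G) :=
        Subgroup.le_normalizer
      rcases hZ ((S : Subgroup G) ⊓ N₀) ((S : Subgroup G) ⊓ N₁) inf_le_left inf_le_left
        (fun s hs => mem_normalizer_inf _ _ s (hSS hs) (hLN₀ (hSL hs)))
        (fun s hs => mem_normalizer_inf _ _ s (hSS hs) (hLN₁ (hSL hs)))
        (by
          rw [eq_bot_iff, ← hinf]
          exact le_inf (inf_le_left.trans inf_le_right) (inf_le_right.trans inf_le_right))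
        with h | h
      · rw [h, Subgroup.mem_bot] at ha; exact ha1 ha
      · rw [h, Subgroup.mem_bot] at hb; exact hb1 hb
  -- conclusion
  refine ⟨L, hLn, hodd, ?_, ?_⟩
  · haveI : Nontrivial ↥L := by
      rw [Subgroup.nontrivial_iff_ne_bot]; exact hL1
    refine ⟨fun H hH => ?_⟩
    by_cases hHb : H = ⊥
    · left; exact hHb
    · right
      set N := H.map L.subtype with hN
      have hNL : N ≤ L := Subgroup.map_subtype_le H
      have hHN : N.subgroupOf L = H := by
        ext y
        rw [Subgroup.mem_subgroupOf]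
        constructor
        · rintro ⟨h', hh', he⟩
          have : h' = y := Subtype.ext he
          rw [← this]; exact hh'
        · intro hy; exact ⟨y, hy, rfl⟩
      have hLN : L ≤ Subgroup.normalizer (N : Set G) := by
        rw [← Subgroup.normal_subgroupOf_iff_le_normalizer hNL, hHN]; exact hH
      have hN1 : N ≠ ⊥ := by
        intro h
        apply hHb
        rw [← hHN, h]
        exact Subgroup.bot_subgroupOf L
      have hmemN : N ∈ 𝒩 := ⟨hNL, hLN, hN1⟩
      have h1 := hN₀min N hmemN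
      rw [hN₀eq] at h1
      have h2 : N = L := Subgroup.eq_of_le_of_card_ge hNL h1
      rw [← hHN, h2]
      exact Subgroup.subgroupOf_self L
  · intro hcomm
    obtain ⟨a, ha, b, hb, hab⟩ := hnab
    apply hab
    have := hcomm.is_comm.comm (⟨a, hSL ha⟩ : ↥L) ⟨b, hSL hb⟩
    exact congrArg Subtype.val this

/-- normal subgroups of a 2-group meeting trivially: one of them is trivial as soon as the
central involution is unique -/
theorem eq_bot_or_eq_bot_of_unique_central {G : Type*} [Group G] [Finite G] (S : Sylow 2 G) (z : G)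
    (hz1 : z ≠ 1)
    (huniq : ∀ x : G, orderOf x = 2 → x ∈ (S : Subgroup G) →
      (∀ s ∈ (S : Subgroup G), s * x = x * s) → x = z)
    (A B : Subgroup G) (hAS : A ≤ S) (hBS : B ≤ S)
    (hSA : (S : Subgroup G) ≤ Subgroup.normalizer (A : Set G))
    (hSB : (S : Subgroup G) ≤ Subgroup.normalizer (B : Set G)) (hAB : A ⊓ B = ⊥) :
    A = ⊥ ∨ B = ⊥ := by
  by_contra hcon
  push Not at hcon
  obtain ⟨hA, hB⟩ := hcon
  have key : ∀ C : Subgroup G, C ≤ S → (S : Subgroup G) ≤ Subgroup.normalizer (C : Set G) →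
      C ≠ ⊥ → z ∈ C := by
    intro C hCS hSC hC
    haveI : (C.subgroupOf (S : Subgroup G)).Normal :=
      (Subgroup.normal_subgroupOf_iff_le_normalizer hCS).mpr hSC
    have hC' : C.subgroupOf (S : Subgroup G) ≠ ⊥ := by
      intro h
      rw [Subgroup.subgroupOf_eq_bot] at h
      apply hC
      have := h.eq_bot
      rwa [inf_eq_left.mpr hCS] at this
    obtain ⟨x, hxC, hx2, hxc⟩ := Cfsg.Agent.Helper53.exists_central_invol_of_normal
      S.isPGroup' (C.subgroupOf (S : Subgroup G)) hC'
    have hx2' : orderOf (x : G) = 2 := by rw [Subgroup.orderOf_coe]; exact hx2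
    have h1 := huniq (x : G) hx2' x.2 (by
      intro s hs
      have := (Subgroup.mem_center_iff.mp hxc) ⟨s, hs⟩
      exact congrArg Subtype.val this)
    rw [← h1]
    exact Subgroup.mem_subgroupOf.mp hxC
  have h1 : z ∈ A ⊓ B := ⟨key A hAS hSA hA, key B hBS hSB hB⟩
  rw [hAB, Subgroup.mem_bot] at h1
  exact hz1 h1

/-- the reduction modulo the core -/
theorem sylow_quotient_core_equiv {G : Type*} [Group G] [Finite G] (S : Sylow 2 G) :
    Nonempty (↥(S : Subgroup G) ≃*
      ↥((S : Subgroup G).map (QuotientGroup.mk' (Cfsg.pPrimeCore 2 G)))) := by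
  set O := Cfsg.pPrimeCore 2 G with hO
  set f : ↥(S : Subgroup G) →* G ⧸ O := (QuotientGroup.mk' O).comp (S : Subgroup G).subtype with hf
  have hinj : Function.Injective f := by
    rw [injective_iff_map_eq_one]
    intro s hs
    have hsO : (s : G) ∈ O := by
      have : (QuotientGroup.mk' O) (s : G) = 1 := hs
      rwa [QuotientGroup.mk'_apply, QuotientGroup.eq_one_iff] at this
    have h1 : orderOf (s : G) ∣ Nat.card O := by
      have := orderOf_dvd_natCard (⟨(s : G), hsO⟩ : ↥O)
      rwa [Subgroup.orderOf_mk] at this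
    obtain ⟨k, hk⟩ := (IsPGroup.iff_orderOf.mp S.isPGroup') s
    rw [Subgroup.orderOf_coe, hk] at h1
    have hcop : (Nat.card O).Coprime 2 := Cfsg.Agent.Helper55.pPrimeCore_coprime 2
    have h2 : (2 ^ k).Coprime (Nat.card O) := (Nat.Coprime.pow_right k hcop).symm
    have h3 : 2 ^ k = 1 := Nat.Coprime.eq_one_of_dvd h2 h1
    rw [h3] at hk
    exact orderOf_eq_one_iff.mp hk
  have hrange : f.range = (S : Subgroup G).map (QuotientGroup.mk' O) := by
    rw [hf, MonoidHom.range_comp, Subgroup.range_subtype]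
  exact ⟨(MonoidHom.ofInjective hinj).trans (MulEquiv.subgroupCongr hrange)⟩

end Cfsg.Agent.Helper20
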