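import Mathlib
import Cfsg.Agent.Lib.Helper20.SimpA
import Cfsg.Agent.Lib.Helper20.CentQD

set_option autoImplicit false
set_option linter.unusedSectionVars false
set_option linter.unusedSimpArgs false
set_option linter.unusedVariables false
set_option linter.style.haveILetI false

namespace Cfsg.Agent.Helper20

open Cfsg.Agent.Helper98
open scoped Pointwise

section simpqd
variable {G : Type*} [Group G] [Finite G]

/-- quasi-dihedral Sylow 2-subgroup, trivial odd core, no subgroup of index two:
a nonabelian simple normal subgroup of odd index -/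
theorem qd_simple (S : Sylow 2 G) (hS : Cfsg.IsQuasiDihedral (S : Subgroup G))
    (hO : Cfsg.pPrimeCore 2 G = ⊥) (hG : ∀ H : Subgroup G, H.index ≠ 2) :
    ∃ L : Subgroup G, L.Normal ∧ Odd L.index ∧ IsSimpleGroup L ∧ ¬ IsMulCommutative L := by
  obtain ⟨⟨T, hT, hTS⟩, ⟨Q, hQS, ⟨eQ⟩⟩⟩ := qd_exists_klein_quat (S : Subgroup G) hS
  obtain ⟨h₁, -⟩ := qd_six_six_of_no_index_two S hS hG T hT hTS Q hQS eQ
  obtain ⟨k, ι, hinj, hrange⟩ := exists_coord (S : Subgroup G) hS
  have hconj := isConj_zS_of_six S ι hinj hrange T hT hTS h₁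
  have hmemS : ∀ p : SD k, ι p ∈ (S : Subgroup G) := fun p => hrange ▸ ⟨p, rfl⟩
  apply exists_simple_normal_odd_index S hO hG
  · intro t t' ht ht'
    exact (hconj t ht).trans (hconj t' ht').symm
  · intro N _ hN
    have hy : ι ⟨0, true⟩ ∈ N := by
      apply hN _ (hmemS _)
      rw [orderOf_injective ι hinj, SD.orderOf_eq_two_iff]
      right
      exact ⟨rfl, 0, by simp⟩
    have hle : (S : Subgroup G).map (QuotientGroup.mk' N) ≤
        Subgroup.zpowers ((QuotientGroup.mk' N) (ι ⟨1, false⟩)) := by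
      rintro _ ⟨s, hs, rfl⟩
      rw [SetLike.mem_coe, ← hrange] at hs
      obtain ⟨p, rfl⟩ := hs
      rcases p with ⟨a, e⟩
      have ha : (⟨a, false⟩ : SD k) = ⟨1, false⟩ ^ a.val := by
        rw [SD.pow_false, mul_one, ZMod.natCast_zmod_val]
      cases e
      · rw [ha, map_pow, map_pow]
        exact Subgroup.pow_mem _ (Subgroup.mem_zpowers _) _
      · have h2 : (⟨a, true⟩ : SD k) = ⟨a, false⟩ * ⟨0, true⟩ := by simp [SD.ext_iff]
        have h1 : (QuotientGroup.mk' N) (ι ⟨0, true⟩) = 1 := by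
          rw [QuotientGroup.mk'_apply, QuotientGroup.eq_one_iff]; exact hy
        rw [h2, map_mul, map_mul, h1, mul_one, ha, map_pow, map_pow]
        exact Subgroup.pow_mem _ (Subgroup.mem_zpowers _) _
    exact Subgroup.isCyclic_of_le hle
  · exact eq_bot_or_eq_bot_of_unique_central S (ι ⟨hN k, false⟩)
      (fun h => SD.zS_ne_one (hinj (h.trans (map_one ι).symm)))
      (fun x hx hxS hxc => eq_zS_of_central S ι hinj hrange x hx hxS hxc)
  · refine ⟨ι ⟨1, false⟩, hmemS _, ι ⟨0, true⟩, hmemS _, ?_⟩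
    intro h
    rw [← map_mul, ← map_mul] at h
    have h1 := congrArg SD.a (hinj h)
    simp at h1
    -- `1 = cN k`
    have h2 : hN k = 2 := by
      unfold cN at h1
      linear_combination -h1
    have h3 : hN k = 0 := by
      have e1 := hN_mul_qN (k := k)
      rw [h2, two_qN] at e1
      exact e1
    exact hN_ne_zero h3

end simpqd

end Cfsg.Agent.Helper20
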