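import Mathlib
import Cfsg.Agent.Lib.Helper20.SimpA
import Cfsg.Agent.Lib.Helper20.CentWr

set_option autoImplicit false
set_option linter.unusedSectionVars false
set_option linter.unusedSimpArgs false
set_option linter.unusedVariables false
set_option linter.style.haveILetI false

namespace Cfsg.Agent.Helper20

open Cfsg.Agent.Helper98
open scoped Pointwise

section simpwr
variable {G : Type*} [Group G] [Finite G]

/-- wreathed Sylow 2-subgroup, trivial odd core, no subgroup of index two: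
a nonabelian simple normal subgroup of odd index -/
theorem wr_simple (S : Sylow 2 G) (hS : Cfsg.IsWreathed (S : Subgroup G))
    (hO : Cfsg.pPrimeCore 2 G = ⊥) (hG : ∀ H : Subgroup G, H.index ≠ 2) :
    ∃ L : Subgroup G, L.Normal ∧ Odd L.index ∧ IsSimpleGroup L ∧ ¬ IsMulCommutative L := by
  obtain ⟨n, -, hn, -⟩ := id hS
  obtain ⟨hn2, ι, hinj, hrange⟩ := exists_wr_coord' (S : Subgroup G) hS n hn
  obtain ⟨h, hh⟩ := exists_quarter n hn2
  have hN : 2 * 2 ^ (n - 1) = 2 ^ n := (Cfsg.Agent.Helper98.two_pow_eq_two_mul (by omega)).symm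
  have hK : 2 ^ (n - 1) = 2 * 2 ^ (n - 2) := by
    have : n - 1 = (n - 2) + 1 := by omega
    rw [this, pow_succ]; ring
  obtain ⟨Q, hQS, ⟨eQ⟩⟩ := exists_quat_in_S S ι hinj hrange (2 ^ (n - 2)) hK
  obtain ⟨h₁, h₂⟩ := wr_six_six_of_no_index_two S ι hinj hrange h hh hG n hN (2 ^ (n - 2)) hK
    Q hQS eQ
  have hconj := isConj_z0_of_six_six S ι hinj hrange h hh Q hQS eQ h₁ h₂
  have hmemS : ∀ p : Wr (2 * 2 ^ (n - 1)), ι p ∈ (S : Subgroup G) := wr_mem_S S ι hinj hrange
  apply exists_simple_normal_odd_index S hO hG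
  · intro t t' ht ht'
    exact (hconj t ht).trans (hconj t' ht').symm
  · intro N _ hNn
    have hy : ι ⟨0, 0, true⟩ ∈ N := hNn _ (hmemS _) (orderOf_t0 S ι hinj hrange)
    have h1 : (QuotientGroup.mk' N) (ι ⟨0, 0, true⟩) = 1 := by
      rw [QuotientGroup.mk'_apply, QuotientGroup.eq_one_iff]; exact hy
    have hxy : (QuotientGroup.mk' N) (ι ⟨0, 1, false⟩) = (QuotientGroup.mk' N) (ι ⟨1, 0, false⟩) := by
      have e : (⟨0, 1, false⟩ : Wr (2 * 2 ^ (n - 1))) =
          ⟨0, 0, true⟩ * ⟨1, 0, false⟩ * ⟨0, 0, true⟩ := by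
        simp [Wr.ext_iff]
      rw [e, map_mul, map_mul, map_mul, map_mul, h1, one_mul, mul_one]
    have hle : (S : Subgroup G).map (QuotientGroup.mk' N) ≤
        Subgroup.zpowers ((QuotientGroup.mk' N) (ι ⟨1, 0, false⟩)) := by
      rintro _ ⟨s, hs, rfl⟩
      rw [SetLike.mem_coe, ← hrange] at hs
      obtain ⟨p, rfl⟩ := hs
      rcases p with ⟨a, b, e⟩
      have ha : (⟨a, b, false⟩ : Wr (2 * 2 ^ (n - 1))) =
          ⟨1, 0, false⟩ ^ a.val * ⟨0, 1, false⟩ ^ b.val := by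
        rw [Wr.mk_false_pow, Wr.mk_false_pow, Wr.mk_mul_mk_false]
        simp [Wr.ext_iff]
      have hmem : (QuotientGroup.mk' N) (ι ⟨a, b, false⟩) ∈
          Subgroup.zpowers ((QuotientGroup.mk' N) (ι ⟨1, 0, false⟩)) := by
        rw [ha, map_mul, map_mul, map_pow, map_pow, map_pow, map_pow, hxy]
        exact Subgroup.mul_mem _ (Subgroup.pow_mem _ (Subgroup.mem_zpowers _) _)
          (Subgroup.pow_mem _ (Subgroup.mem_zpowers _) _)
      cases e
      · exact hmem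
      · have h2 : (⟨a, b, true⟩ : Wr (2 * 2 ^ (n - 1))) = ⟨a, b, false⟩ * ⟨0, 0, true⟩ := by
          simp [Wr.ext_iff]
        rw [h2, map_mul, map_mul, h1, mul_one]
        exact hmem
    exact Subgroup.isCyclic_of_le hle
  · refine eq_bot_or_eq_bot_of_unique_central S
      (ι ⟨(2 ^ (n - 1) : ℕ), (2 ^ (n - 1) : ℕ), false⟩) ?_
      (fun x hx hxS hxc => eq_z0_of_central S ι hinj hrange x hx hxS hxc)
    intro hz
    have := orderOf_z0 S ι hinj hrange
    rw [hz, orderOf_one] at this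
    omega
  · refine ⟨ι ⟨1, 0, false⟩, hmemS _, ι ⟨0, 0, true⟩, hmemS _, ?_⟩
    intro hc
    rw [← map_mul, ← map_mul] at hc
    have h1 := congrArg Wr.a (hinj hc)
    simp at h1
    -- `1 = 0` in `ZMod (2 * M)`
    have h2 : ((2 ^ (n - 1) : ℕ) : ZMod (2 * 2 ^ (n - 1))) = 0 := by
      rw [← mul_one ((2 ^ (n - 1) : ℕ) : ZMod (2 * 2 ^ (n - 1))), h1, mul_zero]
    exact zmod_half_ne_zero h2

end simpwr

end Cfsg.Agent.Helper20
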