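import Mathlib

/-!
# Piece (LUC) `exists_offset` of helper59's server TU (S2279)

With `a = v_p(n)` and `n = p ^ a * m`, `p ∤ m`: Lucas' theorem one digit at a time gives
`choose (p ^ a * m + (p ^ a - 1)) (p ^ a) ≡ m [MOD p]`.
-/

set_option autoImplicit false

namespace Cfsg.Agent.Helper20.TU

/-- Lucas, one digit at a time: `choose (p ^ a * m + (p ^ a - 1)) (p ^ a) ≡ m [MOD p]`. -/
theorem h20_choose_pow_modEq (p : ℕ) [hp : Fact p.Prime] (a m : ℕ) :
    Nat.choose (p ^ a * m + (p ^ a - 1)) (p ^ a) ≡ m [MOD p] := by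
  induction a with
  | zero => simp [Nat.ModEq]
  | succ a ih =>
    have hp1 : 1 ≤ p := hp.out.one_lt.le
    have hs1 : 1 ≤ p ^ a := Nat.one_le_pow _ _ hp.out.pos
    have hN : p ^ (a + 1) * m + (p ^ (a + 1) - 1) =
        p * (p ^ a * m + (p ^ a - 1)) + (p - 1) := by
      have e1 : p ^ (a + 1) = p * p ^ a := by rw [pow_succ, mul_comm]
      have e2 : p * (p ^ a - 1) = p * p ^ a - p := by rw [Nat.mul_sub, mul_one]
      have e3 : p ≤ p * p ^ a := Nat.le_mul_of_pos_right p (by omega)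
      rw [e1, mul_add, e2, mul_assoc]
      omega
    have hmod : (p ^ (a + 1) * m + (p ^ (a + 1) - 1)) % p = p - 1 := by
      rw [hN, Nat.mul_add_mod]
      exact Nat.mod_eq_of_lt (by omega)
    have hdiv : (p ^ (a + 1) * m + (p ^ (a + 1) - 1)) / p = p ^ a * m + (p ^ a - 1) := by
      rw [hN, Nat.mul_add_div hp.out.pos, Nat.div_eq_of_lt (by omega), add_zero]
    have hkmod : p ^ (a + 1) % p = 0 := by
      rw [pow_succ]; exact Nat.mul_mod_left _ _
    have hkdiv : p ^ (a + 1) / p = p ^ a := by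
      rw [pow_succ]; exact Nat.mul_div_cancel _ hp.out.pos
    have h := Choose.choose_modEq_choose_mod_mul_choose_div_nat (p := p)
      (n := p ^ (a + 1) * m + (p ^ (a + 1) - 1)) (k := p ^ (a + 1))
    rw [hmod, hdiv, hkmod, hkdiv, Nat.choose_zero_right, one_mul] at h
    exact h.trans ih

/-- (LUC) -/
theorem exists_offset (p n : ℕ) [Fact p.Prime] (hn : 4 ≤ n) :
    ∃ a : ℕ, n = p ^ a ∨ (p ^ a + 3 ≤ n ∧ ¬ p ∣ Nat.choose (n - 1 + p ^ a) (n - 1)) := by
  have hp : p.Prime := Fact.out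
  obtain ⟨a, m, hpm, hnm⟩ := Nat.exists_eq_pow_mul_and_not_dvd (by omega : n ≠ 0) p hp.ne_one
  refine ⟨a, ?_⟩
  have hs1 : 1 ≤ p ^ a := Nat.one_le_pow _ _ hp.pos
  rcases Nat.lt_or_ge m 2 with hm | hm
  · left
    interval_cases m
    · rw [mul_zero] at hnm; omega
    · rw [hnm, mul_one]
  · right
    have h2s : 2 * p ^ a ≤ n := by
      rw [hnm, mul_comm 2]; exact Nat.mul_le_mul_left _ hm
    refine ⟨?_, ?_⟩
    · rcases Nat.lt_or_ge (p ^ a) 3 with h3 | h3
      · interval_cases hs : p ^ a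
        · omega
        · -- p ^ a = 2, so p = 2 and m is odd
          have ha : a ≠ 0 := by
            rintro rfl; simp at hs
          have hp2 : p ∣ 2 := by
            rw [← hs]; exact dvd_pow_self p ha
          have : p = 2 := (Nat.prime_dvd_prime_iff_eq hp Nat.prime_two).1 hp2
          subst this
          have hm3 : 3 ≤ m := by omega
          have : 2 * 3 ≤ n := by rw [hnm]; exact Nat.mul_le_mul_left _ hm3
          omega
      · omega
    · have hN : n - 1 + p ^ a = p ^ a * m + (p ^ a - 1) := by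
        rw [hnm]
        have : 1 ≤ p ^ a * m := by rw [← hnm]; omega
        omega
      have hsymm : Nat.choose (n - 1 + p ^ a) (n - 1) = Nat.choose (n - 1 + p ^ a) (p ^ a) :=
        Nat.choose_symm_of_eq_add rfl
      rw [hsymm, hN]
      intro hdvd
      exact hpm (((h20_choose_pow_modEq p a m).dvd_iff (dvd_refl p)).1 hdvd)

end Cfsg.Agent.Helper20.TU
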