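import Mathlib
import Cfsg.Agent.Lib.Helper93.U20

/-!
# U2 project (S2335), piece R3: conjugation moves weight spaces.
-/

set_option autoImplicit false

namespace Cfsg.Agent.Helper20.U2

open Matrix Cfsg.Agent.Helper13 Cfsg.Agent.Helper93.U2

variable {G : Type*} [Group G] {𝓐 : Type*} [AddCommGroup 𝓐] [Fintype 𝓐]
  {V : Type*} [AddCommGroup V] [Module ℂ V]
  (pr : Pairing 𝓐) (el : 𝓐 → G) (ρ : Representation ℂ G V)

omit [Fintype 𝓐] in
/-- piece R3 -/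
theorem wsp_conj (l : G) (θ θ' : 𝓐 → 𝓐) (hθ : Function.Surjective θ)
    (hl : ∀ b, l * el b * l⁻¹ = el (θ b)) (hβ : ∀ a b, pr.β a (θ b) = pr.β (θ' a) b)
    (a : 𝓐) (h : wsp pr el ρ (θ' a) ≠ ⊥) : wsp pr el ρ a ≠ ⊥ := by
  rw [Submodule.ne_bot_iff] at h ⊢
  obtain ⟨v, hv, hv0⟩ := h
  rw [mem_wsp] at hv
  refine ⟨ρ l v, ?_, ?_⟩
  · rw [mem_wsp]
    intro c
    obtain ⟨b, rfl⟩ := hθ c
    rw [← hl b, hβ, ← Module.End.mul_apply, ← map_mul, inv_mul_cancel_right, map_mul,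
      Module.End.mul_apply, hv b, map_smul]
  · intro h0
    apply hv0
    have h1 : ρ l⁻¹ (ρ l v) = v := by
      rw [← Module.End.mul_apply, ← map_mul, inv_mul_cancel, map_one, Module.End.one_apply]
    rw [← h1, h0, map_zero]

end Cfsg.Agent.Helper20.U2
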