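import Mathlib
import Cfsg.Agent.Lib.Helper93.U20
import Cfsg.Agent.Lib.Helper20.U2Ra

/-!
# U2 project (S2335), piece Rb: the idempotents `eOp a` sum to `1`.
-/

set_option autoImplicit false

namespace Cfsg.Agent.Helper20.U2

open Matrix Cfsg.Agent.Helper13 Cfsg.Agent.Helper93.U2

variable {G : Type*} [Group G] {𝓐 : Type*} [AddCommGroup 𝓐] [Fintype 𝓐]
  {V : Type*} [AddCommGroup V] [Module ℂ V]
  (pr : Pairing 𝓐) (el : 𝓐 → G) (ρ : Representation ℂ G V)

omit [Fintype 𝓐] in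
theorem h20_el_zero (hel : ∀ a b, el (a + b) = el a * el b) : el 0 = 1 := by
  have h := hel 0 0
  rw [add_zero] at h
  have h' : el 0 * el 0 = el 0 * 1 := by rw [mul_one]; exact h.symm
  exact mul_left_cancel h'

theorem h20_card_ne_zero : (Fintype.card 𝓐 : ℂ) ≠ 0 :=
  Nat.cast_ne_zero.2 Fintype.card_ne_zero

/-- piece Rb (uses Ra) -/
theorem sum_eOp (hel : ∀ a b, el (a + b) = el a * el b) :
    ∑ a : 𝓐, eOp pr el ρ a = 1 := by
  classical
  have hel0 : el 0 = 1 := h20_el_zero el hel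
  have hc : (Fintype.card 𝓐 : ℂ) ≠ 0 := h20_card_ne_zero
  have hsum : ∀ b : 𝓐, ∑ a : 𝓐, pr.β a (-b) = if b = 0 then (Fintype.card 𝓐 : ℂ) else 0 := by
    intro b
    split_ifs with hb
    · subst hb
      simp [pr.zero_right]
    · have h1 : ∑ a : 𝓐, pr.β a (-b) = ∑ a : 𝓐, pr.β (-b) a := by
        apply Finset.sum_congr rfl
        intro a _
        exact pr.symm _ _
      rw [h1]
      exact Pairing_sum_eq_zero pr (-b) (neg_ne_zero.2 hb)
  unfold eOp
  rw [← Finset.smul_sum, Finset.sum_comm]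
  have h2 : ∀ b : 𝓐, ∑ a : 𝓐, pr.β a (-b) • ρ (el b) = (∑ a : 𝓐, pr.β a (-b)) • ρ (el b) := by
    intro b
    rw [Finset.sum_smul]
  simp_rw [h2, hsum]
  rw [Finset.sum_eq_single 0]
  · rw [if_pos rfl, hel0, map_one, smul_smul, inv_mul_cancel₀ hc, one_smul]
  · intro b _ hb
    rw [if_neg hb, zero_smul]
  · intro h
    exact absurd (Finset.mem_univ _) h

end Cfsg.Agent.Helper20.U2
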