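import Mathlib
import Cfsg.Agent.Lib.Helper93.U20
import Cfsg.Agent.Lib.Helper20.U2Ra

/-!
# U2 project (S2335), piece Rc: `eOp a` maps into the weight space `wsp a`.
-/

set_option autoImplicit false

namespace Cfsg.Agent.Helper20.U2

open Matrix Cfsg.Agent.Helper13 Cfsg.Agent.Helper93.U2

variable {G : Type*} [Group G] {𝓐 : Type*} [AddCommGroup 𝓐] [Fintype 𝓐]
  {V : Type*} [AddCommGroup V] [Module ℂ V]
  (pr : Pairing 𝓐) (el : 𝓐 → G) (ρ : Representation ℂ G V)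

theorem h20_eOp_apply (a : 𝓐) (v : V) :
    eOp pr el ρ a v = ((Fintype.card 𝓐 : ℂ)⁻¹) • ∑ b : 𝓐, (pr.β a (-b)) • ρ (el b) v := by
  unfold eOp
  rw [LinearMap.smul_apply, LinearMap.sum_apply]
  congr 1

/-- piece Rc (uses Ra) -/
theorem eOp_mem_wsp (hel : ∀ a b, el (a + b) = el a * el b) (a : 𝓐) (v : V) :
    eOp pr el ρ a v ∈ wsp pr el ρ a := by
  rw [mem_wsp]
  intro c
  rw [h20_eOp_apply]
  have hL : ρ (el c) ((Fintype.card 𝓐 : ℂ)⁻¹ • ∑ b : 𝓐, pr.β a (-b) • ρ (el b) v)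
      = (Fintype.card 𝓐 : ℂ)⁻¹ • ∑ b : 𝓐, pr.β a (-b) • ρ (el (c + b)) v := by
    rw [map_smul, map_sum]
    congr 1
    apply Finset.sum_congr rfl
    intro b _
    rw [map_smul, hel c b, map_mul, Module.End.mul_apply]
  have hR : pr.β a c • ∑ b : 𝓐, pr.β a (-b) • ρ (el b) v
      = ∑ b : 𝓐, pr.β a (-b) • ρ (el (c + b)) v := by
    rw [Finset.smul_sum,
      ← Equiv.sum_comp (Equiv.addLeft c) (fun b => pr.β a c • pr.β a (-b) • ρ (el b) v)]
    apply Finset.sum_congr rfl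
    intro b _
    simp only [Equiv.coe_addLeft]
    rw [smul_smul]
    congr 1
    rw [neg_add, pr.add_right, ← mul_assoc, mul_comm (pr.β a c), Pairing_neg_right, one_mul]
  rw [hL, smul_comm (pr.β a c), hR]

end Cfsg.Agent.Helper20.U2
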