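import Mathlib
import Cfsg.Agent.Lib.Helper93.U20
import Cfsg.Agent.Lib.Helper20.U2Ra
import Cfsg.Agent.Lib.Helper20.U2Rb
import Cfsg.Agent.Lib.Helper20.U2Rc

/-!
# U2 project (S2335), piece Rd: `eOp a` is the identity on `wsp a` and zero on `wsp a'`, `a' ≠ a`.
-/

set_option autoImplicit false

namespace Cfsg.Agent.Helper20.U2

open Matrix Cfsg.Agent.Helper13 Cfsg.Agent.Helper93.U2

variable {G : Type*} [Group G] {𝓐 : Type*} [AddCommGroup 𝓐] [Fintype 𝓐]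
  {V : Type*} [AddCommGroup V] [Module ℂ V]
  (pr : Pairing 𝓐) (el : 𝓐 → G) (ρ : Representation ℂ G V)

/-- piece Rd (1) (uses Ra) -/
theorem eOp_self (a : 𝓐) (v : V) (hv : v ∈ wsp pr el ρ a) : eOp pr el ρ a v = v := by
  rw [mem_wsp] at hv
  rw [h20_eOp_apply]
  have h1 : ∀ b : 𝓐, (pr.β a (-b)) • ρ (el b) v = v := by
    intro b
    rw [hv b, smul_smul, Pairing_neg_right, one_smul]
  simp_rw [h1]
  rw [Finset.sum_const, Finset.card_univ, ← Nat.cast_smul_eq_nsmul ℂ, smul_smul,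
    inv_mul_cancel₀ h20_card_ne_zero, one_smul]

/-- piece Rd (2) (uses Ra) -/
theorem eOp_other (a a' : 𝓐) (h : a ≠ a') (v : V) (hv : v ∈ wsp pr el ρ a') :
    eOp pr el ρ a v = 0 := by
  rw [mem_wsp] at hv
  rw [h20_eOp_apply]
  have h1 : ∀ b : 𝓐, (pr.β a (-b)) • ρ (el b) v = pr.β (a' - a) b • v := by
    intro b
    rw [hv b, smul_smul, sub_eq_add_neg, Pairing_add_left, h20_Pairing_neg_left, mul_comm]
  simp_rw [h1]
  rw [← Finset.sum_smul, Pairing_sum_eq_zero pr (a' - a) (sub_ne_zero.2 (Ne.symm h)), zero_smul,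
    smul_zero]

end Cfsg.Agent.Helper20.U2
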