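import Mathlib
import Cfsg.Agent.Lib.Helper93.U30
import Cfsg.Agent.Lib.Helper39.Heis

/-!
# U3 project (S2334), piece HB: the abstract Heisenberg bound on an invariant subspace.
-/

set_option autoImplicit false

namespace Cfsg.Agent.Helper20.U3

open Matrix Cfsg.Agent.Helper13 Cfsg.Agent.Helper93.U2 Cfsg.Agent.Helper93.U3

/-- piece HB (abstract Heisenberg bound; use `Cfsg.Agent.Helper39.heis_bound` from
`Cfsg/Agent/Lib/Helper39/Heis.lean`) -/
theorem heis_abstract {G : Type*} [Group G] {V : Type*} [AddCommGroup V] [Module ℂ V]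
    [FiniteDimensional ℂ V] (ρ : Representation ℂ G V) (W : Submodule ℂ V) (hW0 : W ≠ ⊥)
    {E : Type*} [Fintype E] (u : E → G) (c : E → E → ℂ)
    (hW : ∀ e, ∀ v ∈ W, ρ (u e) v ∈ W)
    (hcomm : ∀ f e, ∀ v ∈ W, ρ (u f) (ρ (u e) v) = c f e • ρ (u e) (ρ (u f) v))
    (hsep : ∀ e e', e ≠ e' → ∃ f, c f e ≠ c f e') :
    Fintype.card E ≤ Module.finrank ℂ W * Module.finrank ℂ W := by
  have : Nontrivial W := Submodule.nontrivial_iff_ne_bot.2 hW0
  let B : E → (W →ₗ[ℂ] W) := fun e => (ρ (u e)).restrict (hW e)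
  have hB : ∀ e, Function.Injective (B e) := by
    intro e w w' hww
    have h1 : ρ (u e) (w : V) = ρ (u e) (w' : V) := by
      have := congrArg (fun z : W => (z : V)) hww
      simpa [B, LinearMap.restrict_apply] using this
    have h2 : ∀ z : V, ρ (u e)⁻¹ (ρ (u e) z) = z := by
      intro z
      rw [← Module.End.mul_apply, ← map_mul, inv_mul_cancel, map_one, Module.End.one_apply]
    apply Subtype.ext
    rw [← h2 (w : V), ← h2 (w' : V), h1]
  have hcomm' : ∀ f e, B f ∘ₗ B e = c f e • (B e ∘ₗ B f) := by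
    intro f e
    ext w
    simp only [B, LinearMap.comp_apply, LinearMap.smul_apply, LinearMap.restrict_apply,
      Submodule.coe_smul, Submodule.coe_mk]
    exact hcomm f e w w.2
  exact Cfsg.Agent.Helper39.heis_bound B hB c hcomm' (fun e : E => e) hsep

end Cfsg.Agent.Helper20.U3
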