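import Mathlib
import Cfsg.Agent.Lib.Helper93.U30
import Cfsg.Agent.Lib.Helper20.U2Rd

/-!
# U3 project (S2334), piece R2w: weighted count of the weight spaces.
-/

set_option autoImplicit false

namespace Cfsg.Agent.Helper20.U3

open Matrix Cfsg.Agent.Helper13 Cfsg.Agent.Helper93.U2 Cfsg.Agent.Helper93.U3

/-- piece R2w (weighted version of U2 R2; uses U2 Rd) -/
theorem card_wsp_mul_le {G : Type*} [Group G] {𝓐 : Type*} [AddCommGroup 𝓐] [Fintype 𝓐]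
    {V : Type*} [AddCommGroup V] [Module ℂ V] [FiniteDimensional ℂ V]
    (pr : Pairing 𝓐) (el : 𝓐 → G) (ρ : Representation ℂ G V) (d : ℕ)
    (h : ∀ a : 𝓐, a ≠ 0 → wsp pr el ρ a ≠ ⊥ → d ≤ Module.finrank ℂ (wsp pr el ρ a)) :
    d * Nat.card {a : 𝓐 // a ≠ 0 ∧ wsp pr el ρ a ≠ ⊥} ≤ Module.finrank ℂ V := by
  classical
  have : Fintype {a : 𝓐 // a ≠ 0 ∧ wsp pr el ρ a ≠ ⊥} := Fintype.ofFinite _
  let Φ : (∀ a : {a : 𝓐 // a ≠ 0 ∧ wsp pr el ρ a ≠ ⊥}, wsp pr el ρ a.1) →ₗ[ℂ] V :=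
    ∑ a : {a : 𝓐 // a ≠ 0 ∧ wsp pr el ρ a ≠ ⊥},
      (wsp pr el ρ a.1).subtype ∘ₗ LinearMap.proj a
  have hΦ : ∀ v, Φ v = ∑ a : {a : 𝓐 // a ≠ 0 ∧ wsp pr el ρ a ≠ ⊥}, (v a : V) := by
    intro v
    simp [Φ, LinearMap.sum_apply]
  have hinj : Function.Injective Φ := by
    rw [← LinearMap.ker_eq_bot, LinearMap.ker_eq_bot']
    intro v hv
    funext a₀
    have h1 : eOp pr el ρ a₀.1 (Φ v) = (v a₀ : V) := by
      rw [hΦ, map_sum, Finset.sum_eq_single a₀]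
      · exact Cfsg.Agent.Helper20.U2.eOp_self pr el ρ a₀.1 _ (v a₀).2
      · intro b _ hb
        exact Cfsg.Agent.Helper20.U2.eOp_other pr el ρ a₀.1 b.1
          (fun hab => hb (Subtype.ext hab.symm)) _ (v b).2
      · intro hn
        exact absurd (Finset.mem_univ _) hn
    rw [hv, map_zero] at h1
    exact Subtype.ext h1.symm
  have h2 := LinearMap.finrank_le_finrank_of_injective hinj
  rw [Module.finrank_pi_fintype] at h2
  calc d * Nat.card {a : 𝓐 // a ≠ 0 ∧ wsp pr el ρ a ≠ ⊥}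
      = ∑ _a : {a : 𝓐 // a ≠ 0 ∧ wsp pr el ρ a ≠ ⊥}, d := by
        rw [Finset.sum_const, Finset.card_univ, Nat.card_eq_fintype_card, smul_eq_mul, mul_comm]
    _ ≤ ∑ a : {a : 𝓐 // a ≠ 0 ∧ wsp pr el ρ a ≠ ⊥}, Module.finrank ℂ (wsp pr el ρ a.1) :=
        Finset.sum_le_sum (fun a _ => h a.1 a.2.1 a.2.2)
    _ ≤ Module.finrank ℂ V := h2

end Cfsg.Agent.Helper20.U3
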