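import Mathlib
import Cfsg.Agent.Lib.Helper93.U30

/-!
# U3 project (S2334), piece UG3.
-/

set_option autoImplicit false

namespace Cfsg.Agent.Helper20.U3

open Matrix Cfsg.Agent.Helper13 Cfsg.Agent.Helper93.U2 Cfsg.Agent.Helper93.U3

variable {F : Type*} [Field F] [Fintype F] {q : ℕ} (hF : Fintype.card F = q ^ 2)

theorem h20_kH_apply {m : ℕ} (ε : F) (hε : ε ^ q = -ε) (y y' : Fin m → F) (j i : Fin m) :
    (kH hF ε hε y y').1 j i = ε⁻¹ * (y' j * (y i) ^ q - y j * (y' i) ^ q) := by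
  rw [kH_val]
  simp only [Matrix.smul_apply, Matrix.sub_apply, Matrix.mul_apply, colM_apply, cT_apply,
    smul_eq_mul, Finset.univ_unique, Finset.sum_singleton]

/-- piece UG3 -/
theorem trace_mul_kH {m : ℕ} (ε : F) (hε : ε ^ q = -ε) (H : Matrix (Fin m) (Fin m) F)
    (y y' : Fin m → F) :
    Matrix.trace (H * (kH hF ε hε y y').1) = ε⁻¹ * (hb q H y y' - hb q H y' y) := by
  unfold hb
  simp only [Matrix.trace, Matrix.diag_apply, Matrix.mul_apply, h20_kH_apply, dotProduct,
    Matrix.mulVec]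
  rw [← Finset.sum_sub_distrib, Finset.mul_sum]
  apply Finset.sum_congr rfl
  intro i _
  rw [Finset.mul_sum, Finset.mul_sum, ← Finset.sum_sub_distrib, Finset.mul_sum]
  apply Finset.sum_congr rfl
  intro j _
  ring

end Cfsg.Agent.Helper20.U3
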