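import Mathlib
import Cfsg.Agent.Lib.Helper93.U30

/-!
# U3 project (S2334), piece UG3b.
-/

set_option autoImplicit false

namespace Cfsg.Agent.Helper20.U3

open Matrix Cfsg.Agent.Helper13 Cfsg.Agent.Helper93.U2 Cfsg.Agent.Helper93.U3

variable {F : Type*} [Field F] [Fintype F] {q : ℕ} (hF : Fintype.card F = q ^ 2)

/-- piece UG3b -/
theorem hb_smul_smul {m : ℕ} (H : Matrix (Fin m) (Fin m) F) (f e : F) (x : Fin m → F) :
    hb q H (f • x) (e • x) = f ^ q * e * hq q H x := by
  unfold hb hq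
  rw [Matrix.mulVec_smul]
  simp only [dotProduct, Pi.smul_apply, smul_eq_mul, mul_pow]
  rw [Finset.mul_sum]
  apply Finset.sum_congr rfl
  intro i _
  ring

end Cfsg.Agent.Helper20.U3
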