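import Mathlib
import Cfsg.Agent.Lib.Helper20.ZStarCor
import Cfsg.Agent.Lib.Helper52.CoprimeSylow

set_option autoImplicit false
set_option linter.unusedSectionVars false
set_option linter.unusedVariables false
set_option linter.style.haveILetI false

namespace Cfsg.Agent.Helper20

universe u

open Cfsg.Agent.Helper52 (sylCard)
open scoped Pointwise

/-- conjugation by a normalizing element, as an automorphism of the subgroup -/
def conjEquivOfNormalizer {G : Type*} [Group G] (S : Subgroup G) (n : G)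
    (hn : n ∈ Subgroup.normalizer (S : Set G)) : ↥S ≃* ↥S where
  toFun x := ⟨n * x * n⁻¹, (Subgroup.mem_normalizer_iff.mp hn x).mp x.2⟩
  invFun x := ⟨n⁻¹ * x * n, by
    have := (Subgroup.mem_normalizer_iff.mp (Subgroup.inv_mem _ hn) x).mp x.2
    simpa using this⟩
  left_inv x := Subtype.ext (by simp [mul_assoc])
  right_inv x := Subtype.ext (by simp [mul_assoc])
  map_mul' x y := Subtype.ext (by simp [mul_assoc])

/-- a finite cyclic group has at most one element of order two -/
theorem eq_of_orderOf_two_of_isCyclic {C : Type*} [Group C] [Finite C] [IsCyclic C] (x y : C)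
    (hx : orderOf x = 2) (hy : orderOf y = 2) : x = y := by
  classical
  haveI := Fintype.ofFinite C
  by_contra hne
  have h := IsCyclic.card_pow_eq_one_le (α := C) (n := 2) (by norm_num)
  have hx2 : x ^ 2 = 1 := by rw [← hx]; exact pow_orderOf_eq_one x
  have hy2 : y ^ 2 = 1 := by rw [← hy]; exact pow_orderOf_eq_one y
  have hx1 : x ≠ 1 := by
    intro h1; rw [h1, orderOf_one] at hx; omega
  have hy1 : y ≠ 1 := by
    intro h1; rw [h1, orderOf_one] at hy; omega
  have hsub : ({1, x, y} : Finset C) ⊆ Finset.univ.filter (fun a => a ^ 2 = 1) := by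
    intro a ha
    simp only [Finset.mem_insert, Finset.mem_singleton] at ha
    simp only [Finset.mem_filter, Finset.mem_univ, true_and]
    rcases ha with rfl | rfl | rfl
    · exact one_pow 2
    · exact hx2
    · exact hy2
  have hcard : ({1, x, y} : Finset C).card = 3 := by
    rw [Finset.card_insert_of_notMem, Finset.card_insert_of_notMem, Finset.card_singleton]
    · simpa using hne
    · simp only [Finset.mem_insert, Finset.mem_singleton, not_or]
      exact ⟨hx1.symm, hy1.symm⟩
  have := (Finset.card_le_card hsub).trans h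
  omega

section ci
variable {G : Type*} [Group G] [Finite G] (S : Sylow 2 G) (C : Subgroup ↥(S : Subgroup G))
  (hCc : IsCyclic ↥C) (hCh : C.Characteristic) (c : ↥(S : Subgroup G)) (hc : c ∈ C)
  (hc2 : orderOf c = 2)

include hCc hCh hc hc2

/-- the normalizer of `S` fixes the involution of `C` -/
theorem normalizer_fixes_invol (n : G) (hn : n ∈ Subgroup.normalizer ((S : Subgroup G) : Set G)) :
    n * (c : G) * n⁻¹ = (c : G) := by
  set φ := conjEquivOfNormalizer (S : Subgroup G) n hn with hφ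
  have h1 : φ c ∈ C := by
    have := hCh.fixed φ
    have h2 : c ∈ C.comap φ.toMonoidHom := by rw [this]; exact hc
    exact h2
  have h3 : orderOf (φ c) = 2 := by rw [MulEquiv.orderOf_eq]; exact hc2
  haveI := hCc
  have h4 : (⟨φ c, h1⟩ : ↥C) = ⟨c, hc⟩ := by
    apply eq_of_orderOf_two_of_isCyclic
    · rw [Subgroup.orderOf_mk]; exact h3
    · rw [Subgroup.orderOf_mk]; exact hc2
  have h5 : φ c = c := congrArg Subtype.val h4
  exact congrArg Subtype.val h5

theorem invol_central (s : G) (hs : s ∈ (S : Subgroup G)) : s * (c : G) = (c : G) * s := by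
  have := normalizer_fixes_invol S C hCc hCh c hc hc2 s (Subgroup.le_normalizer hs)
  calc s * (c : G) = (s * (c : G) * s⁻¹) * s := by group
    _ = (c : G) * s := by rw [this]

/-- Burnside's fusion argument: a conjugate of `c` centralizing `y S y⁻¹` is `y c y⁻¹` -/
theorem conj_eq_of_centralizes (x y : G)
    (h : ∀ s ∈ (S : Subgroup G), (x * (c : G) * x⁻¹) * (y * s * y⁻¹) =
      (y * s * y⁻¹) * (x * (c : G) * x⁻¹)) :
    x * (c : G) * x⁻¹ = y * (c : G) * y⁻¹ := by
  haveI : Fact (Nat.Prime 2) := ⟨Nat.prime_two⟩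
  have hmemP : ∀ q : G, q ∈ ((y • S : Sylow 2 G) : Subgroup G) ↔
      ∃ s ∈ (S : Subgroup G), q = y * s * y⁻¹ := by
    intro q
    rw [Sylow.coe_subgroup_smul, Subgroup.mem_smul_pointwise_iff_exists]
    constructor
    · rintro ⟨s, hs, rfl⟩
      exact ⟨s, hs, by rw [MulAut.smul_def, MulAut.conj_apply]⟩
    · rintro ⟨s, hs, rfl⟩
      exact ⟨s, hs, by rw [MulAut.smul_def, MulAut.conj_apply]⟩
  have ha : y * (c : G) * y⁻¹ ∈ Subgroup.centralizer (((y • S : Sylow 2 G) : Subgroup G) : Set G) := by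
    rw [Subgroup.mem_centralizer_iff]
    intro q hq
    obtain ⟨s, hs, rfl⟩ := (hmemP q).mp hq
    have h1 := invol_central S C hCc hCh c hc hc2 s hs
    calc y * s * y⁻¹ * (y * (c : G) * y⁻¹) = y * (s * (c : G)) * y⁻¹ := by group
      _ = y * ((c : G) * s) * y⁻¹ := by rw [h1]
      _ = y * (c : G) * y⁻¹ * (y * s * y⁻¹) := by group
  have e : (y * x⁻¹)⁻¹ * (y * (c : G) * y⁻¹) * (y * x⁻¹) = x * (c : G) * x⁻¹ := by group
  have hb : (y * x⁻¹)⁻¹ * (y * (c : G) * y⁻¹) * (y * x⁻¹) ∈
      Subgroup.centralizer (((y • S : Sylow 2 G) : Subgroup G) : Set G) := by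
    rw [e, Subgroup.mem_centralizer_iff]
    intro q hq
    obtain ⟨s, hs, rfl⟩ := (hmemP q).mp hq
    exact (h s hs).symm
  obtain ⟨n, hn, hnn⟩ := Sylow.conj_eq_normalizer_conj_of_mem_centralizer (y • S)
    (y * (c : G) * y⁻¹) (y * x⁻¹) ha hb
  rw [e] at hnn
  rw [hnn]
  -- `n` fixes `y c y⁻¹`
  have h1 : n • (y • S) = y • S := Sylow.smul_eq_iff_mem_normalizer.mpr hn
  have h2 : (y⁻¹ * n * y) • S = S := by
    rw [mul_smul, mul_smul, h1, ← mul_smul, inv_mul_cancel, one_smul]
  have h3 : y⁻¹ * n * y ∈ Subgroup.normalizer ((S : Subgroup G) : Set G) :=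
    Sylow.smul_eq_iff_mem_normalizer.mp h2
  have h4 := normalizer_fixes_invol S C hCc hCh c hc hc2 _ (Subgroup.inv_mem _ h3)
  calc n⁻¹ * (y * (c : G) * y⁻¹) * n
      = y * ((y⁻¹ * n * y)⁻¹ * (c : G) * (y⁻¹ * n * y)⁻¹⁻¹) * y⁻¹ := by group
    _ = y * (c : G) * y⁻¹ := by rw [h4]

/-- under the hypothesis on Sylow intersections the involution of `C` is isolated in `S` -/
theorem invol_isolated_of_ci
    (hCI : ∀ S T : Sylow 2 G, S ≠ T → ∃ U : Sylow 2 G,
      (S : Subgroup G) ⊓ (T : Subgroup G) ≤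
        (Subgroup.center ↥(U : Subgroup G)).map (U : Subgroup G).subtype)
    (g : G) (hg : g * (c : G) * g⁻¹ ∈ (S : Subgroup G)) : g * (c : G) * g⁻¹ = (c : G) := by
  haveI : Fact (Nat.Prime 2) := ⟨Nat.prime_two⟩
  set t := g * (c : G) * g⁻¹ with ht
  set H := Subgroup.centralizer ({t} : Set G) with hH
  have hmemH : ∀ x : G, x ∈ H ↔ t * x = x * t := by
    intro x
    rw [hH, Subgroup.mem_centralizer_iff]
    constructor
    · intro h; exact h t rfl
    · intro h y hy
      rw [Set.mem_singleton_iff] at hy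
      rw [hy]; exact h
  have hcG2 : orderOf (c : G) = 2 := by rw [Subgroup.orderOf_coe]; exact hc2
  have hcH : (c : G) ∈ H := by
    rw [hmemH]
    exact invol_central S C hCc hCh c hc hc2 t hg
  -- a conjugate of `S` inside `H`
  have hgS : ∀ s ∈ (S : Subgroup G), g * s * g⁻¹ ∈ H := by
    intro s hs
    rw [hmemH, ht]
    have h1 := invol_central S C hCc hCh c hc hc2 s hs
    calc g * (c : G) * g⁻¹ * (g * s * g⁻¹) = g * ((c : G) * s) * g⁻¹ := by group
      _ = g * (s * (c : G)) * g⁻¹ := by rw [h1]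
      _ = g * s * g⁻¹ * (g * (c : G) * g⁻¹) := by group
  -- the 2-part of `H` is the 2-part of `G`
  have hfac : (Nat.card H).factorization 2 = (Nat.card G).factorization 2 := by
    apply le_antisymm
    · exact (Nat.factorization_le_iff_dvd Nat.card_pos.ne' Nat.card_pos.ne').mpr
        (Subgroup.card_subgroup_dvd_card H) 2
    · have h1 : Nat.card (S : Subgroup G) ∣ Nat.card H := by
        have hle : (S : Subgroup G).map (MulAut.conj g).toMonoidHom ≤ H := by
          rintro _ ⟨s, hs, rfl⟩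
          exact hgS s hs
        have := Subgroup.card_dvd_of_le hle
        rwa [Subgroup.card_map_of_injective (MulAut.conj g).injective] at this
      rw [Sylow.card_eq_multiplicity] at h1
      exact (Nat.prime_two.pow_dvd_iff_le_factorization Nat.card_pos.ne').mp h1
  -- a Sylow 2-subgroup of `H` containing `c`
  have hz2 : IsPGroup 2 (Subgroup.zpowers (c : G)) := by
    apply IsPGroup.of_card (n := 1)
    rw [Nat.card_zpowers, hcG2, pow_one]
  obtain ⟨V₀, hV₀H, hV₀c, hcV₀, -⟩ := Cfsg.Agent.Helper52.exists_invariant_sylow_ge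
    (⊥ : Subgroup G) H bot_le (by rw [Subgroup.card_bot]; exact Nat.coprime_one_left _)
    (Or.inl (by infer_instance)) 2 (Subgroup.zpowers (c : G))
    (by rw [Subgroup.zpowers_le]; exact hcH) hz2 bot_le
  have hcV : (c : G) ∈ V₀ := hcV₀ (Subgroup.mem_zpowers _)
  have hV₀card : Nat.card V₀ = 2 ^ (Nat.card G).factorization 2 := by
    rw [hV₀c, sylCard, hfac]
  -- `t` lies in `V₀`
  have htV : t ∈ V₀ := by
    have ht2 : IsPGroup 2 (Subgroup.zpowers t) := by
      apply IsPGroup.of_card (n := 1)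
      have ho : orderOf (g * (c : G) * g⁻¹) = orderOf (c : G) := (MulAut.conj g).orderOf_eq (c : G)
      rw [Nat.card_zpowers, ht, ho, hcG2, pow_one]
    have htH : Subgroup.zpowers t ≤ H := by
      rw [Subgroup.zpowers_le, hmemH]
    have hHn : H ≤ Subgroup.normalizer ((Subgroup.zpowers t : Subgroup G) : Set G) := by
      intro x hx
      rw [Subgroup.mem_normalizer_iff]
      intro q
      have hxt : x * t * x⁻¹ = t := by
        have := (hmemH x).mp hx
        calc x * t * x⁻¹ = (t * x) * x⁻¹ := by rw [this]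
          _ = t := by group
      constructor
      · intro hq
        obtain ⟨i, rfl⟩ := Subgroup.mem_zpowers_iff.mp hq
        have : x * t ^ i * x⁻¹ = (x * t * x⁻¹) ^ i := by
          rw [← MulAut.conj_apply, map_zpow, MulAut.conj_apply]
        rw [this, hxt]
        exact Subgroup.zpow_mem_zpowers t i
      · intro hq
        obtain ⟨i, hi⟩ := Subgroup.mem_zpowers_iff.mp hq
        have hq' : q = x⁻¹ * t ^ i * x := by rw [hi]; group
        have hxt' : x⁻¹ * t * x = t := by
          calc x⁻¹ * t * x = x⁻¹ * (x * t * x⁻¹) * x := by rw [hxt]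
            _ = t := by group
        have : x⁻¹ * t ^ i * x = (x⁻¹ * t * x) ^ i := by
          have h := map_zpow (MulAut.conj x⁻¹) t i
          simp only [MulAut.conj_apply, inv_inv] at h
          exact h
        rw [hq', this, hxt']
        exact Subgroup.zpow_mem_zpowers t i
    exact Cfsg.Agent.Helper52.le_of_card_sylCard 2 (Subgroup.zpowers t) H V₀ htH hHn ht2 hV₀H hV₀c
      (Subgroup.mem_zpowers t)
  set V : Sylow 2 G := Sylow.ofCard V₀ hV₀card with hVdef
  have hVcoe : (V : Subgroup G) = V₀ := Sylow.coe_ofCard _ _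
  obtain ⟨v, hv⟩ := MulAction.exists_smul_eq G S V
  have hvmem : ∀ s ∈ (S : Subgroup G), v * s * v⁻¹ ∈ V₀ := by
    intro s hs
    rw [← hVcoe, ← hv, Sylow.coe_subgroup_smul, Subgroup.mem_smul_pointwise_iff_exists]
    exact ⟨s, hs, by rw [MulAut.smul_def, MulAut.conj_apply]⟩
  -- `t = v c v⁻¹`
  have htv : t = v * (c : G) * v⁻¹ := by
    apply conj_eq_of_centralizes S C hCc hCh c hc hc2 g v
    intro s hs
    exact (hmemH _).mp (hV₀H (hvmem s hs))
  by_cases hVS : V = S
  · have h1 : v • S = S := by rw [hv, hVS]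
    have h2 := Sylow.smul_eq_iff_mem_normalizer.mp h1
    rw [htv]
    exact normalizer_fixes_invol S C hCc hCh c hc hc2 v h2
  · obtain ⟨U, hU⟩ := hCI S V (fun h => hVS h.symm)
    obtain ⟨w, hw⟩ := MulAction.exists_smul_eq G S U
    have hwmem : ∀ s ∈ (S : Subgroup G), w * s * w⁻¹ ∈ (U : Subgroup G) := by
      intro s hs
      rw [← hw, Sylow.coe_subgroup_smul, Subgroup.mem_smul_pointwise_iff_exists]
      exact ⟨s, hs, by rw [MulAut.smul_def, MulAut.conj_apply]⟩
    have hcent : ∀ a ∈ (S : Subgroup G) ⊓ (V : Subgroup G), ∀ s ∈ (S : Subgroup G),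
        a * (w * s * w⁻¹) = (w * s * w⁻¹) * a := by
      intro a ha s hs
      obtain ⟨a', ha', rfl⟩ := hU ha
      rw [SetLike.mem_coe, Subgroup.mem_center_iff] at ha'
      have := ha' ⟨w * s * w⁻¹, hwmem s hs⟩
      exact (congrArg Subtype.val this).symm
    have hc_mem : (c : G) ∈ (S : Subgroup G) ⊓ (V : Subgroup G) :=
      ⟨c.2, by rw [hVcoe]; exact hcV⟩
    have ht_mem : t ∈ (S : Subgroup G) ⊓ (V : Subgroup G) :=
      ⟨hg, by rw [hVcoe]; exact htV⟩
    have h1 : (1 : G) * (c : G) * (1 : G)⁻¹ = w * (c : G) * w⁻¹ := by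
      apply conj_eq_of_centralizes S C hCc hCh c hc hc2 1 w
      intro s hs
      rw [one_mul, inv_one, mul_one]
      exact hcent _ hc_mem s hs
    have h2 : t = w * (c : G) * w⁻¹ := by
      apply conj_eq_of_centralizes S C hCc hCh c hc hc2 g w
      intro s hs
      exact hcent _ ht_mem s hs
    rw [h2, ← h1, one_mul, inv_one, mul_one]

end ci

/-- `S3184` from the `Z*`-theorem -/
theorem ci_invol_central_mod_core (h : ZStarHyp.{u}) {G : Type u} [Group G] [Finite G]
    (hCI : ∀ S T : Sylow 2 G, S ≠ T → ∃ U : Sylow 2 G,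
      (S : Subgroup G) ⊓ (T : Subgroup G) ≤
        (Subgroup.center ↥(U : Subgroup G)).map (U : Subgroup G).subtype)
    (S : Sylow 2 G) (C : Subgroup ↥(S : Subgroup G)) (hCc : IsCyclic ↥C) (hCh : C.Characteristic)
    (c : ↥(S : Subgroup G)) (hc : c ∈ C) (hc2 : orderOf c = 2) :
    ∀ g : G, (QuotientGroup.mk (s := Cfsg.oddCore G) (g * (c : G) * g⁻¹)) =
      QuotientGroup.mk (s := Cfsg.oddCore G) (c : G) := by
  have hcG2 : orderOf (c : G) = 2 := by rw [Subgroup.orderOf_coe]; exact hc2
  obtain ⟨N, hN, hodd, hcomm⟩ := h G S (c : G) hcG2 c.2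
    (fun g hg => invol_isolated_of_ci S C hCc hCh c hc hc2 hCI g hg)
  have hcop : (Nat.card N).Coprime 2 := (Nat.coprime_two_right).mpr hodd
  have hle : N ≤ Cfsg.oddCore G := Cfsg.Agent.Helper55.le_pPrimeCore hN hcop
  have hci : (c : G)⁻¹ = (c : G) := by
    have h1 := pow_orderOf_eq_one (c : G)
    rw [hcG2, pow_two] at h1
    exact inv_eq_of_mul_eq_one_left h1
  intro g
  rw [QuotientGroup.eq]
  apply hle
  have h1 := N.inv_mem (hcomm g)
  have e : ((c : G) * g * (c : G)⁻¹ * g⁻¹)⁻¹ = (g * (c : G) * g⁻¹)⁻¹ * (c : G) := by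
    rw [hci]
    have : (g * (c : G) * g⁻¹)⁻¹ = g * (c : G)⁻¹ * g⁻¹ := by group
    rw [this, hci]
    have e2 : ((c : G) * g * (c : G) * g⁻¹)⁻¹ = g * (c : G)⁻¹ * g⁻¹ * (c : G)⁻¹ := by group
    rw [e2, hci]
  rw [e] at h1
  exact h1

end Cfsg.Agent.Helper20
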