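import Mathlib
import Cfsg.Agent.Lib.Helper20.ZStarCor
import Cfsg.Agent.Lib.Helper49.Isolated
import Cfsg.Agent.S2970

set_option autoImplicit false
set_option linter.unusedSectionVars false
set_option linter.unusedVariables false
set_option linter.style.haveILetI false

namespace Cfsg.Agent.Helper20

universe u

/-- powers of an isolated `p`-element are weakly closed in a Sylow `p`-subgroup containing it -/
theorem isolated_pow_unique_in_sylow {G : Type*} [Group G] [Finite G] {p : ℕ} [Fact p.Prime]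
    {w : G} (hiso : Cfsg.IsIsolated w) (hwp : ∃ k : ℕ, orderOf w = p ^ k) (P : Sylow p G)
    (hwP : w ∈ P) (j : ℕ) (h : G) (hh : h * w ^ j * h⁻¹ ∈ P) : h * w ^ j * h⁻¹ = w ^ j := by
  set u'' := h * w ^ j * h⁻¹ with hu''
  have hcomm : Commute w u'' :=
    Cfsg.Agent.Helper49.isolated_commute_of_mem_pgroup hiso P P.isPGroup' hwP u'' hh
  have hwC : w ∈ Subgroup.centralizer ({u''} : Set G) := by
    rw [Subgroup.mem_centralizer_singleton_iff]; exact hcomm.eq
  have hw'C : h * w * h⁻¹ ∈ Subgroup.centralizer ({u''} : Set G) := by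
    rw [Subgroup.mem_centralizer_singleton_iff, hu'', ← conj_pow]
    exact ((Commute.refl (h * w * h⁻¹)).pow_right j).eq
  obtain ⟨c, hc, hcw⟩ := Cfsg.Agent.Helper49.isolated_fusion hiso hwp _ hwC h hw'C
  have h1 : (c * h) * w ^ j * (c * h)⁻¹ = w ^ j := by
    rw [← conj_pow, hcw]
  have h2 : (c * h) * w ^ j * (c * h)⁻¹ = c * u'' * c⁻¹ := by rw [hu'']; group
  rw [Subgroup.mem_centralizer_singleton_iff] at hc
  have h3 : c * u'' * c⁻¹ = u'' := by
    rw [hc, mul_assoc, mul_inv_cancel, mul_one]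
  rw [← h1, h2, h3]

/-- with `O(G) = 1`, a normal subgroup of order `2 * odd` has order two -/
theorem card_eq_two_of_normal_two_mul_odd {G : Type*} [Group G] [Finite G]
    (hO : Cfsg.oddCore G = ⊥) (K : Subgroup G) [hKn : K.Normal] (m : ℕ) (hm : Odd m)
    (hK : Nat.card K = 2 * m) : Nat.card K = 2 := by
  haveI : Fact (Nat.Prime 2) := ⟨Nat.prime_two⟩
  have hm0 : m ≠ 0 := by rintro rfl; simp at hm
  have hp : (Nat.card K).minFac = 2 := (Nat.minFac_eq_two_iff _).mpr ⟨m, hK⟩
  let P : Sylow 2 K := default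
  have hPcard : Nat.card P = 2 := by
    rw [P.card_eq_multiplicity, hK, Nat.factorization_mul two_ne_zero hm0, Finsupp.add_apply,
      Nat.Prime.factorization_self Nat.prime_two,
      Nat.factorization_eq_zero_of_not_dvd (Nat.two_dvd_ne_zero.mpr (Nat.odd_iff.mp hm)),
      add_zero, pow_one]
  have hPc : IsCyclic P := isCyclic_of_prime_card hPcard
  have hcomp := IsCyclic.isComplement' hp hPc
  set K₀' := (MonoidHom.transferSylow P (IsCyclic.normalizer_le_centralizer hp hPc)).ker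
    with hK₀'
  have hcard0 : Nat.card K₀' = m := by
    have h1 := hcomp.card_mul_card
    rw [hPcard, hK, mul_comm] at h1
    exact Nat.eq_of_mul_eq_mul_left two_pos h1
  have hidx : K₀'.index = 2 := by
    rw [hcomp.symm.index_eq_card, hPcard]
  -- elements of odd order of `K` lie in `K₀'`
  have hmem : ∀ y : K, Odd (orderOf y) → y ∈ K₀' := by
    intro y hy
    have h2 : (QuotientGroup.mk y : K ⧸ K₀') ^ 2 = 1 := by
      have := pow_card_eq_one' (G := K ⧸ K₀') (x := (QuotientGroup.mk y : K ⧸ K₀'))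
      rwa [← Subgroup.index_eq_card, hidx] at this
    have h3 : (QuotientGroup.mk y : K ⧸ K₀') ^ orderOf y = 1 := by
      rw [← QuotientGroup.mk_pow, pow_orderOf_eq_one]; rfl
    have h4 : orderOf (QuotientGroup.mk y : K ⧸ K₀') ∣ Nat.gcd 2 (orderOf y) :=
      Nat.dvd_gcd (orderOf_dvd_of_pow_eq_one h2) (orderOf_dvd_of_pow_eq_one h3)
    have h5 : Nat.gcd 2 (orderOf y) = 1 := (Nat.coprime_two_left).mpr hy
    rw [h5, Nat.dvd_one, orderOf_eq_one_iff] at h4
    exact (QuotientGroup.eq_one_iff y).mp h4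
  set K₀ := K₀'.map K.subtype with hK₀
  have hK₀card : Nat.card K₀ = m := by
    rw [hK₀, Subgroup.card_map_of_injective K.subtype_injective, hcard0]
  have hK₀n : K₀.Normal := by
    constructor
    intro x hx g
    obtain ⟨x', hx', rfl⟩ := hx
    have hxo : Odd (orderOf x') := by
      have h1 : orderOf (⟨x', hx'⟩ : K₀') ∣ Nat.card K₀' := orderOf_dvd_natCard _
      rw [Subgroup.orderOf_mk, hcard0] at h1
      exact Odd.of_dvd_nat hm h1
    let y : K := ⟨g * (x' : G) * g⁻¹, hKn.conj_mem x' x'.2 g⟩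
    have hyo : Odd (orderOf y) := by
      have h1 : orderOf y = orderOf (g * (x' : G) * g⁻¹) := Subgroup.orderOf_mk _ _
      have h2 : g * (x' : G) * g⁻¹ = MulAut.conj g (x' : G) := by simp [MulAut.conj_apply]
      rw [h1, h2, MulEquiv.orderOf_eq, Subgroup.orderOf_coe]
      exact hxo
    exact ⟨y, hmem y hyo, rfl⟩
  have hle : K₀ ≤ Cfsg.oddCore G := by
    apply Cfsg.Agent.Helper55.le_pPrimeCore hK₀n
    rw [hK₀card]; exact (Nat.coprime_two_right).mpr hm
  rw [hO, le_bot_iff] at hle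
  rw [hle, Subgroup.card_bot] at hK₀card
  rw [hK, ← hK₀card]

/-- cardinality of the preimage of a subgroup of a quotient -/
theorem card_comap_mk' {G : Type*} [Group G] (N : Subgroup G) [N.Normal]
    (M : Subgroup (G ⧸ N)) :
    Nat.card (M.comap (QuotientGroup.mk' N)) = Nat.card N * Nat.card M := by
  set D := M.comap (QuotientGroup.mk' N) with hD
  have hKD : N ≤ D := by
    intro k hk
    rw [hD, Subgroup.mem_comap, QuotientGroup.mk'_apply, (QuotientGroup.eq_one_iff k).mpr hk]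
    exact one_mem _
  have hmap : D.map (QuotientGroup.mk' N) = M :=
    Subgroup.map_comap_eq_self_of_surjective (QuotientGroup.mk'_surjective N) M
  have h1 : N.relIndex D = Nat.card M := by
    have h2 := Subgroup.relIndex_comap (⊥ : Subgroup (G ⧸ N)) (QuotientGroup.mk' N) D
    rw [hmap, Subgroup.relIndex_bot_left] at h2
    rw [← h2]
    congr 1
    rw [MonoidHom.comap_bot, QuotientGroup.ker_mk']
  rw [← Subgroup.relIndex_bot_left, ← Subgroup.relIndex_mul_relIndex ⊥ N D bot_le hKD,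
    Subgroup.relIndex_bot_left, h1]

theorem orderOf_mk_two_pow {G : Type*} [Group G] (N : Subgroup G) [N.Normal] (w : G)
    (hw : ∃ k : ℕ, orderOf w = 2 ^ k) :
    ∃ k : ℕ, orderOf (QuotientGroup.mk w : G ⧸ N) = 2 ^ k := by
  obtain ⟨k, hk⟩ := hw
  have h1 : orderOf (QuotientGroup.mk w : G ⧸ N) ∣ 2 ^ k := by
    apply orderOf_dvd_of_pow_eq_one
    rw [← QuotientGroup.mk_pow, ← hk, pow_orderOf_eq_one]; rfl
  obtain ⟨j, -, hj⟩ := (Nat.dvd_prime_pow Nat.prime_two).mp h1
  exact ⟨j, hj⟩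

/-- the `Z*`-theorem for isolated elements of `2`-power order -/
theorem zstar_two_aux (h : ZStarHyp.{u}) : ∀ (n : ℕ) (G : Type u) [Group G] [Finite G],
    Nat.card G = n → ∀ w : G, (∃ k : ℕ, orderOf w = 2 ^ k) → Cfsg.IsIsolated w →
    ∀ g : G, w * g * w⁻¹ * g⁻¹ ∈ Cfsg.oddCore G := by
  intro n
  induction n using Nat.strong_induction_on with
  | _ n ih =>
  intro G _ _ hn w hw hiso g
  haveI : Fact (Nat.Prime 2) := ⟨Nat.prime_two⟩
  by_cases hO : Cfsg.oddCore G = ⊥
  · by_cases hw1 : w = 1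
    · subst hw1
      have : (1 : G) * g * 1⁻¹ * g⁻¹ = 1 := by group
      rw [this]; exact one_mem _
    obtain ⟨k, hk⟩ := hw
    have hk0 : k ≠ 0 := by
      rintro rfl
      rw [pow_zero, orderOf_eq_one_iff] at hk
      exact hw1 hk
    obtain ⟨k', rfl⟩ := Nat.exists_eq_succ_of_ne_zero hk0
    set u := w ^ (2 ^ k') with hu
    have hu2 : orderOf u = 2 := by
      rw [hu, orderOf_pow_of_dvd (by positivity) (by rw [hk]; exact pow_dvd_pow 2 (Nat.le_succ k')),
        hk, pow_succ, Nat.mul_div_cancel_left _ (by positivity)]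
    have hwp : ∃ k : ℕ, orderOf w = 2 ^ k := ⟨_, hk⟩
    obtain ⟨P, hP⟩ := (Cfsg.Agent.Helper49.isPGroup_zpowers_of_orderOf hwp).exists_le_sylow
    have hwP : w ∈ P := hP (Subgroup.mem_zpowers w)
    have huP : u ∈ P := Subgroup.pow_mem _ hwP _
    have hiso_u : ∀ g : G, g * u * g⁻¹ ∈ P → g * u * g⁻¹ = u :=
      fun g hg => isolated_pow_unique_in_sylow hiso hwp P hwP (2 ^ k') g hg
    obtain ⟨N, hN, hodd, hcomm⟩ := h G P u hu2 huP hiso_u
    have hNbot : N = ⊥ := by
      have := Cfsg.Agent.Helper55.le_pPrimeCore hN ((Nat.coprime_two_right).mpr hodd)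
      rw [← le_bot_iff]
      exact this.trans (le_of_eq hO)
    have hucent : ∀ x : G, x * u = u * x := by
      intro x
      have h1 := hcomm x
      rw [hNbot, Subgroup.mem_bot] at h1
      have h2 : u * x = (u * x * u⁻¹ * x⁻¹) * (x * u) := by group
      rw [h2, h1, one_mul]
    set Z := Subgroup.zpowers u with hZ
    haveI hZn : Z.Normal := by
      constructor
      intro x hx y
      obtain ⟨i, rfl⟩ := Subgroup.mem_zpowers_iff.mp hx
      have : y * u ^ i * y⁻¹ = u ^ i := by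
        have hc : Commute y u := hucent y
        rw [(hc.zpow_right i).eq, mul_assoc, mul_inv_cancel, mul_one]
      rw [this]; exact Subgroup.zpow_mem_zpowers u i
    have hZcard : Nat.card Z = 2 := by rw [hZ, Nat.card_zpowers, hu2]
    have hYcard : Nat.card (G ⧸ Z) < n := by
      have h1 := Subgroup.card_eq_card_quotient_mul_card_subgroup Z
      rw [hZcard, hn] at h1
      have : 0 < Nat.card (G ⧸ Z) := Nat.card_pos
      omega
    have hisoY : Cfsg.IsIsolated (QuotientGroup.mk w : G ⧸ Z) :=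
      (Cfsg.Agent.S2970.result w hwp hiso).1 Z
    have hIH := ih _ hYcard (G ⧸ Z) rfl (QuotientGroup.mk w) (orderOf_mk_two_pow Z w hwp) hisoY
      (QuotientGroup.mk g)
    set K := (Cfsg.oddCore (G ⧸ Z)).comap (QuotientGroup.mk' Z) with hK
    haveI hKn : K.Normal := Subgroup.Normal.comap inferInstance _
    set c := w * g * w⁻¹ * g⁻¹ with hc
    have hcK : c ∈ K := by
      rw [hK, Subgroup.mem_comap, hc]
      simpa using hIH
    have hKcard : Nat.card K = 2 * Nat.card (Cfsg.oddCore (G ⧸ Z)) := by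
      rw [hK, card_comap_mk', hZcard]
    have hodd' : Odd (Nat.card (Cfsg.oddCore (G ⧸ Z))) :=
      (Nat.coprime_two_right).mp (Cfsg.Agent.Helper55.pPrimeCore_coprime 2)
    have hK2 := card_eq_two_of_normal_two_mul_odd hO K _ hodd' hKcard
    have hZK : Z ≤ K := by
      intro x hx
      rw [hK, Subgroup.mem_comap, QuotientGroup.mk'_apply, (QuotientGroup.eq_one_iff x).mpr hx]
      exact one_mem _
    have hKZ : K = Z := (Subgroup.eq_of_le_of_card_ge hZK (by rw [hK2, hZcard])).symm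
    have hcZ : c ∈ Z := hKZ ▸ hcK
    -- `c = 1` or `c = u`
    obtain ⟨i, hi⟩ := Subgroup.mem_zpowers_iff.mp hcZ
    have hc1 : c = 1 ∨ c = u := by
      rcases Int.emod_two_eq_zero_or_one i with h0 | h1
      · left
        obtain ⟨j, rfl⟩ : ∃ j, i = 2 * j := ⟨i / 2, by omega⟩
        rw [← hi, zpow_mul, zpow_ofNat, ← hu2, pow_orderOf_eq_one, one_zpow]
      · right
        obtain ⟨j, rfl⟩ : ∃ j, i = 2 * j + 1 := ⟨i / 2, by omega⟩
        rw [← hi, zpow_add, zpow_mul, zpow_ofNat, ← hu2, pow_orderOf_eq_one, one_zpow, one_mul,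
          zpow_one]
    rcases hc1 with h1 | h1
    · rw [h1]; exact one_mem _
    · exfalso
      -- `g w g⁻¹ = u⁻¹ w` commutes with `w`
      have hx : g * w * g⁻¹ = u⁻¹ * w := by
        have : g * w * g⁻¹ = c⁻¹ * w := by rw [hc]; group
        rw [this, h1]
      have hcm : Commute w (g * w * g⁻¹) := by
        rw [hx]
        exact ((Commute.refl w).pow_right _).inv_right.mul_right (Commute.refl w)
      have := hiso g hcm
      rw [hx] at this
      have hu1 : u = 1 := by
        have h3 : u⁻¹ = 1 := by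
          have := mul_right_cancel (this.trans (one_mul w).symm)
          exact this
        exact inv_eq_one.mp h3
      rw [hu1, orderOf_one] at hu2
      omega
  · set N := Cfsg.oddCore G with hN
    have hNcard : 1 < Nat.card N := (Subgroup.one_lt_card_iff_ne_bot (H := N)).mpr hO
    have hYcard : Nat.card (G ⧸ N) < n := by
      have h1 := Subgroup.card_eq_card_quotient_mul_card_subgroup N
      rw [hn] at h1
      have : 0 < Nat.card (G ⧸ N) := Nat.card_pos
      nlinarith
    have hisoY : Cfsg.IsIsolated (QuotientGroup.mk w : G ⧸ N) :=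
      (Cfsg.Agent.S2970.result w hw hiso).1 N
    have hIH := ih _ hYcard (G ⧸ N) rfl (QuotientGroup.mk w) (orderOf_mk_two_pow N w hw) hisoY
      (QuotientGroup.mk g)
    have hbot : Cfsg.oddCore (G ⧸ N) = ⊥ := Cfsg.Agent.Helper55.pPrimeCore_quotient_eq_bot 2
    rw [hbot, Subgroup.mem_bot] at hIH
    have h1 : (QuotientGroup.mk (w * g * w⁻¹ * g⁻¹) : G ⧸ N) = 1 := by
      simpa using hIH
    exact (QuotientGroup.eq_one_iff _).mp h1

/-- an element of a Sylow `2`-subgroup `S` which is its only conjugate in `S` is isolated -/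
theorem isIsolated_of_sylow_isolated {G : Type*} [Group G] [Finite G] (S : Sylow 2 G) (w : G)
    (hwS : w ∈ S) (hiso : ∀ g : G, g * w * g⁻¹ ∈ S → g * w * g⁻¹ = w) : Cfsg.IsIsolated w := by
  haveI : Fact (Nat.Prime 2) := ⟨Nat.prime_two⟩
  intro g hcomm
  obtain ⟨k, hk⟩ := (IsPGroup.iff_orderOf.mp S.isPGroup') ⟨w, hwS⟩
  rw [Subgroup.orderOf_mk] at hk
  have hwp : ∃ k : ℕ, orderOf w = 2 ^ k := ⟨k, hk⟩
  have hw'p : ∃ k : ℕ, orderOf (g * w * g⁻¹) = 2 ^ k := by
    refine ⟨k, ?_⟩
    have : g * w * g⁻¹ = MulAut.conj g w := by simp [MulAut.conj_apply]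
    rw [this, MulEquiv.orderOf_eq, hk]
  have h1 := Cfsg.Agent.Helper49.isPGroup_zpowers_of_orderOf hwp
  have h2 := Cfsg.Agent.Helper49.isPGroup_zpowers_of_orderOf hw'p
  have hnorm : Subgroup.zpowers w ≤ Subgroup.normalizer (Subgroup.zpowers (g * w * g⁻¹) : Set G) := by
    rw [Subgroup.zpowers_le, Subgroup.mem_normalizer_iff]
    intro x
    have key : ∀ y ∈ Subgroup.zpowers (g * w * g⁻¹), w * y * w⁻¹ = y := by
      intro y hy
      obtain ⟨i, rfl⟩ := Subgroup.mem_zpowers_iff.mp hy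
      rw [(hcomm.zpow_right i).eq, mul_assoc, mul_inv_cancel, mul_one]
    constructor
    · intro hx
      rw [key x hx]; exact hx
    · intro hx
      have h3 : w⁻¹ * (w * x * w⁻¹) * w ∈ Subgroup.zpowers (g * w * g⁻¹) := by
        have h4 := key _ hx
        have h5 : w⁻¹ * (w * x * w⁻¹) * w = w⁻¹ * (w * (w * x * w⁻¹) * w⁻¹) * w := by
          rw [h4]
        rw [h5]
        have h6 : w⁻¹ * (w * (w * x * w⁻¹) * w⁻¹) * w = w * x * w⁻¹ := by group
        rw [h6]; exact hx
      have h7 : w⁻¹ * (w * x * w⁻¹) * w = x := by group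
      rwa [h7] at h3
  have hT := h1.to_sup_of_normal_right' h2 hnorm
  obtain ⟨Q, hQ⟩ := hT.exists_le_sylow
  obtain ⟨a, ha⟩ := MulAction.exists_smul_eq G S Q
  have hmemQ : ∀ x : G, x ∈ Q → a⁻¹ * x * a ∈ S := by
    intro x hx
    have hx' : x ∈ (↑(a • S) : Subgroup G) := by rw [ha]; exact hx
    rw [Sylow.coe_subgroup_smul, Subgroup.mem_pointwise_smul_iff_inv_smul_mem] at hx'
    have hx'' : a⁻¹ * x * a ∈ (S : Subgroup G) := by
      simpa [MulAut.smul_def, MulAut.conj_apply] using hx'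
    exact hx''
  have hwQ : w ∈ Q := hQ ((le_sup_left : Subgroup.zpowers w ≤ _) (Subgroup.mem_zpowers w))
  have hw'Q : g * w * g⁻¹ ∈ Q :=
    hQ ((le_sup_right : Subgroup.zpowers (g * w * g⁻¹) ≤ _) (Subgroup.mem_zpowers _))
  have e1 : a⁻¹ * w * a = w := by
    have h3 := hmemQ w hwQ
    have h4 := hiso a⁻¹ (by rwa [inv_inv])
    rwa [inv_inv] at h4
  have e2 : a⁻¹ * (g * w * g⁻¹) * a = w := by
    have h3 := hmemQ _ hw'Q
    have h5 : a⁻¹ * (g * w * g⁻¹) * a = (a⁻¹ * g) * w * (a⁻¹ * g)⁻¹ := by group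
    rw [h5] at h3 ⊢
    exact hiso _ h3
  have : a⁻¹ * (g * w * g⁻¹) * a = a⁻¹ * w * a := by rw [e1, e2]
  exact mul_left_cancel (mul_right_cancel this)

/-- the `Z*`-theorem for `2`-elements: an element of a Sylow `2`-subgroup `S` which is its
only conjugate in `S` is central modulo `O(G)` -/
theorem zstar_two_of_sylow_isolated (h : ZStarHyp.{u}) {G : Type u} [Group G] [Finite G]
    (S : Sylow 2 G) (w : G) (hwS : w ∈ S)
    (hiso : ∀ g : G, g * w * g⁻¹ ∈ S → g * w * g⁻¹ = w) (g : G) :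
    w * g * w⁻¹ * g⁻¹ ∈ Cfsg.oddCore G := by
  haveI : Fact (Nat.Prime 2) := ⟨Nat.prime_two⟩
  obtain ⟨k, hk⟩ := (IsPGroup.iff_orderOf.mp S.isPGroup') ⟨w, hwS⟩
  rw [Subgroup.orderOf_mk] at hk
  exact zstar_two_aux h _ G rfl w ⟨k, hk⟩ (isIsolated_of_sylow_isolated S w hwS hiso) g

end Cfsg.Agent.Helper20
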