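import Mathlib
import Cfsg.Agent.Lib.Helper20.ZStarTwo

set_option autoImplicit false
set_option linter.unusedSectionVars false
set_option linter.unusedVariables false
set_option linter.style.haveILetI false

namespace Cfsg.Agent.Helper20

universe u

/-- if a `2`-element `c₀` is central modulo a normal subgroup `N` of odd order, then every coset
`N g` contains an element centralized by `c₀` -/
theorem exists_mul_mem_centralizer_of_two_elt {G : Type*} [Group G] [Finite G] (c₀ : G)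
    (hc : ∃ k : ℕ, orderOf c₀ = 2 ^ k) (N : Subgroup G) [hNn : N.Normal]
    (hN : Odd (Nat.card N)) (hcomm : ∀ g : G, c₀ * g * c₀⁻¹ * g⁻¹ ∈ N) (g : G) :
    ∃ m ∈ N, c₀ * (m * g) * c₀⁻¹ = m * g := by
  haveI : Fact (Nat.Prime 2) := ⟨Nat.prime_two⟩
  set P := Subgroup.zpowers c₀ with hP
  have hPp : IsPGroup 2 P := Cfsg.Agent.Helper49.isPGroup_zpowers_of_orderOf hc
  -- all of `P` is central modulo `N`
  have hPc : ∀ a ∈ P, ∀ x : G, a * x * a⁻¹ * x⁻¹ ∈ N := by
    have hle : P ≤ (Subgroup.center (G ⧸ N)).comap (QuotientGroup.mk' N) := by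
      rw [hP, Subgroup.zpowers_le, Subgroup.mem_comap, Subgroup.mem_center_iff]
      intro y
      obtain ⟨x, rfl⟩ := QuotientGroup.mk'_surjective N y
      rw [← map_mul, ← map_mul, QuotientGroup.mk'_apply, QuotientGroup.mk'_apply,
        QuotientGroup.eq]
      have h1 := hcomm x⁻¹
      rw [inv_inv] at h1
      have h2 := hNn.conj_mem _ (N.inv_mem h1) c₀⁻¹
      have e : (x * c₀)⁻¹ * (c₀ * x) = c₀⁻¹ * (c₀ * x⁻¹ * c₀⁻¹ * x)⁻¹ * c₀⁻¹⁻¹ := by group
      rw [e]; exact h2
    intro a ha x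
    have h1 := hle ha
    rw [Subgroup.mem_comap, Subgroup.mem_center_iff] at h1
    have h2 := h1 (QuotientGroup.mk' N x)
    rw [← map_mul, ← map_mul, QuotientGroup.mk'_apply, QuotientGroup.mk'_apply,
      QuotientGroup.eq] at h2
    -- `(x a)⁻¹ (a x) ∈ N`
    have h3 := hNn.conj_mem _ h2 (x * a)
    have e : x * a * ((x * a)⁻¹ * (a * x)) * (x * a)⁻¹ = a * x * a⁻¹ * x⁻¹ := by group
    rwa [e] at h3
  -- the twisted action of `P` on `N`
  letI act : MulAction P N :=
    { smul := fun a n => ⟨(a : G) * ((n : G) * g) * (a : G)⁻¹ * g⁻¹, by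
        have e : (a : G) * ((n : G) * g) * (a : G)⁻¹ * g⁻¹ =
            ((a : G) * (n : G) * (a : G)⁻¹) * ((a : G) * g * (a : G)⁻¹ * g⁻¹) := by group
        rw [e]
        exact N.mul_mem (hNn.conj_mem _ n.2 _) (hPc a a.2 g)⟩
      one_smul := by
        intro n
        apply Subtype.ext
        show ((1 : P) : G) * ((n : G) * g) * ((1 : P) : G)⁻¹ * g⁻¹ = n
        rw [Subgroup.coe_one]; group
      mul_smul := by
        intro a b n
        apply Subtype.ext
        show ((a * b : P) : G) * ((n : G) * g) * ((a * b : P) : G)⁻¹ * g⁻¹ =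
          (a : G) * (((b : G) * ((n : G) * g) * (b : G)⁻¹ * g⁻¹) * g) * (a : G)⁻¹ * g⁻¹
        rw [Subgroup.coe_mul]; group }
  have hnd : ¬ 2 ∣ Nat.card N := fun h => (Nat.not_even_iff_odd.mpr hN) (even_iff_two_dvd.mpr h)
  obtain ⟨n, hn⟩ := hPp.nonempty_fixed_point_of_prime_not_dvd_card N hnd
  refine ⟨n, n.2, ?_⟩
  have h1 := hn ⟨c₀, Subgroup.mem_zpowers c₀⟩
  have h2 : c₀ * ((n : G) * g) * c₀⁻¹ * g⁻¹ = n := congrArg Subtype.val h1
  have e : c₀ * ((n : G) * g) * c₀⁻¹ = (c₀ * ((n : G) * g) * c₀⁻¹ * g⁻¹) * g := by group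
  rw [e, h2]

/-- the normalizer of a Sylow `2`-subgroup `S` centralizes every cyclic subgroup of `S` which is
central in `S` and normalized by `N(S)` -/
theorem normalizer_centralizes_of_cyclic {G : Type*} [Group G] [Finite G] (S : Sylow 2 G)
    (W : Subgroup G) (hWS : W ≤ S) (hWc : ∀ w ∈ W, ∀ s ∈ (S : Subgroup G), s * w = w * s)
    (hnorm : Subgroup.normalizer ((S : Subgroup G) : Set G) ≤ Subgroup.normalizer (W : Set G))
    (hcyc : IsCyclic W) (n : G) (hn : n ∈ Subgroup.normalizer ((S : Subgroup G) : Set G))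
    (w : G) (hw : w ∈ W) : n * w * n⁻¹ = w := by
  haveI : Fact (Nat.Prime 2) := ⟨Nat.prime_two⟩
  set Nn := Subgroup.normalizer ((S : Subgroup G) : Set G) with hNn
  set d := (S : Subgroup G).relIndex Nn with hd
  have hSN : (S : Subgroup G) ≤ Nn := Subgroup.le_normalizer
  have hdodd : Nat.Coprime d 2 := by
    have h1 : d ∣ (S : Subgroup G).index := Subgroup.relIndex_dvd_index_of_le hSN
    have h2 : ¬ 2 ∣ (S : Subgroup G).index := S.not_dvd_index
    rw [Nat.coprime_comm, Nat.Prime.coprime_iff_not_dvd Nat.prime_two]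
    exact fun h => h2 (h.trans h1)
  -- `n ^ d ∈ S`
  have hnd : n ^ d ∈ (S : Subgroup G) := by
    haveI : ((S : Subgroup G).subgroupOf Nn).Normal := Subgroup.normal_in_normalizer
    let n'' : Nn := ⟨n, hn⟩
    have h1 : (QuotientGroup.mk n'' : Nn ⧸ (S : Subgroup G).subgroupOf Nn) ^ d = 1 := by
      have := pow_card_eq_one' (G := Nn ⧸ (S : Subgroup G).subgroupOf Nn)
        (x := (QuotientGroup.mk n'' : Nn ⧸ (S : Subgroup G).subgroupOf Nn))
      rwa [← Subgroup.index_eq_card] at this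
    rw [← QuotientGroup.mk_pow, QuotientGroup.eq_one_iff, Subgroup.mem_subgroupOf] at h1
    exact h1
  let n' : Subgroup.normalizer (W : Set G) := ⟨n, hnorm hn⟩
  set φ := W.normalizerMonoidHom n' with hφ
  have hφd : φ ^ d = 1 := by
    rw [hφ, ← map_pow]
    have hker : n' ^ d ∈ W.normalizerMonoidHom.ker := by
      rw [Subgroup.normalizerMonoidHom_ker, Subgroup.mem_subgroupOf, Subgroup.mem_centralizer_iff]
      intro x hx
      have := hWc x hx (n ^ d) hnd
      rw [Subgroup.coe_pow]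
      exact this.symm
    exact hker
  obtain ⟨r, hr⟩ := (S.isPGroup'.to_le hWS).exists_card_eq
  have hcardAut : Nat.card (MulAut W) = Nat.totient (2 ^ r) := by
    rw [IsCyclic.card_mulAut, hr]
  have hord1 : orderOf φ ∣ d := orderOf_dvd_of_pow_eq_one hφd
  have hord2 : orderOf φ ∣ Nat.totient (2 ^ r) := by
    rw [← hcardAut]; exact orderOf_dvd_natCard φ
  have hcop : Nat.Coprime d (Nat.totient (2 ^ r)) := by
    rcases Nat.eq_zero_or_pos r with h0 | h0
    · rw [h0, pow_zero, Nat.totient_one]; exact Nat.coprime_one_right d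
    · rw [Nat.totient_prime_pow Nat.prime_two h0]
      simp only [Nat.add_one_sub_one, mul_one]
      exact Nat.Coprime.pow_right _ hdodd
  have hφ1 : φ = 1 := by
    have := Nat.eq_one_of_dvd_coprimes hcop hord1 hord2
    exact orderOf_eq_one_iff.mp this
  have h2 : φ ⟨w, hw⟩ = ⟨w, hw⟩ := by rw [hφ1]; rfl
  have h3 : ((φ ⟨w, hw⟩ : W) : G) = n * w * n⁻¹ := rfl
  rw [← h3, h2]

section center

variable {G : Type*} [Group G]

theorem mem_center_map_iff (S : Subgroup G) (x : G) :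
    x ∈ (Subgroup.center S).map S.subtype ↔ x ∈ S ∧ ∀ s ∈ S, s * x = x * s := by
  constructor
  · rintro ⟨z, hz, rfl⟩
    refine ⟨z.2, fun s hs => ?_⟩
    have := (Subgroup.mem_center_iff.mp hz) ⟨s, hs⟩
    exact congrArg Subtype.val this
  · rintro ⟨hx, hc⟩
    have hz : (⟨x, hx⟩ : S) ∈ Subgroup.center S := by
      rw [Subgroup.mem_center_iff]
      intro s
      exact Subtype.ext (hc s s.2)
    exact ⟨⟨x, hx⟩, hz, rfl⟩

theorem normalizer_le_normalizer_center_map (S : Subgroup G) :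
    Subgroup.normalizer (S : Set G) ≤
      Subgroup.normalizer (((Subgroup.center S).map S.subtype : Subgroup G) : Set G) := by
  have key : ∀ n ∈ Subgroup.normalizer (S : Set G), ∀ x ∈ (Subgroup.center S).map S.subtype,
      n * x * n⁻¹ ∈ (Subgroup.center S).map S.subtype := by
    intro n hn x hx
    rw [mem_center_map_iff] at hx ⊢
    refine ⟨(Subgroup.mem_normalizer_iff.mp hn x).mp hx.1, fun s hs => ?_⟩
    have hs' : n⁻¹ * s * n ∈ S := by
      have := (Subgroup.mem_normalizer_iff.mp (Subgroup.inv_mem _ hn) s).mp hs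
      rwa [inv_inv] at this
    have h1 := hx.2 _ hs'
    have e1 : s * (n * x * n⁻¹) = n * ((n⁻¹ * s * n) * x) * n⁻¹ := by group
    have e2 : n * x * n⁻¹ * s = n * (x * (n⁻¹ * s * n)) * n⁻¹ := by group
    rw [e1, e2, h1]
  intro n hn
  rw [Subgroup.mem_normalizer_iff]
  intro x
  constructor
  · exact key n hn x
  · intro hx
    have := key n⁻¹ (Subgroup.inv_mem _ hn) _ hx
    have e : n⁻¹ * (n * x * n⁻¹) * n⁻¹⁻¹ = x := by group
    rwa [e] at this

end center

/-- if the centre of a Sylow `2`-subgroup `S` is cyclic and all its subgroups are weakly closed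
in `S`, then every element of `Z(S)` is its only conjugate in `S` -/
theorem center_elt_isolated_of_weaklyClosed {G : Type*} [Group G] [Finite G] (S : Sylow 2 G)
    (hcyc : IsCyclic ((Subgroup.center (S : Subgroup G)).map (S : Subgroup G).subtype))
    (hwc : ∀ Z₀ : Subgroup G, Z₀ ≤ (Subgroup.center (S : Subgroup G)).map (S : Subgroup G).subtype →
      Cfsg.IsWeaklyClosed Z₀ (S : Subgroup G))
    (w : G) (hw : w ∈ (Subgroup.center (S : Subgroup G)).map (S : Subgroup G).subtype) (g : G)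
    (hg : g * w * g⁻¹ ∈ (S : Subgroup G)) : g * w * g⁻¹ = w := by
  haveI : Fact (Nat.Prime 2) := ⟨Nat.prime_two⟩
  set W := (Subgroup.center (S : Subgroup G)).map (S : Subgroup G).subtype with hW
  have hZ₀ : Subgroup.zpowers w ≤ W := by rw [Subgroup.zpowers_le]; exact hw
  obtain ⟨-, h2⟩ := hwc _ hZ₀
  have hle : (Subgroup.zpowers w).map (MulAut.conj g).toMonoidHom ≤ (S : Subgroup G) := by
    rw [Subgroup.map_le_iff_le_comap, Subgroup.zpowers_le, Subgroup.mem_comap]
    simpa [MulAut.conj_apply] using hg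
  have h3 := h2 g hle
  have hxZ : g * w * g⁻¹ ∈ Subgroup.zpowers w := by
    rw [← h3]
    exact ⟨w, Subgroup.mem_zpowers w, by simp [MulAut.conj_apply]⟩
  have hxW : g * w * g⁻¹ ∈ W := hZ₀ hxZ
  have hwC : w ∈ Subgroup.centralizer ((S : Subgroup G) : Set G) := by
    rw [Subgroup.mem_centralizer_iff]
    intro s hs
    exact (((mem_center_map_iff _ _).mp hw).2 s hs)
  have hxC : g⁻¹⁻¹ * w * g⁻¹ ∈ Subgroup.centralizer ((S : Subgroup G) : Set G) := by
    rw [inv_inv, Subgroup.mem_centralizer_iff]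
    intro s hs
    exact (((mem_center_map_iff _ _).mp hxW).2 s hs)
  obtain ⟨n, hn, hconj⟩ := Sylow.conj_eq_normalizer_conj_of_mem_centralizer S w g⁻¹ hwC hxC
  rw [inv_inv] at hconj
  rw [hconj]
  have hWc : ∀ w ∈ W, ∀ s ∈ (S : Subgroup G), s * w = w * s :=
    fun w hw => ((mem_center_map_iff _ _).mp hw).2
  have := normalizer_centralizes_of_cyclic S W (Subgroup.map_subtype_le _) hWc
    (normalizer_le_normalizer_center_map _) hcyc n⁻¹ (Subgroup.inv_mem _ hn) w hw
  rwa [inv_inv] at this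

/-- `S1215` from the `Z*`-theorem, for a Sylow `2`-subgroup with cyclic centre -/
theorem factor_of_center_weaklyClosed (h : ZStarHyp.{u}) {H : Type u} [Group H] [Finite H]
    (S : Sylow 2 H)
    (hcyc : IsCyclic ((Subgroup.center (S : Subgroup H)).map (S : Subgroup H).subtype))
    (hwc : ∀ Z₀ : Subgroup H, Z₀ ≤ (Subgroup.center (S : Subgroup H)).map (S : Subgroup H).subtype →
      Cfsg.IsWeaklyClosed Z₀ (S : Subgroup H)) (x : H) :
    ∃ o ∈ Cfsg.oddCore H, ∃ c ∈ Subgroup.centralizer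
      (((Subgroup.center (S : Subgroup H)).map (S : Subgroup H).subtype : Subgroup H) : Set H),
      x = o * c := by
  haveI : Fact (Nat.Prime 2) := ⟨Nat.prime_two⟩
  set W := (Subgroup.center (S : Subgroup H)).map (S : Subgroup H).subtype with hW
  obtain ⟨c₀, hc₀⟩ := hcyc.exists_generator
  have hc₀W : (c₀ : H) ∈ W := c₀.2
  have hWS : W ≤ (S : Subgroup H) := Subgroup.map_subtype_le _
  have hiso : ∀ g : H, g * (c₀ : H) * g⁻¹ ∈ (S : Subgroup H) → g * (c₀ : H) * g⁻¹ = c₀ :=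
    fun g hg => center_elt_isolated_of_weaklyClosed S hcyc hwc c₀ hc₀W g hg
  have hcomm : ∀ g : H, (c₀ : H) * g * (c₀ : H)⁻¹ * g⁻¹ ∈ Cfsg.oddCore H :=
    fun g => zstar_two_of_sylow_isolated h S c₀ (hWS hc₀W) hiso g
  obtain ⟨k, hk⟩ := (IsPGroup.iff_orderOf.mp S.isPGroup') ⟨c₀, hWS hc₀W⟩
  rw [Subgroup.orderOf_mk] at hk
  have hodd : Odd (Nat.card (Cfsg.oddCore H)) :=
    (Nat.coprime_two_right).mp (Cfsg.Agent.Helper55.pPrimeCore_coprime 2)
  obtain ⟨m, hm, hmx⟩ := exists_mul_mem_centralizer_of_two_elt (c₀ : H) ⟨k, hk⟩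
    (Cfsg.oddCore H) hodd hcomm x
  refine ⟨m⁻¹, Subgroup.inv_mem _ hm, m * x, ?_, by group⟩
  rw [Subgroup.mem_centralizer_iff]
  intro y hy
  obtain ⟨i, hi⟩ := Subgroup.mem_zpowers_iff.mp (hc₀ ⟨y, hy⟩)
  have hy' : y = (c₀ : H) ^ i := by
    have := congrArg Subtype.val hi
    rw [Subgroup.coe_zpow] at this
    exact this.symm
  have hcm : Commute (c₀ : H) (m * x) := by
    have : (c₀ : H) * (m * x) = (c₀ * (m * x) * (c₀ : H)⁻¹) * c₀ := by group
    rw [Commute, SemiconjBy, this, hmx]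
  rw [hy']
  exact (hcm.zpow_left i).eq

/-- if all elements of `W` are central modulo the normal subgroup `N`, then `N W` is normal -/
theorem sup_normal_of_comm_mem {G : Type*} [Group G] (N W : Subgroup G) [hN : N.Normal]
    (hcomm : ∀ w ∈ W, ∀ g : G, w * g * w⁻¹ * g⁻¹ ∈ N) : (N ⊔ W).Normal := by
  constructor
  intro x hx g
  have hx' : x ∈ ((N ⊔ W : Subgroup G) : Set G) := hx
  rw [Subgroup.normal_mul] at hx'
  obtain ⟨n, hn, w, hw, rfl⟩ := Set.mem_mul.mp hx'
  have e : g * (n * w) * g⁻¹ = (g * n * g⁻¹) * (w * g * w⁻¹ * g⁻¹)⁻¹ * w := by group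
  rw [e]
  exact Subgroup.mul_mem _ ((le_sup_left : N ≤ N ⊔ W)
    (N.mul_mem (hN.conj_mem n hn g) (N.inv_mem (hcomm w hw g)))) ((le_sup_right : W ≤ N ⊔ W) hw)

end Cfsg.Agent.Helper20
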