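import Mathlib
import Cfsg.Agent.Lib.Helper20.ZStarCor
import Cfsg.Agent.Lib.Helper22.Factorization

set_option autoImplicit false
set_option linter.unusedSectionVars false
set_option linter.unusedVariables false
set_option linter.style.haveILetI false

namespace Cfsg.Agent.Helper20

universe u

open Cfsg.Agent.Helper52 (sylCard)
open scoped Pointwise

section cc
variable {G : Type*} [Group G]

/-- the commutator-like element `g d g⁻¹ d` -/
def cc (d g : G) : G := g * d * g⁻¹ * d

theorem cc_conj_inv {d : G} (hd : d * d = 1) (g : G) : d * cc d g * d⁻¹ = (cc d g)⁻¹ := by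
  have hdi : d⁻¹ = d := inv_eq_of_mul_eq_one_left hd
  calc d * cc d g * d⁻¹ = d * g * d * g⁻¹ := by unfold cc; group
    _ = d⁻¹ * g * d⁻¹ * g⁻¹ := by rw [hdi]
    _ = (cc d g)⁻¹ := by unfold cc; group

theorem cc_mul_of_commute (d g c : G) (hc : c * d = d * c) : cc d (g * c) = cc d g := by
  have h1 : c * d * c⁻¹ = d := by rw [hc]; group
  unfold cc
  calc g * c * d * (g * c)⁻¹ * d = g * (c * d * c⁻¹) * g⁻¹ * d := by group
    _ = g * d * g⁻¹ * d := by rw [h1]

theorem conj_eq_cc_mul {d : G} (hd : d * d = 1) (g : G) : g * d * g⁻¹ = cc d g * d := by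
  unfold cc
  rw [mul_assoc (g * d * g⁻¹), hd, mul_one]

/-- conjugates of the `cc` are products of `cc` and inverses -/
theorem conj_cc {d : G} (hd : d * d = 1) (h g : G) :
    h * cc d g * h⁻¹ = cc d (h * g) * (cc d h)⁻¹ := by
  have hdi : d⁻¹ = d := inv_eq_of_mul_eq_one_left hd
  have e : (cc d h)⁻¹ = d * h * d * h⁻¹ := by
    calc (cc d h)⁻¹ = d⁻¹ * h * d⁻¹ * h⁻¹ := by unfold cc; group
      _ = d * h * d * h⁻¹ := by rw [hdi]
  rw [e]
  unfold cc
  calc h * (g * d * g⁻¹ * d) * h⁻¹ = h * g * d * (h * g)⁻¹ * (h * d * h⁻¹) := by group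
    _ = h * g * d * (h * g)⁻¹ * ((d * d) * h * d * h⁻¹) := by rw [hd, one_mul]
    _ = h * g * d * (h * g)⁻¹ * d * (d * h * d * h⁻¹) := by group

end cc

/-- an involution `d` all of whose `g d g⁻¹ d` are `p`-elements (`p` odd): these elements lie in a
normal `p`-subgroup, given the `Z*`-theorem -/
theorem exists_normal_pgroup_of_class (h : ZStarHyp.{u}) {G : Type u} [Group G] [Finite G]
    (p : ℕ) (hp : p.Prime) (hodd : p ≠ 2) (d : G) (hd2 : orderOf d = 2)
    (hcc_p : ∀ g : G, ∃ k : ℕ, orderOf (cc d g) = p ^ k) :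
    ∃ J : Subgroup G, J.Normal ∧ IsPGroup p J ∧ ∀ g : G, cc d g ∈ J := by
  haveI : Fact p.Prime := ⟨hp⟩
  haveI : Fact (Nat.Prime 2) := ⟨Nat.prime_two⟩
  have hdd : d * d = 1 := by
    have := pow_orderOf_eq_one d
    rwa [hd2, pow_two] at this
  have hdi : d⁻¹ = d := inv_eq_of_mul_eq_one_left hdd
  -- `d` is isolated in a Sylow 2-subgroup
  obtain ⟨P2, hdP2⟩ : ∃ P2 : Sylow 2 G, d ∈ P2 := by
    have hz : IsPGroup 2 (Subgroup.zpowers d) := by
      apply IsPGroup.of_card (n := 1)
      rw [Nat.card_zpowers, hd2, pow_one]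
    obtain ⟨P2, hP2⟩ := hz.exists_le_sylow
    exact ⟨P2, hP2 (Subgroup.mem_zpowers d)⟩
  have hiso : ∀ g : G, g * d * g⁻¹ ∈ P2 → g * d * g⁻¹ = d := by
    intro g hg
    by_contra hne
    obtain ⟨k, hk⟩ := hcc_p g
    have hmem : cc d g ∈ (P2 : Subgroup G) := Subgroup.mul_mem _ hg hdP2
    obtain ⟨j, hj⟩ := (IsPGroup.iff_orderOf.mp P2.isPGroup') ⟨_, hmem⟩
    rw [Subgroup.orderOf_mk, hk] at hj
    have hk0 : k = 0 := by
      by_contra hk0
      have h1 : p ∣ 2 ^ j := by rw [← hj]; exact dvd_pow_self p hk0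
      have h2 : p ∣ 2 := hp.dvd_of_dvd_pow h1
      exact hodd ((Nat.prime_dvd_prime_iff_eq hp Nat.prime_two).mp h2)
    rw [hk0, pow_zero, orderOf_eq_one_iff] at hk
    apply hne
    have h' : g * d * g⁻¹ = d⁻¹ := eq_inv_of_mul_eq_one_left hk
    rw [h', hdi]
  obtain ⟨K, hKn, hKodd, hKc⟩ := h G P2 d hd2 hdP2 hiso
  haveI := hKn
  have hccK : ∀ g : G, cc d g ∈ K := by
    intro g
    have h1 := K.inv_mem (hKc g)
    have e : (d * g * d⁻¹ * g⁻¹)⁻¹ = g * d * g⁻¹ * d⁻¹ := by group
    rw [e, hdi] at h1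
    exact h1
  -- the group of order two acting on `K`
  set A := Subgroup.zpowers d with hA
  have hA2 : Nat.card A = 2 := by rw [hA, Nat.card_zpowers, hd2]
  have hAc : ∀ x ∈ A, ∀ y ∈ A, x * y = y * x := by
    intro x hx y hy
    obtain ⟨i, rfl⟩ := Subgroup.mem_zpowers_iff.mp hx
    obtain ⟨j, rfl⟩ := Subgroup.mem_zpowers_iff.mp hy
    rw [← zpow_add, ← zpow_add, add_comm]
  have hAs : Group.IsSolvable ↥A :=
    Group.isSolvable_of_comm (fun a b => Subtype.ext (hAc a a.2 b b.2))
  have hAK : A ≤ Subgroup.normalizer (K : Set G) := by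
    intro a _
    rw [Subgroup.mem_normalizer_iff]
    intro x
    constructor
    · intro hx; exact hKn.conj_mem x hx a
    · intro hx
      have := hKn.conj_mem _ hx a⁻¹
      have e : a⁻¹ * (a * x * a⁻¹) * a⁻¹⁻¹ = x := by group
      rwa [e] at this
  have hcop : (Nat.card A).Coprime (Nat.card K) := by
    rw [hA2]; exact (Nat.coprime_two_left).mpr hKodd
  -- a `d`-invariant Sylow `p`-subgroup of `K`
  obtain ⟨P, hPK, hPc, hAP⟩ := Cfsg.Agent.Helper52.exists_invariant_sylow A K hAK hcop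
    (Or.inl hAs) p
  have hdP : d ∈ Subgroup.normalizer (P : Set G) := hAP (Subgroup.mem_zpowers d)
  have hPp : IsPGroup p P := IsPGroup.of_card hPc
  set C := K ⊓ Subgroup.centralizer ({d} : Set G) with hC
  have hPC : Nat.card (P ⊓ C : Subgroup G) = sylCard p C := by
    have h1 := Cfsg.Agent.Helper22.card_inf_centralizer_of_invariant_sylow hAc hAs hAK hcop hPK hPc
      hAP (Subgroup.mem_zpowers d)
    have e : P ⊓ C = P ⊓ Subgroup.centralizer ({d} : Set G) := by
      rw [hC, ← inf_assoc, inf_eq_left.mpr hPK]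
    rw [e]; exact h1
  -- for `q ≠ p` the `q`-part of `K` is centralized by `d`
  have hq : ∀ q : ℕ, q.Prime → q ≠ p →
      (Nat.card K).factorization q ≤ (Nat.card C).factorization q := by
    intro q hqp hne
    haveI : Fact q.Prime := ⟨hqp⟩
    obtain ⟨Q, hQK, hQc, hAQ⟩ := Cfsg.Agent.Helper52.exists_invariant_sylow A K hAK hcop
      (Or.inl hAs) q
    have hdQ : d ∈ Subgroup.normalizer (Q : Set G) := hAQ (Subgroup.mem_zpowers d)
    have hQC : Q ≤ C := by
      intro y hy
      refine Subgroup.mem_inf.mpr ⟨hQK hy, ?_⟩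
      have h1 : cc d y ∈ Q := by
        have h2 : d * y⁻¹ * d⁻¹ ∈ Q :=
          (Subgroup.mem_normalizer_iff.mp hdQ y⁻¹).mp (Q.inv_mem hy)
        have e : cc d y = y * (d * y⁻¹ * d⁻¹) := by
          unfold cc; rw [hdi]; group
        rw [e]; exact Q.mul_mem hy h2
      obtain ⟨k, hk⟩ := hcc_p y
      have h3 : orderOf (cc d y) ∣ Nat.card Q := by
        have := orderOf_dvd_natCard (⟨cc d y, h1⟩ : ↥Q)
        rwa [Subgroup.orderOf_mk] at this
      rw [hk, hQc, sylCard] at h3
      have hk0 : k = 0 := by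
        by_contra hk0
        have h4 : p ∣ q ^ (Nat.card K).factorization q := (dvd_pow_self p hk0).trans h3
        have h5 : p ∣ q := hp.dvd_of_dvd_pow h4
        exact hne ((Nat.prime_dvd_prime_iff_eq hp hqp).mp h5).symm
      rw [hk0, pow_zero, orderOf_eq_one_iff] at hk
      rw [Subgroup.mem_centralizer_iff]
      intro x hx
      rw [Set.mem_singleton_iff] at hx
      rw [hx]
      have h6 : y * d * y⁻¹ = d := by
        have : y * d * y⁻¹ = d⁻¹ := eq_inv_of_mul_eq_one_left hk
        rw [this, hdi]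
      calc d * y = (y * d * y⁻¹) * y := by rw [h6]
        _ = y * d := by group
    have h7 : q ^ (Nat.card K).factorization q ∣ Nat.card C := by
      have := Subgroup.card_dvd_of_le hQC
      rwa [hQc, sylCard] at this
    exact (hqp.pow_dvd_iff_le_factorization Nat.card_pos.ne').mp h7
  have hCK : C ≤ K := inf_le_left
  have hq' : ∀ q : ℕ, q.Prime → q ≠ p →
      (Nat.card K).factorization q = (Nat.card C).factorization q := by
    intro q hqp hne
    apply le_antisymm (hq q hqp hne)
    exact (Nat.factorization_le_iff_dvd Nat.card_pos.ne' Nat.card_pos.ne').mpr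
      (Subgroup.card_dvd_of_le hCK) q
  -- the arithmetic identity
  have key : p ^ (Nat.card K).factorization p * Nat.card C =
      p ^ (Nat.card C).factorization p * Nat.card K := by
    have hK0 : Nat.card K ≠ 0 := Nat.card_pos.ne'
    have hC0 : Nat.card C ≠ 0 := Nat.card_pos.ne'
    have hpK : p ^ (Nat.card K).factorization p ≠ 0 := pow_ne_zero _ hp.ne_zero
    have hpC : p ^ (Nat.card C).factorization p ≠ 0 := pow_ne_zero _ hp.ne_zero
    apply Nat.eq_of_factorization_eq (mul_ne_zero hpK hC0) (mul_ne_zero hpC hK0)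
    intro q
    rw [Nat.factorization_mul hpK hC0, Nat.factorization_mul hpC hK0,
      hp.factorization_pow, hp.factorization_pow]
    simp only [Finsupp.add_apply, Finsupp.single_apply]
    by_cases hqp : q.Prime
    · by_cases hne : p = q
      · subst hne
        simp only [if_true]
        omega
      · simp only [if_neg hne, zero_add]
        exact (hq' q hqp (fun h => hne h.symm)).symm
    · rw [Nat.factorization_eq_zero_of_not_prime _ hqp, Nat.factorization_eq_zero_of_not_prime _ hqp]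
      split_ifs with h1
      · subst h1; exact absurd hp hqp
      · rfl
  -- `K = P C`
  have hPCK : ((P : Set G) * (C : Set G) : Set G) = (K : Set G) := by
    have h1 := Cfsg.Agent.Helper10.card_set_mul_mul_card_inf P C
    rw [hPC, hPc, sylCard, sylCard, key] at h1
    have h2 : Nat.card ((P : Set G) * (C : Set G) : Set G) = Nat.card K := by
      have hpos : 0 < p ^ (Nat.card C).factorization p := pow_pos hp.pos _
      rw [mul_comm] at h1
      exact Nat.eq_of_mul_eq_mul_left hpos h1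
    have hsub : ((P : Set G) * (C : Set G) : Set G) ⊆ (K : Set G) := by
      rintro _ ⟨v, hv, u, hu, rfl⟩
      exact K.mul_mem (hPK hv) (hCK hu)
    apply Set.eq_of_subset_of_ncard_le hsub _ (Set.toFinite _)
    rw [← Nat.card_coe_set_eq, ← Nat.card_coe_set_eq, h2]
    rfl
  -- all `cc d g` lie in `P`
  have hccP : ∀ g : G, cc d g ∈ P := by
    intro g
    -- replace `g` by an element of `K`
    obtain ⟨k, hk⟩ := hcc_p g
    set y := cc d g with hy
    have hmodd : Odd (orderOf y) := by rw [hk]; exact (hp.odd_of_ne_two hodd).pow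
    obtain ⟨j, hj⟩ := hmodd
    set w := y ^ (j + 1) with hw
    have hwK : w ∈ K := K.pow_mem (hccK g) _
    have hww : w * w = y := by
      rw [hw, ← pow_add, show j + 1 + (j + 1) = orderOf y + 1 by omega, pow_succ,
        pow_orderOf_eq_one, one_mul]
    have hdw : d * w * d⁻¹ = w⁻¹ := by
      rw [hw, conj_pow', cc_conj_inv hdd, inv_pow]
    have hconj : w * d * w⁻¹ = g * d * g⁻¹ := by
      have h1 : d * w⁻¹ * d⁻¹ = w := by
        have := congrArg (·⁻¹) hdw
        simp only [mul_inv_rev, inv_inv] at this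
        rw [← mul_assoc] at this
        exact this
      calc w * d * w⁻¹ = w * (d * w⁻¹ * d⁻¹) * d := by group
        _ = w * w * d := by rw [h1]
        _ = y * d := by rw [hww]
        _ = g * d * g⁻¹ := (conj_eq_cc_mul hdd g).symm
    have hcw : y = cc d w := by
      rw [hy]
      unfold cc
      rw [hconj]
    rw [hcw]
    have hk' : w ∈ ((P : Set G) * (C : Set G) : Set G) := by rw [hPCK]; exact hwK
    obtain ⟨v, hv, u, hu, hvu⟩ := hk'
    have hud : u * d = d * u := by
      have := (Subgroup.mem_centralizer_iff.mp hu.2) d rfl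
      exact this.symm
    rw [← hvu, cc_mul_of_commute d v u hud]
    have h2 : d * v⁻¹ * d⁻¹ ∈ P :=
      (Subgroup.mem_normalizer_iff.mp hdP v⁻¹).mp (P.inv_mem hv)
    have e : cc d v = v * (d * v⁻¹ * d⁻¹) := by
      unfold cc; rw [hdi]; group
    rw [e]; exact P.mul_mem hv h2
  -- the normal closure of the `cc d g`
  refine ⟨Subgroup.normalClosure (Set.range (cc d)), Subgroup.normalClosure_normal, ?_, ?_⟩
  · apply hPp.to_le
    rw [Subgroup.normalClosure, Subgroup.closure_le]
    intro x hx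
    rw [Group.mem_conjugatesOfSet_iff] at hx
    obtain ⟨y, ⟨g, rfl⟩, hconj⟩ := hx
    obtain ⟨c, rfl⟩ := isConj_iff.mp hconj
    rw [SetLike.mem_coe, conj_cc hdd]
    exact P.mul_mem (hccP _) (P.inv_mem (hccP _))
  · intro g
    exact Subgroup.subset_normalClosure ⟨g, rfl⟩

/-- a class of involutions generating `G` with all products of distinct members of `p`-power
order (`p` odd): the derived subgroup is nilpotent, given the `Z*`-theorem -/
theorem nilpotent_commutator_of_class (h : ZStarHyp.{u}) {G : Type u} [Group G] [Finite G]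
    (p : ℕ) (hp : p.Prime) (hodd : p ≠ 2) {D : Set G} (hinv : ∀ d ∈ D, orderOf d = 2)
    (hconj : ∃ d ∈ D, D = conjugatesOf d) (hgen : Subgroup.closure D = ⊤)
    (hprod : ∀ x ∈ D, ∀ y ∈ D, x ≠ y → ∃ k : ℕ, orderOf (x * y) = p ^ k) :
    Group.IsNilpotent ↥(commutator G) := by
  haveI : Fact p.Prime := ⟨hp⟩
  obtain ⟨d, hdD, hDeq⟩ := hconj
  have hd2 := hinv d hdD
  have hdd : d * d = 1 := by
    have := pow_orderOf_eq_one d
    rwa [hd2, pow_two] at this
  have hDmem : ∀ g : G, g * d * g⁻¹ ∈ D := by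
    intro g
    rw [hDeq]
    show IsConj d (g * d * g⁻¹)
    rw [isConj_iff]
    exact ⟨g, rfl⟩
  have hDform : ∀ x ∈ D, ∃ g : G, x = g * d * g⁻¹ := by
    intro x hx
    rw [hDeq] at hx
    have hx' : IsConj d x := hx
    rw [isConj_iff] at hx'
    obtain ⟨g, hg⟩ := hx'
    exact ⟨g, hg.symm⟩
  have hcc_p : ∀ g : G, ∃ k : ℕ, orderOf (cc d g) = p ^ k := by
    intro g
    by_cases he : g * d * g⁻¹ = d
    · refine ⟨0, ?_⟩
      unfold cc
      rw [he, hdd, orderOf_one, pow_zero]
    · exact hprod _ (hDmem g) d hdD he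
  obtain ⟨J, hJn, hJp, hJcc⟩ := exists_normal_pgroup_of_class h p hp hodd d hd2 hcc_p
  haveI := hJn
  have hmk : ∀ x ∈ D, (QuotientGroup.mk' J) x = (QuotientGroup.mk' J) d := by
    intro x hx
    obtain ⟨g, rfl⟩ := hDform x hx
    rw [conj_eq_cc_mul hdd, map_mul]
    have : (QuotientGroup.mk' J) (cc d g) = 1 := by
      rw [QuotientGroup.mk'_apply, QuotientGroup.eq_one_iff]
      exact hJcc g
    rw [this, one_mul]
  have hcyc : ∀ x : G ⧸ J, x ∈ Subgroup.zpowers ((QuotientGroup.mk' J) d) := by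
    intro x
    have h1 : (Subgroup.closure D).map (QuotientGroup.mk' J) = ⊤ := by
      rw [hgen]; exact Subgroup.map_top_of_surjective _ (QuotientGroup.mk'_surjective J)
    rw [MonoidHom.map_closure] at h1
    have h2 : Subgroup.closure ((QuotientGroup.mk' J) '' D) ≤
        Subgroup.zpowers ((QuotientGroup.mk' J) d) := by
      rw [Subgroup.closure_le]
      rintro _ ⟨y, hy, rfl⟩
      rw [hmk y hy]
      exact Subgroup.mem_zpowers _
    apply h2
    rw [h1]; trivial
  have hcomm : commutator G ≤ J := by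
    rw [commutator_def, Subgroup.commutator_le]
    intro a _ b _
    rw [← QuotientGroup.eq_one_iff, ← QuotientGroup.mk'_apply, map_commutatorElement,
      commutatorElement_eq_one_iff_commute]
    obtain ⟨i, hi⟩ := Subgroup.mem_zpowers_iff.mp (hcyc ((QuotientGroup.mk' J) a))
    obtain ⟨j, hj⟩ := Subgroup.mem_zpowers_iff.mp (hcyc ((QuotientGroup.mk' J) b))
    rw [← hi, ← hj]
    exact (Commute.refl _).zpow_zpow i j
  have hfin : IsPGroup p ↥(commutator G) := hJp.to_le hcomm
  exact hfin.isNilpotent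

/-- the product of two conjugates of `d` lies in `O_p(G)` when all such products are
`p`-elements (`p` odd), given the `Z*`-theorem -/
theorem mul_mem_pCore_of_class (h : ZStarHyp.{u}) {G : Type u} [Group G] [Finite G]
    {p : ℕ} (hp : p.Prime) (hp2 : p ≠ 2) (d : G) (hd : orderOf d = 2)
    (hprod : ∀ a ∈ conjugatesOf d, ∀ b ∈ conjugatesOf d, ∃ k : ℕ, orderOf (a * b) = p ^ k) :
    ∀ a ∈ conjugatesOf d, ∀ b ∈ conjugatesOf d, a * b ∈ Cfsg.pCore p G := by
  have hdd : d * d = 1 := by
    have := pow_orderOf_eq_one d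
    rwa [hd, pow_two] at this
  have hdi : d⁻¹ = d := inv_eq_of_mul_eq_one_left hdd
  have hmem : ∀ g : G, g * d * g⁻¹ ∈ conjugatesOf d := by
    intro g
    show IsConj d (g * d * g⁻¹)
    rw [isConj_iff]
    exact ⟨g, rfl⟩
  have hcc_p : ∀ g : G, ∃ k : ℕ, orderOf (cc d g) = p ^ k := fun g =>
    hprod _ (hmem g) d mem_conjugatesOf_self
  obtain ⟨J, hJn, hJp, hJcc⟩ := exists_normal_pgroup_of_class h p hp hp2 d hd hcc_p
  have hJle : J ≤ Cfsg.pCore p G := le_sSup ⟨hJn, hJp⟩
  intro a ha b hb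
  have ha' : IsConj d a := ha
  have hb' : IsConj d b := hb
  obtain ⟨g, rfl⟩ := isConj_iff.mp ha'
  obtain ⟨k, rfl⟩ := isConj_iff.mp hb'
  apply hJle
  have e : g * d * g⁻¹ * (k * d * k⁻¹) = cc d g * (cc d k)⁻¹ := by
    rw [← cc_conj_inv hdd k, conj_eq_cc_mul hdd g, conj_eq_cc_mul hdd k, hdi]
    group
  rw [e]
  exact J.mul_mem (hJcc g) (J.inv_mem (hJcc k))

end Cfsg.Agent.Helper20
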