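import Mathlib
import Cfsg.Agent.Lib.Helper20.ZStarCor
import Cfsg.Agent.Lib.Helper52.CoprimeSylow

set_option autoImplicit false
set_option linter.unusedSectionVars false
set_option linter.unusedVariables false
set_option linter.style.haveILetI false

namespace Cfsg.Agent.Helper20

universe u

/-- a subgroup without elements of order two has odd order -/
theorem odd_card_of_no_involution {G : Type*} [Group G] [Finite G] (M : Subgroup G)
    (h : ∀ x ∈ M, x * x = 1 → x = 1) : Odd (Nat.card M) := by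
  rw [← Nat.not_even_iff_odd]
  intro he
  haveI : Fact (Nat.Prime 2) := ⟨Nat.prime_two⟩
  obtain ⟨x, hx⟩ := exists_prime_orderOf_dvd_card' (G := ↥M) 2 he.two_dvd
  have h2 : (x : G) * (x : G) = 1 := by
    have := pow_orderOf_eq_one x
    rw [hx, pow_two] at this
    exact congrArg Subtype.val this
  have h1 := h x x.2 h2
  have : x = 1 := Subtype.ext h1
  rw [this, orderOf_one] at hx
  omega

/-- the group generated by an involution is solvable and of order two -/
theorem zpowers_invol_facts {G : Type*} [Group G] (z : G) (hz : orderOf z = 2) :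
    Nat.card (Subgroup.zpowers z) = 2 ∧ Group.IsSolvable ↥(Subgroup.zpowers z) := by
  refine ⟨by rw [Nat.card_zpowers, hz], ?_⟩
  refine Group.isSolvable_of_comm (fun a b => ?_)
  obtain ⟨i, hi⟩ := Subgroup.mem_zpowers_iff.mp a.2
  obtain ⟨j, hj⟩ := Subgroup.mem_zpowers_iff.mp b.2
  apply Subtype.ext
  rw [Subgroup.coe_mul, Subgroup.coe_mul, ← hi, ← hj, ← zpow_add, ← zpow_add, add_comm]

/-- the preimage of a Sylow `p`-subgroup (`p` odd) of `G ⧸ N`, `N` normal of odd order with `z`
central modulo `N`: an odd-order `z`-invariant subgroup of index prime to `p` -/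
theorem exists_odd_invariant_overgroup {G : Type*} [Group G] [Finite G] (z : G)
    (hz2 : orderOf z = 2) (N : Subgroup G) [N.Normal] (hN : Odd (Nat.card N))
    (hcomm : ∀ g : G, z * g * z⁻¹ * g⁻¹ ∈ N) {p : ℕ} [Fact p.Prime] (hp : p ≠ 2)
    (Q : Subgroup G) (hQ : IsPGroup p Q) :
    ∃ M : Subgroup G, Q ≤ M ∧ N ≤ M ∧ Odd (Nat.card M) ∧ ¬ p ∣ M.index ∧
      z ∈ Subgroup.normalizer (M : Set G) := by
  have hpp : p.Prime := Fact.out
  obtain ⟨P, hP⟩ := (hQ.map (QuotientGroup.mk' N)).exists_le_sylow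
  refine ⟨(P : Subgroup (G ⧸ N)).comap (QuotientGroup.mk' N), ?_, ?_, ?_, ?_, ?_⟩
  · intro q hq
    exact hP ⟨q, hq, rfl⟩
  · intro n hn
    rw [Subgroup.mem_comap, QuotientGroup.mk'_apply, (QuotientGroup.eq_one_iff n).mpr hn]
    exact Subgroup.one_mem _
  · apply odd_card_of_no_involution
    intro x hx hx2
    rw [Subgroup.mem_comap] at hx
    -- the image of `x` is trivial
    have h1 : (QuotientGroup.mk' N) x = 1 := by
      obtain ⟨k, hk⟩ := (IsPGroup.iff_orderOf.mp P.isPGroup') ⟨_, hx⟩
      rw [Subgroup.orderOf_mk] at hk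
      have h2 : orderOf ((QuotientGroup.mk' N) x) ∣ 2 := by
        apply orderOf_dvd_of_pow_eq_one
        rw [← map_pow, pow_two, hx2, map_one]
      rw [hk] at h2
      have h3 : p ^ k = 1 := by
        rcases (Nat.dvd_prime Nat.prime_two).mp h2 with h | h
        · exact h
        · exfalso
          have h4 : p ∣ 2 := by
            have hk0 : k ≠ 0 := by
              intro h0; rw [h0, pow_zero] at h; omega
            rw [← h]; exact dvd_pow_self p hk0
          exact hp ((Nat.prime_dvd_prime_iff_eq hpp Nat.prime_two).mp h4)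
      rw [h3] at hk
      exact orderOf_eq_one_iff.mp hk
    have hxN : x ∈ N := by
      rwa [QuotientGroup.mk'_apply, QuotientGroup.eq_one_iff] at h1
    -- an involution in a group of odd order is trivial
    have hd : orderOf x ∣ Nat.card N := by
      have := orderOf_dvd_natCard (⟨x, hxN⟩ : ↥N)
      rwa [Subgroup.orderOf_mk] at this
    have hd2 : orderOf x ∣ 2 := by
      apply orderOf_dvd_of_pow_eq_one; rw [pow_two]; exact hx2
    rcases (Nat.dvd_prime Nat.prime_two).mp hd2 with h | h
    · exact orderOf_eq_one_iff.mp h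
    · exfalso
      rw [h] at hd
      exact (Nat.not_even_iff_odd.mpr hN) (even_iff_two_dvd.mpr hd)
  · rw [Subgroup.index_comap_of_surjective _ (QuotientGroup.mk'_surjective N)]
    exact P.not_dvd_index
  · have hzinv : z⁻¹ = z := by
      have h := pow_orderOf_eq_one z
      rw [hz2, pow_two] at h
      exact inv_eq_of_mul_eq_one_left h
    have key : ∀ m : G, (QuotientGroup.mk' N) (z * m * z⁻¹) = (QuotientGroup.mk' N) m := by
      intro m
      have h1 : (QuotientGroup.mk' N) (z * m * z⁻¹ * m⁻¹) = 1 := by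
        rw [QuotientGroup.mk'_apply, QuotientGroup.eq_one_iff]; exact hcomm m
      have e : z * m * z⁻¹ = (z * m * z⁻¹ * m⁻¹) * m := by group
      rw [e, map_mul, h1, one_mul]
    rw [Subgroup.mem_normalizer_iff]
    intro m
    rw [Subgroup.mem_comap, Subgroup.mem_comap, key m]

/-- with the `Z*`-theorem: maximal `z`-invariant `p`-subgroups are Sylow `p`-subgroups,
for an isolated involution `z` -/
theorem sylow_of_maximal_invariant (h : ZStarHyp.{u}) {G : Type u} [Group G] [Finite G] (z : G)
    (hz : Cfsg.IsIsolatedInvolution z) {p : ℕ} [Fact p.Prime] (Q : Subgroup G)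
    (hQ : IsPGroup p Q) (hzQ : z ∈ Subgroup.normalizer (Q : Set G))
    (hmax : ∀ R : Subgroup G, IsPGroup p R → z ∈ Subgroup.normalizer (R : Set G) → Q ≤ R → R = Q) :
    ∃ P : Sylow p G, (P : Subgroup G) = Q := by
  have hpp : p.Prime := Fact.out
  have hzA : Subgroup.zpowers z ≤ Subgroup.normalizer (Q : Set G) := by
    rw [Subgroup.zpowers_le]; exact hzQ
  by_cases hp : p = 2
  · subst hp
    -- `z` lies in `Q`
    have h2 : IsPGroup 2 (Subgroup.zpowers z) := by
      apply IsPGroup.of_card (n := 1)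
      rw [Nat.card_zpowers, hz.1, pow_one]
    have hR : IsPGroup 2 ↥(Subgroup.zpowers z ⊔ Q) := h2.to_sup_of_normal_right' hQ hzA
    have hzR : z ∈ Subgroup.zpowers z ⊔ Q := (le_sup_left : Subgroup.zpowers z ≤ _)
      (Subgroup.mem_zpowers z)
    have hRQ := hmax _ hR (Subgroup.le_normalizer hzR) le_sup_right
    have hzQ' : z ∈ Q := by rw [← hRQ]; exact hzR
    obtain ⟨P, hP⟩ := hQ.exists_le_sylow
    exact ⟨P, hmax P P.isPGroup' (Subgroup.le_normalizer (hP hzQ')) hP⟩
  · have hN : Odd (Nat.card (Cfsg.pPrimeCore 2 G)) :=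
      (Nat.coprime_two_right).mp (Cfsg.Agent.Helper55.pPrimeCore_coprime 2)
    obtain ⟨M, hQM, -, hMo, hMi, hzM⟩ := exists_odd_invariant_overgroup z hz.1
      (Cfsg.pPrimeCore 2 G) hN (fun g => zstar_of_isolated h z hz g) hp Q hQ
    obtain ⟨hA2, hAs⟩ := zpowers_invol_facts z hz.1
    have hAM : Subgroup.zpowers z ≤ Subgroup.normalizer (M : Set G) := by
      rw [Subgroup.zpowers_le]; exact hzM
    have hcop : (Nat.card (Subgroup.zpowers z)).Coprime (Nat.card M) := by
      rw [hA2]; exact (Nat.coprime_two_left).mpr hMo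
    obtain ⟨Q', hQ'M, hQ'c, hQQ', hAQ'⟩ := Cfsg.Agent.Helper52.exists_invariant_sylow_ge
      (Subgroup.zpowers z) M hAM hcop (Or.inl hAs) p Q hQM hQ hzA
    have hQ'p : IsPGroup p Q' := IsPGroup.of_card hQ'c
    have hQ'Q := hmax Q' hQ'p (hAQ' (Subgroup.mem_zpowers z)) hQQ'
    rw [hQ'Q] at hQ'c
    -- the order of `Q` is the `p`-part of the order of `G`
    have hcard : Nat.card Q = p ^ (Nat.card G).factorization p := by
      rw [hQ'c, Cfsg.Agent.Helper52.sylCard, ← Subgroup.card_mul_index M]
      have hi0 : M.index ≠ 0 := Subgroup.index_ne_zero_of_finite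
      have hc0 : Nat.card M ≠ 0 := Nat.card_pos.ne'
      rw [Nat.factorization_mul hc0 hi0, Finsupp.add_apply,
        Nat.factorization_eq_zero_of_not_dvd hMi, add_zero]
    exact ⟨Sylow.ofCard Q hcard, Sylow.coe_ofCard _ _⟩

end Cfsg.Agent.Helper20
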