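import Mathlib
import Cfsg.Agent.Lib.Helper20.ZStarSyl
import Cfsg.Agent.Lib.Helper22.Factorization
import Cfsg.Agent.Lib.Helper10.ProdCard
import Cfsg.Agent.Lib.Helper19.OddInv

set_option autoImplicit false
set_option linter.unusedSectionVars false
set_option linter.unusedVariables false
set_option linter.style.haveILetI false

namespace Cfsg.Agent.Helper20

universe u

open scoped Pointwise

/-- square roots in cyclic groups of odd order -/
theorem exists_pow_mul_self_of_odd {G : Type*} [Group G] (x : G) (hx : Odd (orderOf x)) :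
    ∃ k : ℕ, x ^ k * x ^ k = x := by
  obtain ⟨m, hm⟩ := hx
  refine ⟨m + 1, ?_⟩
  rw [← pow_add]
  have : m + 1 + (m + 1) = orderOf x + 1 := by omega
  rw [this, pow_succ, pow_orderOf_eq_one, one_mul]

/-- if `z` is an involution with `[z, g]` in the odd-order subgroup `N`, then the coset `N g`
contains an element centralized by `z` -/
theorem exists_mul_mem_centralizer_of_comm_mem {G : Type*} [Group G] [Finite G] (z : G)
    (hz2 : orderOf z = 2) (N : Subgroup G) (hN : Odd (Nat.card N)) (g : G)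
    (hg : z * g * z⁻¹ * g⁻¹ ∈ N) : ∃ m ∈ N, z * (m * g) * z⁻¹ = m * g := by
  have hzz : z * z = 1 := by
    have h := pow_orderOf_eq_one z
    rwa [hz2, pow_two] at h
  have hzinv : z⁻¹ = z := inv_eq_of_mul_eq_one_left hzz
  set n0 := z * g * z⁻¹ * g⁻¹ with hn0
  have hinv : z * n0 * z⁻¹ = n0⁻¹ := by
    have e1 : z * n0 * z⁻¹ = (z * z) * g * z⁻¹ * g⁻¹ * z⁻¹ := by rw [hn0]; group
    have e2 : n0⁻¹ = g * z * g⁻¹ * z⁻¹ := by rw [hn0]; group
    rw [e1, e2, hzz, one_mul]
    conv_lhs => rw [hzinv]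
    rw [hzinv]
  have hodd : Odd (orderOf n0) := by
    have hd : orderOf n0 ∣ Nat.card N := by
      have := orderOf_dvd_natCard (⟨n0, hg⟩ : ↥N)
      rwa [Subgroup.orderOf_mk] at this
    exact Odd.of_dvd_nat hN hd
  obtain ⟨k, hk⟩ := exists_pow_mul_self_of_odd n0 hodd
  refine ⟨n0 ^ k, Subgroup.pow_mem _ hg k, ?_⟩
  have hm : z * n0 ^ k * z⁻¹ = (n0 ^ k)⁻¹ := by
    rw [← conj_pow, hinv, inv_pow]
  have e : z * (n0 ^ k * g) * z⁻¹ = (z * n0 ^ k * z⁻¹) * (z * g * z⁻¹ * g⁻¹) * g := by group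
  rw [e, hm, ← hn0]
  have e2 : (n0 ^ k)⁻¹ * n0 = n0 ^ k := by
    rw [inv_mul_eq_iff_eq_mul]; exact hk.symm
  rw [e2]

theorem card_mul_relIndex_of_le {G : Type*} [Group G] {H K : Subgroup G} (h : H ≤ K) :
    Nat.card H * H.relIndex K = Nat.card K := by
  rw [Subgroup.relIndex, ← Nat.card_congr (Subgroup.subgroupOfEquivOfLe h).toEquiv]
  exact Subgroup.card_mul_index _

/-- `S1253`, first part, from the `Z*`-theorem -/
theorem not_dvd_relIndex_centralizer_of_isolated (h : ZStarHyp.{u}) {G : Type u} [Group G]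
    [Finite G] (z : G) (hz : Cfsg.IsIsolatedInvolution z) {p : ℕ} [Fact p.Prime] (hp : p ≠ 2)
    (P : Sylow p G) (hzP : z ∈ Subgroup.normalizer ((P : Subgroup G) : Set G)) :
    ¬ p ∣ ((P : Subgroup G) ⊓ Subgroup.centralizer ({z} : Set G)).relIndex
      (Subgroup.centralizer ({z} : Set G)) := by
  have hpp : p.Prime := Fact.out
  have hN : Odd (Nat.card (Cfsg.pPrimeCore 2 G)) :=
    (Nat.coprime_two_right).mp (Cfsg.Agent.Helper55.pPrimeCore_coprime 2)
  obtain ⟨M, hPM, hNM, hMo, hMi, hzM⟩ := exists_odd_invariant_overgroup z hz.1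
    (Cfsg.pPrimeCore 2 G) hN (fun g => zstar_of_isolated h z hz g) hp (P : Subgroup G) P.isPGroup'
  obtain ⟨hA2, hAs⟩ := zpowers_invol_facts z hz.1
  have hAM : Subgroup.zpowers z ≤ Subgroup.normalizer (M : Set G) := by
    rw [Subgroup.zpowers_le]; exact hzM
  have hAP : Subgroup.zpowers z ≤ Subgroup.normalizer ((P : Subgroup G) : Set G) := by
    rw [Subgroup.zpowers_le]; exact hzP
  have hcop : (Nat.card (Subgroup.zpowers z)).Coprime (Nat.card M) := by
    rw [hA2]; exact (Nat.coprime_two_left).mpr hMo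
  have hAc : ∀ x ∈ Subgroup.zpowers z, ∀ y ∈ Subgroup.zpowers z, x * y = y * x := by
    intro x hx y hy
    obtain ⟨i, rfl⟩ := Subgroup.mem_zpowers_iff.mp hx
    obtain ⟨j, rfl⟩ := Subgroup.mem_zpowers_iff.mp hy
    rw [← zpow_add, ← zpow_add, add_comm]
  have hi0 : M.index ≠ 0 := Subgroup.index_ne_zero_of_finite
  have hc0 : Nat.card M ≠ 0 := Nat.card_pos.ne'
  have hfac : (Nat.card G).factorization p = (Nat.card M).factorization p := by
    rw [← Subgroup.card_mul_index M, Nat.factorization_mul hc0 hi0, Finsupp.add_apply,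
      Nat.factorization_eq_zero_of_not_dvd hMi, add_zero]
  have hPc : Nat.card (P : Subgroup G) = Cfsg.Agent.Helper52.sylCard p M := by
    rw [Cfsg.Agent.Helper52.sylCard, ← hfac]
    exact P.card_eq_multiplicity
  have h1 := Cfsg.Agent.Helper22.card_inf_centralizer_of_invariant_sylow hAc hAs hAM hcop hPM hPc
    hAP (Subgroup.mem_zpowers z)
  -- `G = C M`
  set C := Subgroup.centralizer ({z} : Set G) with hC
  have hset : ((C : Set G) * (M : Set G) : Set G) = Set.univ := by
    rw [Set.eq_univ_iff_forall]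
    intro g
    obtain ⟨m, hm, hmg⟩ := exists_mul_mem_centralizer_of_comm_mem z hz.1 (Cfsg.pPrimeCore 2 G) hN
      g (zstar_of_isolated h z hz g)
    refine Set.mem_mul.mpr ⟨m * g, ?_, g⁻¹ * m⁻¹ * g, ?_, by group⟩
    · rw [SetLike.mem_coe, hC, Subgroup.mem_centralizer_singleton_iff]
      exact (mul_inv_eq_iff_eq_mul.mp hmg).symm
    · apply hNM
      have hn : (Cfsg.pPrimeCore 2 G).Normal := inferInstance
      have := hn.conj_mem m⁻¹ (Subgroup.inv_mem _ hm) g⁻¹
      rwa [inv_inv] at this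
  have hprod := Cfsg.Agent.Helper10.card_set_mul_mul_card_inf C M
  rw [hset, Nat.card_congr (Equiv.Set.univ G)] at hprod
  have hcC0 : Nat.card C ≠ 0 := Nat.card_pos.ne'
  have hcG0 : Nat.card G ≠ 0 := Nat.card_pos.ne'
  have hcCM0 : Nat.card (C ⊓ M : Subgroup G) ≠ 0 := Nat.card_pos.ne'
  have hv : (Nat.card (C ⊓ M : Subgroup G)).factorization p = (Nat.card C).factorization p := by
    have := congrArg (fun n => n.factorization p) hprod
    simp only [Nat.factorization_mul hcG0 hcCM0, Nat.factorization_mul hcC0 hc0,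
      Finsupp.add_apply] at this
    omega
  rw [Cfsg.Agent.Helper52.sylCard, inf_comm M, hv] at h1
  have hmul := card_mul_relIndex_of_le (inf_le_right : (P : Subgroup G) ⊓ C ≤ C)
  intro hdvd
  apply Nat.pow_succ_factorization_not_dvd hcC0 hpp
  rw [pow_succ]
  calc p ^ (Nat.card C).factorization p * p
      ∣ Nat.card ((P : Subgroup G) ⊓ C : Subgroup G) * ((P : Subgroup G) ⊓ C).relIndex C := by
        rw [h1]; exact Nat.mul_dvd_mul_left _ hdvd
    _ = Nat.card C := hmul

/-- `S1253`, second part: elementary -/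
theorem relIndex_eq_card_inverted {G : Type*} [Group G] [Finite G] (z : G)
    (hz2 : orderOf z = 2) {p : ℕ} [Fact p.Prime] (hp : p ≠ 2)
    (P : Sylow p G) (hzP : z ∈ Subgroup.normalizer ((P : Subgroup G) : Set G)) :
    ((P : Subgroup G) ⊓ Subgroup.centralizer ({z} : Set G)).relIndex (P : Subgroup G) =
      Nat.card {x : G // x ∈ P ∧ z * x * z⁻¹ = x⁻¹} := by
  have hpp : p.Prime := Fact.out
  have hzz : z * z = 1 := by
    have h := pow_orderOf_eq_one z
    rwa [hz2, pow_two] at h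
  have hodd : Odd (Nat.card (P : Subgroup G)) := by
    rw [P.card_eq_multiplicity]
    exact Odd.pow (hpp.odd_of_ne_two hp)
  have hnorm : ∀ x ∈ (P : Subgroup G), z * x * z⁻¹ ∈ (P : Subgroup G) := by
    intro x hx
    exact (Subgroup.mem_normalizer_iff.mp hzP x).mp hx
  have h1 := Cfsg.Agent.Helper19.odd_factor_card hzz hodd hnorm
  have h2 := card_mul_relIndex_of_le
    (inf_le_left : (P : Subgroup G) ⊓ Subgroup.centralizer ({z} : Set G) ≤ (P : Subgroup G))
  have h3 : Nat.card (Cfsg.invertedBy (P : Subgroup G) z) =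
      Nat.card {x : G // x ∈ P ∧ z * x * z⁻¹ = x⁻¹} := rfl
  rw [h1] at h2
  have hpos : 0 < Nat.card ((P : Subgroup G) ⊓ Subgroup.centralizer ({z} : Set G) : Subgroup G) :=
    Nat.card_pos
  rw [← h3]
  exact Nat.eq_of_mul_eq_mul_left hpos h2

end Cfsg.Agent.Helper20
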