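import Mathlib
import Cfsg.Agent.Lib.Helper20.ZStarCen
import Cfsg.Agent.Lib.Helper20.CentQD
import Cfsg.Agent.Lib.Helper20.CentWr

set_option autoImplicit false
set_option linter.unusedSectionVars false
set_option linter.unusedSimpArgs false
set_option linter.unusedVariables false
set_option linter.style.haveILetI false

namespace Cfsg.Agent.Helper20

open Cfsg.Agent.Helper98 Cfsg.Agent.Helper33

universe u

/-- the centre of a quasi-dihedral or wreathed Sylow `2`-subgroup is cyclic -/
theorem isCyclic_center_of_qd_or_wr {G : Type*} [Group G] [Finite G] (S : Sylow 2 G)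
    (hS : Cfsg.IsQuasiDihedral (S : Subgroup G) ∨ Cfsg.IsWreathed (S : Subgroup G)) :
    IsCyclic ((Subgroup.center (S : Subgroup G)).map (S : Subgroup G).subtype) := by
  rcases hS with hS | hS
  · obtain ⟨k, ι, hinj, hrange⟩ := exists_coord (S : Subgroup G) hS
    rw [center_map_eq S ι hinj hrange]
    infer_instance
  · obtain ⟨n, -, hn, -⟩ := id hS
    obtain ⟨hn2, ι, hinj, hrange⟩ := exists_wr_coord' (S : Subgroup G) hS n hn
    rw [center_S_eq S ι hinj hrange]
    exact isCyclic_diag_map S ι hinj hrange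

/-- `S1215` from the `Z*`-theorem -/
theorem qd_wr_factor_of_weaklyClosed (h : ZStarHyp.{u}) {H : Type u} [Group H] [Finite H]
    (S : Sylow 2 H)
    (hS : Cfsg.IsQuasiDihedral (S : Subgroup H) ∨ Cfsg.IsWreathed (S : Subgroup H))
    (hwc : ∀ Z₀ : Subgroup H, Z₀ ≤ (Subgroup.center (S : Subgroup H)).map (S : Subgroup H).subtype →
      Cfsg.IsWeaklyClosed Z₀ (S : Subgroup H)) (x : H) :
    ∃ o ∈ Cfsg.oddCore H, ∃ c ∈ Subgroup.centralizer
      (((Subgroup.center (S : Subgroup H)).map (S : Subgroup H).subtype : Subgroup H) : Set H),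
      x = o * c :=
  factor_of_center_weaklyClosed h S (isCyclic_center_of_qd_or_wr S hS) hwc x

/-- `S1239` from the `Z*`-theorem -/
theorem qd_wr_core_center_normal (h : ZStarHyp.{u}) {X : Type u} [Group X] [Finite X]
    (S : Sylow 2 X)
    (hS : Cfsg.IsQuasiDihedral (S : Subgroup X) ∨ Cfsg.IsWreathed (S : Subgroup X)) (z : X)
    (hzS : z ∈ S) (hz : Cfsg.IsIsolatedInvolution z) :
    (Cfsg.oddCore X ⊔ (Subgroup.center (S : Subgroup X)).map (S : Subgroup X).subtype).Normal := by
  haveI : Fact (Nat.Prime 2) := ⟨Nat.prime_two⟩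
  have hziso : ∀ g : X, g * z * g⁻¹ ∈ S → g * z * g⁻¹ = z :=
    fun g hg => iso_unique_in_sylow hz S hzS g hg
  have hzc : ∀ s ∈ (S : Subgroup X), s * z = z * s := by
    intro s hs
    have h1 := hziso s (Subgroup.mul_mem _ (Subgroup.mul_mem _ hs hzS) (Subgroup.inv_mem _ hs))
    calc s * z = (s * z * s⁻¹) * s := by group
      _ = z * s := by rw [h1]
  apply sup_normal_of_comm_mem
  rcases hS with hS | hS
  · obtain ⟨k, ι, hinj, hrange⟩ := exists_coord (S : Subgroup X) hS
    have hzz := eq_zS_of_central S ι hinj hrange z hz.1 hzS hzc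
    rw [center_map_eq S ι hinj hrange, ← hzz]
    intro w hw g
    obtain ⟨i, rfl⟩ := Subgroup.mem_zpowers_iff.mp hw
    -- `z` has order two, so `z ^ i` is `1` or `z`
    have hzi : z ^ i = 1 ∨ z ^ i = z := by
      rcases Int.emod_two_eq_zero_or_one i with h0 | h1
      · left
        obtain ⟨j, rfl⟩ : ∃ j, i = 2 * j := ⟨i / 2, by omega⟩
        rw [zpow_mul, zpow_ofNat, ← hz.1, pow_orderOf_eq_one, one_zpow]
      · right
        obtain ⟨j, rfl⟩ : ∃ j, i = 2 * j + 1 := ⟨i / 2, by omega⟩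
        rw [zpow_add, zpow_mul, zpow_ofNat, ← hz.1, pow_orderOf_eq_one, one_zpow, one_mul,
          zpow_one]
    rcases hzi with h1 | h1
    · rw [h1]
      have : (1 : X) * g * 1⁻¹ * g⁻¹ = 1 := by group
      rw [this]; exact one_mem _
    · rw [h1]; exact zstar_of_isolated h z hz g
  · obtain ⟨n, -, hn, -⟩ := id hS
    obtain ⟨hn2, ι, hinj, hrange⟩ := exists_wr_coord' (S : Subgroup X) hS n hn
    obtain ⟨q, hq⟩ := exists_quarter n hn2
    have hN : 2 * 2 ^ (n - 1) = 2 ^ n := (Cfsg.Agent.Helper98.two_pow_eq_two_mul (by omega)).symm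
    have hK : 2 ^ (n - 1) = 2 * 2 ^ (n - 2) := by
      have : n - 1 = (n - 2) + 1 := by omega
      rw [this, pow_succ]; ring
    obtain ⟨Q, hQS, ⟨eQ⟩⟩ := exists_quat_in_S S ι hinj hrange (2 ^ (n - 2)) hK
    have hzz := eq_z0_of_central S ι hinj hrange z hz.1 hzS hzc
    have h₁ : (Subgroup.centralizer (((Wr.base (2 * 2 ^ (n - 1))).map ι : Subgroup X) : Set X)).relIndex
        (Subgroup.normalizer (((Wr.base (2 * 2 ^ (n - 1))).map ι : Subgroup X) : Set X)) = 2 := by
      rcases localIdx_base S ι hinj hrange with h1 | h1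
      · exact h1
      · exfalso
        obtain ⟨g, hg, hgw⟩ := exists_conj_w1_z0 S ι hinj hrange h1
        -- `ι w1 = g⁻¹ z g` is a conjugate of `z` in `S`
        have h2 : g⁻¹ * z * g⁻¹⁻¹ = ι ⟨(2 ^ (n - 1) : ℕ), 0, false⟩ := by
          rw [hzz, ← hgw]; group
        have h3 : g⁻¹ * z * g⁻¹⁻¹ ∈ S := by
          rw [h2]; exact wr_mem_S S ι hinj hrange _
        have h4 := hziso g⁻¹ h3
        rw [h2, hzz] at h4
        have h5 := congrArg Wr.b (hinj h4)
        simp only at h5
        exact zmod_half_ne_zero h5.symm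
    rw [center_S_eq S ι hinj hrange]
    intro w hw g
    have hwS : w ∈ S := diag_map_le_S S ι hinj hrange hw
    apply zstar_two_of_sylow_isolated h S w hwS
    intro a ha
    have := center_isolated S ι hinj hrange q hq n hN (2 ^ (n - 2)) hK Q hQS eQ h₁ w hw a⁻¹
      (by rw [inv_inv]; exact ha)
    rwa [inv_inv] at this

end Cfsg.Agent.Helper20
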